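import Mathlib
import Cfsg.Prelude.Def_Characters
import Cfsg.Agent.Lib.Helper4.ProdChar
import Cfsg.Agent.Lib.Helper26.IndChar
import Cfsg.Agent.S0900

/-!
# Gallagher-type correspondence (helper7)

* `isCharacter_mul`: the pointwise product of two characters of `G` is a character.
* `indFun_mul_restrict`: `Ind (φ · χ_N) = Ind φ · χ` for a class function `χ`.
* `classInner_indFun_self_of_inv`: `[θ^G, θ^G] = [G:N]` for an invariant irreducible `θ`.
* `gallagher_gen`: Isaacs 6.16.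
-/

set_option autoImplicit false

namespace Cfsg.Agent.Lib.Helper7
open Cfsg Cfsg.Agent.Lib.Helper26 Cfsg.Agent.Lib.Helper2
open scoped ComplexConjugate

section
variable {G : Type*} [Group G] [Fintype G]

theorem isCharacter_mul {φ ψ : G → ℂ} (hφ : IsCharacter G φ) (hψ : IsCharacter G ψ) :
    IsCharacter G (φ * ψ) := by
  have h := Cfsg.Agent.Lib.Helper4.isCharacter_prod hφ hψ
  exact isCharacter_comp_hom h (MonoidHom.prod (MonoidHom.id G) (MonoidHom.id G))

theorem indFun_mul_restrict (N : Subgroup G) (φ : N → ℂ) (χ : G → ℂ) (hχ : IsClassFunction G χ) :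
    indFun N (φ * (fun n : N => χ n)) = indFun N φ * χ := by
  funext g
  unfold indFun
  simp only [Pi.mul_apply]
  rw [mul_assoc, Finset.sum_mul]
  congr 1
  refine Finset.sum_congr rfl fun x _ => ?_
  by_cases h : x⁻¹ * g * x ∈ N
  · rw [extendByZero_apply_mem N _ _ h, extendByZero_apply_mem N _ _ h]
    simp only [Pi.mul_apply]
    have h1 : χ (x⁻¹ * g * x) = χ g := by
      have := hχ g x⁻¹
      simpa using this
    rw [h1]
  · rw [extendByZero_apply_not_mem N _ _ h, extendByZero_apply_not_mem N _ _ h, zero_mul]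

theorem classInner_indFun_self_of_inv (N : Subgroup G) [hN : N.Normal] [Fintype N] (θ : N → ℂ)
    (hθ : IsIrrCharacter N θ)
    (hinv : ∀ (g : G) (n : N), θ ⟨g * n * g⁻¹, hN.conj_mem (n : G) n.2 g⟩ = θ n) :
    classInner (indFun N θ) (indFun N θ) = (N.index : ℂ) := by
  rw [classInner_indFun_left' N θ _ (isClassFunction_indFun N θ)]
  have h1 : (indFun N θ) ∘ N.subtype = (N.index : ℂ) • θ := by
    funext n
    exact Cfsg.Agent.S0900.ind_restrict N θ hinv n
  rw [h1, classInner_smul_right, classInner_irr hθ hθ, if_pos rfl]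
  simp

/-- A character with nonzero degree has nonzero norm. -/
theorem classInner_self_ne_zero {X : G → ℂ} (hX1 : X 1 ≠ 0) : classInner X X ≠ 0 := by
  intro h
  unfold classInner at h
  have h0 : (Nat.card G : ℂ) ≠ 0 := Nat.cast_ne_zero.mpr Nat.card_pos.ne'
  rcases mul_eq_zero.mp h with h | h
  · exact inv_ne_zero h0 h
  · have h2 : ∑ g : G, ((Complex.normSq (X g) : ℝ) : ℂ) = 0 := by
      rw [← h]
      refine Finset.sum_congr rfl fun g _ => (Complex.mul_conj _).symm
    have h3 : ∑ g : G, Complex.normSq (X g) = 0 := by exact_mod_cast h2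
    have h4 := (Finset.sum_eq_zero_iff_of_nonneg (fun g _ => Complex.normSq_nonneg (X g))).mp h3 1
      (Finset.mem_univ _)
    exact hX1 (Complex.normSq_eq_zero.mp h4)

end

section
variable {G : Type*} [Group G] [Fintype G] (N : Subgroup G) [hN : N.Normal] [Fintype N]

/-- Isaacs 6.16: multiplication by an extension `χ` of `ϑ` maps `Irr(G|φ)` bijectively onto
`Irr(G|φϑ)`. -/
theorem gallagher_gen (φ ϑ : N → ℂ) (hφ : IsIrrCharacter N φ)
    (hφinv : ∀ (g : G) (n : N), φ ⟨g * n * g⁻¹, hN.conj_mem (n : G) n.2 g⟩ = φ n)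
    (hϑinv : ∀ (g : G) (n : N), ϑ ⟨g * n * g⁻¹, hN.conj_mem (n : G) n.2 g⟩ = ϑ n)
    (hprod : IsIrrCharacter N (φ * ϑ)) (χ : G → ℂ) (hχ : IsIrrCharacter G χ)
    (hext : ∀ n : N, χ n = ϑ n) :
    (∀ β : G → ℂ, IsIrrCharacter G β → classInner (indFun N φ) β ≠ 0 →
      IsIrrCharacter G (β * χ) ∧
        classInner (indFun N (φ * ϑ)) (β * χ) = classInner (indFun N φ) β) ∧
    (∀ β β' : G → ℂ, IsIrrCharacter G β → IsIrrCharacter G β' →
      classInner (indFun N φ) β ≠ 0 → classInner (indFun N φ) β' ≠ 0 →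
      β * χ = β' * χ → β = β') ∧
    (∀ ψ : G → ℂ, IsIrrCharacter G ψ → classInner (indFun N (φ * ϑ)) ψ ≠ 0 →
      ∃ β, IsIrrCharacter G β ∧ classInner (indFun N φ) β ≠ 0 ∧ β * χ = ψ) := by
  classical
  have : Fintype (IrrCharacter G) := Fintype.ofFinite _
  have hχc := isCharacter_of_isIrrCharacter hχ
  have hχcl := isClassFunction_of_isCharacter hχc
  have hφc := isCharacter_of_isIrrCharacter hφ
  have hIc : IsCharacter G (indFun N φ) := isCharacter_indFun N hφc
  -- coefficients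
  have he : ∀ μ : IrrCharacter G, ∃ e : ℕ, classInner (indFun N φ) (μ : G → ℂ) = e :=
    fun μ => classInner_isCharacter_nat hIc (isCharacter_of_isIrrCharacter μ.2)
  choose e he using he
  have hexp := Cfsg.Agent.Lib.Helper4.classFunction_expansion (indFun N φ)
    (isClassFunction_of_isCharacter hIc)
  simp_rw [he] at hexp
  -- projection formula
  have hϑχ : ϑ = fun n : N => χ n := by funext n; exact (hext n).symm
  have hproj : indFun N (φ * ϑ) = ∑ μ : IrrCharacter G, (e μ : ℂ) • ((μ : G → ℂ) * χ) := by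
    rw [hϑχ, indFun_mul_restrict N φ χ hχcl]
    conv_lhs => rw [hexp]
    rw [Finset.sum_mul]
    refine Finset.sum_congr rfl fun μ _ => ?_
    funext g
    simp only [Pi.mul_apply, Pi.smul_apply, smul_eq_mul]
    ring
  -- pairwise inner products
  have hmc : ∀ μ : IrrCharacter G, IsCharacter G ((μ : G → ℂ) * χ) := fun μ =>
    isCharacter_mul (isCharacter_of_isIrrCharacter μ.2) hχc
  have hk : ∀ μ μ' : IrrCharacter G, ∃ k : ℕ,
      classInner ((μ : G → ℂ) * χ) ((μ' : G → ℂ) * χ) = k := fun μ μ' =>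
    classInner_isCharacter_nat (hmc μ) (hmc μ')
  choose k hk using hk
  -- degrees
  obtain ⟨dχ, hdχpos, hdχ⟩ := irr_degree hχ
  have hd : ∀ μ : IrrCharacter G, ∃ d : ℕ, 0 < d ∧ (μ : G → ℂ) 1 = d := fun μ => irr_degree μ.2
  choose d hdpos hd using hd
  have hm1 : ∀ μ : IrrCharacter G, ((μ : G → ℂ) * χ) 1 = ((d μ * dχ : ℕ) : ℂ) := by
    intro μ
    simp only [Pi.mul_apply, hd, hdχ]
    push_cast; ring
  have hm1ne : ∀ μ : IrrCharacter G, ((μ : G → ℂ) * χ) 1 ≠ 0 := by
    intro μ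
    rw [hm1]
    exact_mod_cast (Nat.mul_pos (hdpos μ) hdχpos).ne'
  have hkpos : ∀ μ : IrrCharacter G, 1 ≤ k μ μ := by
    intro μ
    have h1 := classInner_self_ne_zero (hm1ne μ)
    rw [hk] at h1
    have : k μ μ ≠ 0 := by exact_mod_cast h1
    omega
  -- norms
  have hprodinv : ∀ (g : G) (n : N),
      (φ * ϑ) ⟨g * n * g⁻¹, hN.conj_mem (n : G) n.2 g⟩ = (φ * ϑ) n := by
    intro g n
    simp only [Pi.mul_apply, hφinv, hϑinv]
  have hnorm1 : classInner (indFun N φ) (indFun N φ) = (N.index : ℂ) :=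
    classInner_indFun_self_of_inv N φ hφ hφinv
  have hnorm2 : classInner (indFun N (φ * ϑ)) (indFun N (φ * ϑ)) = (N.index : ℂ) :=
    classInner_indFun_self_of_inv N (φ * ϑ) hprod hprodinv
  have hsum1 : ∑ μ : IrrCharacter G, (e μ) ^ 2 = N.index := by
    have h1 : classInner (indFun N φ) (indFun N φ) =
        ∑ μ : IrrCharacter G, ((e μ : ℂ)) ^ 2 := by
      conv_lhs => rw [hexp]
      rw [classInner_sum_left]
      refine Finset.sum_congr rfl fun μ _ => ?_
      rw [classInner_smul_left, ← hexp, ← classInner_conj_symm, he μ]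
      simp only [Complex.conj_natCast]
      ring
    rw [hnorm1] at h1
    exact_mod_cast h1.symm
  have hsum2 : ∑ μ : IrrCharacter G, ∑ μ' : IrrCharacter G, e μ * e μ' * k μ μ' = N.index := by
    have h1 : classInner (indFun N (φ * ϑ)) (indFun N (φ * ϑ)) =
        ∑ μ : IrrCharacter G, ∑ μ' : IrrCharacter G, (e μ : ℂ) * (e μ' : ℂ) * (k μ μ' : ℂ) := by
      rw [hproj, classInner_sum_left]
      refine Finset.sum_congr rfl fun μ _ => ?_
      rw [classInner_sum_right]
      refine Finset.sum_congr rfl fun μ' _ => ?_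
      rw [classInner_smul_left, classInner_smul_right, hk]
      simp only [Complex.conj_natCast]
      ring
    rw [hnorm2] at h1
    exact_mod_cast h1.symm
  -- termwise equalities
  have hle : ∀ μ ∈ (Finset.univ : Finset (IrrCharacter G)),
      (e μ) ^ 2 ≤ ∑ μ' : IrrCharacter G, e μ * e μ' * k μ μ' := by
    intro μ _
    calc (e μ) ^ 2 ≤ e μ * e μ * k μ μ := by
          have := hkpos μ
          nlinarith
      _ ≤ ∑ μ' : IrrCharacter G, e μ * e μ' * k μ μ' :=
          Finset.single_le_sum (f := fun μ' => e μ * e μ' * k μ μ')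
            (fun _ _ => Nat.zero_le _) (Finset.mem_univ μ)
  have heq := (Finset.sum_eq_sum_iff_of_le hle).mp (by rw [hsum1, hsum2])
  have hkey1 : ∀ μ : IrrCharacter G, e μ ≠ 0 → k μ μ = 1 := by
    intro μ hμ
    have h1 := heq μ (Finset.mem_univ _)
    have h2 : e μ * e μ * k μ μ ≤ ∑ μ' : IrrCharacter G, e μ * e μ' * k μ μ' :=
      Finset.single_le_sum (f := fun μ' => e μ * e μ' * k μ μ')
        (fun _ _ => Nat.zero_le _) (Finset.mem_univ μ)
    rw [← h1] at h2
    have h3 : 0 < e μ * e μ := Nat.mul_pos (Nat.pos_of_ne_zero hμ) (Nat.pos_of_ne_zero hμ)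
    have h4 : e μ * e μ * k μ μ ≤ e μ * e μ * 1 := by rw [mul_one]; rw [sq] at h2; exact h2
    have h5 := Nat.le_of_mul_le_mul_left h4 h3
    have := hkpos μ
    omega
  have hkey2 : ∀ μ μ' : IrrCharacter G, e μ ≠ 0 → e μ' ≠ 0 → μ ≠ μ' → k μ μ' = 0 := by
    intro μ μ' hμ hμ' hne
    have h1 := heq μ (Finset.mem_univ _)
    have h2 := Finset.add_sum_erase Finset.univ (fun μ'' => e μ * e μ'' * k μ μ'')
      (Finset.mem_univ μ)
    rw [← h2, hkey1 μ hμ, mul_one, sq] at h1
    have h3 : ∑ μ'' ∈ Finset.univ.erase μ, e μ * e μ'' * k μ μ'' = 0 := by omega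
    have h4 := (Finset.sum_eq_zero_iff.mp h3) μ' (Finset.mem_erase.mpr ⟨hne.symm, Finset.mem_univ _⟩)
    rcases Nat.mul_eq_zero.mp h4 with h | h
    · rcases Nat.mul_eq_zero.mp h with h | h
      · exact absurd h hμ
      · exact absurd h hμ'
    · exact h
  -- irreducibility of products
  have hirr : ∀ μ : IrrCharacter G, e μ ≠ 0 → IsIrrCharacter G ((μ : G → ℂ) * χ) := by
    intro μ hμ
    apply isIrrCharacter_of_norm_one (isGeneralizedCharacter_of_isCharacter (hmc μ))
    · rw [hk, hkey1 μ hμ]; simp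
    · rw [hm1]
      have : (0 : ℝ) < ((d μ * dχ : ℕ) : ℝ) := by exact_mod_cast Nat.mul_pos (hdpos μ) hdχpos
      simpa using this
  -- inner product of Ind(φϑ) with products
  have hcoef : ∀ ψ : G → ℂ, classInner (indFun N (φ * ϑ)) ψ =
      ∑ μ : IrrCharacter G, (e μ : ℂ) * classInner ((μ : G → ℂ) * χ) ψ := by
    intro ψ
    rw [hproj, classInner_sum_left]
    refine Finset.sum_congr rfl fun μ _ => ?_
    rw [classInner_smul_left]
  have heβ : ∀ β : G → ℂ, ∀ hβ : IsIrrCharacter G β, classInner (indFun N φ) β ≠ 0 →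
      e ⟨β, hβ⟩ ≠ 0 := by
    intro β hβ h h0
    apply h
    have := he ⟨β, hβ⟩
    simp only at this
    rw [this, h0]; simp
  refine ⟨?_, ?_, ?_⟩
  · intro β hβ hβne
    let β₀ : IrrCharacter G := ⟨β, hβ⟩
    have hβ0 := heβ β hβ hβne
    refine ⟨hirr β₀ hβ0, ?_⟩
    rw [hcoef, Finset.sum_eq_single β₀]
    · have h1 := hk β₀ β₀
      simp only [β₀] at h1
      rw [h1, hkey1 β₀ hβ0]
      have := he β₀
      simp only [β₀] at this
      rw [this]; simp [β₀]
    · intro μ _ hμ
      by_cases hμ0 : e μ = 0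
      · rw [hμ0]; simp
      · have h1 := hk μ β₀
        simp only [β₀] at h1
        rw [h1, hkey2 μ β₀ hμ0 hβ0 hμ]; simp
    · intro h; exact absurd (Finset.mem_univ _) h
  · intro β β' hβ hβ' hβne hβ'ne heq'
    by_contra hne
    let β₀ : IrrCharacter G := ⟨β, hβ⟩
    let β₁ : IrrCharacter G := ⟨β', hβ'⟩
    have hβ0 := heβ β hβ hβne
    have hβ1 := heβ β' hβ' hβ'ne
    have hne' : β₀ ≠ β₁ := fun h => hne (congrArg Subtype.val h)
    have h1 := hk β₀ β₁
    have h2 := hk β₀ β₀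
    simp only [β₀, β₁] at h1 h2
    rw [hkey2 β₀ β₁ hβ0 hβ1 hne'] at h1
    rw [hkey1 β₀ hβ0, heq'] at h2
    rw [← heq'] at h1
    rw [heq'] at h1
    rw [h1] at h2
    simp at h2
  · intro ψ hψ hψne
    rw [hcoef] at hψne
    obtain ⟨μ, -, hμ⟩ := Finset.exists_ne_zero_of_sum_ne_zero hψne
    have hμ0 : e μ ≠ 0 := by
      intro h
      apply hμ
      rw [h]; simp
    have hμ1 : classInner ((μ : G → ℂ) * χ) ψ ≠ 0 := right_ne_zero_of_mul hμ
    rw [classInner_irr (hirr μ hμ0) hψ] at hμ1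
    have hμψ : (μ : G → ℂ) * χ = ψ := by
      by_contra h
      rw [if_neg h] at hμ1
      exact hμ1 rfl
    refine ⟨μ, μ.2, ?_, hμψ⟩
    rw [he μ]
    exact_mod_cast hμ0

end

end Cfsg.Agent.Lib.Helper7
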