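import Mathlib
import Cfsg.Prelude.Def_Characters
import Cfsg.Agent.Lib.Helper26.CharBasic

/-!
# Transitivity of induction (helper7)

* `indFun_trans`: for `T ≤ G` and `H' ≤ T`, `Ind_T^G (Ind_{H'}^T ψ') = Ind_H^G ψ''` where
  `H = H'.map T.subtype` and `ψ''` is `ψ'` transported along `H' ≃* H`.
* `indFun_top`: inducing a class function from `⊤` gives it back.
-/

set_option autoImplicit false

namespace Cfsg.Agent.Lib.Helper7
open Cfsg Cfsg.Agent.Lib.Helper26
open scoped ComplexConjugate

section
variable {G : Type*} [Group G] [Fintype G]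

theorem indFun_trans (T : Subgroup G) [Fintype T] (H' : Subgroup T) (ψ' : H' → ℂ) :
    indFun T (indFun H' ψ') =
      indFun (H'.map T.subtype)
        (ψ' ∘ (H'.equivMapOfInjective T.subtype T.subtype_injective).symm) := by
  classical
  set e := H'.equivMapOfInjective T.subtype T.subtype_injective with he
  set A : G → ℂ := extendByZero (H'.map T.subtype) (ψ' ∘ e.symm) with hA
  have hAT : ∀ t : T, extendByZero H' ψ' t = A (t : G) := by
    intro t
    by_cases ht : t ∈ H'
    · have ht' : (t : G) ∈ H'.map T.subtype := Subgroup.mem_map.mpr ⟨t, ht, rfl⟩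
      rw [extendByZero_apply_mem H' ψ' t ht, hA, extendByZero_apply_mem _ _ _ ht']
      show ψ' ⟨t, ht⟩ = ψ' (e.symm ⟨(t : G), ht'⟩)
      congr 1
      apply e.injective
      rw [MulEquiv.apply_symm_apply]
      rfl
    · have ht' : (t : G) ∉ H'.map T.subtype := by
        intro h
        obtain ⟨s, hs, hst⟩ := Subgroup.mem_map.mp h
        have : s = t := Subtype.ext hst
        exact ht (this ▸ hs)
      rw [extendByZero_apply_not_mem H' ψ' t ht, hA, extendByZero_apply_not_mem _ _ _ ht']
  have hHT : ∀ z : G, z ∈ H'.map T.subtype → z ∈ T := by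
    intro z hz
    obtain ⟨s, -, rfl⟩ := Subgroup.mem_map.mp hz
    exact s.2
  have hext : ∀ z : G, extendByZero T (indFun H' ψ') z =
      (Nat.card H' : ℂ)⁻¹ * ∑ y : T, A ((y : G)⁻¹ * z * (y : G)) := by
    intro z
    by_cases hz : z ∈ T
    · rw [extendByZero_apply_mem T _ z hz]
      unfold indFun
      congr 1
      refine Finset.sum_congr rfl fun y _ => ?_
      rw [hAT]
      rfl
    · rw [extendByZero_apply_not_mem T _ z hz]
      have : ∀ y : T, A ((y : G)⁻¹ * z * (y : G)) = 0 := by
        intro y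
        rw [hA]
        apply extendByZero_apply_not_mem
        intro h
        apply hz
        have h1 := hHT _ h
        have h2 : z = (y : G) * ((y : G)⁻¹ * z * (y : G)) * (y : G)⁻¹ := by group
        rw [h2]
        exact T.mul_mem (T.mul_mem y.2 h1) (T.inv_mem y.2)
      simp [this]
  funext g
  have hcard : Nat.card (H'.map T.subtype) = Nat.card H' :=
    (Nat.card_congr e.toEquiv).symm
  show (Nat.card T : ℂ)⁻¹ * ∑ x : G, extendByZero T (indFun H' ψ') (x⁻¹ * g * x) =
    (Nat.card (H'.map T.subtype) : ℂ)⁻¹ * ∑ x : G, A (x⁻¹ * g * x)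
  simp only [hext]
  rw [← Finset.mul_sum, Finset.sum_comm]
  have h1 : ∀ y : T, ∑ x : G, A ((y : G)⁻¹ * (x⁻¹ * g * x) * (y : G)) =
      ∑ x : G, A (x⁻¹ * g * x) := by
    intro y
    refine Fintype.sum_equiv (Equiv.mulRight (y : G)) _ _ (fun x => ?_)
    simp only [Equiv.coe_mulRight, mul_inv_rev]
    congr 1
    group
  simp only [h1]
  rw [Finset.sum_const, Finset.card_univ, nsmul_eq_mul, hcard, ← Nat.card_eq_fintype_card]
  have hT0 : (Nat.card T : ℂ) ≠ 0 := Nat.cast_ne_zero.mpr Nat.card_pos.ne'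
  field_simp

theorem indFun_top (χ : G → ℂ) (hχ : IsClassFunction G χ) :
    indFun (⊤ : Subgroup G) (fun x : (⊤ : Subgroup G) => χ x) = χ := by
  classical
  funext g
  unfold indFun
  have h1 : ∀ x : G, extendByZero (⊤ : Subgroup G) (fun x : (⊤ : Subgroup G) => χ x)
      (x⁻¹ * g * x) = χ g := by
    intro x
    rw [extendByZero_apply_mem _ _ _ (Subgroup.mem_top _)]
    show χ (x⁻¹ * g * x) = χ g
    have := hχ g x⁻¹
    rw [inv_inv] at this
    exact this
  simp only [h1]
  rw [Finset.sum_const, Finset.card_univ, nsmul_eq_mul]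
  have : Nat.card (⊤ : Subgroup G) = Fintype.card G := by
    rw [Subgroup.card_top, Nat.card_eq_fintype_card]
  rw [this]
  have hG0 : (Fintype.card G : ℂ) ≠ 0 := Nat.cast_ne_zero.mpr Fintype.card_pos.ne'
  field_simp

end

end Cfsg.Agent.Lib.Helper7
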