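import Mathlib
import Cfsg.Prelude.Def_Characters
import Cfsg.Agent.Lib.Helper26.Clifford
import Cfsg.Agent.Lib.Helper26.IndChar
import Cfsg.Agent.S0900

/-!
# Clifford correspondence (helper7)

`H` normal in `G`, `ϑ` irreducible character of `H`, `T` its inertia group.
* `card_conj_image`: the number of distinct conjugates of `ϑ` is `[G:T]`.
* `restrict_inertia`: an irreducible `ψ` of `T` over `ϑ` restricts to `f • ϑ`.
* `corr_main`: if `ψ ∈ Irr(T)` lies over `ϑ` and `χ ∈ Irr(G)` is a constituent of `Ind ψ`, then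
  `χ = Ind ψ`, `⟨χ_H, ϑ⟩ = ⟨ψ_H, ϑ⟩` and `ψ` is the only constituent of `χ_T` over `ϑ`.
-/

set_option autoImplicit false

namespace Cfsg.Agent.Lib.Helper7
open Cfsg Cfsg.Agent.Lib.Helper26 Cfsg.Agent.Lib.Helper2
open scoped ComplexConjugate

section
variable {G : Type*} [Group G] [Fintype G] (H : Subgroup G) [hN : H.Normal] [Fintype H]

theorem card_conj_image (ϑ : H → ℂ) (T : Subgroup G)
    (hT : ∀ g : G, g ∈ T ↔ ∀ n : H, ϑ ⟨g * n * g⁻¹, hN.conj_mem (n : G) n.2 g⟩ = ϑ n) :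
    (Finset.univ.image (conjFunN H ϑ)).card = T.index := by
  classical
  have hconj : ∀ (g : G) (n : H), conjFunN H ϑ g n = ϑ ⟨g * n * g⁻¹, hN.conj_mem (n : G) n.2 g⟩ :=
    fun g n => rfl
  -- the map on cosets
  have hwd : ∀ g₁ g₂ : G, (QuotientGroup.leftRel T) g₁ g₂ →
      conjFunN H ϑ g₁⁻¹ = conjFunN H ϑ g₂⁻¹ := by
    intro g₁ g₂ h
    rw [QuotientGroup.leftRel_apply] at h
    have ht : (g₁⁻¹ * g₂)⁻¹ ∈ T := T.inv_mem h
    funext n
    rw [hconj, hconj]
    have h1 := (hT _).mp ht ⟨g₁⁻¹ * n * g₁⁻¹⁻¹, hN.conj_mem (n : G) n.2 g₁⁻¹⟩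
    rw [← h1]
    congr 1
    apply Subtype.ext
    simp only
    group
  let F : G ⧸ T → (H → ℂ) := Quotient.lift (fun g => conjFunN H ϑ g⁻¹) hwd
  have hF : ∀ g : G, F (g : G ⧸ T) = conjFunN H ϑ g⁻¹ := fun g => rfl
  have hFinj : Function.Injective F := by
    intro a b hab
    induction a using QuotientGroup.induction_on with
    | H g₁ =>
      induction b using QuotientGroup.induction_on with
      | H g₂ =>
        rw [hF, hF] at hab
        apply QuotientGroup.eq.mpr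
        rw [hT]
        intro n
        have h1 := congrFun hab ⟨g₂ * n * g₂⁻¹, hN.conj_mem (n : G) n.2 g₂⟩
        rw [hconj, hconj] at h1
        have h2 : (⟨g₂⁻¹ * (⟨g₂ * n * g₂⁻¹, hN.conj_mem (n : G) n.2 g₂⟩ : H) * g₂⁻¹⁻¹,
            hN.conj_mem _ (hN.conj_mem (n : G) n.2 g₂) g₂⁻¹⟩ : H) = n := by
          apply Subtype.ext
          simp only
          group
        rw [h2] at h1
        rw [← h1]
        congr 1
        apply Subtype.ext
        simp only
        group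
  have himg : Finset.univ.image (conjFunN H ϑ) = Finset.univ.image F := by
    ext φ
    simp only [Finset.mem_image, Finset.mem_univ, true_and]
    constructor
    · rintro ⟨g, rfl⟩
      exact ⟨((g⁻¹ : G) : G ⧸ T), by rw [hF, inv_inv]⟩
    · rintro ⟨a, rfl⟩
      induction a using QuotientGroup.induction_on with
      | H g => exact ⟨g⁻¹, (hF g).symm⟩
  have hcard : (Finset.univ.image F).card = T.index := by
    rw [Finset.card_image_of_injective _ hFinj, Finset.card_univ, Subgroup.index,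
      Nat.card_eq_fintype_card]
  rw [← hcard]
  congr 1

variable (T : Subgroup G) [Fintype T]

/-- An irreducible character of `T` lying over the `T`-invariant irreducible character `ϑ` of the
normal subgroup `H ≤ T` restricts to a multiple of `ϑ`. -/
theorem restrict_inertia (hHT : H ≤ T) (ϑ : H → ℂ) (hϑ : IsIrrCharacter H ϑ)
    (hinvT : ∀ t ∈ T, ∀ n : H, ϑ ⟨t * n * t⁻¹, hN.conj_mem (n : G) n.2 t⟩ = ϑ n)
    (ψ : T → ℂ) (hψ : IsIrrCharacter T ψ)
    (hcon : classInner (fun n : H => ψ ⟨(n : G), hHT n.2⟩) ϑ ≠ 0) :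
    ∃ f : ℕ, f ≠ 0 ∧ (fun n : H => ψ ⟨(n : G), hHT n.2⟩) = (f : ℂ) • ϑ := by
  classical
  let H' : Subgroup T := H.subgroupOf T
  haveI hH'n : H'.Normal := Subgroup.normal_subgroupOf
  let e : H' ≃* H := Subgroup.subgroupOfEquivOfLe hHT
  have he : ∀ x : H', ((e x : H) : G) = ((x : T) : G) := fun x => rfl
  let ϑ' : H' → ℂ := ϑ ∘ e
  have hϑ' : IsIrrCharacter H' ϑ' := isIrrCharacter_comp_mulEquiv hϑ e
  have hψe : ∀ x : H', ψ ⟨((e x : H) : G), hHT (e x).2⟩ = ψ (x : T) := by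
    intro x
    congr 1
  have hinner : classInner (fun x : H' => ψ x) ϑ' =
      classInner (fun n : H => ψ ⟨(n : G), hHT n.2⟩) ϑ := by
    unfold classInner
    rw [Nat.card_congr e.toEquiv]
    congr 1
    refine Fintype.sum_equiv e.toEquiv _ _ (fun x => ?_)
    show ψ (x : T) * conj (ϑ (e x)) = ψ ⟨((e x : H) : G), hHT (e x).2⟩ * conj (ϑ (e x))
    rw [hψe]
  have hinv' : ∀ (t : T) (x : H'),
      ϑ' ⟨t * x * t⁻¹, hH'n.conj_mem (x : T) x.2 t⟩ = ϑ' x := by
    intro t x
    have h1 := hinvT (t : G) t.2 (e x)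
    show ϑ (e ⟨t * x * t⁻¹, hH'n.conj_mem (x : T) x.2 t⟩) = ϑ (e x)
    rw [← h1]
    congr 1
  obtain ⟨f, hf0, hf⟩ := Cfsg.Agent.S0900.clifford_inv H' ψ hψ ϑ' hϑ'
    (by rw [hinner]; exact hcon) hinv'
  refine ⟨f, hf0, ?_⟩
  funext n
  have h1 := congrFun hf (e.symm n)
  simp only [Pi.smul_apply, smul_eq_mul] at h1 ⊢
  have h2 : ϑ' (e.symm n) = ϑ n := by
    show ϑ (e (e.symm n)) = ϑ n
    rw [MulEquiv.apply_symm_apply]
  rw [h2] at h1
  rw [← h1]
  congr 1

/-- Every nonzero-degree character has an irreducible constituent. -/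
theorem exists_constituent {K : Type*} [Group K] [Fintype K] {X : K → ℂ} (hX : IsCharacter K X)
    (hX1 : X 1 ≠ 0) : ∃ μ : IrrCharacter K, classInner X (μ : K → ℂ) ≠ 0 := by
  classical
  have : Fintype (IrrCharacter K) := Fintype.ofFinite _
  by_contra hcon
  push Not at hcon
  have hexp := Cfsg.Agent.Lib.Helper4.classFunction_expansion X (isClassFunction_of_isCharacter hX)
  apply hX1
  rw [hexp]
  simp [hcon]

/-- The main step of the Clifford correspondence. -/
theorem corr_main (hHT : H ≤ T) (ϑ : H → ℂ) (hϑ : IsIrrCharacter H ϑ)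
    (hT : ∀ g : G, g ∈ T ↔ ∀ n : H, ϑ ⟨g * n * g⁻¹, hN.conj_mem (n : G) n.2 g⟩ = ϑ n)
    (ψ : T → ℂ) (hψ : IsIrrCharacter T ψ)
    (hcon : classInner (fun n : H => ψ ⟨(n : G), hHT n.2⟩) ϑ ≠ 0)
    (χ : G → ℂ) (hχ : IsIrrCharacter G χ) (hχψ : classInner (indFun T ψ) χ ≠ 0) :
    χ = indFun T ψ ∧
    classInner (fun n : H => χ n) ϑ = classInner (fun n : H => ψ ⟨(n : G), hHT n.2⟩) ϑ ∧
    ∀ ψ' : T → ℂ, IsIrrCharacter T ψ' → ψ' ≠ ψ → classInner (fun t : T => χ t) ψ' ≠ 0 →
      classInner (fun n : H => ψ' ⟨(n : G), hHT n.2⟩) ϑ = 0 := by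
  classical
  have : Fintype (IrrCharacter G) := Fintype.ofFinite _
  have : Fintype (IrrCharacter T) := Fintype.ofFinite _
  have hχc := isCharacter_of_isIrrCharacter hχ
  have hψc := isCharacter_of_isIrrCharacter hψ
  have hϑc := isCharacter_of_isIrrCharacter hϑ
  have hχcl := isClassFunction_of_isCharacter hχc
  -- coefficients of χ_T
  have hχT : IsCharacter T (fun t : T => χ t) := isCharacter_comp_hom hχc T.subtype
  have ha : ∀ ν : IrrCharacter T, ∃ a : ℕ, classInner (fun t : T => χ t) (ν : T → ℂ) = a :=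
    fun ν => classInner_isCharacter_nat hχT (isCharacter_of_isIrrCharacter ν.2)
  choose a ha using ha
  have hf : ∀ ν : IrrCharacter T, ∃ f : ℕ,
      classInner (fun n : H => (ν : T → ℂ) ⟨(n : G), hHT n.2⟩) ϑ = f := fun ν =>
    classInner_isCharacter_nat
      (isCharacter_comp_hom (isCharacter_of_isIrrCharacter ν.2) (Subgroup.inclusion hHT)) hϑc
  choose f hf using hf
  obtain ⟨e, he⟩ := classInner_isCharacter_nat (isCharacter_comp_hom hχc H.subtype) hϑc
  have he' : classInner (fun n : H => χ n) ϑ = e := he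
  have hexpT := Cfsg.Agent.Lib.Helper4.classFunction_expansion (fun t : T => χ t)
    (isClassFunction_of_isCharacter hχT)
  simp_rw [ha] at hexpT
  have hsum : e = ∑ ν : IrrCharacter T, a ν * f ν := by
    have h1 : (fun n : H => χ n) = ∑ ν : IrrCharacter T,
        (a ν : ℂ) • (fun n : H => (ν : T → ℂ) ⟨(n : G), hHT n.2⟩) := by
      funext n
      have := congrFun hexpT ⟨(n : G), hHT n.2⟩
      simp only [Finset.sum_apply, Pi.smul_apply] at this ⊢
      exact this
    have h2 : classInner (fun n : H => χ n) ϑ = ∑ ν : IrrCharacter T, (a ν : ℂ) * (f ν : ℂ) := by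
      rw [h1, classInner_sum_left]
      refine Finset.sum_congr rfl fun ν _ => ?_
      rw [classInner_smul_left, hf]
    rw [he'] at h2
    exact_mod_cast h2
  let ψ₀ : IrrCharacter T := ⟨ψ, hψ⟩
  -- a ψ₀ = ⟨Ind ψ, χ⟩
  have hIndχ : classInner (indFun T ψ) χ = (a ψ₀ : ℂ) := by
    rw [classInner_indFun_left' T ψ χ hχcl, ← classInner_conj_symm]
    have : classInner (χ ∘ T.subtype) ψ = (a ψ₀ : ℂ) := ha ψ₀
    rw [this]; simp
  have haψ : a ψ₀ ≠ 0 := by
    intro h
    apply hχψ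
    rw [hIndχ, h]; simp
  have hfψ : f ψ₀ ≠ 0 := by
    intro h
    apply hcon
    have := hf ψ₀
    simp only [ψ₀] at this
    rw [this]
    exact_mod_cast h
  -- split the sum
  have hsplitT := Finset.add_sum_erase Finset.univ (fun ν => a ν * f ν) (Finset.mem_univ ψ₀)
  set R' := ∑ ν ∈ Finset.univ.erase ψ₀, a ν * f ν with hR'
  have he2 : e = a ψ₀ * f ψ₀ + R' := by rw [hsum, ← hsplitT]
  have he0 : e ≠ 0 := by
    intro h
    rw [h] at he2
    have : a ψ₀ * f ψ₀ = 0 := by omega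
    rcases Nat.mul_eq_zero.mp this with h | h
    · exact haψ h
    · exact hfψ h
  -- degrees
  obtain ⟨dϑ, hdϑpos, hdϑ⟩ := irr_degree hϑ
  have hinvT : ∀ t ∈ T, ∀ n : H, ϑ ⟨t * n * t⁻¹, hN.conj_mem (n : G) n.2 t⟩ = ϑ n :=
    fun t ht => (hT t).mp ht
  obtain ⟨f', hf'0, hf'⟩ := restrict_inertia H T hHT ϑ hϑ hinvT ψ hψ hcon
  have hf'f : f' = f ψ₀ := by
    have h1 := hf ψ₀
    simp only [ψ₀] at h1
    rw [hf', classInner_smul_left, classInner_irr hϑ hϑ, if_pos rfl, mul_one] at h1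
    exact_mod_cast h1
  have hψ1 : ψ 1 = ((f ψ₀ * dϑ : ℕ) : ℂ) := by
    have h1 := congrFun hf' 1
    simp only [Pi.smul_apply, smul_eq_mul, hdϑ] at h1
    have h2 : (⟨((1 : H) : G), hHT (1 : H).2⟩ : T) = 1 := rfl
    rw [h2] at h1
    rw [h1, hf'f]; push_cast; ring
  set c := T.index with hc
  have hcpos : 0 < c := Nat.pos_of_ne_zero Subgroup.index_ne_zero_of_finite
  have hχ1 : χ 1 = ((e * c * dϑ : ℕ) : ℂ) := by
    have hcl := clifford_restrict H hχ hϑ (by rw [he]; exact_mod_cast he0)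
    have h1 := congrFun hcl 1
    simp only [Function.comp_apply, Pi.smul_apply, Finset.sum_apply, smul_eq_mul,
      Subgroup.coe_subtype, Subgroup.coe_one] at h1
    have he'' : classInner (χ ∘ Subtype.val) ϑ = (e : ℂ) := he
    rw [h1, he'']
    have h2 : ∀ φ ∈ Finset.univ.image (conjFunN H ϑ), φ 1 = (dϑ : ℂ) := by
      intro φ hφ
      obtain ⟨g, -, rfl⟩ := Finset.mem_image.mp hφ
      show ϑ ⟨g * ((1 : H) : G) * g⁻¹, _⟩ = _
      rw [← hdϑ]
      congr 1
      apply Subtype.ext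
      simp
    rw [Finset.sum_congr rfl h2, Finset.sum_const, card_conj_image H ϑ T hT, nsmul_eq_mul]
    push_cast; ring
  have hInd1 : indFun T ψ 1 = ((c * (f ψ₀ * dϑ) : ℕ) : ℂ) := by
    have hratio : (Nat.card T : ℂ)⁻¹ * (Fintype.card G : ℂ) = (T.index : ℂ) := by
      have h1 : (T.index : ℂ) * (Nat.card T : ℂ) = (Fintype.card G : ℂ) := by
        rw [← Nat.card_eq_fintype_card, ← T.index_mul_card]; push_cast; rfl
      have h2 : (Nat.card T : ℂ) ≠ 0 := Nat.cast_ne_zero.mpr Nat.card_pos.ne'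
      rw [← h1]; field_simp
    rw [indFun_one, ← mul_assoc, hratio, hψ1]
    push_cast; ring
  -- expansion of Ind ψ
  have hIc : IsCharacter G (indFun T ψ) := isCharacter_indFun T hψc
  have hb : ∀ μ : IrrCharacter G, ∃ b : ℕ, classInner (indFun T ψ) (μ : G → ℂ) = b :=
    fun μ => classInner_isCharacter_nat hIc (isCharacter_of_isIrrCharacter μ.2)
  choose b hb using hb
  have hexpG := Cfsg.Agent.Lib.Helper4.classFunction_expansion (indFun T ψ)
    (isClassFunction_of_isCharacter hIc)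
  simp_rw [hb] at hexpG
  have hd : ∀ μ : IrrCharacter G, ∃ d : ℕ, 0 < d ∧ (μ : G → ℂ) 1 = d := fun μ => irr_degree μ.2
  choose d hdpos hd using hd
  let χ₀ : IrrCharacter G := ⟨χ, hχ⟩
  have hbχ : b χ₀ = a ψ₀ := by
    have h1 := hb χ₀
    simp only [χ₀] at h1
    rw [hIndχ] at h1
    exact_mod_cast h1.symm
  have hdχ : d χ₀ = e * c * dϑ := by
    have h1 := hd χ₀
    simp only [χ₀] at h1
    rw [hχ1] at h1
    exact_mod_cast h1.symm
  have hdeg : c * (f ψ₀ * dϑ) = ∑ μ : IrrCharacter G, b μ * d μ := by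
    have h1 : indFun T ψ 1 = ∑ μ : IrrCharacter G, (b μ : ℂ) * (d μ : ℂ) := by
      conv_lhs => rw [hexpG]
      simp [Finset.sum_apply, hd]
    rw [hInd1] at h1
    exact_mod_cast h1
  have hsplitG := Finset.add_sum_erase Finset.univ (fun μ => b μ * d μ) (Finset.mem_univ χ₀)
  set R := ∑ μ ∈ Finset.univ.erase χ₀, b μ * d μ with hR
  rw [← hsplitG, hbχ, hdχ, he2] at hdeg
  -- hdeg : c * (F * dϑ) = A * ((A * F + R') * c * dϑ) + R
  set A := a ψ₀ with hA
  set F := f ψ₀ with hF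
  have hApos : 1 ≤ A := Nat.one_le_iff_ne_zero.mpr haψ
  have hFpos : 1 ≤ F := Nat.one_le_iff_ne_zero.mpr hfψ
  have hcd : 0 < c * dϑ := Nat.mul_pos hcpos hdϑpos
  have hA1 : A = 1 := by
    by_contra hne
    have hA2 : 2 ≤ A := by omega
    have h1 : c * (F * dϑ) = F * (c * dϑ) := by ring
    have h2 : A * ((A * F + R') * c * dϑ) = A * A * F * (c * dϑ) + A * R' * (c * dϑ) := by ring
    rw [h1, h2] at hdeg
    have h3 : 4 * (F * (c * dϑ)) ≤ A * A * F * (c * dϑ) := by
      have : 4 ≤ A * A := by nlinarith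
      calc 4 * (F * (c * dϑ)) = 4 * F * (c * dϑ) := by ring
        _ ≤ A * A * F * (c * dϑ) := by
          apply Nat.mul_le_mul_right
          exact Nat.mul_le_mul_right _ this
    have h4 : 0 < F * (c * dϑ) := Nat.mul_pos hFpos hcd
    omega
  rw [hA1] at hdeg
  have hzero : R' * (c * dϑ) + R = 0 := by
    have h1 : c * (F * dϑ) = F * (c * dϑ) := by ring
    have h2 : 1 * ((1 * F + R') * c * dϑ) = F * (c * dϑ) + R' * (c * dϑ) := by ring
    rw [h1, h2] at hdeg
    omega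
  have hR'0 : R' = 0 := by
    have : R' * (c * dϑ) = 0 := by omega
    rcases Nat.mul_eq_zero.mp this with h | h
    · exact h
    · omega
  have hR0 : R = 0 := by omega
  refine ⟨?_, ?_, ?_⟩
  · -- χ = Ind ψ
    rw [hexpG, ← Finset.add_sum_erase Finset.univ _ (Finset.mem_univ χ₀)]
    have hz : ∀ μ ∈ Finset.univ.erase χ₀, b μ = 0 := by
      intro μ hμ
      have h1 := (Finset.sum_eq_zero_iff.mp hR0) μ hμ
      rcases Nat.mul_eq_zero.mp h1 with h | h
      · exact h
      · exact absurd h (hdpos μ).ne'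
    have hrest : ∑ μ ∈ Finset.univ.erase χ₀, (b μ : ℂ) • (μ : G → ℂ) = 0 := by
      apply Finset.sum_eq_zero
      intro μ hμ
      rw [hz μ hμ]; simp
    rw [hrest, add_zero, hbχ, hA1]
    simp [χ₀]
  · rw [he']
    have h1 := hf ψ₀
    simp only [ψ₀] at h1
    rw [h1, he2, hA1, hR'0]
    simp [hF, ψ₀]
  · intro ψ' hψ' hne hcon'
    let ψ₁ : IrrCharacter T := ⟨ψ', hψ'⟩
    have hne' : ψ₁ ≠ ψ₀ := fun h => hne (congrArg Subtype.val h)
    have h1 := (Finset.sum_eq_zero_iff.mp hR'0) ψ₁ (Finset.mem_erase.mpr ⟨hne', Finset.mem_univ _⟩)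
    have ha1 : a ψ₁ ≠ 0 := by
      intro h
      apply hcon'
      have := ha ψ₁
      simp only [ψ₁] at this
      rw [this, h]; simp
    have hf1 : f ψ₁ = 0 := by
      rcases Nat.mul_eq_zero.mp h1 with h | h
      · exact absurd h ha1
      · exact h
    have := hf ψ₁
    simp only [ψ₁] at this
    rw [this, hf1]; simp

/-- Transitivity of restriction on the level of inner products. -/
theorem classInner_restrict_trans (hHT : H ≤ T) (ϑ : H → ℂ) (χ : G → ℂ) (hχ : IsCharacter G χ)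
    [Fintype (IrrCharacter T)] :
    classInner (fun n : H => χ n) ϑ = ∑ ν : IrrCharacter T,
      classInner (fun t : T => χ t) (ν : T → ℂ) *
        classInner (fun n : H => (ν : T → ℂ) ⟨(n : G), hHT n.2⟩) ϑ := by
  have hχT : IsCharacter T (fun t : T => χ t) := isCharacter_comp_hom hχ T.subtype
  have hexpT := Cfsg.Agent.Lib.Helper4.classFunction_expansion (fun t : T => χ t)
    (isClassFunction_of_isCharacter hχT)
  have h1 : (fun n : H => χ n) = ∑ ν : IrrCharacter T,
      classInner (fun t : T => χ t) (ν : T → ℂ) •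
        (fun n : H => (ν : T → ℂ) ⟨(n : G), hHT n.2⟩) := by
    funext n
    have := congrFun hexpT ⟨(n : G), hHT n.2⟩
    simp only [Finset.sum_apply, Pi.smul_apply] at this ⊢
    exact this
  conv_lhs => rw [h1]
  rw [classInner_sum_left]
  refine Finset.sum_congr rfl fun ν _ => ?_
  rw [classInner_smul_left]

/-- Inner products on `H.subgroupOf T` agree with those on `H`. -/
theorem classInner_subgroupOf [Fintype (H.subgroupOf T)] (hHT : H ≤ T) (ϑ : H → ℂ) (ψ : T → ℂ) :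
    classInner (fun x : H.subgroupOf T => ϑ ⟨((x : T) : G), Subgroup.mem_subgroupOf.mp x.2⟩)
      (fun x : H.subgroupOf T => ψ x) =
    classInner ϑ (fun n : H => ψ ⟨(n : G), hHT n.2⟩) := by
  let e : H.subgroupOf T ≃* H := Subgroup.subgroupOfEquivOfLe hHT
  unfold classInner
  rw [Nat.card_congr e.toEquiv]
  congr 1
  refine Fintype.sum_equiv e.toEquiv _ _ (fun x => ?_)
  show ϑ ⟨((x : T) : G), _⟩ * conj (ψ (x : T)) = ϑ (e x) * conj (ψ ⟨((e x : H) : G), hHT (e x).2⟩)
  congr 2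

end

end Cfsg.Agent.Lib.Helper7
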