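import Mathlib
import Cfsg.Prelude.Def_Characters
import Cfsg.Prelude.Def_CharExt
import Cfsg.Agent.Lib.Helper4.Decomp
import Cfsg.Agent.Lib.Helper24.LinBridge

/-!
# The determinantal character (helper7)

* `detHom ρ`: `g ↦ det (ρ g)` as a hom `G →* ℂˣ`.
* `detChar_character`: `detChar ρ.character g = detHom ρ g` (finite `G`).
* `detChar_twist`, `detChar_restrict`, `detChar_comp_equiv`.
-/

set_option autoImplicit false

namespace Cfsg.Agent.Lib.Helper7
open Cfsg

section
variable {G : Type*} [Group G]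

/-- the determinant of a representation, as a hom to the units -/
noncomputable def detHom {n : ℕ} (ρ : Representation ℂ G (Fin n → ℂ)) : G →* ℂˣ :=
  ((LinearMap.det : ((Fin n → ℂ) →ₗ[ℂ] (Fin n → ℂ)) →* ℂ).comp ρ).toHomUnits

theorem detHom_apply {n : ℕ} (ρ : Representation ℂ G (Fin n → ℂ)) (g : G) :
    ((detHom ρ g : ℂˣ) : ℂ) = LinearMap.det (ρ g) := rfl

theorem det_eq_of_character_eq [Finite G] {n m : ℕ} (ρ : Representation ℂ G (Fin n → ℂ))
    (σ : Representation ℂ G (Fin m → ℂ)) (h : ρ.character = σ.character) (g : G) :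
    LinearMap.det (ρ g) = LinearMap.det (σ g) := by
  have : Fintype G := Fintype.ofFinite G
  obtain ⟨e⟩ := Cfsg.Agent.Lib.Helper4.equiv_of_character_eq' ρ σ h
  have h1 : σ g = (e.toLinearEquiv : (Fin n → ℂ) →ₗ[ℂ] (Fin m → ℂ)) ∘ₗ ρ g ∘ₗ
      (e.toLinearEquiv.symm : (Fin m → ℂ) →ₗ[ℂ] (Fin n → ℂ)) := by
    have h2 := e.isIntertwining' g
    apply LinearMap.ext
    intro v
    have h3 := LinearMap.congr_fun h2 (e.toLinearEquiv.symm v)
    simp only [LinearMap.coe_comp, Function.comp_apply] at h3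
    simp only [LinearMap.coe_comp, Function.comp_apply, LinearEquiv.coe_coe]
    have h4 : e.toLinearMap (e.toLinearEquiv.symm v) = v := e.toLinearEquiv.apply_symm_apply v
    rw [h4] at h3
    rw [← h3]
  rw [h1, LinearMap.det_conj]

theorem detChar_character [Finite G] {n : ℕ} (ρ : Representation ℂ G (Fin n → ℂ)) (g : G) :
    detChar ρ.character g = ((detHom ρ g : ℂˣ) : ℂ) := by
  have h : IsCharacter G ρ.character := ⟨n, ρ, rfl⟩
  unfold detChar
  rw [dif_pos h]
  exact det_eq_of_character_eq _ ρ (Classical.choose_spec (Classical.choose_spec h)) g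

theorem exists_detHom [Finite G] {χ : G → ℂ} (hχ : IsCharacter G χ) :
    ∃ δ : G →* ℂˣ, ∀ g, detChar χ g = ((δ g : ℂˣ) : ℂ) := by
  obtain ⟨n, ρ, rfl⟩ := hχ
  exact ⟨detHom ρ, detChar_character ρ⟩

theorem detChar_eq_homToFun [Finite G] {χ : G → ℂ} (hχ : IsCharacter G χ) :
    ∃ δ : G →* ℂˣ, detChar χ = fun g => ((δ g : ℂˣ) : ℂ) := by
  obtain ⟨δ, hδ⟩ := exists_detHom hχ
  exact ⟨δ, funext hδ⟩

/-- the twist of a representation by a linear character -/
noncomputable def twistRep {n : ℕ} (β : G →* ℂˣ) (ρ : Representation ℂ G (Fin n → ℂ)) :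
    Representation ℂ G (Fin n → ℂ) where
  toFun g := ((β g : ℂˣ) : ℂ) • ρ g
  map_one' := by simp
  map_mul' g h := by
    rw [map_mul, map_mul, Units.val_mul, smul_mul_smul_comm]

theorem twistRep_character {n : ℕ} (β : G →* ℂˣ) (ρ : Representation ℂ G (Fin n → ℂ)) (g : G) :
    (twistRep β ρ).character g = ((β g : ℂˣ) : ℂ) * ρ.character g := by
  unfold Representation.character twistRep
  simp

theorem detHom_twistRep {n : ℕ} (β : G →* ℂˣ) (ρ : Representation ℂ G (Fin n → ℂ)) (g : G) :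
    ((detHom (twistRep β ρ) g : ℂˣ) : ℂ) = ((β g : ℂˣ) : ℂ) ^ n * ((detHom ρ g : ℂˣ) : ℂ) := by
  rw [detHom_apply, detHom_apply]
  unfold twistRep
  simp only [MonoidHom.coe_mk, OneHom.coe_mk]
  rw [LinearMap.det_smul]
  simp

theorem character_one_eq {n : ℕ} (ρ : Representation ℂ G (Fin n → ℂ)) :
    ρ.character 1 = n := by
  rw [Representation.char_one]
  simp

/-- `det (βχ) = β^{χ(1)} det χ` -/
theorem detChar_twist [Finite G] (β : G →* ℂˣ) {χ : G → ℂ} (hχ : IsCharacter G χ) (d : ℕ)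
    (hd : χ 1 = d) (g : G) :
    detChar (fun g => ((β g : ℂˣ) : ℂ) * χ g) g = ((β g : ℂˣ) : ℂ) ^ d * detChar χ g := by
  obtain ⟨n, ρ, rfl⟩ := hχ
  have hn : n = d := by
    rw [character_one_eq] at hd
    exact_mod_cast hd
  subst hn
  have h1 : (fun g => ((β g : ℂˣ) : ℂ) * ρ.character g) = (twistRep β ρ).character := by
    funext g; rw [twistRep_character]
  rw [h1, detChar_character, detChar_character, detHom_twistRep]

/-- det commutes with composition with a group hom -/
theorem detChar_comp {H : Type*} [Group H] [Finite G] [Finite H] (f : H →* G) {χ : G → ℂ}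
    (hχ : IsCharacter G χ) (h : H) :
    detChar (fun h : H => χ (f h)) h = detChar χ (f h) := by
  obtain ⟨n, ρ, rfl⟩ := hχ
  have h1 : (fun h : H => ρ.character (f h)) =
      Representation.character (MonoidHom.comp ρ f : Representation ℂ H (Fin n → ℂ)) := by
    funext h; rfl
  rw [h1, detChar_character, detChar_character]
  rfl

theorem detChar_restrict [Finite G] (N : Subgroup G) {χ : G → ℂ} (hχ : IsCharacter G χ) (n : N) :
    detChar (fun n : N => χ n) n = detChar χ n :=
  detChar_comp N.subtype hχ n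

theorem detChar_conj [Finite G] (N : Subgroup G) [hN : N.Normal] {θ : N → ℂ} (hθ : IsCharacter N θ)
    (g : G) (n : N) :
    detChar (fun n : N => θ ⟨g * n * g⁻¹, hN.conj_mem (n : G) n.2 g⟩) n
      = detChar θ ⟨g * n * g⁻¹, hN.conj_mem (n : G) n.2 g⟩ := by
  have := detChar_comp (MulAut.conjNormal g : N ≃* N).toMonoidHom hθ n
  exact this

theorem detChar_one [Finite G] {χ : G → ℂ} (hχ : IsCharacter G χ) : detChar χ 1 = 1 := by
  obtain ⟨δ, hδ⟩ := exists_detHom hχ
  rw [hδ, map_one, Units.val_one]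

theorem isCharacter_detChar [Finite G] {χ : G → ℂ} (hχ : IsCharacter G χ) :
    IsCharacter G (detChar χ) := by
  obtain ⟨δ, hδ⟩ := detChar_eq_homToFun hχ
  rw [hδ]
  exact Cfsg.Agent.Lib.Helper24.isCharacter_of_hom δ

end

end Cfsg.Agent.Lib.Helper7
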