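import Mathlib
import Cfsg.Prelude.Def_Characters
import Cfsg.Prelude.Def_CharExt
import Cfsg.Agent.Lib.Helper7.DetChar
import Cfsg.Agent.Lib.Helper7.Gallagher
import Cfsg.Agent.Lib.Helper4.BurnsideClass
import Cfsg.Agent.S1490
import Cfsg.Agent.S0857

/-!
# Extension of invariant characters via determinants (helper7)

Isaacs 6.24-6.27 for solvable quotients.
-/

set_option autoImplicit false

namespace Cfsg.Agent.Lib.Helper7
open Cfsg Cfsg.Agent.Lib.Helper26 Cfsg.Agent.Lib.Helper2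
open scoped ComplexConjugate

section PrimeIndex

/-- a proper normal subgroup with solvable quotient lies in a normal subgroup of prime index -/
theorem exists_normal_prime_index {G : Type*} [Group G] [Finite G] (N : Subgroup G) [N.Normal]
    (hN : N ≠ ⊤) (hsolv : Group.IsSolvable (G ⧸ N)) :
    ∃ M : Subgroup G, M.Normal ∧ N ≤ M ∧ M.index.Prime := by
  classical
  let S : Set (Subgroup G) := {M | M.Normal ∧ N ≤ M ∧ M ≠ ⊤}
  have hS : S.Nonempty := ⟨N, inferInstance, le_refl _, hN⟩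
  obtain ⟨M, hMS, hMmax⟩ := (wellFounded_gt (α := Subgroup G)).has_min S hS
  obtain ⟨hMn, hNM, hMtop⟩ := hMS
  haveI := hMn
  refine ⟨M, hMn, hNM, ?_⟩
  have hsolvM : Group.IsSolvable (G ⧸ M) := by
    have hsurj : Function.Surjective (QuotientGroup.map N M (MonoidHom.id G) hNM) := by
      intro x
      obtain ⟨g, rfl⟩ := QuotientGroup.mk_surjective x
      exact ⟨QuotientGroup.mk g, rfl⟩
    exact Group.isSolvable_of_surjective hsurj
  haveI : Nontrivial (G ⧸ M) := QuotientGroup.nontrivial_iff.mpr hMtop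
  haveI hsimple : IsSimpleGroup (G ⧸ M) := by
    refine ⟨fun H hH => ?_⟩
    haveI := hH
    let K := H.comap (QuotientGroup.mk' M)
    have hKn : K.Normal := inferInstance
    have hMK : M ≤ K := by
      intro x hx
      show (QuotientGroup.mk' M) x ∈ H
      have : (QuotientGroup.mk' M) x = 1 := (QuotientGroup.eq_one_iff x).mpr hx
      rw [this]; exact H.one_mem
    by_cases hK : K = ⊤
    · right
      have := Subgroup.map_comap_eq_self_of_surjective (QuotientGroup.mk'_surjective M) H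
      rw [← this]
      show K.map _ = ⊤
      rw [hK, ← MonoidHom.range_eq_map, MonoidHom.range_eq_top]
      exact QuotientGroup.mk'_surjective M
    · left
      have hKS : K ∈ S := ⟨hKn, hNM.trans hMK, hK⟩
      have hKM : K = M := by
        by_contra hne
        exact hMmax K hKS (lt_of_le_of_ne hMK (Ne.symm hne))
      have h2 : H.comap (QuotientGroup.mk' M) = (⊥ : Subgroup (G ⧸ M)).comap (QuotientGroup.mk' M) := by
        show K = _
        rw [hKM]
        have : (⊥ : Subgroup (G ⧸ M)).comap (QuotientGroup.mk' M) = (QuotientGroup.mk' M).ker := rfl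
        rw [this, QuotientGroup.ker_mk']
      exact Subgroup.comap_injective (QuotientGroup.mk'_surjective M) h2
  have hcomm : ∀ a b : G ⧸ M, a * b = b * a := IsSimpleGroup.comm_iff_isSolvable.mpr hsolvM
  let _ : CommGroup (G ⧸ M) := { (inferInstance : Group (G ⧸ M)) with mul_comm := hcomm }
  have := IsSimpleGroup.prime_card (α := G ⧸ M)
  rwa [← Subgroup.index_eq_card] at this

/-- an invariant irreducible character of a normal subgroup of prime index extends -/
theorem ext_prime_index {G : Type*} [Group G] [Fintype G] (N : Subgroup G) [hN : N.Normal]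
    (hp : N.index.Prime) (θ : N → ℂ) (hθ : IsIrrCharacter N θ)
    (hinv : ∀ (g : G) (n : N), θ ⟨g * n * g⁻¹, hN.conj_mem (n : G) n.2 g⟩ = θ n) :
    ∃ χ : G → ℂ, IsIrrCharacter G χ ∧ ∀ n : N, χ n = θ n := by
  classical
  haveI : Fintype N := Fintype.ofFinite _
  have hT : ∀ g : G, g ∈ (⊤ : Subgroup G) ↔
      ∀ h : N, θ ⟨g * h * g⁻¹, hN.conj_mem h h.2 g⟩ = θ h :=
    fun g => ⟨fun _ h => hinv g h, fun _ => Subgroup.mem_top g⟩
  have hcomm : ∀ a b : G ⧸ N, a * b = b * a := by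
    haveI : Fact (Nat.card (G ⧸ N)).Prime := ⟨by rwa [← Subgroup.index_eq_card]⟩
    haveI := isCyclic_of_prime_card (α := G ⧸ N) rfl
    exact fun a b => Std.Commutative.comm a b
  have hab : ∀ x ∈ (⊤ : Subgroup G), ∀ y ∈ (⊤ : Subgroup G), x * y * x⁻¹ * y⁻¹ ∈ N := by
    intro x _ y _
    rw [← QuotientGroup.eq_one_iff]
    simp only [QuotientGroup.mk_mul, QuotientGroup.mk_inv]
    rw [hcomm (x : G ⧸ N) (y : G ⧸ N)]
    group
  obtain ⟨e, C, he, hC, hcard, hind, hdeg⟩ := Cfsg.Agent.S1490.result N ⊤ θ hθ hT hab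
  have hcardtop : Nat.card (⊤ : Subgroup G) = N.index * Nat.card N := by
    rw [Subgroup.card_top, N.index_mul_card]
  rw [hcardtop] at hcard
  have hcard2 : e ^ 2 * C.card = N.index :=
    Nat.eq_of_mul_eq_mul_right Nat.card_pos hcard
  have he1 : e = 1 := by
    have hdvd : e ∣ N.index := ⟨e * C.card, by rw [← hcard2]; ring⟩
    rcases (Nat.dvd_prime hp).mp hdvd with h | h
    · exact h
    · exfalso
      have h2 : N.index * (N.index * C.card) = N.index * 1 := by
        rw [mul_one]; nth_rewrite 3 [← hcard2]; rw [h]; ring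
      have h3 := Nat.eq_of_mul_eq_mul_left hp.pos h2
      have h4 : N.index = 1 := Nat.eq_one_of_mul_eq_one_right h3
      exact hp.one_lt.ne' h4
  subst he1
  have hCne : C.Nonempty := by
    rw [← Finset.card_pos]
    have : C.card = N.index := by simpa using hcard2
    rw [this]; exact hp.pos
  obtain ⟨χ, hχC⟩ := hCne
  have hχ := hC χ hχC
  refine ⟨χ, hχ, ?_⟩
  have hχ1 : χ 1 = θ 1 := by
    rw [hdeg χ hχC, Subgroup.index_top]; simp
  have hin : classInner (indFun N θ) χ = 1 := by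
    rw [hind]
    simp only [Nat.cast_one, one_smul]
    rw [classInner_sum_left, Finset.sum_eq_single χ]
    · rw [classInner_irr hχ hχ, if_pos rfl]
    · intro ψ hψ hne
      rw [classInner_irr (hC ψ hψ) hχ, if_neg hne]
    · intro h; exact absurd hχC h
  obtain ⟨m, hm1, hm2⟩ := Cfsg.Agent.S0900.ind_coeff N θ (isCharacter_of_isIrrCharacter hθ) χ
    (isCharacter_of_isIrrCharacter hχ)
  have hcon : classInner (fun n : N => χ n) θ ≠ 0 := by
    rw [hm2, ← hm1, hin]; exact one_ne_zero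
  obtain ⟨e', he', hres⟩ := Cfsg.Agent.S0900.clifford_inv N χ hχ θ hθ hcon hinv
  obtain ⟨d, hd, hd1⟩ := irr_degree hθ
  have h1 := congrFun hres 1
  simp only [Pi.smul_apply, smul_eq_mul, Subgroup.coe_one] at h1
  rw [hχ1, hd1] at h1
  have hd0 : (d : ℂ) ≠ 0 := by exact_mod_cast hd.ne'
  have he'1 : (e' : ℂ) = 1 := by
    have : (1 : ℂ) * d = e' * d := by rw [one_mul]; exact h1
    exact (mul_right_cancel₀ hd0 this).symm
  intro n
  have := congrFun hres n
  simp only [Pi.smul_apply, smul_eq_mul] at this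
  rw [this, he'1, one_mul]

end PrimeIndex

section Twist

theorem isIrr_of_hom' {W : Type*} [Group W] (φ : W →* ℂˣ) :
    IsIrrCharacter W (fun w => ((φ w : ℂˣ) : ℂ)) :=
  ⟨1, Cfsg.Agent.Lib.Helper24.linRepH φ,
    Cfsg.Agent.Lib.Helper4.isIrreducible_of_finrank_eq_one _ (by simp),
    funext (Cfsg.Agent.Lib.Helper24.linRepH_character φ)⟩

variable {G : Type*} [Group G] [Fintype G] (N : Subgroup G) [hN : N.Normal]

theorem inv_of_ext (ϑ : N → ℂ) (χ : G → ℂ) (hχ : IsIrrCharacter G χ) (he : ∀ n : N, χ n = ϑ n) :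
    ∀ (g : G) (n : N), ϑ ⟨g * n * g⁻¹, hN.conj_mem (n : G) n.2 g⟩ = ϑ n := by
  intro g n
  rw [← he, ← he]
  exact isClassFunction_of_isIrrCharacter hχ (n : G) g

/-- two extensions of an irreducible character differ by a linear character of the quotient -/
theorem ext_twist (ϑ : N → ℂ) (hϑ : IsIrrCharacter N ϑ) (χ₁ χ₂ : G → ℂ)
    (h₁ : IsIrrCharacter G χ₁) (h₂ : IsIrrCharacter G χ₂)
    (he₁ : ∀ n : N, χ₁ n = ϑ n) (he₂ : ∀ n : N, χ₂ n = ϑ n) :
    ∃ β : G →* ℂˣ, (∀ n : N, β n = 1) ∧ χ₂ = fun g => ((β g : ℂˣ) : ℂ) * χ₁ g := by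
  classical
  haveI : Fintype N := Fintype.ofFinite _
  have hinv := inv_of_ext N ϑ χ₁ h₁ he₁
  have hone : IsIrrCharacter N (fun _ => (1 : ℂ)) := Cfsg.Agent.Lib.Helper4.isIrrCharacter_one
  have hmul : ((fun _ => (1 : ℂ)) * ϑ : N → ℂ) = ϑ := by funext n; simp
  have hG := gallagher_gen N (fun _ => (1 : ℂ)) ϑ hone (fun _ _ => rfl) hinv
    (by rw [hmul]; exact hϑ) χ₁ h₁ he₁
  obtain ⟨_, _, h3⟩ := hG
  have hϑc := isCharacter_of_isIrrCharacter hϑ
  have hcon2 : classInner (indFun N ((fun _ => (1 : ℂ)) * ϑ)) χ₂ ≠ 0 := by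
    rw [hmul]
    obtain ⟨m, hm1, hm2⟩ := Cfsg.Agent.S0900.ind_coeff N ϑ hϑc χ₂ (isCharacter_of_isIrrCharacter h₂)
    have : (fun n : N => χ₂ n) = ϑ := funext he₂
    rw [this, classInner_irr hϑ hϑ, if_pos rfl] at hm2
    rw [hm1, ← hm2]; exact one_ne_zero
  obtain ⟨β, hβ, hβcon, hβmul⟩ := h3 χ₂ h₂ hcon2
  obtain ⟨d, hd, hd1⟩ := irr_degree hϑ
  have hd0 : (d : ℂ) ≠ 0 := by exact_mod_cast hd.ne'
  have hβ1 : β 1 = 1 := by
    have h := congrFun hβmul 1
    simp only [Pi.mul_apply] at h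
    have e1 := he₁ 1
    have e2 := he₂ 1
    rw [Subgroup.coe_one] at e1 e2
    rw [e1, e2, hd1] at h
    have : β 1 * d = 1 * d := by rw [one_mul]; exact h
    exact mul_right_cancel₀ hd0 this
  have hβc := isCharacter_of_isIrrCharacter hβ
  obtain ⟨b, hb⟩ := Cfsg.Agent.Lib.Helper24.exists_hom_of_isCharacter hβc hβ1
  refine ⟨b, ?_, ?_⟩
  · obtain ⟨m, hm1, hm2⟩ := Cfsg.Agent.S0900.ind_coeff N (fun _ => (1 : ℂ))
      (isCharacter_of_isIrrCharacter hone) β hβc
    have hne : classInner (fun n : N => β n) (fun _ => (1 : ℂ)) ≠ 0 := by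
      rw [hm2, ← hm1]; exact hβcon
    have hres : (fun n : N => β n) = fun n : N => (((b.comp N.subtype) n : ℂˣ) : ℂ) := by
      funext n; rw [hb]; rfl
    rw [hres, classInner_irr (isIrr_of_hom' (b.comp N.subtype)) hone] at hne
    have heq : (fun n : N => (((b.comp N.subtype) n : ℂˣ) : ℂ)) = fun _ => (1 : ℂ) := by
      by_contra hcontra
      rw [if_neg hcontra] at hne
      exact hne rfl
    intro n
    have := congrFun heq n
    simp only [MonoidHom.comp_apply, Subgroup.coe_subtype] at this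
    exact Units.ext this
  · rw [← hβmul, hb]
    rfl

end Twist

section Det
variable {G : Type*} [Group G] [Fintype G] (N : Subgroup G) [hN : N.Normal]

theorem pow_index_eq_one (β : G →* ℂˣ) (hβ : ∀ n : N, β n = 1) : β ^ N.index = 1 := by
  ext g
  rw [MonoidHom.pow_apply, ← map_pow]
  have := hβ ⟨g ^ N.index, Subgroup.pow_index_mem N g⟩
  simp only at this
  rw [this]; rfl

/-- Isaacs 6.24 (uniqueness) -/
theorem ext_det_unique (ϑ : N → ℂ) (hϑ : IsIrrCharacter N ϑ) (d : ℕ) (hd : ϑ 1 = d)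
    (hcop : Nat.Coprime N.index d) (χ₁ χ₂ : G → ℂ)
    (h₁ : IsIrrCharacter G χ₁) (h₂ : IsIrrCharacter G χ₂)
    (he₁ : ∀ n : N, χ₁ n = ϑ n) (he₂ : ∀ n : N, χ₂ n = ϑ n)
    (hdet : detChar χ₁ = detChar χ₂) : χ₁ = χ₂ := by
  obtain ⟨β, hβN, hβ⟩ := ext_twist N ϑ hϑ χ₁ χ₂ h₁ h₂ he₁ he₂
  have hχ₁1 : χ₁ 1 = d := by
    have := he₁ 1
    rw [Subgroup.coe_one] at this
    rw [this, hd]
  have h₁c := isCharacter_of_isIrrCharacter h₁
  have key : ∀ g, ((β g : ℂˣ) : ℂ) ^ d = 1 := by
    intro g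
    have h := detChar_twist β h₁c d hχ₁1 g
    rw [← hβ, ← hdet] at h
    obtain ⟨δ, hδ⟩ := exists_detHom h₁c
    have hne : detChar χ₁ g ≠ 0 := by rw [hδ]; exact Units.ne_zero _
    have : 1 * detChar χ₁ g = ((β g : ℂˣ) : ℂ) ^ d * detChar χ₁ g := by rw [one_mul]; exact h
    exact (mul_right_cancel₀ hne this).symm
  have hβd : β ^ d = 1 := by
    ext g
    rw [MonoidHom.pow_apply, Units.val_pow_eq_pow_val, key g]; rfl
  have hβi : β ^ N.index = 1 := pow_index_eq_one N β hβN
  have hβ1 : β = 1 := by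
    have h1 : orderOf β ∣ d := orderOf_dvd_of_pow_eq_one hβd
    have h2 : orderOf β ∣ N.index := orderOf_dvd_of_pow_eq_one hβi
    have h3 := Nat.dvd_gcd h2 h1
    rw [hcop] at h3
    exact orderOf_eq_one_iff.mp (Nat.dvd_one.mp h3)
  rw [hβ, hβ1]; funext g; simp

/-- Isaacs 6.24 (existence) -/
theorem ext_det_exists (ϑ : N → ℂ) (d : ℕ) (hd : ϑ 1 = d)
    (hcop : Nat.Coprime N.index d) (η : G → ℂ) (hη : IsIrrCharacter G η)
    (heη : ∀ n : N, η n = ϑ n) (μ : G →* ℂˣ)
    (hμ : ∀ n : N, ((μ n : ℂˣ) : ℂ) = detChar ϑ n) :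
    ∃ χ : G → ℂ, IsIrrCharacter G χ ∧ (∀ n : N, χ n = ϑ n) ∧
      ∀ g, detChar χ g = ((μ g : ℂˣ) : ℂ) := by
  have hηc := isCharacter_of_isIrrCharacter hη
  obtain ⟨δ, hδ⟩ := exists_detHom hηc
  let ν : G →* ℂˣ := μ * δ⁻¹
  have hνN : ∀ n : N, ν n = 1 := by
    intro n
    have h1 : detChar (fun n : N => η n) n = detChar η n := detChar_restrict N hηc n
    have h2 : (fun n : N => η n) = ϑ := funext heη
    rw [h2] at h1
    have h3 : ((μ n : ℂˣ) : ℂ) = ((δ n : ℂˣ) : ℂ) := by rw [hμ, h1, hδ]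
    have h4 : μ n = δ n := Units.ext h3
    show μ n * (δ⁻¹) n = 1
    rw [MonoidHom.inv_apply, h4, mul_inv_cancel]
  have hνi : ν ^ N.index = 1 := pow_index_eq_one N ν hνN
  have hdvd : orderOf ν ∣ N.index := orderOf_dvd_of_pow_eq_one hνi
  have hcop2 : Nat.Coprime d (orderOf ν) :=
    (Nat.Coprime.coprime_dvd_left hdvd hcop).symm
  obtain ⟨m, hm⟩ := exists_pow_eq_self_of_coprime hcop2
  let β : G →* ℂˣ := ν ^ m
  have hβd : β ^ d = ν := by
    apply MonoidHom.ext
    intro g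
    have h := DFunLike.congr_fun hm g
    have h' : ((ν g) ^ d) ^ m = ν g := h
    show (((ν g) ^ m) ^ d : ℂˣ) = ν g
    rw [← pow_mul, mul_comm, pow_mul, h']
  have hη1 : η 1 = d := by
    have := heη 1
    rw [Subgroup.coe_one] at this
    rw [this, hd]
  refine ⟨fun g => ((β g : ℂˣ) : ℂ) * η g, Cfsg.Agent.S0857.isIrr_twist β η hη, ?_, ?_⟩
  · intro n
    have : β n = 1 := by
      show (ν ^ m) n = 1
      rw [MonoidHom.pow_apply, hνN, one_pow]
    simp only [this, Units.val_one, one_mul, heη]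
  · intro g
    rw [detChar_twist β hηc d hη1 g, hδ, ← Units.val_pow_eq_pow_val, ← MonoidHom.pow_apply, hβd,
      ← Units.val_mul]
    congr 1
    show μ g * (δ⁻¹) g * δ g = μ g
    rw [MonoidHom.inv_apply, inv_mul_cancel_right]

end Det

section Solvable
universe u

/-- Isaacs 6.25: with solvable quotient and degree coprime to the index, an invariant
irreducible character extends once its determinant does. -/
theorem ext_solvable_det_aux : ∀ (k : ℕ) (G : Type u) [Group G] [Fintype G] (N : Subgroup G)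
    [hN : N.Normal], N.index = k → Group.IsSolvable (G ⧸ N) → ∀ (ϑ : N → ℂ),
    IsIrrCharacter N ϑ →
    (∀ (g : G) (n : N), ϑ ⟨g * n * g⁻¹, hN.conj_mem (n : G) n.2 g⟩ = ϑ n) →
    ∀ d : ℕ, ϑ 1 = d → Nat.Coprime N.index d → ∀ μ : G →* ℂˣ,
    (∀ n : N, ((μ n : ℂˣ) : ℂ) = detChar ϑ n) →
    ∃ χ : G → ℂ, IsIrrCharacter G χ ∧ ∀ n : N, χ n = ϑ n := by
  intro k
  induction k using Nat.strong_induction_on with
  | _ k ih =>
    intro G _ _ N hN hk hsolv ϑ hϑ hinv d hd hcop μ hμ
    by_cases htop : N = ⊤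
    · -- trivial case
      have hmem : ∀ g : G, g ∈ N := fun g => by rw [htop]; exact Subgroup.mem_top g
      let e : G ≃* N :=
        { toFun := fun g => ⟨g, hmem g⟩
          invFun := fun n => n
          left_inv := fun _ => rfl
          right_inv := fun _ => rfl
          map_mul' := fun _ _ => rfl }
      refine ⟨ϑ ∘ e, isIrrCharacter_comp_mulEquiv hϑ e, fun n => ?_⟩
      show ϑ (e n) = ϑ n
      congr 1
    · obtain ⟨M, hMn, hNM, hMp⟩ := exists_normal_prime_index N htop hsolv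
      haveI := hMn
      haveI : Fintype M := Fintype.ofFinite _
      haveI hN'n : (N.subgroupOf M).Normal := Subgroup.normal_subgroupOf
      let eN : N.subgroupOf M ≃* N := Subgroup.subgroupOfEquivOfLe hNM
      have heN : ∀ x : N.subgroupOf M, ((eN x : N) : G) = ((x : M) : G) := fun x => rfl
      let ϑ' : N.subgroupOf M → ℂ := ϑ ∘ eN
      have hϑ' : IsIrrCharacter (N.subgroupOf M) ϑ' := isIrrCharacter_comp_mulEquiv hϑ eN
      have hrel : (N.subgroupOf M).index * M.index = N.index :=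
        Subgroup.relIndex_mul_index hNM
      have hk' : (N.subgroupOf M).index < k := by
        rw [← hk, ← hrel]
        have h1 : 0 < (N.subgroupOf M).index := Nat.pos_of_ne_zero Subgroup.index_ne_zero_of_finite
        have h2 := hMp.two_le
        nlinarith
      have hsolvM : Group.IsSolvable (M ⧸ N.subgroupOf M) := by
        haveI := hsolv
        have hle : N.subgroupOf M ≤ N.comap M.subtype := le_rfl
        refine Group.isSolvable_of_isSolvable_injective
          (f := QuotientGroup.map _ N M.subtype hle) ?_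
        rw [injective_iff_map_eq_one]
        intro q hq
        induction q using QuotientGroup.induction_on with
        | H t =>
          rw [QuotientGroup.map_mk, QuotientGroup.eq_one_iff] at hq
          exact (QuotientGroup.eq_one_iff t).mpr hq
      have hinv' : ∀ (m : M) (x : N.subgroupOf M),
          ϑ' ⟨m * x * m⁻¹, hN'n.conj_mem (x : M) x.2 m⟩ = ϑ' x := by
        intro m x
        show ϑ (eN _) = ϑ (eN x)
        rw [← hinv (m : G) (eN x)]
        congr 1
      have hd' : ϑ' 1 = d := by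
        show ϑ (eN 1) = d
        rw [map_one, hd]
      have hcop' : Nat.Coprime (N.subgroupOf M).index d :=
        Nat.Coprime.coprime_dvd_left ⟨M.index, hrel.symm⟩ hcop
      let μ' : M →* ℂˣ := μ.comp M.subtype
      have hϑc := isCharacter_of_isIrrCharacter hϑ
      have hdetϑ' : ∀ x : N.subgroupOf M, detChar ϑ' x = detChar ϑ (eN x) := fun x =>
        detChar_comp eN.toMonoidHom hϑc x
      have hμ' : ∀ x : N.subgroupOf M, ((μ' x : ℂˣ) : ℂ) = detChar ϑ' x := by
        intro x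
        rw [hdetϑ', ← hμ (eN x)]
        rfl
      obtain ⟨ψ₀, hψ₀, hψ₀e⟩ := ih _ hk' M (N.subgroupOf M) rfl hsolvM ϑ' hϑ' hinv' d hd' hcop'
        μ' hμ'
      obtain ⟨ψ, hψ, hψe, hψdet⟩ := ext_det_exists (N.subgroupOf M) ϑ' d hd' hcop' ψ₀ hψ₀ hψ₀e
        μ' hμ'
      have hψc := isCharacter_of_isIrrCharacter hψ
      -- ψ is G-invariant
      have hψinv : ∀ (g : G) (m : M), ψ ⟨g * m * g⁻¹, hMn.conj_mem (m : G) m.2 g⟩ = ψ m := by
        intro g
        let ψg : M → ℂ := fun m => ψ ⟨g * m * g⁻¹, hMn.conj_mem (m : G) m.2 g⟩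
        have hψg : IsIrrCharacter M ψg :=
          isIrrCharacter_comp_mulEquiv hψ (MulAut.conjNormal g : M ≃* M)
        have hψge : ∀ x : N.subgroupOf M, ψg x = ϑ' x := by
          intro x
          have hmem : (⟨g * (x : M) * g⁻¹, hMn.conj_mem ((x : M) : G) (x : M).2 g⟩ : M) ∈
              N.subgroupOf M := by
            show g * ((x : M) : G) * g⁻¹ ∈ N
            exact hN.conj_mem _ x.2 g
          show ψ ⟨g * (x : M) * g⁻¹, _⟩ = ϑ' x
          have h1 := hψe ⟨_, hmem⟩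
          simp only at h1
          rw [h1]
          show ϑ (eN _) = ϑ (eN x)
          rw [← hinv g (eN x)]
          congr 1
        have hdetg : detChar ψg = detChar ψ := by
          funext m
          have h1 : detChar ψg m = detChar ψ ⟨g * m * g⁻¹, hMn.conj_mem (m : G) m.2 g⟩ :=
            detChar_conj M hψc g m
          rw [h1, hψdet, hψdet]
          show ((μ (g * m * g⁻¹) : ℂˣ) : ℂ) = ((μ m : ℂˣ) : ℂ)
          rw [map_mul, map_mul, map_inv, mul_comm (μ g), mul_inv_cancel_right]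
        have := ext_det_unique (N.subgroupOf M) ϑ' hϑ' d hd' hcop' ψg ψ hψg hψ hψge hψe hdetg
        intro m
        exact congrFun this m
      obtain ⟨χ, hχ, hχe⟩ := ext_prime_index M hMp ψ hψ hψinv
      refine ⟨χ, hχ, fun n => ?_⟩
      have h1 := hχe ⟨n, hNM n.2⟩
      simp only at h1
      rw [h1]
      have hmem : (⟨n, hNM n.2⟩ : M) ∈ N.subgroupOf M := n.2
      have h2 := hψe ⟨_, hmem⟩
      simp only at h2
      rw [h2]
      show ϑ (eN _) = ϑ n
      congr 1

theorem ext_solvable_det {G : Type u} [Group G] [Fintype G] (N : Subgroup G)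
    [hN : N.Normal] (hsolv : Group.IsSolvable (G ⧸ N)) (ϑ : N → ℂ)
    (hϑ : IsIrrCharacter N ϑ)
    (hinv : ∀ (g : G) (n : N), ϑ ⟨g * n * g⁻¹, hN.conj_mem (n : G) n.2 g⟩ = ϑ n)
    (d : ℕ) (hd : ϑ 1 = d) (hcop : Nat.Coprime N.index d) (μ : G →* ℂˣ)
    (hμ : ∀ n : N, ((μ n : ℂˣ) : ℂ) = detChar ϑ n) :
    ∃ χ : G → ℂ, IsIrrCharacter G χ ∧ ∀ n : N, χ n = ϑ n :=
  ext_solvable_det_aux _ G N rfl hsolv ϑ hϑ hinv d hd hcop μ hμ

end Solvable

section Transfer
open Subgroup MonoidHom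
open scoped Pointwise

/-- the transfer of an invariant linear character of a normal subgroup restricts to its
`index`-th power -/
theorem transfer_normal_inv {G : Type*} [Group G] [Finite G] (N : Subgroup G) [hN : N.Normal]
    (lam : N →* ℂˣ)
    (hinv : ∀ (g : G) (n : N), lam ⟨g * n * g⁻¹, hN.conj_mem (n : G) n.2 g⟩ = lam n) (n : N) :
    MonoidHom.transfer lam (n : G) = lam n ^ N.index := by
  classical
  let _ := N.fintypeQuotientOfFiniteIndex
  let T : N.LeftTransversal := default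
  rw [MonoidHom.transfer_def lam T (n : G)]
  unfold Subgroup.leftTransversals.diff
  simp only []
  have hfix : ∀ q : G ⧸ N, ((n : G)⁻¹ • q) = q := by
    intro q
    induction q using QuotientGroup.induction_on with
    | H g =>
      show ((((n : G)⁻¹ * g : G)) : G ⧸ N) = (g : G ⧸ N)
      rw [QuotientGroup.eq]
      have : ((n : G)⁻¹ * g)⁻¹ * g = g⁻¹ * n * g⁻¹⁻¹ := by group
      rw [this]
      exact hN.conj_mem _ n.2 _
  have hterm : ∀ q : G ⧸ N, lam ⟨((T.2.leftQuotientEquiv q : G))⁻¹ *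
      (((n : G) • T).2.leftQuotientEquiv q : G), QuotientGroup.leftRel_apply.mp <|
          Quotient.exact' ((T.2.leftQuotientEquiv.symm_apply_apply q).trans
            ((((n : G) • T).2.leftQuotientEquiv).symm_apply_apply q).symm)⟩ = lam n := by
    intro q
    rw [← hinv ((T.2.leftQuotientEquiv q : G))⁻¹ n]
    congr 1
    apply Subtype.ext
    simp only
    rw [Subgroup.smul_apply_eq_smul_apply_inv_smul, hfix q, inv_inv, smul_eq_mul, mul_assoc]
  rw [Finset.prod_congr rfl (fun q _ => hterm q), Finset.prod_const, Finset.card_univ]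
  congr 1
  rw [Subgroup.index_eq_card, Nat.card_eq_fintype_card]

theorem transfer_pow_orderOf {G : Type*} [Group G] [Finite G] (N : Subgroup G)
    (lam : N →* ℂˣ) (g : G) :
    MonoidHom.transfer lam g ^ orderOf lam = 1 := by
  classical
  let _ := N.fintypeQuotientOfFiniteIndex
  let T : N.LeftTransversal := default
  rw [MonoidHom.transfer_def lam T g]
  unfold Subgroup.leftTransversals.diff
  simp only []
  rw [← Finset.prod_pow]
  refine Finset.prod_eq_one fun q _ => ?_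
  rw [← MonoidHom.pow_apply]
  have : lam ^ orderOf lam = 1 := pow_orderOf_eq_one lam
  rw [this]; rfl

/-- Isaacs 6.26: an invariant linear character of order coprime to the index extends, with
the same order -/
theorem lin_ext {G : Type*} [Group G] [Finite G] (N : Subgroup G) [hN : N.Normal]
    (lam : N →* ℂˣ)
    (hinv : ∀ (g : G) (n : N), lam ⟨g * n * g⁻¹, hN.conj_mem (n : G) n.2 g⟩ = lam n)
    (hcop : Nat.Coprime N.index (orderOf lam)) :
    ∃ μ : G →* ℂˣ, (∀ n : N, μ n = lam n) ∧ orderOf μ = orderOf lam := by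
  obtain ⟨m, hm⟩ := exists_pow_eq_self_of_coprime hcop
  let μ : G →* ℂˣ := (MonoidHom.transfer lam) ^ m
  have hμN : ∀ n : N, μ n = lam n := by
    intro n
    show (MonoidHom.transfer lam (n : G)) ^ m = lam n
    rw [transfer_normal_inv N lam hinv n]
    have h := DFunLike.congr_fun hm n
    exact h
  refine ⟨μ, hμN, ?_⟩
  apply Nat.dvd_antisymm
  · apply orderOf_dvd_of_pow_eq_one
    apply MonoidHom.ext
    intro g
    show ((MonoidHom.transfer lam g) ^ m) ^ orderOf lam = 1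
    rw [← pow_mul, mul_comm, pow_mul, transfer_pow_orderOf, one_pow]
  · apply orderOf_dvd_of_pow_eq_one
    apply MonoidHom.ext
    intro n
    show (lam n) ^ orderOf μ = 1
    rw [← hμN n]
    have h : μ ^ orderOf μ = 1 := pow_orderOf_eq_one μ
    have h' := DFunLike.congr_fun h (n : G)
    exact h'

end Transfer

section Coprime
universe u

theorem detHom_of_irr {H : Type*} [Group H] [Finite H] {ϑ : H → ℂ} (hϑ : IsCharacter H ϑ) :
    ∃ δ : H →* ℂˣ, (∀ h, detChar ϑ h = ((δ h : ℂˣ) : ℂ)) ∧ orderOf δ = detOrder ϑ := by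
  obtain ⟨δ, hδ⟩ := exists_detHom hϑ
  refine ⟨δ, hδ, ?_⟩
  unfold detOrder
  rw [← Cfsg.Agent.Lib.Helper24.orderOf_homFun δ]
  congr 1
  exact (funext hδ).symm

/-- Isaacs 6.27 (existence): solvable quotient, `(|G:N|, o(ϑ)ϑ(1)) = 1`, invariant `ϑ` extends;
the extension can be chosen with the same determinantal order -/
theorem ext_coprime_solvable {G : Type u} [Group G] [Fintype G] (N : Subgroup G)
    [hN : N.Normal] (hsolv : Group.IsSolvable (G ⧸ N)) (ϑ : N → ℂ)
    (hϑ : IsIrrCharacter N ϑ)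
    (hinv : ∀ (g : G) (n : N), ϑ ⟨g * n * g⁻¹, hN.conj_mem (n : G) n.2 g⟩ = ϑ n)
    (d : ℕ) (hd : ϑ 1 = d) (hcop : Nat.Coprime N.index (detOrder ϑ * d)) :
    ∃ χ : G → ℂ, IsIrrCharacter G χ ∧ (∀ n : N, χ n = ϑ n) ∧ detOrder χ = detOrder ϑ := by
  have hϑc := isCharacter_of_isIrrCharacter hϑ
  obtain ⟨δ, hδ, hδo⟩ := detHom_of_irr hϑc
  have hδinv : ∀ (g : G) (n : N), δ ⟨g * n * g⁻¹, hN.conj_mem (n : G) n.2 g⟩ = δ n := by
    intro g n
    apply Units.ext
    rw [← hδ, ← hδ, ← detChar_conj N hϑc g n]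
    have : (fun n : N => ϑ ⟨g * n * g⁻¹, hN.conj_mem (n : G) n.2 g⟩) = ϑ := funext (hinv g)
    rw [this]
  have hcop1 : Nat.Coprime N.index (orderOf δ) := by
    rw [hδo]; exact Nat.Coprime.coprime_dvd_right ⟨d, rfl⟩ hcop
  have hcop2 : Nat.Coprime N.index d :=
    Nat.Coprime.coprime_dvd_right ⟨detOrder ϑ, mul_comm _ _⟩ hcop
  obtain ⟨μ, hμN, hμo⟩ := lin_ext N δ hδinv hcop1
  have hμ : ∀ n : N, ((μ n : ℂˣ) : ℂ) = detChar ϑ n := by
    intro n; rw [hμN, hδ]
  obtain ⟨χ₀, hχ₀, hχ₀e⟩ := ext_solvable_det N hsolv ϑ hϑ hinv d hd hcop2 μ hμ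
  obtain ⟨χ, hχ, hχe, hχdet⟩ := ext_det_exists N ϑ d hd hcop2 χ₀ hχ₀ hχ₀e μ hμ
  refine ⟨χ, hχ, hχe, ?_⟩
  unfold detOrder
  have h1 : detChar χ = fun g => ((μ g : ℂˣ) : ℂ) := funext hχdet
  rw [h1, Cfsg.Agent.Lib.Helper24.orderOf_homFun, hμo, hδo]
  rfl

end Coprime

section Extra

theorem detOrder_dvd_card {H : Type*} [Group H] [Finite H] {ϑ : H → ℂ} (hϑ : IsCharacter H ϑ) :
    detOrder ϑ ∣ Nat.card H := by
  obtain ⟨δ, hδ, hδo⟩ := detHom_of_irr hϑ
  rw [← hδo]
  apply orderOf_dvd_of_pow_eq_one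
  apply MonoidHom.ext
  intro h
  show (δ h) ^ (Nat.card H) = 1
  rw [← map_pow, pow_card_eq_one', map_one]

theorem irr_degree_dvd_card {H : Type*} [Group H] [Fintype H] {ϑ : H → ℂ} (hϑ : IsIrrCharacter H ϑ)
    (d : ℕ) (hd : ϑ 1 = d) : d ∣ Nat.card H := by
  obtain ⟨n, ρ, hirr, hρ⟩ := hϑ
  have h1 := Cfsg.Agent.Lib.Helper4.degree_dvd_card ρ hirr
  have h2 : (n : ℂ) = d := by rw [← hd, ← hρ, character_one_eq]
  have h3 : n = d := by exact_mod_cast h2
  rw [Module.finrank_fin_fun] at h1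
  rwa [h3] at h1

end Extra

end Cfsg.Agent.Lib.Helper7
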