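import Mathlib

/-!
# Weighted fixed-point congruence for `p`-group actions (helper7)
-/

set_option autoImplicit false

namespace Cfsg.Agent.Lib.Helper7

open MulAction

section
variable {Q α : Type*} [Group Q] [Finite Q] {p : ℕ} [Fact p.Prime] [Finite α] [MulAction Q α]

/-- unweighted congruence on a stable subset -/
theorem card_stable_modEq (hQ : IsPGroup p Q) (s : Set α) (hs : ∀ q : Q, ∀ a ∈ s, q • a ∈ s) :
    Nat.card {a // a ∈ s} ≡ Nat.card {a // a ∈ s ∧ a ∈ fixedPoints Q α} [MOD p] := by
  let S : SubMulAction Q α := ⟨s, fun q a ha => hs q a ha⟩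
  have h := hQ.card_modEq_card_fixedPoints (α := S)
  have e : fixedPoints Q S ≃ {a // a ∈ s ∧ a ∈ fixedPoints Q α} :=
    { toFun := fun x => ⟨x.1.1, x.1.2, fun q => by
        have := x.2 q
        exact congrArg Subtype.val this⟩
      invFun := fun y => ⟨⟨y.1, y.2.1⟩, fun q => Subtype.ext (y.2.2 q)⟩
      left_inv := fun x => rfl
      right_inv := fun y => rfl }
  rw [Nat.card_congr e] at h
  exact h

/-- weighted congruence -/
theorem sum_modEq_sum_fixedPoints [Fintype α] (hQ : IsPGroup p Q) (f : α → ℕ)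
    (hf : ∀ (q : Q) (a : α), f (q • a) = f a) [DecidablePred (· ∈ fixedPoints Q α)] :
    ∑ a, f a ≡ ∑ a ∈ Finset.univ.filter (· ∈ fixedPoints Q α), f a [MOD p] := by
  classical
  rw [← ZMod.natCast_eq_natCast_iff]
  have h1 : ∑ a, f a = ∑ d ∈ Finset.univ.image f, d * Nat.card {a // a ∈ {a | f a = d}} := by
    rw [← Finset.sum_fiberwise_of_maps_to (g := f) (t := Finset.univ.image f)
      (fun x _ => Finset.mem_image_of_mem f (Finset.mem_univ x))]
    refine Finset.sum_congr rfl fun d _ => ?_
    rw [Finset.sum_congr rfl (fun x hx => (Finset.mem_filter.mp hx).2), Finset.sum_const,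
      smul_eq_mul, mul_comm]
    congr 1
    rw [Nat.card_eq_fintype_card, Fintype.card_subtype]
    rfl
  have h2 : ∑ a ∈ Finset.univ.filter (· ∈ fixedPoints Q α), f a =
      ∑ d ∈ Finset.univ.image f,
        d * Nat.card {a // a ∈ {a | f a = d} ∧ a ∈ fixedPoints Q α} := by
    rw [← Finset.sum_fiberwise_of_maps_to (g := f) (t := Finset.univ.image f)
      (fun x _ => Finset.mem_image_of_mem f (Finset.mem_univ x))]
    refine Finset.sum_congr rfl fun d _ => ?_
    rw [Finset.sum_congr rfl (fun x hx => (Finset.mem_filter.mp hx).2), Finset.sum_const,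
      smul_eq_mul, mul_comm]
    congr 1
    rw [Nat.card_eq_fintype_card, Fintype.card_subtype]
    congr 1
    ext a
    simp only [Finset.mem_filter, Finset.mem_univ, true_and, Set.mem_setOf_eq]
    tauto
  rw [h1, h2, Nat.cast_sum, Nat.cast_sum]
  refine Finset.sum_congr rfl fun d _ => ?_
  rw [Nat.cast_mul, Nat.cast_mul]
  congr 1
  rw [ZMod.natCast_eq_natCast_iff]
  exact card_stable_modEq hQ {a | f a = d} (fun q a ha => by
    simp only [Set.mem_setOf_eq] at ha ⊢
    rw [hf, ha])

end

end Cfsg.Agent.Lib.Helper7
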