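import Mathlib
import Cfsg.Prelude.Def_Characters
import Cfsg.Prelude.Def_Blocks
import Cfsg.Agent.Lib.Helper7.OrbitCount
import Cfsg.Agent.Lib.Helper7.ExtDet
import Cfsg.Agent.Lib.Helper4.CharOrtho
import Cfsg.Agent.S0169

/-!
# Invariant characters of a normal subgroup with `p`-group quotient (helper7)
-/

set_option autoImplicit false

namespace Cfsg.Agent.Lib.Helper7
open Cfsg Cfsg.Agent.Lib.Helper26 Cfsg.Agent.Lib.Helper2

theorem charDegree_eq_of {G : Type*} [Group G] {χ : G → ℂ} {d : ℕ} (h : χ 1 = d) :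
    charDegree χ = d := by
  unfold charDegree
  rw [h]
  simp

section
variable {G : Type*} [Group G] [Fintype G] (D : Subgroup G) [hD : D.Normal]

/-- conjugation of irreducible characters of a normal subgroup -/
noncomputable def conjIrr (g : G) (ψ : IrrCharacter D) : IrrCharacter D :=
  ⟨(ψ : D → ℂ) ∘ (MulAut.conjNormal g⁻¹ : D ≃* D),
    isIrrCharacter_comp_mulEquiv ψ.2 (MulAut.conjNormal g⁻¹ : D ≃* D)⟩

theorem conjIrr_apply (g : G) (ψ : IrrCharacter D) (n : D) :
    (conjIrr D g ψ : D → ℂ) n =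
      (ψ : D → ℂ) ⟨g⁻¹ * n * g, by
        have := hD.conj_mem (n : G) n.2 g⁻¹
        simpa using this⟩ := by
  show (ψ : D → ℂ) ((MulAut.conjNormal g⁻¹ : D ≃* D) n) = _
  refine congrArg (ψ : D → ℂ) (Subtype.ext ?_)
  simp [MulAut.conjNormal_apply]

/-- the conjugation action of `G` on `Irr(D)` -/
noncomputable def conjIrrAction : MulAction G (IrrCharacter D) where
  smul := conjIrr D
  one_smul ψ := by
    apply Subtype.ext
    funext n
    show (ψ : D → ℂ) ((MulAut.conjNormal (1 : G)⁻¹ : D ≃* D) n) = (ψ : D → ℂ) n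
    simp
  mul_smul g h ψ := by
    apply Subtype.ext
    funext n
    show (ψ : D → ℂ) ((MulAut.conjNormal (g * h)⁻¹ : D ≃* D) n) =
      (ψ : D → ℂ) ((MulAut.conjNormal h⁻¹ : D ≃* D) ((MulAut.conjNormal g⁻¹ : D ≃* D) n))
    rw [mul_inv_rev, map_mul]
    rfl

theorem conjIrr_degree (g : G) (ψ : IrrCharacter D) :
    charDegree (conjIrr D g ψ : D → ℂ) = charDegree (ψ : D → ℂ) := by
  unfold charDegree
  congr 2
  show (ψ : D → ℂ) ((MulAut.conjNormal g⁻¹ : D ≃* D) 1) = (ψ : D → ℂ) 1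
  rw [map_one]

open Classical in
/-- `|D| ≡ ∑ ψ(1)²` over the `G`-invariant irreducible characters of `D`, when `G = DP` with `P`
a `p`-group -/
theorem card_modEq_sum_invariant {p : ℕ} [Fact p.Prime] (P : Subgroup G) (hP : IsPGroup p P)
    (hDP : D ⊔ P = ⊤) [Fintype (IrrCharacter D)] :
    Nat.card D ≡ ∑ ψ ∈ Finset.univ.filter (fun ψ : IrrCharacter D =>
      ∀ (g : G) (n : D), (ψ : D → ℂ) ⟨g * n * g⁻¹, hD.conj_mem (n : G) n.2 g⟩ = (ψ : D → ℂ) n),
        (charDegree (ψ : D → ℂ)) ^ 2 [MOD p] := by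
  letI := conjIrrAction D
  haveI : Fintype D := Fintype.ofFinite _
  have hsmul : ∀ (q : P) (ψ : IrrCharacter D), q • ψ = conjIrr D (q : G) ψ := fun q ψ => rfl
  have hW := sum_modEq_sum_fixedPoints (Q := P) (α := IrrCharacter D) hP
    (fun ψ => (charDegree (ψ : D → ℂ)) ^ 2)
    (fun q ψ => by
      show charDegree ((q • ψ : IrrCharacter D) : D → ℂ) ^ 2 = _
      rw [hsmul, conjIrr_degree])
  have hsum : ∑ ψ : IrrCharacter D, (charDegree (ψ : D → ℂ)) ^ 2 = Nat.card D := by
    have h := Cfsg.Agent.Lib.Helper4.sum_sq_degree (G := D)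
    have h2 : ∀ ψ : IrrCharacter D, (ψ : D → ℂ) 1 ^ 2 = (((charDegree (ψ : D → ℂ)) ^ 2 : ℕ) : ℂ) := by
      intro ψ
      obtain ⟨d, _, hd⟩ := irr_degree ψ.2
      rw [charDegree_eq_of hd, hd]; push_cast; rfl
    rw [Finset.sum_congr rfl (fun ψ _ => h2 ψ), ← Nat.cast_sum] at h
    exact_mod_cast h
  rw [hsum] at hW
  refine hW.trans ?_
  have hfilter : Finset.univ.filter (fun ψ : IrrCharacter D => ψ ∈ MulAction.fixedPoints P (IrrCharacter D))
      = Finset.univ.filter (fun ψ : IrrCharacter D =>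
      ∀ (g : G) (n : D), (ψ : D → ℂ) ⟨g * n * g⁻¹, hD.conj_mem (n : G) n.2 g⟩ = (ψ : D → ℂ) n) := by
    apply Finset.filter_congr
    intro ψ _
    constructor
    · intro hfix g n
      have hψcf := isClassFunction_of_isCharacter (isCharacter_of_isIrrCharacter ψ.2)
      have h1 : D ≤ Cfsg.Agent.S0169.inertia D (ψ : D → ℂ) :=
        Cfsg.Agent.S0169.le_inertia D _ hψcf
      have h2 : P ≤ Cfsg.Agent.S0169.inertia D (ψ : D → ℂ) := by
        intro x hx
        rw [Cfsg.Agent.S0169.mem_inertia]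
        intro m
        have h3 := hfix ⟨x⁻¹, P.inv_mem hx⟩
        rw [hsmul] at h3
        have h4 := congrArg (fun φ : IrrCharacter D => (φ : D → ℂ) m) h3
        simp only at h4
        rw [conjIrr_apply] at h4
        rw [← h4]
        refine congrArg (ψ : D → ℂ) (Subtype.ext ?_)
        simp
      have h3 : (⊤ : Subgroup G) ≤ Cfsg.Agent.S0169.inertia D (ψ : D → ℂ) := by
        rw [← hDP]; exact sup_le h1 h2
      exact (Cfsg.Agent.S0169.mem_inertia D _ g).mp (h3 (Subgroup.mem_top g)) n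
    · intro hinv q
      rw [hsmul]
      apply Subtype.ext
      funext n
      rw [conjIrr_apply]
      have := hinv (q : G)⁻¹ n
      rw [← this]
      refine congrArg (ψ : D → ℂ) (Subtype.ext ?_)
      simp
  rw [hfilter]
  show _ % p = _ % p
  congr 1
  refine Finset.sum_congr ?_ (fun _ _ => rfl)
  ext ψ
  simp only [Finset.mem_filter, Finset.mem_univ, true_and]

end

section Res
variable {G : Type*} [Group G] [Finite G]

/-- a linear character of `O^p(G)` has order prime to `p` -/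
theorem orderOf_hom_pResidual_coprime (p : ℕ) [hp : Fact p.Prime]
    (δ : (Cfsg.pResidual p G) →* ℂˣ) : Nat.Coprime (orderOf δ) p := by
  have hcard : Nat.card (Cfsg.pResidual p G) ≠ 0 := Nat.card_pos.ne'
  obtain ⟨a, m, hm, hcm⟩ := Nat.exists_eq_pow_mul_and_not_dvd hcard p hp.out.ne_one
  have hmcop : Nat.Coprime m p := ((Nat.Prime.coprime_iff_not_dvd hp.out).mpr hm).symm
  have key : ∀ x : Cfsg.pResidual p G, δ x ^ m = 1 := by
    intro x
    let K : Subgroup G := (MonoidHom.ker (δ ^ m)).map (Cfsg.pResidual p G).subtype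
    have hle : Cfsg.pResidual p G ≤ K := by
      unfold Cfsg.pResidual
      rw [Subgroup.closure_le]
      intro g hg
      have hgD : g ∈ Cfsg.pResidual p G := Subgroup.subset_closure hg
      refine Subgroup.mem_map.mpr ⟨⟨g, hgD⟩, ?_, rfl⟩
      rw [MonoidHom.mem_ker]
      show δ ⟨g, hgD⟩ ^ m = 1
      have ho : orderOf (⟨g, hgD⟩ : Cfsg.pResidual p G) = orderOf g := Subgroup.orderOf_mk g hgD
      have h1 : orderOf (⟨g, hgD⟩ : Cfsg.pResidual p G) ∣ p ^ a * m := by
        rw [← hcm]; exact orderOf_dvd_natCard _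
      have hgcop : Nat.Coprime (orderOf (⟨g, hgD⟩ : Cfsg.pResidual p G)) (p ^ a) := by
        rw [ho]; exact Nat.Coprime.pow_right a hg
      have h2 : orderOf (⟨g, hgD⟩ : Cfsg.pResidual p G) ∣ m := hgcop.dvd_of_dvd_mul_left h1
      rw [← map_pow, orderOf_dvd_iff_pow_eq_one.mp h2, map_one]
    obtain ⟨y, hy, hyx⟩ := Subgroup.mem_map.mp (hle x.2)
    have : y = x := Subtype.ext hyx
    rw [← this]
    exact hy
  have hδm : δ ^ m = 1 := by
    apply MonoidHom.ext
    intro x
    exact key x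
  have hdvd : orderOf δ ∣ m := orderOf_dvd_of_pow_eq_one hδm
  exact Nat.Coprime.coprime_dvd_left hdvd hmcop

theorem detOrder_pResidual_coprime (p : ℕ) [hp : Fact p.Prime]
    {ψ : (Cfsg.pResidual p G) → ℂ} (hψ : IsCharacter (Cfsg.pResidual p G) ψ) :
    Nat.Coprime (detOrder ψ) p := by
  obtain ⟨δ, -, hδo⟩ := detHom_of_irr hψ
  rw [← hδo]
  exact orderOf_hom_pResidual_coprime p δ

end Res

end Cfsg.Agent.Lib.Helper7
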