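import Mathlib

/-!
# Arithmetic and counting lemmas for the Glauberman correspondence (helper7)
-/

set_option autoImplicit false

namespace Cfsg.Agent.Lib.Helper7.GlaubArith

open Finset

section Orbit

variable {P : Type*} [Group P] {X : Type*} [Fintype X] [DecidableEq X] [MulAction P X]

/-- the sub-action on a level set of an invariant function -/
def levelAction (f : X → ℕ) (hf : ∀ (g : P) (x : X), f (g • x) = f x) (k : ℕ) :
    MulAction P {x : X // f x = k} where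
  smul g x := ⟨g • x.1, (hf g x.1).trans x.2⟩
  one_smul x := Subtype.ext (one_smul P x.1)
  mul_smul g h x := Subtype.ext (mul_smul g h x.1)

/-- weighted fixed point congruence for a `p`-group action -/
theorem sum_modEq_sum_fixed {p : ℕ} [hp : Fact p.Prime] (hP : IsPGroup p P)
    (f : X → ℕ) (hf : ∀ (g : P) (x : X), f (g • x) = f x)
    (Fix : Finset X) (hFix : ∀ x, x ∈ Fix ↔ ∀ g : P, g • x = x) :
    ∑ x, f x ≡ ∑ x ∈ Fix, f x [MOD p] := by
  classical
  obtain ⟨N, hN⟩ : ∃ N, ∀ x, f x < N := by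
    refine ⟨(Finset.univ.sup f) + 1, fun x => ?_⟩
    exact Nat.lt_succ_of_le (Finset.le_sup (f := f) (Finset.mem_univ x))
  have h1 : ∀ s : Finset X, ∑ x ∈ s, f x = ∑ k ∈ Finset.range N, k * (s.filter fun x => f x = k).card := by
    intro s
    rw [← Finset.sum_fiberwise_of_maps_to (s := s) (t := Finset.range N) (g := f)
      (fun x _ => Finset.mem_range.mpr (hN x))]
    refine Finset.sum_congr rfl fun k _ => ?_
    rw [Finset.sum_congr rfl (g := fun _ => k)]
    · rw [Finset.sum_const, smul_eq_mul, mul_comm]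
    · intro x hx
      exact (Finset.mem_filter.mp hx).2
  rw [h1 Finset.univ, h1 Fix]
  rw [← ZMod.natCast_eq_natCast_iff, Nat.cast_sum, Nat.cast_sum]
  refine Finset.sum_congr rfl fun k _ => ?_
  rw [Nat.cast_mul, Nat.cast_mul]
  congr 1
  rw [ZMod.natCast_eq_natCast_iff]
  letI := levelAction (P := P) f hf k
  have h2 := hP.card_modEq_card_fixedPoints {x : X // f x = k}
  have h3 : Nat.card {x : X // f x = k} = (Finset.univ.filter fun x => f x = k).card := by
    rw [Nat.card_eq_fintype_card, Fintype.card_subtype]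
  have h4 : Nat.card (MulAction.fixedPoints P {x : X // f x = k}) =
      (Fix.filter fun x => f x = k).card := by
    rw [← Nat.card_eq_finsetCard]
    refine Nat.card_congr ?_
    refine ⟨fun y => ⟨y.1.1, ?_⟩, fun x => ⟨⟨x.1, (Finset.mem_filter.mp x.2).2⟩, ?_⟩, ?_, ?_⟩
    · rw [Finset.mem_filter]
      refine ⟨(hFix _).mpr fun g => ?_, y.1.2⟩
      have := y.2 g
      exact congrArg Subtype.val this
    · intro g
      apply Subtype.ext
      exact (hFix _).mp (Finset.mem_filter.mp x.2).1 g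
    · intro y; rfl
    · intro x; rfl
  rw [h3, h4] at h2
  exact h2


/-- weighted fixed point congruence for a group acting through a `p`-group -/
theorem sum_modEq_sum_fixed' {p : ℕ} [hp : Fact p.Prime]
    (hP : ∀ g : P, ∃ k : ℕ, ∀ x : X, (g ^ p ^ k) • x = x)
    (f : X → ℕ) (hf : ∀ (g : P) (x : X), f (g • x) = f x)
    (Fix : Finset X) (hFix : ∀ x, x ∈ Fix ↔ ∀ g : P, g • x = x) :
    ∑ x, f x ≡ ∑ x ∈ Fix, f x [MOD p] := by
  classical
  set Q : Subgroup (Equiv.Perm X) := (MulAction.toPermHom P X).range with hQ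
  have hQp : IsPGroup p Q := by
    rintro ⟨σ, g, rfl⟩
    obtain ⟨k, hk⟩ := hP g
    refine ⟨k, ?_⟩
    apply Subtype.ext
    show (MulAction.toPermHom P X g) ^ p ^ k = 1
    rw [← map_pow]
    ext x
    exact hk x
  refine sum_modEq_sum_fixed (P := Q) hQp f ?_ Fix ?_
  · rintro ⟨σ, g, rfl⟩ x
    exact hf g x
  · intro x
    rw [hFix]
    constructor
    · rintro h ⟨σ, g, rfl⟩
      exact h g
    · intro h g
      exact h ⟨_, g, rfl⟩

end Orbit

section Arith

variable {Λ : Type*} [Fintype Λ]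

theorem two_mul_Q (a : Λ → ℤ) :
    2 * ((Fintype.card Λ : ℤ) * ∑ l, a l ^ 2 - (∑ l, a l) ^ 2) = ∑ l, ∑ m, (a l - a m) ^ 2 := by
  have h : ∀ l m, (a l - a m) ^ 2 = a l ^ 2 - 2 * (a l * a m) + a m ^ 2 := fun l m => by ring
  simp only [h, Finset.sum_add_distrib, Finset.sum_sub_distrib, Finset.sum_const, Finset.card_univ,
    nsmul_eq_mul, ← Finset.mul_sum, ← Finset.sum_mul]
  rw [sq (∑ l, a l)]
  ring

theorem Q_nonneg (a : Λ → ℤ) :
    0 ≤ (Fintype.card Λ : ℤ) * ∑ l, a l ^ 2 - (∑ l, a l) ^ 2 := by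
  have h := two_mul_Q a
  have h2 : 0 ≤ ∑ l, ∑ m, (a l - a m) ^ 2 :=
    Finset.sum_nonneg fun l _ => Finset.sum_nonneg fun m _ => sq_nonneg _
  omega

theorem Q_of_const (a : Λ → ℤ) (hc : ∀ l m, a l = a m) :
    (Fintype.card Λ : ℤ) * ∑ l, a l ^ 2 - (∑ l, a l) ^ 2 = 0 := by
  have h := two_mul_Q a
  have h2 : ∑ l, ∑ m, (a l - a m) ^ 2 = 0 := by
    refine Finset.sum_eq_zero fun l _ => Finset.sum_eq_zero fun m _ => ?_
    rw [hc l m, sub_self]; ring
  omega

theorem Q_of_nonconst (a : Λ → ℤ) (hc : ∃ l m, a l ≠ a m) :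
    (Fintype.card Λ : ℤ) ≤ 2 * ((Fintype.card Λ : ℤ) * ∑ l, a l ^ 2 - (∑ l, a l) ^ 2) := by
  classical
  obtain ⟨l0, m0, hne⟩ := hc
  rw [two_mul_Q]
  have h1 : ∀ l, (1 : ℤ) ≤ ∑ m, (a l - a m) ^ 2 := by
    intro l
    have hlm : l0 ≠ m0 := fun h => hne (by rw [h])
    have h2 : ∑ m ∈ ({l0, m0} : Finset Λ), (a l - a m) ^ 2 ≤ ∑ m, (a l - a m) ^ 2 :=
      Finset.sum_le_sum_of_subset_of_nonneg (Finset.subset_univ _) fun _ _ _ => sq_nonneg _
    rw [Finset.sum_pair hlm] at h2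
    have h3 : (1 : ℤ) ≤ (a l - a l0) ^ 2 + (a l - a m0) ^ 2 := by
      by_cases h : a l = a l0
      · have h4 : a l - a m0 ≠ 0 := by rw [h]; exact sub_ne_zero.mpr hne
        have h5 : 0 < (a l - a m0) ^ 2 := by positivity
        have h6 : 0 ≤ (a l - a l0) ^ 2 := sq_nonneg _
        omega
      · have h4 : a l - a l0 ≠ 0 := sub_ne_zero.mpr h
        have h5 : 0 < (a l - a l0) ^ 2 := by positivity
        have h6 : 0 ≤ (a l - a m0) ^ 2 := sq_nonneg _
        omega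
    omega
  calc (Fintype.card Λ : ℤ) = ∑ _l : Λ, (1 : ℤ) := by simp
    _ ≤ _ := Finset.sum_le_sum fun l _ => h1 l

/-- the key arithmetic lemma: a family of natural-valued functions on a `p`-element set with
total "variance" `p - 1` has exactly one nonconstant member -/
theorem exists_unique_nonconst {I : Type*} [Fintype I] (a : I → Λ → ℕ)
    (hp2 : 2 ≤ Fintype.card Λ)
    (hsum : ∑ i, ((Fintype.card Λ : ℤ) * ∑ l, (a i l : ℤ) ^ 2 - (∑ l, (a i l : ℤ)) ^ 2) =
      (Fintype.card Λ : ℤ) - 1) :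
    ∃ i0, (∃ l m, a i0 l ≠ a i0 m) ∧ (∀ i, i ≠ i0 → ∀ l m, a i l = a i m) ∧
      (Fintype.card Λ : ℤ) * ∑ l, (a i0 l : ℤ) ^ 2 - (∑ l, (a i0 l : ℤ)) ^ 2 =
        (Fintype.card Λ : ℤ) - 1 := by
  classical
  set Q : I → ℤ := fun i => (Fintype.card Λ : ℤ) * ∑ l, (a i l : ℤ) ^ 2 - (∑ l, (a i l : ℤ)) ^ 2
    with hQ
  have hQ0 : ∀ i, 0 ≤ Q i := fun i => Q_nonneg fun l => (a i l : ℤ)
  have hconst : ∀ i, (∀ l m, a i l = a i m) → Q i = 0 := by
    intro i hc
    exact Q_of_const (fun l => (a i l : ℤ)) fun l m => by rw [hc l m]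
  have hnon : ∀ i, (∃ l m, a i l ≠ a i m) → (Fintype.card Λ : ℤ) ≤ 2 * Q i := by
    intro i ⟨l, m, hlm⟩
    exact Q_of_nonconst (fun l => (a i l : ℤ)) ⟨l, m, fun h => hlm (by exact_mod_cast h)⟩
  have hp2' : (2 : ℤ) ≤ (Fintype.card Λ : ℤ) := by exact_mod_cast hp2
  -- existence
  have hex : ∃ i0, ∃ l m, a i0 l ≠ a i0 m := by
    by_contra hcon
    push Not at hcon
    have : ∑ i, Q i = 0 := Finset.sum_eq_zero fun i _ => hconst i (hcon i)
    rw [this] at hsum
    omega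
  obtain ⟨i0, hi0⟩ := hex
  have huniq : ∀ i, i ≠ i0 → ∀ l m, a i l = a i m := by
    intro i hi
    by_contra hcon
    push Not at hcon
    have h1 := hnon i0 hi0
    have h2 := hnon i hcon
    have h3 : Q i0 + Q i ≤ ∑ i', Q i' := by
      have h4 : ∑ i' ∈ ({i0, i} : Finset I), Q i' ≤ ∑ i', Q i' :=
        Finset.sum_le_sum_of_subset_of_nonneg (Finset.subset_univ _) fun i' _ _ => hQ0 i'
      rwa [Finset.sum_pair (Ne.symm hi)] at h4
    rw [hsum] at h3
    omega
  refine ⟨i0, hi0, huniq, ?_⟩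
  have : ∑ i, Q i = Q i0 := by
    refine Finset.sum_eq_single i0 (fun i _ hi => hconst i (huniq i hi)) (fun h => absurd (Finset.mem_univ _) h)
  rw [← hsum, this]

theorem sq_modEq_one {p : ℕ} (hp : p.Prime) (m : ℤ) (h : m ^ 2 ≡ 1 [ZMOD p]) :
    m ≡ 1 [ZMOD p] ∨ m ≡ -1 [ZMOD p] := by
  have h1 : (p : ℤ) ∣ (m - 1) * (m + 1) := by
    have := (Int.modEq_iff_dvd.mp h.symm)
    have h2 : (m - 1) * (m + 1) = m ^ 2 - 1 := by ring
    rw [h2]; exact this
  rcases (Nat.prime_iff_prime_int.mp hp).dvd_or_dvd h1 with h2 | h2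
  · left
    exact (Int.modEq_iff_dvd.mpr (by simpa using h2)).symm
  · right
    refine (Int.modEq_iff_dvd.mpr ?_).symm
    simpa using h2

end Arith

end Cfsg.Agent.Lib.Helper7.GlaubArith
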