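import Mathlib
import Cfsg.Prelude.Def_Characters
import Cfsg.Agent.S0886
import Cfsg.Agent.S0857
import Cfsg.Agent.Lib.Helper26.CharBasic
import Cfsg.Agent.Lib.Helper26.Fourier
import Cfsg.Agent.Lib.Helper2.CharConj

/-!
# Semidirect product setup for the Glauberman correspondence (helper7)

`Γ₀ = H ⋊[φ] T` with `T` abelian: extension of invariant characters, coset orthogonality,
and transfer of coset sums to the fixed point subgroup.
-/

set_option autoImplicit false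
set_option linter.style.haveILetI false

namespace Cfsg.Agent.Lib.Helper7.GlaubSetup

open Cfsg Cfsg.Agent.Lib.Helper26 Cfsg.Agent.Lib.Helper2
open scoped ComplexConjugate
open SemidirectProduct

variable {H : Type*} [Group H] [Fintype H] {T : Type*} [Group T] [Fintype T] (φ : T →* MulAut H)

noncomputable instance sdFintype : Fintype (H ⋊[φ] T) :=
  Fintype.ofEquiv _ SemidirectProduct.equivProd.symm

theorem sum_sd (F : H ⋊[φ] T → ℂ) : ∑ x : H ⋊[φ] T, F x = ∑ t : T, ∑ h : H, F ⟨h, t⟩ := by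
  rw [Fintype.sum_equiv SemidirectProduct.equivProd F (fun q : H × T => F ⟨q.1, q.2⟩)
    (fun x => rfl)]
  rw [Fintype.sum_prod_type_right]

theorem card_sd : Nat.card (H ⋊[φ] T) = Nat.card H * Nat.card T := by
  rw [Nat.card_congr (SemidirectProduct.equivProd (φ := φ)), Nat.card_prod]

theorem conj_inl (g : H ⋊[φ] T) (h : H) :
    g * inl h * g⁻¹ = inl (g.left * φ g.right h * g.left⁻¹) := by
  ext
  · simp [SemidirectProduct.mul_left, SemidirectProduct.inv_left]
  · simp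

/-- the range of `inl`, identified with `H` -/
def rangeEquiv : (inl : H →* H ⋊[φ] T).range ≃* H where
  toFun n := n.1.left
  invFun h := ⟨inl h, h, rfl⟩
  left_inv n := by
    obtain ⟨n, h, rfl⟩ := n
    rfl
  right_inv h := rfl
  map_mul' n n' := by
    obtain ⟨n, h, rfl⟩ := n
    obtain ⟨n', h', rfl⟩ := n'
    simp

/-- Step 1: an invariant irreducible character extends to the semidirect product -/
theorem exists_ext (hcyc : IsCyclic T) (χ : H → ℂ) (hχ : IsIrrCharacter H χ)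
    (hinv : ∀ (t : T) (h : H), χ (φ t h) = χ h) :
    ∃ X : H ⋊[φ] T → ℂ, IsIrrCharacter (H ⋊[φ] T) X ∧ ∀ h, X (inl h) = χ h := by
  classical
  set N : Subgroup (H ⋊[φ] T) := (inl : H →* H ⋊[φ] T).range with hNdef
  haveI hN : N.Normal := by
    rw [hNdef, SemidirectProduct.range_inl_eq_ker_rightHom]
    exact MonoidHom.normal_ker _
  have hcyc' : IsCyclic ((H ⋊[φ] T) ⧸ N) := by
    let f : T →* (H ⋊[φ] T) ⧸ N := (QuotientGroup.mk' N).comp inr
    refine isCyclic_of_surjective f ?_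
    intro q
    obtain ⟨x, rfl⟩ := QuotientGroup.mk_surjective q
    refine ⟨x.right, ?_⟩
    show ((inr x.right : H ⋊[φ] T) : (H ⋊[φ] T) ⧸ N) = (x : (H ⋊[φ] T) ⧸ N)
    rw [QuotientGroup.eq]
    refine ⟨(φ x.right⁻¹ x.left), ?_⟩
    ext
    · simp [SemidirectProduct.mul_left, SemidirectProduct.inv_left]
    · simp
  have hχcf := isClassFunction_of_isIrrCharacter hχ
  have hϑ : IsIrrCharacter N (fun n : N => χ n.1.left) :=
    isIrrCharacter_comp_mulEquiv hχ (rangeEquiv φ)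
  obtain ⟨X, hX, hXN⟩ := Cfsg.Agent.S0886.result N hcyc' (fun n : N => χ n.1.left) hϑ (by
    intro g n
    obtain ⟨n, h, rfl⟩ := n
    show χ (g * inl h * g⁻¹).left = χ (inl h : H ⋊[φ] T).left
    rw [conj_inl, SemidirectProduct.left_inl, SemidirectProduct.left_inl, hχcf, hinv])
  refine ⟨X, hX, fun h => ?_⟩
  exact hXN ⟨inl h, h, rfl⟩

variable (hcomm : ∀ a b : T, a * b = b * a)
include hcomm

/-- Fourier inversion over the cosets of `H` -/
theorem coset_fourier [Fintype (T →* ℂˣ)] (ϑ ϑ' : H ⋊[φ] T → ℂ) (t₀ : T) :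
    ∑ lam : T →* ℂˣ, conj ((lam t₀ : ℂˣ) : ℂ) *
        classInner (fun x : H ⋊[φ] T => ((lam x.right : ℂˣ) : ℂ) * ϑ x) ϑ' =
      (Nat.card H : ℂ)⁻¹ * ∑ h : H, ϑ ⟨h, t₀⟩ * conj (ϑ' ⟨h, t₀⟩) := by
  classical
  unfold classInner
  simp only [sum_sd]
  have h1 : ∀ lam : T →* ℂˣ, conj ((lam t₀ : ℂˣ) : ℂ) *
      ((Nat.card (H ⋊[φ] T) : ℂ)⁻¹ * ∑ t : T, ∑ h : H,
        ((lam t : ℂˣ) : ℂ) * ϑ ⟨h, t⟩ * conj (ϑ' ⟨h, t⟩)) =
      (Nat.card (H ⋊[φ] T) : ℂ)⁻¹ * ∑ t : T, ((lam (t₀⁻¹ * t) : ℂˣ) : ℂ) *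
        ∑ h : H, ϑ ⟨h, t⟩ * conj (ϑ' ⟨h, t⟩) := by
    intro lam
    rw [mul_left_comm, Finset.mul_sum]
    congr 1
    refine Finset.sum_congr rfl fun t _ => ?_
    rw [Finset.mul_sum, Finset.mul_sum]
    refine Finset.sum_congr rfl fun h _ => ?_
    rw [conj_linChar, map_mul, Units.val_mul]
    ring
  rw [Finset.sum_congr rfl fun lam _ => h1 lam]
  rw [← Finset.mul_sum, Finset.sum_comm]
  have h2 : ∀ t : T, ∑ lam : T →* ℂˣ, ((lam (t₀⁻¹ * t) : ℂˣ) : ℂ) *
      ∑ h : H, ϑ ⟨h, t⟩ * conj (ϑ' ⟨h, t⟩) =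
      if t = t₀ then (Nat.card T : ℂ) * ∑ h : H, ϑ ⟨h, t⟩ * conj (ϑ' ⟨h, t⟩) else 0 := by
    intro t
    rw [← Finset.sum_mul, Cfsg.Agent.S0857.sum_monoidHom_apply' hcomm]
    by_cases ht : t = t₀
    · rw [if_pos ht, if_pos (by rw [ht]; group)]
    · rw [if_neg ht, if_neg, zero_mul]
      intro h
      apply ht
      have := congrArg (fun y => t₀ * y) h
      simpa using this
  rw [Finset.sum_congr rfl fun t _ => h2 t, Finset.sum_ite_eq' Finset.univ t₀]
  simp only [Finset.mem_univ, if_true]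
  rw [card_sd]
  have hH0 : (Nat.card H : ℂ) ≠ 0 := Nat.cast_ne_zero.mpr Nat.card_pos.ne'
  have hT0 : (Nat.card T : ℂ) ≠ 0 := Nat.cast_ne_zero.mpr Nat.card_pos.ne'
  push_cast
  field_simp

/-- twisting by a linear character of `T` -/
theorem isIrr_twistT (lam : T →* ℂˣ) (X : H ⋊[φ] T → ℂ) (hX : IsIrrCharacter (H ⋊[φ] T) X) :
    IsIrrCharacter (H ⋊[φ] T) (fun x : H ⋊[φ] T => ((lam x.right : ℂˣ) : ℂ) * X x) :=
  Cfsg.Agent.S0857.isIrr_twist (lam.comp SemidirectProduct.rightHom) X hX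

omit hcomm in
theorem twist_inl (lam : T →* ℂˣ) (X : H ⋊[φ] T → ℂ) (h : H) :
    (fun x : H ⋊[φ] T => ((lam x.right : ℂˣ) : ℂ) * X x) (inl h) = X (inl h) := by
  simp

/-- Step 2b: coset orthogonality for characters with different restrictions -/
theorem coset_orth (X X' : H ⋊[φ] T → ℂ) (hX : IsIrrCharacter (H ⋊[φ] T) X)
    (hX' : IsIrrCharacter (H ⋊[φ] T) X') (hne : ∃ h : H, X (inl h) ≠ X' (inl h)) (t₀ : T) :
    ∑ h : H, X ⟨h, t₀⟩ * conj (X' ⟨h, t₀⟩) = 0 := by
  classical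
  haveI : Fintype (T →* ℂˣ) := Fintype.ofFinite _
  have h := coset_fourier φ hcomm X X' t₀
  have h0 : ∀ lam : T →* ℂˣ,
      classInner (fun x : H ⋊[φ] T => ((lam x.right : ℂˣ) : ℂ) * X x) X' = 0 := by
    intro lam
    rw [classInner_irr (isIrr_twistT φ hcomm lam X hX) hX', if_neg]
    intro heq
    obtain ⟨h, hh⟩ := hne
    apply hh
    rw [← heq]
    simp
  simp only [h0, mul_zero, Finset.sum_const_zero] at h
  have hH0 : (Nat.card H : ℂ) ≠ 0 := Nat.cast_ne_zero.mpr Nat.card_pos.ne'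
  rcases mul_eq_zero.mp h.symm with h1 | h1
  · exact absurd (inv_eq_zero.mp h1) hH0
  · exact h1

/-- Step 2a: coset norm for a character with irreducible restriction -/
theorem coset_norm (X : H ⋊[φ] T → ℂ) (hX : IsIrrCharacter (H ⋊[φ] T) X)
    (hres : IsIrrCharacter H (fun h => X (inl h))) (t₀ : T) :
    ∑ h : H, X ⟨h, t₀⟩ * conj (X ⟨h, t₀⟩) = (Nat.card H : ℂ) := by
  classical
  haveI : Fintype (T →* ℂˣ) := Fintype.ofFinite _
  have hH0 : (Nat.card H : ℂ) ≠ 0 := Nat.cast_ne_zero.mpr Nat.card_pos.ne'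
  set P : (T →* ℂˣ) → Prop := fun lam =>
    (fun x : H ⋊[φ] T => ((lam x.right : ℂˣ) : ℂ) * X x) = X with hP
  have he : ∀ lam : T →* ℂˣ,
      classInner (fun x : H ⋊[φ] T => ((lam x.right : ℂˣ) : ℂ) * X x) X =
        if P lam then 1 else 0 := fun lam =>
    classInner_irr (isIrr_twistT φ hcomm lam X hX) hX
  have h1 := coset_fourier φ hcomm X X 1
  simp only [he, map_one, Units.val_one, one_mul] at h1
  have h2 : (Nat.card H : ℂ)⁻¹ * ∑ h : H, X ⟨h, 1⟩ * conj (X ⟨h, 1⟩) = 1 := by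
    have := classInner_irr hres hres
    rw [if_pos rfl] at this
    exact this
  rw [h2, Finset.sum_boole] at h1
  have h3 : (Finset.univ.filter P).card = 1 := by exact_mod_cast h1
  obtain ⟨a, ha⟩ := Finset.card_eq_one.mp h3
  have hP1 : P 1 := by
    show (fun x : H ⋊[φ] T => (((1 : T →* ℂˣ) x.right : ℂˣ) : ℂ) * X x) = X
    funext x
    simp
  have ha1 : a = 1 := by
    have : (1 : T →* ℂˣ) ∈ Finset.univ.filter P := Finset.mem_filter.mpr ⟨Finset.mem_univ _, hP1⟩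
    rw [ha, Finset.mem_singleton] at this
    exact this.symm
  have hPiff : ∀ lam, P lam ↔ lam = 1 := by
    intro lam
    constructor
    · intro hl
      have : lam ∈ Finset.univ.filter P := Finset.mem_filter.mpr ⟨Finset.mem_univ _, hl⟩
      rw [ha, Finset.mem_singleton] at this
      rw [this, ha1]
    · rintro rfl; exact hP1
  have h4 := coset_fourier φ hcomm X X t₀
  simp only [he] at h4
  rw [Finset.sum_eq_single (1 : T →* ℂˣ)] at h4
  · rw [if_pos hP1] at h4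
    simp only [MonoidHom.one_apply, Units.val_one, map_one, mul_one] at h4
    have := congrArg (fun z => (Nat.card H : ℂ) * z) h4
    simp only [mul_one] at this
    rw [this]
    field_simp
  · intro lam _ hl
    rw [if_neg (fun h => hl ((hPiff lam).mp h)), mul_zero]
  · intro h; exact absurd (Finset.mem_univ _) h

end Cfsg.Agent.Lib.Helper7.GlaubSetup
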