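import Mathlib
import Cfsg.Prelude.Def_Characters
import Cfsg.Agent.Lib.Helper7.GlaubSetup
import Cfsg.Agent.Lib.Helper7.GlaubArith
import Cfsg.Agent.Lib.Helper7.ExtDet
import Cfsg.Agent.Lib.Helper4.ProdChar
import Cfsg.Agent.Lib.Helper4.CharOrtho
import Cfsg.Agent.Lib.Helper26.CharInt

/-!
# The Glauberman correspondence for an operator group of prime order (helper7)
-/

set_option autoImplicit false
set_option linter.style.haveILetI false

namespace Cfsg.Agent.Lib.Helper7.GlaubPrime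

open Cfsg Cfsg.Agent.Lib.Helper26 Cfsg.Agent.Lib.Helper2 Cfsg.Agent.Lib.Helper7.GlaubSetup
open scoped ComplexConjugate
open SemidirectProduct

variable {H : Type*} [Group H] [Fintype H] {T : Type*} [Group T] [Fintype T] (φ : T →* MulAut H)
variable {D : Type*} [Group D] [Fintype D] (j : D →* H)

section Transfer

variable (hj : Function.Injective j) (hjfix : ∀ (s : T) (d : D), φ s (j d) = j d)
include hj hjfix

omit [Fintype H] [Fintype T] [Fintype D] hj in
theorem conj_mk (u : H) (d : D) (t : T) :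
    (inl u * (⟨j d, t⟩ : H ⋊[φ] T) * (inl u)⁻¹) = ⟨u * j d * (φ t u)⁻¹, t⟩ := by
  ext
  · simp [SemidirectProduct.mul_left, SemidirectProduct.inv_left]
  · simp

omit [Fintype T] [Fintype D] hj in
theorem key_fix (t : T) (u u' : H) (d d' : D)
    (h : u * j d * (φ t u)⁻¹ = u' * j d' * (φ t u')⁻¹) :
    φ (t ^ Nat.card H) (u⁻¹ * u') = u⁻¹ * u' := by
  obtain ⟨e, he⟩ : ∃ e, e = u⁻¹ * u' := ⟨_, rfl⟩
  rw [← he]
  have h1 : φ t e = (j d)⁻¹ * e * j d' := by
    have h2 : φ t e = (φ t u)⁻¹ * φ t u' := by rw [he, map_mul, map_inv]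
    rw [h2]
    have h3 : φ t u' = (u' * j d' * (φ t u')⁻¹)⁻¹ * u' * j d' := by group
    rw [h3, ← h, he]
    group
  have h4 : ∀ n : ℕ, φ (t ^ n) e = ((j d)⁻¹) ^ n * e * (j d') ^ n := by
    intro n
    induction n with
    | zero => simp
    | succ n ih =>
      have h5 : φ (t ^ (n + 1)) e = φ t (φ (t ^ n) e) := by
        rw [pow_succ', map_mul]; rfl
      rw [h5, ih]
      have h6 : φ t ((j d)⁻¹ ^ n * e * j d' ^ n) = (j d)⁻¹ ^ n * φ t e * j d' ^ n := by
        rw [map_mul, map_mul, map_pow, map_pow, map_inv, hjfix, hjfix]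
      rw [h6, h1, pow_succ, pow_succ']
      group
  rw [h4, inv_pow, pow_card_eq_one', pow_card_eq_one']
  simp

theorem class_transfer (t : T) (ht : ∀ e : H, φ (t ^ Nat.card H) e = e → e ∈ Set.range j)
    (F : H ⋊[φ] T → ℂ) (hF : IsClassFunction (H ⋊[φ] T) F) :
    (Nat.card D : ℂ) * ∑ h : H, F ⟨h, t⟩ = (Nat.card H : ℂ) * ∑ d : D, F ⟨j d, t⟩ := by
  classical
  set Φ : H × D → H := fun q => q.1 * j q.2 * (φ t q.1)⁻¹ with hΦ
  have hΦF : ∀ q : H × D, F ⟨Φ q, t⟩ = F ⟨j q.2, t⟩ := by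
    intro q
    rw [hΦ]
    show F ⟨q.1 * j q.2 * (φ t q.1)⁻¹, t⟩ = _
    rw [← conj_mk φ j hjfix, hF]
  have hkey : ∀ q q' : H × D, Φ q = Φ q' → q.1⁻¹ * q'.1 ∈ Set.range j := fun q q' h =>
    ht _ (key_fix φ j hjfix t q.1 q'.1 q.2 q'.2 h)
  have hbound : ∀ h : H, (Finset.univ.filter fun q => Φ q = h).card ≤ Fintype.card D := by
    intro h
    by_cases hne : (Finset.univ.filter fun q => Φ q = h).Nonempty
    · obtain ⟨q0, hq0⟩ := hne
      have hq0' : Φ q0 = h := (Finset.mem_filter.mp hq0).2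
      let g : H × D → D := fun q =>
        if hq : q0.1⁻¹ * q.1 ∈ Set.range j then Classical.choose hq else 1
      have hg : ∀ q, Φ q = h → j (g q) = q0.1⁻¹ * q.1 := by
        intro q hq
        have hmem := hkey q0 q (hq0'.trans hq.symm)
        show j (if hq : q0.1⁻¹ * q.1 ∈ Set.range j then Classical.choose hq else 1) = _
        rw [dif_pos hmem]
        exact Classical.choose_spec hmem
      rw [← Finset.card_univ]
      refine Finset.card_le_card_of_injOn g (fun _ _ => Finset.mem_univ _) ?_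
      intro q hq q' hq' hgq
      have hq1 : Φ q = h := (Finset.mem_filter.mp hq).2
      have hq2 : Φ q' = h := (Finset.mem_filter.mp hq').2
      have h1 : q0.1⁻¹ * q.1 = q0.1⁻¹ * q'.1 := by rw [← hg q hq1, ← hg q' hq2, hgq]
      have h2 : q.1 = q'.1 := mul_left_cancel h1
      have h3 : Φ q = Φ q' := hq1.trans hq2.symm
      rw [hΦ] at h3
      simp only at h3
      rw [h2] at h3
      have h4 : j q.2 = j q'.2 := mul_left_cancel (mul_right_cancel h3)
      exact Prod.ext h2 (hj h4)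
    · rw [Finset.not_nonempty_iff_eq_empty.mp hne]
      simp
  have hcount : ∀ h : H, (Finset.univ.filter fun q => Φ q = h).card = Fintype.card D := by
    have h1 : ∑ h : H, (Finset.univ.filter fun q => Φ q = h).card = ∑ _h : H, Fintype.card D := by
      rw [← Finset.card_eq_sum_card_fiberwise (f := Φ) (s := Finset.univ) (t := Finset.univ)
        (fun _ _ => Finset.mem_univ _)]
      rw [Finset.card_univ, Fintype.card_prod, Finset.sum_const, Finset.card_univ, smul_eq_mul]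
    intro h
    exact (Finset.sum_eq_sum_iff_of_le (fun h _ => hbound h)).mp h1 h (Finset.mem_univ _)
  have hA : ∑ q : H × D, F ⟨Φ q, t⟩ = (Nat.card D : ℂ) * ∑ h : H, F ⟨h, t⟩ := by
    rw [← Finset.sum_fiberwise (s := Finset.univ) (g := Φ)]
    rw [Finset.mul_sum]
    refine Finset.sum_congr rfl fun h _ => ?_
    rw [Finset.sum_congr rfl (g := fun _ => F ⟨h, t⟩)]
    · rw [Finset.sum_const, hcount h, Nat.card_eq_fintype_card, nsmul_eq_mul]
    · intro q hq
      rw [(Finset.mem_filter.mp hq).2]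
  have hB : ∑ q : H × D, F ⟨Φ q, t⟩ = (Nat.card H : ℂ) * ∑ d : D, F ⟨j d, t⟩ := by
    rw [Finset.sum_congr rfl fun q _ => hΦF q, Fintype.sum_prod_type]
    simp only [Finset.sum_const, Finset.card_univ, nsmul_eq_mul, Nat.card_eq_fintype_card]
  rw [← hA, hB]

end Transfer

section Core

variable (hjfix : ∀ (s : T) (d : D), φ s (j d) = j d)

/-- the homomorphism `D × T → H ⋊ T` -/
def mu : D × T →* H ⋊[φ] T where
  toFun x := ⟨j x.1, x.2⟩
  map_one' := by ext <;> simp
  map_mul' x y := by ext <;> simp [hjfix]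

/-- the coefficient of `β` in the restriction of `X` to the coset `D t` -/
noncomputable def Bc (X : H ⋊[φ] T → ℂ) (β : D → ℂ) (t : T) : ℂ :=
  classInner (fun d : D => X ⟨j d, t⟩) β

include hjfix

omit [Fintype H] [Fintype T] [Fintype D] in
theorem psi_class (X : H ⋊[φ] T → ℂ) (hX : IsClassFunction (H ⋊[φ] T) X) (t : T) :
    IsClassFunction D (fun d : D => X ⟨j d, t⟩) := by
  intro d e
  show X ⟨j (e * d * e⁻¹), t⟩ = X ⟨j d, t⟩
  have h := conj_mk φ j hjfix (j e) d t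
  rw [hjfix] at h
  rw [map_mul, map_mul, map_inv, ← h, hX]

omit [Fintype H] [Fintype T] in
theorem psi_inner (X X' : H ⋊[φ] T → ℂ) (hX : IsClassFunction (H ⋊[φ] T) X) (t : T)
    [Fintype (IrrCharacter D)] :
    classInner (fun d : D => X ⟨j d, t⟩) (fun d : D => X' ⟨j d, t⟩) =
      ∑ β : IrrCharacter D, Bc φ j X (β : D → ℂ) t * conj (Bc φ j X' (β : D → ℂ) t) := by
  have h := Cfsg.Agent.Lib.Helper4.classFunction_expansion (fun d : D => X ⟨j d, t⟩)
    (psi_class φ j hjfix X hX t)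
  have h2 : classInner (fun d : D => X ⟨j d, t⟩) (fun d : D => X' ⟨j d, t⟩) =
      classInner (∑ χ : IrrCharacter D,
        classInner (fun d : D => X ⟨j d, t⟩) (χ : D → ℂ) • (χ : D → ℂ))
        (fun d : D => X' ⟨j d, t⟩) :=
    congrArg (fun f => classInner f (fun d : D => X' ⟨j d, t⟩)) h
  rw [h2, classInner_sum_left]
  refine Finset.sum_congr rfl fun β _ => ?_
  rw [classInner_smul_left, ← classInner_conj_symm (fun d : D => X' ⟨j d, t⟩) (β : D → ℂ)]
  rfl

theorem psi_inner_eq (hj : Function.Injective j) (X X' : H ⋊[φ] T → ℂ)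
    (hX : IsClassFunction (H ⋊[φ] T) X)
    (hX' : IsClassFunction (H ⋊[φ] T) X') (t : T)
    (ht : ∀ e : H, φ (t ^ Nat.card H) e = e → e ∈ Set.range j) :
    classInner (fun d : D => X ⟨j d, t⟩) (fun d : D => X' ⟨j d, t⟩) =
      (Nat.card H : ℂ)⁻¹ * ∑ h : H, X ⟨h, t⟩ * conj (X' ⟨h, t⟩) := by
  have h : (Nat.card D : ℂ) * ∑ h : H, X ⟨h, t⟩ * conj (X' ⟨h, t⟩) =
      (Nat.card H : ℂ) * ∑ d : D, X ⟨j d, t⟩ * conj (X' ⟨j d, t⟩) :=
    class_transfer φ j hj hjfix t ht (fun x => X x * conj (X' x)) (by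
      intro x y
      show X (y * x * y⁻¹) * conj (X' (y * x * y⁻¹)) = X x * conj (X' x)
      rw [hX, hX'])
  unfold classInner
  have hH0 : (Nat.card H : ℂ) ≠ 0 := Nat.cast_ne_zero.mpr Nat.card_pos.ne'
  have hD0 : (Nat.card D : ℂ) ≠ 0 := Nat.cast_ne_zero.mpr Nat.card_pos.ne'
  rw [inv_mul_eq_iff_eq_mul₀ hD0, ← mul_assoc, mul_comm _ ((Nat.card H : ℂ)⁻¹), mul_assoc, h,
    ← mul_assoc, inv_mul_cancel₀ hH0, one_mul]

omit hjfix in
theorem comm_of_prime_card {p : ℕ} (hp : p.Prime) (hT : Nat.card T = p) (a b : T) :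
    a * b = b * a := by
  haveI : Fact p.Prime := ⟨hp⟩
  haveI := isCyclic_of_prime_card hT
  let _ := IsCyclic.commGroup (α := T)
  exact mul_comm a b

omit hjfix [Fintype D] in
theorem fix_pow {p : ℕ} (hp : p.Prime) (hT : Nat.card T = p) (hcop : ¬ p ∣ Nat.card H)
    (hfix : ∀ (t : T) (h : H), t ≠ 1 → φ t h = h → h ∈ Set.range j) (t : T) (ht : t ≠ 1) :
    ∀ e : H, φ (t ^ Nat.card H) e = e → e ∈ Set.range j := by
  intro e he
  refine hfix (t ^ Nat.card H) e ?_ he
  intro h1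
  have h2 : orderOf t ∣ Nat.card H := orderOf_dvd_of_pow_eq_one h1
  have h3 : orderOf t ∣ p := by rw [← hT]; exact orderOf_dvd_natCard t
  rcases (Nat.dvd_prime hp).mp h3 with h4 | h4
  · exact ht (orderOf_eq_one_iff.mp h4)
  · rw [h4] at h2; exact hcop h2

theorem core {p : ℕ} (hp : p.Prime) (hT : Nat.card T = p) (hcop : ¬ p ∣ Nat.card H)
    (hj : Function.Injective j)
    (hfix : ∀ (t : T) (h : H), t ≠ 1 → φ t h = h → h ∈ Set.range j)
    (X : H ⋊[φ] T → ℂ) (hX : IsIrrCharacter (H ⋊[φ] T) X)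
    (hres : IsIrrCharacter H (fun h => X (inl h))) :
    ∃ β₀ : IrrCharacter D,
      (∃ m : ℕ, Bc φ j X (β₀ : D → ℂ) 1 = m ∧ ((m : ℤ) ≡ 1 [ZMOD p] ∨ (m : ℤ) ≡ -1 [ZMOD p])) ∧
      (∀ β : IrrCharacter D, β ≠ β₀ →
        (∃ m : ℕ, Bc φ j X (β : D → ℂ) 1 = m ∧ p ∣ m) ∧
          ∀ t : T, t ≠ 1 → Bc φ j X (β : D → ℂ) t = 0) ∧
      (∀ t : T, t ≠ 1 → Bc φ j X (β₀ : D → ℂ) t * conj (Bc φ j X (β₀ : D → ℂ) t) = 1) := by
  classical
  haveI : Fintype (IrrCharacter D) := Fintype.ofFinite _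
  haveI : Fintype (T →* ℂˣ) := Fintype.ofFinite _
  have hcomm := comm_of_prime_card (T := T) hp hT
  have hXc := isCharacter_of_isIrrCharacter hX
  have hXcf := isClassFunction_of_isIrrCharacter hX
  have hT0 : (Nat.card T : ℂ) ≠ 0 := Nat.cast_ne_zero.mpr Nat.card_pos.ne'
  have hD0 : (Nat.card D : ℂ) ≠ 0 := Nat.cast_ne_zero.mpr Nat.card_pos.ne'
  -- the coefficients
  set a : IrrCharacter D → (T →* ℂˣ) → ℂ := fun β lam =>
    classInner (X ∘ mu φ j hjfix) (fun x : D × T => (β : D → ℂ) x.1 * ((lam x.2 : ℂˣ) : ℂ)) with ha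
  have ha_nat : ∀ (β : IrrCharacter D) (lam : T →* ℂˣ), ∃ n : ℕ, a β lam = n := by
    intro β lam
    exact classInner_isCharacter_nat (isCharacter_comp_hom hXc (mu φ j hjfix))
      (Cfsg.Agent.Lib.Helper4.isCharacter_prod (isCharacter_of_isIrrCharacter β.2)
        (Cfsg.Agent.Lib.Helper24.isCharacter_of_hom lam))
  choose n hn using ha_nat
  have ha_eq : ∀ (β : IrrCharacter D) (lam : T →* ℂˣ), a β lam = (Nat.card T : ℂ)⁻¹ *
      ∑ t : T, Bc φ j X (β : D → ℂ) t * conj ((lam t : ℂˣ) : ℂ) := by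
    intro β lam
    show classInner (X ∘ mu φ j hjfix)
      (fun x : D × T => (β : D → ℂ) x.1 * ((lam x.2 : ℂˣ) : ℂ)) = _
    unfold Bc classInner
    rw [Nat.card_prod, Fintype.sum_prod_type, Finset.sum_comm]
    push_cast
    rw [Finset.mul_sum, Finset.mul_sum]
    refine Finset.sum_congr rfl fun t _ => ?_
    rw [Finset.mul_sum, Finset.mul_sum, Finset.sum_mul, Finset.mul_sum]
    refine Finset.sum_congr rfl fun d _ => ?_
    show ((Nat.card D : ℂ) * (Nat.card T : ℂ))⁻¹ * (X ⟨j d, t⟩ *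
      conj ((β : D → ℂ) d * ((lam t : ℂˣ) : ℂ))) = _
    rw [map_mul, mul_inv]
    ring
  have hB_eq : ∀ (β : IrrCharacter D) (t : T), Bc φ j X (β : D → ℂ) t = ∑ lam : T →* ℂˣ, a β lam * ((lam t : ℂˣ) : ℂ) := by
    intro β t
    simp only [ha_eq]
    have h1 : ∀ lam : T →* ℂˣ, (Nat.card T : ℂ)⁻¹ *
        (∑ s : T, Bc φ j X (β : D → ℂ) s * conj ((lam s : ℂˣ) : ℂ)) * ((lam t : ℂˣ) : ℂ) =
        (Nat.card T : ℂ)⁻¹ * ∑ s : T, Bc φ j X (β : D → ℂ) s * ((lam (s⁻¹ * t) : ℂˣ) : ℂ) := by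
      intro lam
      rw [mul_assoc, Finset.sum_mul]
      congr 1
      refine Finset.sum_congr rfl fun s _ => ?_
      rw [conj_linChar, map_mul, Units.val_mul, mul_assoc]
    rw [Finset.sum_congr rfl fun lam _ => h1 lam, ← Finset.mul_sum, Finset.sum_comm]
    have h2 : ∀ s : T, ∑ lam : T →* ℂˣ, Bc φ j X (β : D → ℂ) s * ((lam (s⁻¹ * t) : ℂˣ) : ℂ) =
        if s = t then (Nat.card T : ℂ) * Bc φ j X (β : D → ℂ) s else 0 := by
      intro s
      rw [← Finset.mul_sum, Cfsg.Agent.S0857.sum_monoidHom_apply' hcomm]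
      by_cases hs : s = t
      · rw [if_pos hs, if_pos (by rw [hs]; group), mul_comm]
      · rw [if_neg hs, if_neg, mul_zero]
        intro h
        apply hs
        have := congrArg (fun y => s * y) h
        simpa using this.symm
    rw [Finset.sum_congr rfl fun s _ => h2 s, Finset.sum_ite_eq' Finset.univ t]
    simp only [Finset.mem_univ, if_true]
    rw [← mul_assoc, inv_mul_cancel₀ hT0, one_mul]
  have hpars : ∀ β : IrrCharacter D, ∑ t : T, Bc φ j X (β : D → ℂ) t * conj (Bc φ j X (β : D → ℂ) t) =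
      (Nat.card T : ℂ) * ∑ lam : T →* ℂˣ, ((n β lam : ℕ) : ℂ) ^ 2 := by
    intro β
    have h1 : ∀ t : T, Bc φ j X (β : D → ℂ) t * conj (Bc φ j X (β : D → ℂ) t) =
        ∑ lam : T →* ℂˣ, (n β lam : ℂ) *
          (Bc φ j X (β : D → ℂ) t * conj ((lam t : ℂˣ) : ℂ)) := by
      intro t
      have h0 : conj (Bc φ j X (β : D → ℂ) t) =
          ∑ lam : T →* ℂˣ, (n β lam : ℂ) * conj ((lam t : ℂˣ) : ℂ) := by
        rw [hB_eq β t, map_sum]
        refine Finset.sum_congr rfl fun lam _ => ?_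
        rw [map_mul, hn, Complex.conj_natCast]
      rw [h0, Finset.mul_sum]
      refine Finset.sum_congr rfl fun lam _ => ?_
      ring
    rw [Finset.sum_congr rfl fun t _ => h1 t, Finset.sum_comm, Finset.mul_sum]
    refine Finset.sum_congr rfl fun lam _ => ?_
    rw [← Finset.mul_sum]
    have h2 := ha_eq β lam
    rw [hn] at h2
    have h3 : ∑ t : T, Bc φ j X (β : D → ℂ) t * conj ((lam t : ℂˣ) : ℂ) =
        (Nat.card T : ℂ) * (n β lam : ℂ) := by
      rw [h2, ← mul_assoc, mul_inv_cancel₀ hT0, one_mul]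
    rw [h3]
    ring
  have hnorm : ∀ t : T, t ≠ 1 →
      ∑ β : IrrCharacter D, Bc φ j X (β : D → ℂ) t * conj (Bc φ j X (β : D → ℂ) t) = 1 := by
    intro t ht
    rw [← psi_inner φ j hjfix X X hXcf t,
      psi_inner_eq φ j hjfix hj X X hXcf hXcf t (fix_pow φ j hp hT hcop hfix t ht),
      coset_norm φ hcomm X hX hres t]
    exact inv_mul_cancel₀ (Nat.cast_ne_zero.mpr Nat.card_pos.ne')
  have hB1 : ∀ β : IrrCharacter D, Bc φ j X (β : D → ℂ) 1 = ((∑ lam : T →* ℂˣ, n β lam : ℕ) : ℂ) := by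
    intro β
    rw [hB_eq β 1, Nat.cast_sum]
    refine Finset.sum_congr rfl fun lam _ => ?_
    rw [hn, map_one, Units.val_one, mul_one]
  have hΛ : Fintype.card (T →* ℂˣ) = p := by
    have h1 := Cfsg.Agent.S0857.sum_monoidHom_apply' hcomm (1 : T)
    rw [if_pos rfl] at h1
    simp only [map_one, Units.val_one, Finset.sum_const, Finset.card_univ, nsmul_eq_mul,
      mul_one] at h1
    rw [← hT]
    exact_mod_cast h1
  have hTp : (Nat.card T : ℂ) = (p : ℂ) := by rw [hT]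
  -- the total
  have htotal : ∑ β : IrrCharacter D, ((Fintype.card (T →* ℂˣ) : ℤ) *
      ∑ lam : T →* ℂˣ, (n β lam : ℤ) ^ 2 - (∑ lam : T →* ℂˣ, (n β lam : ℤ)) ^ 2) =
      (Fintype.card (T →* ℂˣ) : ℤ) - 1 := by
    have h1 : ∑ β : IrrCharacter D, ∑ t : T,
        Bc φ j X (β : D → ℂ) t * conj (Bc φ j X (β : D → ℂ) t) =
        ∑ β : IrrCharacter D, ((∑ lam : T →* ℂˣ, n β lam : ℕ) : ℂ) ^ 2 + ((p : ℂ) - 1) := by
      rw [Finset.sum_comm, ← Finset.add_sum_erase Finset.univ _ (Finset.mem_univ (1 : T))]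
      congr 1
      · refine Finset.sum_congr rfl fun β _ => ?_
        rw [hB1, Complex.conj_natCast, sq]
      · rw [Finset.sum_congr rfl fun t ht => hnorm t (Finset.ne_of_mem_erase ht)]
        rw [Finset.sum_const, Finset.card_erase_of_mem (Finset.mem_univ _), Finset.card_univ,
          ← Nat.card_eq_fintype_card, hT, nsmul_eq_mul, mul_one, Nat.cast_sub hp.one_le,
          Nat.cast_one]
    rw [Finset.sum_congr rfl fun β _ => hpars β, hTp] at h1
    rw [hΛ]
    have h2 : ((∑ β : IrrCharacter D, ((p : ℤ) *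
        ∑ lam : T →* ℂˣ, (n β lam : ℤ) ^ 2 - (∑ lam : T →* ℂˣ, (n β lam : ℤ)) ^ 2) : ℤ) : ℂ) =
        (((p : ℤ) - 1 : ℤ) : ℂ) := by
      push_cast
      rw [Finset.sum_sub_distrib, h1]
      push_cast
      ring
    exact_mod_cast h2
  obtain ⟨β₀, hβ₀, hothers, hQ⟩ := Cfsg.Agent.Lib.Helper7.GlaubArith.exists_unique_nonconst n
    (by rw [hΛ]; exact hp.two_le) htotal
  rw [hΛ] at hQ
  -- vanishing for constant rows
  have hvan : ∀ β : IrrCharacter D, β ≠ β₀ → ∀ t : T, t ≠ 1 → Bc φ j X (β : D → ℂ) t = 0 := by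
    intro β hβ t ht
    rw [hB_eq β t]
    have h1 : ∀ lam : T →* ℂˣ, a β lam * ((lam t : ℂˣ) : ℂ) =
        (n β 1 : ℂ) * ((lam t : ℂˣ) : ℂ) := by
      intro lam
      rw [hn, hothers β hβ lam 1]
    rw [Finset.sum_congr rfl fun lam _ => h1 lam, ← Finset.mul_sum,
      Cfsg.Agent.S0857.sum_monoidHom_apply' hcomm, if_neg ht, mul_zero]
  refine ⟨β₀, ⟨∑ lam : T →* ℂˣ, n β₀ lam, hB1 β₀, ?_⟩, ?_, ?_⟩
  · apply Cfsg.Agent.Lib.Helper7.GlaubArith.sq_modEq_one hp
    have h1 : ((∑ lam : T →* ℂˣ, n β₀ lam : ℕ) : ℤ) ^ 2 =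
        (p : ℤ) * ∑ lam : T →* ℂˣ, (n β₀ lam : ℤ) ^ 2 - ((p : ℤ) - 1) := by
      push_cast
      linarith
    rw [h1]
    refine Int.modEq_iff_dvd.mpr ⟨-(∑ lam : T →* ℂˣ, (n β₀ lam : ℤ) ^ 2) + 1, ?_⟩
    ring
  · intro β hβ
    refine ⟨⟨∑ lam : T →* ℂˣ, n β lam, hB1 β, ?_⟩, hvan β hβ⟩
    rw [Finset.sum_congr rfl fun lam _ => hothers β hβ lam 1, Finset.sum_const, Finset.card_univ,
      hΛ, smul_eq_mul]
    exact dvd_mul_right _ _
  · intro t ht
    have h1 := hnorm t ht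
    rw [Finset.sum_eq_single β₀] at h1
    · exact h1
    · intro β _ hβ
      rw [hvan β hβ t ht, zero_mul]
    · intro h; exact absurd (Finset.mem_univ _) h

end Core

section Main

variable (hjfix : ∀ (s : T) (d : D), φ s (j d) = j d)

/-- the action of `T` on the irreducible characters of `H` -/
def irrAct : MulAction T (IrrCharacter H) where
  smul t χ := ⟨fun h => (χ : H → ℂ) (φ t⁻¹ h), isIrrCharacter_comp_mulEquiv χ.2 (φ t⁻¹)⟩
  one_smul χ := by
    apply Subtype.ext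
    funext h
    show (χ : H → ℂ) (φ 1⁻¹ h) = (χ : H → ℂ) h
    simp
  mul_smul t s χ := by
    apply Subtype.ext
    funext h
    show (χ : H → ℂ) (φ (t * s)⁻¹ h) = (χ : H → ℂ) (φ s⁻¹ (φ t⁻¹ h))
    rw [mul_inv_rev, map_mul]
    rfl

include hjfix

theorem prime_case_T {p : ℕ} (hp : p.Prime) (hT : Nat.card T = p) (hcop : ¬ p ∣ Nat.card H)
    (hj : Function.Injective j)
    (hfix : ∀ (t : T) (h : H), t ≠ 1 → φ t h = h → h ∈ Set.range j) :
    (∀ χ : IrrCharacter H, (∀ (t : T) (h : H), (χ : H → ℂ) (φ t h) = (χ : H → ℂ) h) →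
      ∃ β₀ : IrrCharacter D,
        (∃ m : ℕ, classInner (fun d : D => (χ : H → ℂ) (j d)) (β₀ : D → ℂ) = m ∧
          ((m : ℤ) ≡ 1 [ZMOD p] ∨ (m : ℤ) ≡ -1 [ZMOD p])) ∧
        ∀ β : IrrCharacter D, β ≠ β₀ →
          ∃ m : ℕ, classInner (fun d : D => (χ : H → ℂ) (j d)) (β : D → ℂ) = m ∧ p ∣ m) ∧
    (∀ χ χ' : IrrCharacter H, (∀ (t : T) (h : H), (χ : H → ℂ) (φ t h) = (χ : H → ℂ) h) →
      (∀ (t : T) (h : H), (χ' : H → ℂ) (φ t h) = (χ' : H → ℂ) h) →
      ∀ (β : IrrCharacter D) (m m' : ℕ),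
        classInner (fun d : D => (χ : H → ℂ) (j d)) (β : D → ℂ) = m → ¬ p ∣ m →
        classInner (fun d : D => (χ' : H → ℂ) (j d)) (β : D → ℂ) = m' → ¬ p ∣ m' → χ = χ') ∧
    (∀ β : IrrCharacter D, ∃ χ : IrrCharacter H,
      (∀ (t : T) (h : H), (χ : H → ℂ) (φ t h) = (χ : H → ℂ) h) ∧
      ∃ m : ℕ, classInner (fun d : D => (χ : H → ℂ) (j d)) (β : D → ℂ) = m ∧ ¬ p ∣ m) := by
  classical
  haveI : Fact p.Prime := ⟨hp⟩
  have hcyc : IsCyclic T := isCyclic_of_prime_card hT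
  have hcomm := comm_of_prime_card (T := T) hp hT
  -- data attached to an invariant character
  have hdata : ∀ χ : IrrCharacter H, (∀ (t : T) (h : H), (χ : H → ℂ) (φ t h) = (χ : H → ℂ) h) →
      ∃ X : H ⋊[φ] T → ℂ, IsIrrCharacter (H ⋊[φ] T) X ∧ (∀ h, X (inl h) = (χ : H → ℂ) h) ∧
        IsIrrCharacter H (fun h => X (inl h)) ∧
        ∀ β : D → ℂ, Bc φ j X β 1 = classInner (fun d : D => (χ : H → ℂ) (j d)) β := by
    intro χ hinv
    obtain ⟨X, hX, hXχ⟩ := exists_ext φ hcyc (χ : H → ℂ) χ.2 hinv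
    have hres : (fun h => X (inl h)) = (χ : H → ℂ) := funext hXχ
    refine ⟨X, hX, hXχ, by rw [hres]; exact χ.2, fun β => ?_⟩
    unfold Bc
    have : (fun d : D => X ⟨j d, 1⟩) = fun d : D => (χ : H → ℂ) (j d) := funext fun d => hXχ (j d)
    rw [this]
  refine ⟨?_, ?_, ?_⟩
  · intro χ hinv
    obtain ⟨X, hX, hXχ, hres, hB⟩ := hdata χ hinv
    obtain ⟨β₀, ⟨m, hm, hm1⟩, hoth, -⟩ := core φ j hjfix hp hT hcop hj hfix X hX hres
    refine ⟨β₀, ⟨m, by rw [← hB]; exact hm, hm1⟩, fun β hβ => ?_⟩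
    obtain ⟨⟨m', hm', hpm'⟩, -⟩ := hoth β hβ
    exact ⟨m', by rw [← hB]; exact hm', hpm'⟩
  · intro χ χ' hinv hinv' β m m' hm hpm hm' hpm'
    obtain ⟨X, hX, hXχ, hres, hB⟩ := hdata χ hinv
    obtain ⟨X', hX', hXχ', hres', hB'⟩ := hdata χ' hinv'
    obtain ⟨β₀, -, hoth, hunit⟩ := core φ j hjfix hp hT hcop hj hfix X hX hres
    obtain ⟨β₀', -, hoth', hunit'⟩ := core φ j hjfix hp hT hcop hj hfix X' hX' hres'
    have hβ : β = β₀ := by
      by_contra hne
      obtain ⟨⟨m'', hm'', hpm''⟩, -⟩ := hoth β hne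
      rw [hB, hm] at hm''
      have : m = m'' := by exact_mod_cast hm''
      exact hpm (this ▸ hpm'')
    have hβ' : β = β₀' := by
      by_contra hne
      obtain ⟨⟨m'', hm'', hpm''⟩, -⟩ := hoth' β hne
      rw [hB', hm'] at hm''
      have : m' = m'' := by exact_mod_cast hm''
      exact hpm' (this ▸ hpm'')
    by_contra hχ
    have hne : ∃ h : H, X (inl h) ≠ X' (inl h) := by
      by_contra hcon
      push Not at hcon
      apply hχ
      apply Subtype.ext
      funext h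
      rw [← hXχ, ← hXχ', hcon]
    have hnt : Nontrivial T := by
      rw [← Finite.one_lt_card_iff_nontrivial, hT]
      exact hp.one_lt
    obtain ⟨t, ht⟩ := exists_ne (1 : T)
    haveI : Fintype (IrrCharacter D) := Fintype.ofFinite _
    have h1 := psi_inner φ j hjfix X X' (isClassFunction_of_isIrrCharacter hX) t
    rw [psi_inner_eq φ j hjfix hj X X' (isClassFunction_of_isIrrCharacter hX)
      (isClassFunction_of_isIrrCharacter hX') t (fix_pow φ j hp hT hcop hfix t ht),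
      coset_orth φ hcomm X X' hX hX' hne t, mul_zero] at h1
    rw [Finset.sum_eq_single β₀] at h1
    · have h2 := hunit t ht
      have h3 := hunit' t ht
      rw [← hβ'] at h3
      rw [← hβ] at h2 h1
      rcases mul_eq_zero.mp h1.symm with h4 | h4
      · rw [h4, zero_mul] at h2
        exact zero_ne_one h2
      · rw [h4, mul_zero] at h3
        exact zero_ne_one h3
    · intro β' _ hβ'
      rw [(hoth β' hβ').2 t ht, zero_mul]
    · intro h; exact absurd (Finset.mem_univ _) h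
  · intro β
    haveI : Fintype (IrrCharacter H) := Fintype.ofFinite _
    letI := irrAct (H := H) φ
    have hsmul : ∀ (t : T) (χ : IrrCharacter H) (h : H),
        ((t • χ : IrrCharacter H) : H → ℂ) h = (χ : H → ℂ) (φ t⁻¹ h) := fun t χ h => rfl
    have hdeg : ∀ χ : IrrCharacter H, ∃ d : ℕ, (χ : H → ℂ) 1 = d := by
      intro χ
      obtain ⟨d, -, hd⟩ := irr_degree χ.2
      exact ⟨d, hd⟩
    have hmult : ∀ χ : IrrCharacter H, ∃ m : ℕ,
        classInner (fun d : D => (χ : H → ℂ) (j d)) (β : D → ℂ) = m := by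
      intro χ
      exact classInner_isCharacter_nat
        (isCharacter_comp_hom (isCharacter_of_isIrrCharacter χ.2) j)
        (isCharacter_of_isIrrCharacter β.2)
    choose deg hdeg' using hdeg
    choose mult hmult' using hmult
    obtain ⟨dβ, -, hdβ⟩ := irr_degree β.2
    have hH0 : (Nat.card H : ℂ) ≠ 0 := Nat.cast_ne_zero.mpr Nat.card_pos.ne'
    have hD0 : (Nat.card D : ℂ) ≠ 0 := Nat.cast_ne_zero.mpr Nat.card_pos.ne'
    -- the degree of the induced character
    have hsum : Nat.card D * ∑ χ : IrrCharacter H, deg χ * mult χ = Nat.card H * dβ := by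
      have h1 : ∀ d : D, ∑ χ : IrrCharacter H, (deg χ : ℂ) * (χ : H → ℂ) (j d) =
          if d = 1 then (Nat.card H : ℂ) else 0 := by
        intro d
        have h2 := Cfsg.Agent.Lib.Helper4.column_orthogonality (j d) (1 : H)
        have h3 : ∀ χ : IrrCharacter H, (χ : H → ℂ) (j d) * conj ((χ : H → ℂ) 1) =
            (deg χ : ℂ) * (χ : H → ℂ) (j d) := by
          intro χ
          rw [hdeg', Complex.conj_natCast, mul_comm]
        rw [Finset.sum_congr rfl fun χ _ => h3 χ] at h2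
        rw [h2]
        by_cases hd : d = 1
        · rw [if_pos hd, if_pos (by rw [hd, map_one]), hd, map_one,
            Cfsg.Agent.Lib.Helper4.card_centralizer_one]
        · rw [if_neg hd, if_neg]
          intro hc
          apply hd
          have : j d = 1 := isConj_one_left.mp hc
          exact hj (this.trans (map_one j).symm)
      have h4 : ((Nat.card D * ∑ χ : IrrCharacter H, deg χ * mult χ : ℕ) : ℂ) =
          ((Nat.card H * dβ : ℕ) : ℂ) := by
        push_cast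
        have h5 : ∀ χ : IrrCharacter H, (deg χ : ℂ) * (mult χ : ℂ) =
            (Nat.card D : ℂ)⁻¹ * ∑ d : D, ((deg χ : ℂ) * (χ : H → ℂ) (j d)) *
              conj ((β : D → ℂ) d) := by
          intro χ
          rw [← hmult']
          unfold classInner
          rw [Finset.mul_sum, Finset.mul_sum, Finset.mul_sum]
          refine Finset.sum_congr rfl fun d _ => ?_
          ring
        rw [Finset.sum_congr rfl fun χ _ => h5 χ, ← Finset.mul_sum, ← mul_assoc,
          mul_inv_cancel₀ hD0, one_mul, Finset.sum_comm]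
        simp only [← Finset.sum_mul, h1]
        rw [Finset.sum_eq_single (1 : D)]
        · rw [if_pos rfl, hdβ, Complex.conj_natCast]
        · intro d _ hd
          rw [if_neg hd, zero_mul]
        · intro h; exact absurd (Finset.mem_univ _) h
      exact_mod_cast h4
    have hpsum : ¬ p ∣ ∑ χ : IrrCharacter H, deg χ * mult χ := by
      intro hdvd
      have h1 : p ∣ Nat.card H * dβ := by
        rw [← hsum]; exact dvd_mul_of_dvd_right hdvd _
      rcases hp.dvd_mul.mp h1 with h2 | h2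
      · exact hcop h2
      · have h3 : dβ ∣ Nat.card D := Cfsg.Agent.Lib.Helper7.irr_degree_dvd_card β.2 dβ hdβ
        have h4 : Nat.card D ∣ Nat.card H := Subgroup.card_dvd_of_injective j hj
        exact hcop (h2.trans (h3.trans h4))
    -- the orbit sum
    have hPT : IsPGroup p T := IsPGroup.of_card (n := 1) (by rw [hT, pow_one])
    have hfinv : ∀ (t : T) (χ : IrrCharacter H), deg (t • χ) * mult (t • χ) = deg χ * mult χ := by
      intro t χ
      have h1 : deg (t • χ) = deg χ := by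
        have : ((deg (t • χ) : ℕ) : ℂ) = (deg χ : ℂ) := by
          rw [← hdeg', ← hdeg', hsmul, map_one]
        exact_mod_cast this
      have h2 : mult (t • χ) = mult χ := by
        have : ((mult (t • χ) : ℕ) : ℂ) = (mult χ : ℂ) := by
          rw [← hmult', ← hmult']
          congr 1
          funext d
          rw [hsmul, hjfix]
        exact_mod_cast this
      rw [h1, h2]
    have horb := Cfsg.Agent.Lib.Helper7.GlaubArith.sum_modEq_sum_fixed hPT
      (fun χ : IrrCharacter H => deg χ * mult χ) hfinv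
      (Finset.univ.filter fun χ : IrrCharacter H => ∀ t : T, t • χ = χ)
      (fun χ => by simp)
    have hpfix : ¬ p ∣ ∑ χ ∈ Finset.univ.filter (fun χ : IrrCharacter H => ∀ t : T, t • χ = χ),
        deg χ * mult χ := by
      intro hdvd
      apply hpsum
      exact (Nat.modEq_zero_iff_dvd.mp (horb.trans (Nat.modEq_zero_iff_dvd.mpr hdvd)))
    have hex : ∃ χ ∈ Finset.univ.filter (fun χ : IrrCharacter H => ∀ t : T, t • χ = χ),
        ¬ p ∣ deg χ * mult χ := by
      by_contra hcon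
      push Not at hcon
      exact hpfix (Finset.dvd_sum hcon)
    obtain ⟨χ, hχfix, hχp⟩ := hex
    have hχfix' : ∀ t : T, t • χ = χ := (Finset.mem_filter.mp hχfix).2
    refine ⟨χ, fun t h => ?_, mult χ, hmult' χ, fun hdvd => hχp (dvd_mul_of_dvd_right hdvd _)⟩
    have h1 := hsmul t⁻¹ χ h
    rw [hχfix' t⁻¹, inv_inv] at h1
    exact h1.symm

end Main

end Cfsg.Agent.Lib.Helper7.GlaubPrime
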