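import Mathlib
import Cfsg.Prelude.Def_Characters
import Cfsg.Agent.Lib.Helper7.GlaubPrime

/-!
# The Glauberman correspondence for a `p`-group of operators (helper7)
-/

set_option autoImplicit false
set_option linter.style.haveILetI false

namespace Cfsg.Agent.Lib.Helper7.GlaubP

open Cfsg Cfsg.Agent.Lib.Helper26 Cfsg.Agent.Lib.Helper2
open scoped ComplexConjugate

section PrimeZeta

variable {H : Type*} [Group H] [Fintype H] {D : Type*} [Group D] [Fintype D]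

theorem zpowers_prop {A : Type*} [Group A] (a : A) (P : A → Prop) (h1 : P 1)
    (hm : ∀ x y, P x → P y → P (x * y)) (hi : ∀ x, P x → P x⁻¹) (ha : P a) :
    ∀ x ∈ Subgroup.zpowers a, P x := by
  let K : Subgroup A :=
    { carrier := {x | P x}
      mul_mem' := fun {x y} hx hy => hm x y hx hy
      one_mem' := h1
      inv_mem' := fun {x} hx => hi x hx }
  have : Subgroup.zpowers a ≤ K := (Subgroup.zpowers_le (H := K)).mpr ha
  exact fun x hx => this hx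

/-- the Glauberman correspondence for an automorphism of prime order -/
theorem prime_case (j : D →* H) (hj : Function.Injective j) (ζ : MulAut H) {p : ℕ}
    (hp : p.Prime) (hζ : orderOf ζ = p) (hcop : ¬ p ∣ Nat.card H)
    (hfix : ∀ h : H, ζ h = h ↔ h ∈ Set.range j) :
    (∀ χ : IrrCharacter H, (∀ h : H, (χ : H → ℂ) (ζ h) = (χ : H → ℂ) h) →
      ∃ β₀ : IrrCharacter D,
        (∃ m : ℕ, classInner (fun d : D => (χ : H → ℂ) (j d)) (β₀ : D → ℂ) = m ∧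
          ((m : ℤ) ≡ 1 [ZMOD p] ∨ (m : ℤ) ≡ -1 [ZMOD p])) ∧
        ∀ β : IrrCharacter D, β ≠ β₀ →
          ∃ m : ℕ, classInner (fun d : D => (χ : H → ℂ) (j d)) (β : D → ℂ) = m ∧ p ∣ m) ∧
    (∀ χ χ' : IrrCharacter H, (∀ h : H, (χ : H → ℂ) (ζ h) = (χ : H → ℂ) h) →
      (∀ h : H, (χ' : H → ℂ) (ζ h) = (χ' : H → ℂ) h) →
      ∀ (β : IrrCharacter D) (m m' : ℕ),
        classInner (fun d : D => (χ : H → ℂ) (j d)) (β : D → ℂ) = m → ¬ p ∣ m →
        classInner (fun d : D => (χ' : H → ℂ) (j d)) (β : D → ℂ) = m' → ¬ p ∣ m' → χ = χ') ∧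
    (∀ β : IrrCharacter D, ∃ χ : IrrCharacter H,
      (∀ h : H, (χ : H → ℂ) (ζ h) = (χ : H → ℂ) h) ∧
      ∃ m : ℕ, classInner (fun d : D => (χ : H → ℂ) (j d)) (β : D → ℂ) = m ∧ ¬ p ∣ m) := by
  classical
  haveI : Fact p.Prime := ⟨hp⟩
  set T : Subgroup (MulAut H) := Subgroup.zpowers ζ with hTdef
  have hTcard : Nat.card T = p := by rw [hTdef, Nat.card_zpowers, hζ]
  haveI : Finite T := Nat.finite_of_card_ne_zero (by rw [hTcard]; exact hp.ne_zero)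
  haveI : Fintype T := Fintype.ofFinite T
  have hinv_iff : ∀ χ : H → ℂ, (∀ h : H, χ (ζ h) = χ h) →
      ∀ (t : T) (h : H), χ (T.subtype t h) = χ h := by
    intro χ hχ t
    refine zpowers_prop ζ (fun f => ∀ h : H, χ (f h) = χ h) (fun h => rfl) ?_ ?_ hχ t.1 t.2
    · intro x y hx hy h
      rw [MulAut.mul_apply, hx, hy]
    · intro x hx h
      rw [← hx (x⁻¹ h), MulAut.apply_inv_self]
  have hinv_iff' : ∀ χ : H → ℂ, (∀ (t : T) (h : H), χ (T.subtype t h) = χ h) →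
      ∀ h : H, χ (ζ h) = χ h := by
    intro χ hχ h
    exact hχ ⟨ζ, Subgroup.mem_zpowers ζ⟩ h
  have hjfix : ∀ (s : T) (d : D), T.subtype s (j d) = j d := by
    intro s d
    refine zpowers_prop ζ (fun f => f (j d) = j d) rfl ?_ ?_ ((hfix (j d)).mpr ⟨d, rfl⟩) s.1 s.2
    · intro x y hx hy
      rw [MulAut.mul_apply, hy, hx]
    · intro x hx
      rw [← hx, MulAut.inv_apply_self, hx]
  have hfixT : ∀ (t : T) (h : H), t ≠ 1 → T.subtype t h = h → h ∈ Set.range j := by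
    intro t h ht hth
    have htop : Subgroup.zpowers t = ⊤ := zpowers_eq_top_of_prime_card hTcard ht
    have hmem : (⟨ζ, Subgroup.mem_zpowers ζ⟩ : T) ∈ Subgroup.zpowers t := by
      rw [htop]; exact Subgroup.mem_top _
    have := zpowers_prop t (fun f : T => (f : MulAut H) h = h) rfl ?_ ?_ hth _ hmem
    · exact (hfix h).mp this
    · intro x y hx hy
      show ((x * y : T) : MulAut H) h = h
      rw [Subgroup.coe_mul, MulAut.mul_apply, hy, hx]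
    · intro x hx
      show ((x⁻¹ : T) : MulAut H) h = h
      rw [Subgroup.coe_inv]
      have hx' : (x : MulAut H) h = h := hx
      rw [← hx', MulAut.inv_apply_self, hx']
  obtain ⟨hA, hB, hC⟩ := Cfsg.Agent.Lib.Helper7.GlaubPrime.prime_case_T T.subtype j hjfix hp
    hTcard hcop hj hfixT
  refine ⟨fun χ hχ => hA χ (hinv_iff _ hχ), fun χ χ' hχ hχ' => hB χ χ' (hinv_iff _ hχ)
    (hinv_iff _ hχ'), fun β => ?_⟩
  obtain ⟨χ, hχ, hm⟩ := hC β
  exact ⟨χ, hinv_iff' _ hχ, hm⟩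

end PrimeZeta

section Tools

variable {H : Type*} [Group H] {D : Type*} [Group D] [Fintype D] {C : Type*} [Group C] [Fintype C]

theorem classInner_equiv (e : D ≃ D) (f g : D → ℂ) :
    classInner (fun d => f (e d)) (fun d => g (e d)) = classInner f g := by
  unfold classInner
  congr 1
  exact Fintype.sum_equiv e _ _ fun d => rfl

theorem classInner_comp_trans (j : D →* H) (i : C →* D) (χ : H → ℂ) (hχ : IsCharacter H χ)
    (γ : C → ℂ) [Fintype (IrrCharacter D)] :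
    classInner (fun c : C => χ (j (i c))) γ = ∑ δ : IrrCharacter D,
      classInner (fun d : D => χ (j d)) (δ : D → ℂ) *
        classInner (fun c : C => (δ : D → ℂ) (i c)) γ := by
  have hχD : IsCharacter D (fun d : D => χ (j d)) := isCharacter_comp_hom hχ j
  have hexp := Cfsg.Agent.Lib.Helper4.classFunction_expansion (fun d : D => χ (j d))
    (isClassFunction_of_isCharacter hχD)
  have h1 : (fun c : C => χ (j (i c))) = ∑ δ : IrrCharacter D,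
      classInner (fun d : D => χ (j d)) (δ : D → ℂ) • (fun c : C => (δ : D → ℂ) (i c)) := by
    funext c
    have := congrFun hexp (i c)
    simp only [Finset.sum_apply, Pi.smul_apply] at this ⊢
    exact this
  conv_lhs => rw [h1]
  rw [classInner_sum_left]
  refine Finset.sum_congr rfl fun δ _ => ?_
  rw [classInner_smul_left]

/-- multiplicities compose modulo `p` along a chain of restrictions -/
theorem mult_comp {p : ℕ} (j : D →* H) (i : C →* D) (χ : H → ℂ) (hχ : IsCharacter H χ)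
    (β₁ : IrrCharacter D) (m₁ : ℕ)
    (hm₁ : classInner (fun d : D => χ (j d)) (β₁ : D → ℂ) = m₁)
    (hoth : ∀ δ : IrrCharacter D, δ ≠ β₁ →
      ∃ m : ℕ, classInner (fun d : D => χ (j d)) (δ : D → ℂ) = m ∧ p ∣ m)
    (γ : IrrCharacter C) (m₂ : ℕ)
    (hm₂ : classInner (fun c : C => (β₁ : D → ℂ) (i c)) (γ : C → ℂ) = m₂) :
    ∃ m : ℕ, classInner (fun c : C => χ (j (i c))) (γ : C → ℂ) = m ∧
      (m : ℤ) ≡ (m₁ : ℤ) * (m₂ : ℤ) [ZMOD p] := by
  classical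
  haveI : Fintype (IrrCharacter D) := Fintype.ofFinite _
  have hn : ∀ δ : IrrCharacter D, ∃ n : ℕ,
      classInner (fun d : D => χ (j d)) (δ : D → ℂ) = n := fun δ =>
    classInner_isCharacter_nat (isCharacter_comp_hom hχ j) (isCharacter_of_isIrrCharacter δ.2)
  have hk : ∀ δ : IrrCharacter D, ∃ k : ℕ,
      classInner (fun c : C => (δ : D → ℂ) (i c)) (γ : C → ℂ) = k := fun δ =>
    classInner_isCharacter_nat (isCharacter_comp_hom (isCharacter_of_isIrrCharacter δ.2) i)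
      (isCharacter_of_isIrrCharacter γ.2)
  choose n hn' using hn
  choose k hk' using hk
  refine ⟨∑ δ : IrrCharacter D, n δ * k δ, ?_, ?_⟩
  · rw [classInner_comp_trans j i χ hχ]
    push_cast
    refine Finset.sum_congr rfl fun δ _ => ?_
    rw [hn', hk']
  · have h1 : n β₁ = m₁ := by
      have := hn' β₁
      rw [hm₁] at this
      exact_mod_cast this.symm
    have h2 : k β₁ = m₂ := by
      have := hk' β₁
      rw [hm₂] at this
      exact_mod_cast this.symm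
    have h3 : ∀ δ : IrrCharacter D, δ ≠ β₁ → (p : ℤ) ∣ (n δ : ℤ) * (k δ : ℤ) := by
      intro δ hδ
      obtain ⟨m, hm, hpm⟩ := hoth δ hδ
      have : n δ = m := by
        have h4 := hn' δ
        rw [hm] at h4
        exact_mod_cast h4.symm
      rw [this]
      exact dvd_mul_of_dvd_left (Int.natCast_dvd_natCast.mpr hpm) _
    push_cast
    rw [← Finset.add_sum_erase Finset.univ _ (Finset.mem_univ β₁), h1, h2]
    have h5 : (p : ℤ) ∣ ∑ δ ∈ Finset.univ.erase β₁, (n δ : ℤ) * (k δ : ℤ) :=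
      Finset.dvd_sum fun δ hδ => h3 δ (Finset.ne_of_mem_erase hδ)
    exact Int.modEq_iff_dvd.mpr (by
      have : (m₁ : ℤ) * (m₂ : ℤ) - ((m₁ : ℤ) * (m₂ : ℤ) +
          ∑ δ ∈ Finset.univ.erase β₁, (n δ : ℤ) * (k δ : ℤ)) =
          -(∑ δ ∈ Finset.univ.erase β₁, (n δ : ℤ) * (k δ : ℤ)) := by ring
      rw [this]
      exact (dvd_neg).mpr h5)

end Tools

section Internal

variable {Γ : Type*} [Group Γ]

/-- conjugation by `s` on a subgroup it normalises -/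
def cj (K : Subgroup Γ) (s : Γ) (hs : ∀ g, g ∈ K ↔ s * g * s⁻¹ ∈ K) : ↥K ≃* ↥K where
  toFun g := ⟨s * g * s⁻¹, (hs g).mp g.2⟩
  invFun g := ⟨s⁻¹ * g * s, (hs _).mpr (by
    have : s * (s⁻¹ * (g : Γ) * s) * s⁻¹ = g := by group
    rw [this]; exact g.2)⟩
  left_inv g := Subtype.ext (by
    show s⁻¹ * (s * (g : Γ) * s⁻¹) * s = g
    group)
  right_inv g := Subtype.ext (by
    show s * (s⁻¹ * (g : Γ) * s) * s⁻¹ = g
    group)
  map_mul' g h := Subtype.ext (by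
    show s * ((g : Γ) * h) * s⁻¹ = (s * g * s⁻¹) * (s * h * s⁻¹)
    group)

/-- invariance of a function on `G` under conjugation by `S`, as in the statements -/
def SInv (G S : Subgroup Γ) (χ : G → ℂ) : Prop :=
  ∀ s ∈ S, ∀ g g' : G, (g' : Γ) = s * g * s⁻¹ → χ g' = χ g

theorem norm_iff (G S : Subgroup Γ) (hnorm : ∀ s ∈ S, ∀ g ∈ G, s * g * s⁻¹ ∈ G) :
    ∀ s ∈ S, ∀ g, g ∈ G ↔ s * g * s⁻¹ ∈ G := by
  intro s hs g
  refine ⟨hnorm s hs g, fun h => ?_⟩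
  have := hnorm s⁻¹ (S.inv_mem hs) _ h
  have h2 : s⁻¹ * (s * g * s⁻¹) * s⁻¹⁻¹ = g := by group
  rwa [h2] at this

/-- the conjugation action of `S` on `G` as a homomorphism -/
def kap (G S : Subgroup Γ) (hn : ∀ s ∈ S, ∀ g, g ∈ G ↔ s * g * s⁻¹ ∈ G) : ↥S →* MulAut ↥G where
  toFun s := cj G s (hn s s.2)
  map_one' := by
    apply MulEquiv.ext
    intro g
    apply Subtype.ext
    show (1 : Γ) * g * (1 : Γ)⁻¹ = g
    group
  map_mul' s t := by
    apply MulEquiv.ext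
    intro g
    apply Subtype.ext
    show ((s : Γ) * t) * g * ((s : Γ) * t)⁻¹ = s * (t * g * (t : Γ)⁻¹) * (s : Γ)⁻¹
    group

/-- the statement of the Glauberman correspondence for `G`, `S`, `C` -/
def GCProp (p : ℕ) (G S C : Subgroup Γ) [Fintype G] [Fintype C] (hCG : C ≤ G) : Prop :=
  (∀ χ : IrrCharacter G, SInv G S (χ : G → ℂ) → ∃ β₀ : IrrCharacter C,
    (∃ m : ℕ, classInner (fun c : C => (χ : G → ℂ) ⟨c, hCG c.2⟩) (β₀ : C → ℂ) = m ∧
      ((m : ℤ) ≡ 1 [ZMOD p] ∨ (m : ℤ) ≡ -1 [ZMOD p])) ∧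
    ∀ β : IrrCharacter C, β ≠ β₀ →
      ∃ m : ℕ, classInner (fun c : C => (χ : G → ℂ) ⟨c, hCG c.2⟩) (β : C → ℂ) = m ∧ p ∣ m) ∧
  (∀ χ χ' : IrrCharacter G, SInv G S (χ : G → ℂ) → SInv G S (χ' : G → ℂ) →
    ∀ (β : IrrCharacter C) (m m' : ℕ),
      classInner (fun c : C => (χ : G → ℂ) ⟨c, hCG c.2⟩) (β : C → ℂ) = m → ¬ p ∣ m →
      classInner (fun c : C => (χ' : G → ℂ) ⟨c, hCG c.2⟩) (β : C → ℂ) = m' → ¬ p ∣ m' →
      χ = χ') ∧
  (∀ β : IrrCharacter C, ∃ χ : IrrCharacter G, SInv G S (χ : G → ℂ) ∧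
    ∃ m : ℕ, classInner (fun c : C => (χ : G → ℂ) ⟨c, hCG c.2⟩) (β : C → ℂ) = m ∧ ¬ p ∣ m)

theorem not_dvd_of_pm_one {p : ℕ} (hp : p.Prime) (m : ℕ)
    (h : (m : ℤ) ≡ 1 [ZMOD p] ∨ (m : ℤ) ≡ -1 [ZMOD p]) : ¬ p ∣ m := by
  intro hdvd
  have h0 : (m : ℤ) ≡ 0 [ZMOD p] :=
    (Int.modEq_zero_iff_dvd).mpr (Int.natCast_dvd_natCast.mpr hdvd)
  have h1 : (p : ℤ) ∣ 1 := by
    rcases h with h | h
    · exact (Int.modEq_zero_iff_dvd).mp (h.symm.trans h0)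
    · have := (Int.modEq_zero_iff_dvd).mp (h.symm.trans h0)
      exact (dvd_neg).mp this
  have h2 : p ∣ 1 := by exact_mod_cast h1
  exact hp.one_lt.ne' (Nat.dvd_one.mp h2)

theorem gc_trivial {p : ℕ} (hp : p.Prime) (G S C : Subgroup Γ) [iG : Fintype G] [iC : Fintype C]
    (hCG : C ≤ G)
    (hA : ∀ s ∈ S, ∀ g ∈ G, s * g * s⁻¹ = g)
    (hC : ∀ g ∈ G, g ∈ C ↔ ∀ s ∈ S, s * g * s⁻¹ = g) : GCProp p G S C hCG := by
  have hCeq : C = G := le_antisymm hCG fun g hg => (hC g hg).mpr fun s hs => hA s hs g hg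
  subst hCeq
  have hi : iG = iC := Subsingleton.elim _ _
  subst hi
  refine ⟨?_, ?_, ?_⟩
  · intro χ _
    refine ⟨χ, ⟨1, ?_, Or.inl (by simp)⟩, fun β hβ => ⟨0, ?_, dvd_zero _⟩⟩
    · have := classInner_irr χ.2 χ.2
      rw [if_pos rfl] at this
      simpa using this
    · have := classInner_irr χ.2 β.2
      rw [if_neg (fun h => hβ (Subtype.ext h).symm)] at this
      simpa using this
  · intro χ χ' _ _ β m m' hm hpm hm' hpm'
    have h1 : χ = β := by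
      by_contra hne
      have := classInner_irr χ.2 β.2
      rw [if_neg (fun h => hne (Subtype.ext h))] at this
      have h2 : (m : ℂ) = 0 := by rw [← hm]; exact this
      have h3 : m = 0 := by exact_mod_cast h2
      exact hpm (h3 ▸ dvd_zero _)
    have h2 : χ' = β := by
      by_contra hne
      have := classInner_irr χ'.2 β.2
      rw [if_neg (fun h => hne (Subtype.ext h))] at this
      have h2 : (m' : ℂ) = 0 := by rw [← hm']; exact this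
      have h3 : m' = 0 := by exact_mod_cast h2
      exact hpm' (h3 ▸ dvd_zero _)
    rw [h1, h2]
  · intro β
    refine ⟨β, ?_, 1, ?_, ?_⟩
    · intro s hs g g' hgg'
      have : g' = g := Subtype.ext (by rw [hgg', hA s hs g g.2])
      rw [this]
    · have := classInner_irr β.2 β.2
      rw [if_pos rfl] at this
      simpa using this
    · intro h
      exact hp.one_lt.ne' (Nat.dvd_one.mp h)

theorem gc_step [Finite Γ] {p : ℕ} (hp : p.Prime) (S : Subgroup Γ) (n : ℕ)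
    (ih : ∀ (G C : Subgroup Γ) [Fintype G] [Fintype C] (hCG : C ≤ G), Nat.card G ≤ n →
      (∀ s ∈ S, ∀ g ∈ G, s * g * s⁻¹ ∈ G) → ¬ p ∣ Nat.card G →
      (∀ s ∈ S, ∃ k : ℕ, s ^ p ^ k ∈ Subgroup.centralizer (G : Set Γ)) →
      (∀ g ∈ G, g ∈ C ↔ ∀ s ∈ S, s * g * s⁻¹ = g) → GCProp p G S C hCG)
    (G C : Subgroup Γ) [Fintype G] [Fintype C] (hCG : C ≤ G) (hcard : Nat.card G ≤ n + 1)
    (hnorm : ∀ s ∈ S, ∀ g ∈ G, s * g * s⁻¹ ∈ G) (hcop : ¬ p ∣ Nat.card G)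
    (hpk : ∀ s ∈ S, ∃ k : ℕ, s ^ p ^ k ∈ Subgroup.centralizer (G : Set Γ))
    (hC : ∀ g ∈ G, g ∈ C ↔ ∀ s ∈ S, s * g * s⁻¹ = g)
    (hB : ∃ s ∈ S, ∃ g ∈ G, s * g * s⁻¹ ≠ g) : GCProp p G S C hCG := by
  classical
  haveI : Fact p.Prime := ⟨hp⟩
  have hn := norm_iff G S hnorm
  set κ := kap G S hn with hκ
  have hκ_apply : ∀ (s : S) (g : G), ((κ s g : G) : Γ) = s * g * (s : Γ)⁻¹ := fun s g => rfl
  set 𝒜 : Subgroup (MulAut G) := κ.range with h𝒜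
  have hP : IsPGroup p 𝒜 := by
    rintro ⟨a, s, rfl⟩
    obtain ⟨k, hk⟩ := hpk s s.2
    refine ⟨k, ?_⟩
    apply Subtype.ext
    show (κ s) ^ p ^ k = 1
    rw [← map_pow]
    apply MulEquiv.ext
    intro g
    apply Subtype.ext
    show ((s ^ p ^ k : S) : Γ) * g * ((s ^ p ^ k : S) : Γ)⁻¹ = g
    have h1 := Subgroup.mem_centralizer_iff.mp hk g g.2
    rw [Subgroup.coe_pow, ← h1, mul_inv_cancel_right]
  haveI : Nontrivial 𝒜 := by
    obtain ⟨s, hs, g, hg, hne⟩ := hB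
    refine nontrivial_of_ne (⟨κ ⟨s, hs⟩, ⟨s, hs⟩, rfl⟩ : 𝒜) 1 ?_
    intro h
    apply hne
    have h1 : κ ⟨s, hs⟩ = 1 := congrArg Subtype.val h
    have h2 := hκ_apply ⟨s, hs⟩ ⟨g, hg⟩
    rw [h1] at h2
    exact h2.symm
  haveI : Finite (MulAut G) := Finite.of_injective (fun f : MulAut G => (f : G → G))
    DFunLike.coe_injective
  haveI := hP.center_nontrivial
  have hPc : IsPGroup p (Subgroup.center 𝒜) := hP.to_subgroup _
  obtain ⟨k, hk0, hk⟩ := hPc.nontrivial_iff_card.mp inferInstance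
  have hdvd : p ∣ Nat.card (Subgroup.center 𝒜) := by rw [hk]; exact dvd_pow_self p hk0.ne'
  obtain ⟨c, hc⟩ := exists_prime_orderOf_dvd_card' p hdvd
  set ζ : MulAut G := ((c : 𝒜) : MulAut G) with hζdef
  have hζord : orderOf ζ = p := by
    rw [← hc, hζdef, Subgroup.orderOf_coe, Subgroup.orderOf_coe]
  obtain ⟨z, hz⟩ : ∃ z : S, κ z = ζ := (c : 𝒜).2
  have hcomm : ∀ s : S, κ s * ζ = ζ * κ s := by
    intro s
    have := Subgroup.mem_center_iff.mp c.2 ⟨κ s, s, rfl⟩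
    exact congrArg Subtype.val this
  set D : Subgroup Γ := G ⊓ Subgroup.centralizer {(z : Γ)} with hD
  have hDG : D ≤ G := inf_le_left
  have hDmem : ∀ g : G, (g : Γ) ∈ D ↔ ζ g = g := by
    intro g
    rw [hD, Subgroup.mem_inf, Subgroup.mem_centralizer_iff]
    constructor
    · rintro ⟨-, h⟩
      have h1 := h z (Set.mem_singleton _)
      apply Subtype.ext
      rw [← hz, hκ_apply, h1, mul_inv_cancel_right]
    · intro h
      refine ⟨g.2, fun y hy => ?_⟩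
      rw [Set.mem_singleton_iff.mp hy]
      have h1 : (z : Γ) * g * (z : Γ)⁻¹ = g := by rw [← hκ_apply, hz, h]
      calc (z : Γ) * g = ((z : Γ) * g * (z : Γ)⁻¹) * z := by group
        _ = g * z := by rw [h1]
  have hζ1 : ζ ≠ 1 := by
    intro h
    rw [h, orderOf_one] at hζord
    exact hp.one_lt.ne hζord
  obtain ⟨g₀, hg₀⟩ : ∃ g, ζ g ≠ g := by
    by_contra hcon
    push Not at hcon
    exact hζ1 (MulEquiv.ext hcon)
  have hDlt : Nat.card D < Nat.card G := by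
    have hle : Nat.card D ≤ Nat.card G := Subgroup.card_le_of_le hDG
    rcases lt_or_eq_of_le hle with h | h
    · exact h
    · exfalso
      have := Subgroup.eq_of_le_of_card_ge hDG (le_of_eq h.symm)
      apply hg₀
      apply (hDmem g₀).mp
      rw [this]
      exact g₀.2
  haveI : Fintype D := Fintype.ofFinite D
  have hnormD : ∀ s ∈ S, ∀ d ∈ D, s * d * s⁻¹ ∈ D := by
    intro s hs d hd
    have h1 : ζ ⟨d, hDG hd⟩ = ⟨d, hDG hd⟩ := (hDmem ⟨d, hDG hd⟩).mp hd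
    have h2 : ζ (κ ⟨s, hs⟩ ⟨d, hDG hd⟩) = κ ⟨s, hs⟩ ⟨d, hDG hd⟩ := by
      rw [← MulAut.mul_apply, ← hcomm, MulAut.mul_apply, h1]
    exact (hDmem (κ ⟨s, hs⟩ ⟨d, hDG hd⟩)).mpr h2
  have hcopD : ¬ p ∣ Nat.card D := fun h => hcop (h.trans (Subgroup.card_dvd_of_le hDG))
  have hpkD : ∀ s ∈ S, ∃ k : ℕ, s ^ p ^ k ∈ Subgroup.centralizer (D : Set Γ) := by
    intro s hs
    obtain ⟨k, hk⟩ := hpk s hs
    exact ⟨k, Subgroup.centralizer_le (by exact_mod_cast hDG) hk⟩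
  have hCD : C ≤ D := by
    intro c hc
    have hcG := hCG hc
    have h1 := (hC c hcG).mp hc z z.2
    have h2 : ζ ⟨c, hcG⟩ = ⟨c, hcG⟩ := by
      apply Subtype.ext
      rw [← hz, hκ_apply]
      exact h1
    exact (hDmem ⟨c, hcG⟩).mpr h2
  have hCD' : ∀ d ∈ D, d ∈ C ↔ ∀ s ∈ S, s * d * s⁻¹ = d := fun d hd => hC d (hDG hd)
  obtain ⟨ihA, ihB, ihC⟩ := ih D C hCD (by omega) hnormD hcopD hpkD hCD'
  have hfixj : ∀ g : G, ζ g = g ↔ g ∈ Set.range (Subgroup.inclusion hDG) := by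
    intro g
    rw [← hDmem]
    constructor
    · intro h
      exact ⟨⟨g, h⟩, rfl⟩
    · rintro ⟨d, rfl⟩
      exact d.2
  obtain ⟨pA, pB, pC⟩ := prime_case (Subgroup.inclusion hDG) (Subgroup.inclusion_injective hDG) ζ
    hp hζord hcop hfixj
  have hζinv : ∀ χ : G → ℂ, SInv G S χ → ∀ g : G, χ (ζ g) = χ g := by
    intro χ h g
    refine h z z.2 g (ζ g) ?_
    rw [← hz]
    rfl
  have hnD := norm_iff D S hnormD
  -- the first correspondent of an invariant character is invariant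
  have hβinv : ∀ (χ : IrrCharacter G), SInv G S (χ : G → ℂ) → ∀ (β₁ : IrrCharacter D) (m₁ : ℕ),
      classInner (fun d : D => (χ : G → ℂ) (Subgroup.inclusion hDG d)) (β₁ : D → ℂ) = m₁ →
      ¬ p ∣ m₁ →
      (∀ δ : IrrCharacter D, δ ≠ β₁ → ∃ m : ℕ,
        classInner (fun d : D => (χ : G → ℂ) (Subgroup.inclusion hDG d)) (δ : D → ℂ) = m ∧ p ∣ m) →
      SInv D S (β₁ : D → ℂ) := by
    intro χ hχ β₁ m₁ hm₁ hpm₁ hoth s hs
    set e := cj D s (hnD s hs) with he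
    set β' : IrrCharacter D := ⟨fun d => (β₁ : D → ℂ) (e d),
      isIrrCharacter_comp_mulEquiv β₁.2 e⟩ with hβ'
    have h1 : classInner (fun d : D => (χ : G → ℂ) (Subgroup.inclusion hDG d)) (β' : D → ℂ) =
        m₁ := by
      rw [← hm₁, ← classInner_equiv e.toEquiv
        (fun d : D => (χ : G → ℂ) (Subgroup.inclusion hDG d)) (β₁ : D → ℂ)]
      congr 1
      funext d
      exact (hχ s hs (Subgroup.inclusion hDG d) (Subgroup.inclusion hDG (e d)) rfl).symm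
    have h2 : β' = β₁ := by
      by_contra hne
      obtain ⟨m, hm, hpm⟩ := hoth β' hne
      rw [h1] at hm
      have : m₁ = m := by exact_mod_cast hm
      exact hpm₁ (this ▸ hpm)
    intro d d' hdd'
    have h3 : d' = e d := Subtype.ext hdd'
    rw [h3]
    exact congrFun (congrArg Subtype.val h2) d
  -- the full data of an invariant character
  have hdata : ∀ (χ : IrrCharacter G), SInv G S (χ : G → ℂ) →
      ∃ (β₁ : IrrCharacter D) (m₁ : ℕ) (γ₀ : IrrCharacter C) (m₂ : ℕ),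
        SInv D S (β₁ : D → ℂ) ∧
        classInner (fun d : D => (χ : G → ℂ) (Subgroup.inclusion hDG d)) (β₁ : D → ℂ) = m₁ ∧
        ((m₁ : ℤ) ≡ 1 [ZMOD p] ∨ (m₁ : ℤ) ≡ -1 [ZMOD p]) ∧
        (∀ δ : IrrCharacter D, δ ≠ β₁ → ∃ m : ℕ,
          classInner (fun d : D => (χ : G → ℂ) (Subgroup.inclusion hDG d)) (δ : D → ℂ) = m ∧
            p ∣ m) ∧
        classInner (fun c : C => (β₁ : D → ℂ) ⟨c, hCD c.2⟩) (γ₀ : C → ℂ) = m₂ ∧
        ((m₂ : ℤ) ≡ 1 [ZMOD p] ∨ (m₂ : ℤ) ≡ -1 [ZMOD p]) ∧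
        (∀ γ : IrrCharacter C, γ ≠ γ₀ → ∃ m : ℕ,
          classInner (fun c : C => (β₁ : D → ℂ) ⟨c, hCD c.2⟩) (γ : C → ℂ) = m ∧ p ∣ m) := by
    intro χ hχ
    obtain ⟨β₁, ⟨m₁, hm₁, hm₁'⟩, hoth⟩ := pA χ (hζinv _ hχ)
    have hβ₁inv := hβinv χ hχ β₁ m₁ hm₁ (not_dvd_of_pm_one hp m₁ hm₁') hoth
    obtain ⟨γ₀, ⟨m₂, hm₂, hm₂'⟩, hoth₂⟩ := ihA β₁ hβ₁inv
    exact ⟨β₁, m₁, γ₀, m₂, hβ₁inv, hm₁, hm₁', hoth, hm₂, hm₂', hoth₂⟩
  -- multiplicities in `C`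
  have hmult : ∀ (χ : IrrCharacter G) (β₁ : IrrCharacter D) (m₁ : ℕ),
      classInner (fun d : D => (χ : G → ℂ) (Subgroup.inclusion hDG d)) (β₁ : D → ℂ) = m₁ →
      (∀ δ : IrrCharacter D, δ ≠ β₁ → ∃ m : ℕ,
        classInner (fun d : D => (χ : G → ℂ) (Subgroup.inclusion hDG d)) (δ : D → ℂ) = m ∧
          p ∣ m) →
      ∀ (γ : IrrCharacter C) (m₂ : ℕ),
        classInner (fun c : C => (β₁ : D → ℂ) ⟨c, hCD c.2⟩) (γ : C → ℂ) = m₂ →
        ∃ m : ℕ, classInner (fun c : C => (χ : G → ℂ) ⟨c, hCG c.2⟩) (γ : C → ℂ) = m ∧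
          (m : ℤ) ≡ (m₁ : ℤ) * (m₂ : ℤ) [ZMOD p] := by
    intro χ β₁ m₁ hm₁ hoth γ m₂ hm₂
    exact mult_comp (Subgroup.inclusion hDG) (Subgroup.inclusion hCD) (χ : G → ℂ)
      (isCharacter_of_isIrrCharacter χ.2) β₁ m₁ hm₁ hoth γ m₂ hm₂
  have hpm_mul : ∀ a b : ℕ, ((a : ℤ) ≡ 1 [ZMOD p] ∨ (a : ℤ) ≡ -1 [ZMOD p]) →
      ((b : ℤ) ≡ 1 [ZMOD p] ∨ (b : ℤ) ≡ -1 [ZMOD p]) →
      ∀ m : ℕ, (m : ℤ) ≡ (a : ℤ) * (b : ℤ) [ZMOD p] →
      ((m : ℤ) ≡ 1 [ZMOD p] ∨ (m : ℤ) ≡ -1 [ZMOD p]) := by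
    intro a b ha hb m hm
    rcases ha with ha | ha <;> rcases hb with hb | hb
    · left; simpa using hm.trans (ha.mul hb)
    · right; simpa using hm.trans (ha.mul hb)
    · right; simpa using hm.trans (ha.mul hb)
    · left; simpa using hm.trans (ha.mul hb)
  have hdvd_of : ∀ (a b m : ℕ), p ∣ b → (m : ℤ) ≡ (a : ℤ) * (b : ℤ) [ZMOD p] → p ∣ m := by
    intro a b m hb hm
    have h1 : (p : ℤ) ∣ (a : ℤ) * (b : ℤ) :=
      dvd_mul_of_dvd_right (Int.natCast_dvd_natCast.mpr hb) _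
    have h2 : (m : ℤ) ≡ 0 [ZMOD p] := hm.trans ((Int.modEq_zero_iff_dvd).mpr h1)
    exact Int.natCast_dvd_natCast.mp ((Int.modEq_zero_iff_dvd).mp h2)
  have hndvd_of : ∀ (a b m : ℕ), ¬ p ∣ a → ¬ p ∣ b → (m : ℤ) ≡ (a : ℤ) * (b : ℤ) [ZMOD p] →
      ¬ p ∣ m := by
    intro a b m ha hb hm hdvd
    have h1 : (m : ℤ) ≡ 0 [ZMOD p] :=
      (Int.modEq_zero_iff_dvd).mpr (Int.natCast_dvd_natCast.mpr hdvd)
    have h2 : (p : ℤ) ∣ (a : ℤ) * (b : ℤ) := (Int.modEq_zero_iff_dvd).mp (hm.symm.trans h1)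
    have h3 : p ∣ a * b := by exact_mod_cast h2
    rcases hp.dvd_mul.mp h3 with h | h
    · exact ha h
    · exact hb h
  refine ⟨?_, ?_, ?_⟩
  · -- (A)
    intro χ hχ
    obtain ⟨β₁, m₁, γ₀, m₂, hβ₁inv, hm₁, hm₁', hoth, hm₂, hm₂', hoth₂⟩ := hdata χ hχ
    refine ⟨γ₀, ?_, fun γ hγ => ?_⟩
    · obtain ⟨m, hm, hmm⟩ := hmult χ β₁ m₁ hm₁ hoth γ₀ m₂ hm₂
      exact ⟨m, hm, hpm_mul m₁ m₂ hm₁' hm₂' m hmm⟩
    · obtain ⟨m₂', hm₂'', hpm₂'⟩ := hoth₂ γ hγ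
      obtain ⟨m, hm, hmm⟩ := hmult χ β₁ m₁ hm₁ hoth γ m₂' hm₂''
      exact ⟨m, hm, hdvd_of m₁ m₂' m hpm₂' hmm⟩
  · -- (B)
    intro χ χ' hχ hχ' γ m m' hm hpm hm' hpm'
    obtain ⟨β₁, m₁, γ₀, m₂, hβ₁inv, hm₁, hm₁', hoth, hm₂, hm₂', hoth₂⟩ := hdata χ hχ
    obtain ⟨β₃, m₃, γ₃, m₄, hβ₃inv, hm₃, hm₃', hoth₃, hm₄, hm₄', hoth₄⟩ := hdata χ' hχ'
    have hγ : γ = γ₀ := by
      by_contra hne
      obtain ⟨m₂', hm₂'', hpm₂'⟩ := hoth₂ γ hne
      obtain ⟨m₀, hm₀, hmm⟩ := hmult χ β₁ m₁ hm₁ hoth γ m₂' hm₂''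
      rw [hm] at hm₀
      have : m = m₀ := by exact_mod_cast hm₀
      exact hpm (this ▸ hdvd_of m₁ m₂' m₀ hpm₂' hmm)
    have hγ' : γ = γ₃ := by
      by_contra hne
      obtain ⟨m₂', hm₂'', hpm₂'⟩ := hoth₄ γ hne
      obtain ⟨m₀, hm₀, hmm⟩ := hmult χ' β₃ m₃ hm₃ hoth₃ γ m₂' hm₂''
      rw [hm'] at hm₀
      have : m' = m₀ := by exact_mod_cast hm₀
      exact hpm' (this ▸ hdvd_of m₃ m₂' m₀ hpm₂' hmm)
    have hββ : β₁ = β₃ := by
      refine ihB β₁ β₃ hβ₁inv hβ₃inv γ m₂ m₄ ?_ (not_dvd_of_pm_one hp m₂ hm₂') ?_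
        (not_dvd_of_pm_one hp m₄ hm₄')
      · rw [hγ]; exact hm₂
      · rw [hγ']; exact hm₄
    refine pB χ χ' (hζinv _ hχ) (hζinv _ hχ') β₁ m₁ m₃ hm₁ (not_dvd_of_pm_one hp m₁ hm₁') ?_
      (not_dvd_of_pm_one hp m₃ hm₃')
    rw [hββ]; exact hm₃
  · -- (C)
    intro γ
    obtain ⟨β, hβinv', m₂, hm₂, hpm₂⟩ := ihC γ
    obtain ⟨χ, hχζ, m₁, hm₁, hpm₁⟩ := pC β
    -- `χ` is `S`-invariant
    have hχinv : SInv G S (χ : G → ℂ) := by
      intro s hs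
      set eG := cj G s (hn s hs) with heG
      set eD := cj D s (hnD s hs) with heD
      set χ' : IrrCharacter G := ⟨fun g => (χ : G → ℂ) (eG g),
        isIrrCharacter_comp_mulEquiv χ.2 eG⟩ with hχ'
      have hχ'ζ : ∀ g : G, (χ' : G → ℂ) (ζ g) = (χ' : G → ℂ) g := by
        intro g
        show (χ : G → ℂ) (eG (ζ g)) = (χ : G → ℂ) (eG g)
        have h1 : eG (ζ g) = ζ (eG g) := by
          have h2 := hcomm ⟨s, hs⟩
          have h3 : (κ ⟨s, hs⟩ * ζ) g = (ζ * κ ⟨s, hs⟩) g := by rw [h2]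
          exact h3
        rw [h1, hχζ]
      have h1 : classInner (fun d : D => (χ' : G → ℂ) (Subgroup.inclusion hDG d)) (β : D → ℂ) =
          m₁ := by
        rw [← hm₁, ← classInner_equiv eD.toEquiv
          (fun d : D => (χ : G → ℂ) (Subgroup.inclusion hDG d)) (β : D → ℂ)]
        congr 1
        funext d
        exact (hβinv' s hs d (eD d) rfl).symm
      have h2 : χ' = χ := pB χ' χ hχ'ζ hχζ β m₁ m₁ h1 hpm₁ hm₁ hpm₁
      intro g g' hgg'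
      have h3 : g' = eG g := Subtype.ext hgg'
      rw [h3]
      exact congrFun (congrArg Subtype.val h2) g
    obtain ⟨β₁, m₅, γ₀, m₆, hβ₁inv, hm₅, hm₅', hoth, -, -, -⟩ := hdata χ hχinv
    have hββ : β = β₁ := by
      by_contra hne
      obtain ⟨m₀, hm₀, hpm₀⟩ := hoth β hne
      rw [hm₁] at hm₀
      have : m₁ = m₀ := by exact_mod_cast hm₀
      exact hpm₁ (this ▸ hpm₀)
    rw [← hββ] at hoth
    obtain ⟨m, hm, hmm⟩ := hmult χ β m₁ hm₁ hoth γ m₂ hm₂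
    exact ⟨χ, hχinv, m, hm, hndvd_of m₁ m₂ m hpm₁ hpm₂ hmm⟩

theorem gc_aux [Finite Γ] {p : ℕ} (hp : p.Prime) (S : Subgroup Γ) : ∀ (n : ℕ)
    (G C : Subgroup Γ) [Fintype G] [Fintype C] (hCG : C ≤ G), Nat.card G ≤ n →
      (∀ s ∈ S, ∀ g ∈ G, s * g * s⁻¹ ∈ G) → ¬ p ∣ Nat.card G →
      (∀ s ∈ S, ∃ k : ℕ, s ^ p ^ k ∈ Subgroup.centralizer (G : Set Γ)) →
      (∀ g ∈ G, g ∈ C ↔ ∀ s ∈ S, s * g * s⁻¹ = g) → GCProp p G S C hCG := by
  intro n
  induction n with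
  | zero =>
    intro G C _ _ hCG hcard
    exfalso
    have : 0 < Nat.card G := Nat.card_pos
    omega
  | succ n ih =>
    intro G C _ _ hCG hcard hnorm hcop hpk hC
    by_cases hB : ∃ s ∈ S, ∃ g ∈ G, s * g * s⁻¹ ≠ g
    · exact gc_step hp S n (fun G C _ _ hCG => ih G C hCG) G C hCG hcard hnorm hcop hpk hC hB
    · push Not at hB
      exact gc_trivial hp G S C hCG hB hC

end Internal

end Cfsg.Agent.Lib.Helper7.GlaubP
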