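import Mathlib
import Cfsg.Prelude.Def_Characters
import Cfsg.Agent.Lib.Helper7.GlaubP
import Cfsg.Agent.Lib.Helper13.Glauberman
import Cfsg.Agent.Lib.Helper13.Hall

/-!
# Counting invariant characters and classes under a coprime solvable action (helper7)
-/

set_option autoImplicit false
set_option linter.style.haveILetI false

namespace Cfsg.Agent.Lib.Helper7.GlaubCount

open Cfsg Cfsg.Agent.Lib.Helper26 Cfsg.Agent.Lib.Helper2 Cfsg.Agent.Lib.Helper7.GlaubP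
open scoped ComplexConjugate

variable {Γ : Type*} [Group Γ]

/-- the conjugation action of a group on itself -/
def cjAct : MulAction Γ Γ where
  smul g x := g * x * g⁻¹
  one_smul x := by show (1 : Γ) * x * 1⁻¹ = x; group
  mul_smul g h x := by show (g * h) * x * (g * h)⁻¹ = g * (h * x * h⁻¹) * g⁻¹; group

theorem map_mk' {A B : Type*} [Monoid A] [Monoid B] (f : A →* B) (a : A) :
    ConjClasses.map f (ConjClasses.mk a) = ConjClasses.mk (f a) := rfl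

/-- invariance of a class of `G` under `S`, as in the statement -/
def ClassInv (G S : Subgroup Γ) (K : ConjClasses G) : Prop :=
  ∀ s ∈ S, ∀ g g' : G, (g' : Γ) = s * g * s⁻¹ → ConjClasses.mk g = K → ConjClasses.mk g' = K

theorem card_classes [Finite Γ] (G S C : Subgroup Γ)
    (hnorm : ∀ s ∈ S, ∀ g ∈ G, s * g * s⁻¹ ∈ G) (hcop : (Nat.card G).Coprime (Nat.card S))
    (hsolv : Group.IsSolvable S) (hC : C = G ⊓ Subgroup.centralizer (S : Set Γ)) (hCG : C ≤ G) :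
    Nat.card (ConjClasses C) = Nat.card {K : ConjClasses G // ClassInv G S K} := by
  classical
  have hSN : S ≤ Subgroup.normalizer (G : Set Γ) := by
    intro s hs
    rw [Subgroup.mem_normalizer_iff]
    exact norm_iff G S hnorm s hs
  have hCmem : ∀ x : Γ, x ∈ C ↔ x ∈ G ∧ ∀ s ∈ S, s * x * s⁻¹ = x := by
    intro x
    rw [hC, Subgroup.mem_inf, Subgroup.mem_centralizer_iff]
    constructor
    · rintro ⟨hx, h⟩
      exact ⟨hx, fun s hs => by rw [h s hs, mul_inv_cancel_right]⟩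
    · rintro ⟨hx, h⟩
      refine ⟨hx, fun s hs => ?_⟩
      calc s * x = (s * x * s⁻¹) * s := by group
        _ = x * s := by rw [h s hs]
  -- the map on classes
  let f : ConjClasses C → {K : ConjClasses G // ClassInv G S K} := fun K =>
    ⟨ConjClasses.map (Subgroup.inclusion hCG) K, by
      obtain ⟨c, rfl⟩ := ConjClasses.mk_surjective K
      intro s hs g g' hgg' hg
      rw [map_mk'] at hg ⊢
      rw [ConjClasses.mk_eq_mk_iff_isConj, isConj_iff] at hg ⊢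
      obtain ⟨u, hu⟩ := hg
      have hus : s * u * s⁻¹ ∈ G := hnorm s hs u u.2
      refine ⟨⟨s * u * s⁻¹, hus⟩, ?_⟩
      apply Subtype.ext
      have hu' : (u : Γ) * g * (u : Γ)⁻¹ = c := congrArg Subtype.val hu
      have hc := ((hCmem c).mp c.2).2 s hs
      show (s * u * s⁻¹) * (g' : Γ) * (s * u * s⁻¹)⁻¹ = c
      rw [hgg']
      calc (s * u * s⁻¹) * (s * g * s⁻¹) * (s * u * s⁻¹)⁻¹
          = s * ((u : Γ) * g * (u : Γ)⁻¹) * s⁻¹ := by group
        _ = c := by rw [hu', hc]⟩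
  have hf : Function.Bijective f := by
    constructor
    · intro K K' hKK'
      obtain ⟨c, rfl⟩ := ConjClasses.mk_surjective K
      obtain ⟨c', rfl⟩ := ConjClasses.mk_surjective K'
      have h1 : ConjClasses.map (Subgroup.inclusion hCG) (ConjClasses.mk c) =
          ConjClasses.map (Subgroup.inclusion hCG) (ConjClasses.mk c') :=
        congrArg Subtype.val hKK'
      rw [map_mk', map_mk', ConjClasses.mk_eq_mk_iff_isConj,
        isConj_iff] at h1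
      obtain ⟨u, hu⟩ := h1
      have hu' : (u : Γ) * c * (u : Γ)⁻¹ = c' := congrArg Subtype.val hu
      have hcfix := ((hCmem c).mp c.2).2
      have hcfix' := ((hCmem c').mp c'.2).2
      obtain ⟨v, hv, hvc⟩ := @Cfsg.Agent.Lib.Helper13.glauberman_conj Γ _ _ Γ cjAct S G hSN
        hcop.symm (Or.inl hsolv) (c : Γ) (c' : Γ) hcfix hcfix' ⟨u, u.2, hu'⟩
      rw [← hC] at hv
      rw [ConjClasses.mk_eq_mk_iff_isConj, isConj_iff]
      exact ⟨⟨v, hv⟩, Subtype.ext hvc⟩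
    · rintro ⟨K, hK⟩
      obtain ⟨g, rfl⟩ := ConjClasses.mk_surjective K
      set X : Set Γ := {x : Γ | ∃ h : x ∈ G, ConjClasses.mk (⟨x, h⟩ : G) = ConjClasses.mk g}
        with hX
      have hXne : X.Nonempty := ⟨g, g.2, rfl⟩
      have htrans : ∀ x ∈ X, ∀ y ∈ X, ∃ k ∈ G, k * x * k⁻¹ = y := by
        rintro x ⟨hx, hxg⟩ y ⟨hy, hyg⟩
        have h1 : ConjClasses.mk (⟨x, hx⟩ : G) = ConjClasses.mk ⟨y, hy⟩ := hxg.trans hyg.symm
        rw [ConjClasses.mk_eq_mk_iff_isConj, isConj_iff] at h1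
        obtain ⟨u, hu⟩ := h1
        exact ⟨u, u.2, congrArg Subtype.val hu⟩
      have hKX : ∀ k ∈ G, ∀ x ∈ X, k * x * k⁻¹ ∈ X := by
        rintro k hk x ⟨hx, hxg⟩
        refine ⟨G.mul_mem (G.mul_mem hk hx) (G.inv_mem hk), ?_⟩
        rw [← hxg, ConjClasses.mk_eq_mk_iff_isConj, isConj_iff]
        exact ⟨⟨k, hk⟩⁻¹, Subtype.ext (by
          show (k : Γ)⁻¹ * (k * x * k⁻¹) * (k : Γ)⁻¹⁻¹ = x
          group)⟩
      have hSX : ∀ a ∈ S, ∀ x ∈ X, a * x * a⁻¹ ∈ X := by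
        rintro a ha x ⟨hx, hxg⟩
        exact ⟨hnorm a ha x hx, hK a ha ⟨x, hx⟩ ⟨a * x * a⁻¹, hnorm a ha x hx⟩ rfl hxg⟩
      obtain ⟨x, ⟨hxG, hxg⟩, hxfix⟩ := @Cfsg.Agent.Lib.Helper13.glauberman_exists Γ _ _ Γ cjAct
        S G hSN hcop.symm (Or.inl hsolv) X hXne htrans hKX hSX
      have hxC : x ∈ C := (hCmem x).mpr ⟨hxG, hxfix⟩
      refine ⟨ConjClasses.mk ⟨x, hxC⟩, ?_⟩
      apply Subtype.ext
      show ConjClasses.map (Subgroup.inclusion hCG) (ConjClasses.mk ⟨x, hxC⟩) = ConjClasses.mk g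
      rw [map_mk']
      exact hxg
  exact Nat.card_congr (Equiv.ofBijective f hf)

section Layer

theorem mem_fixedSub (G T : Subgroup Γ) (x : Γ) :
    x ∈ G ⊓ Subgroup.centralizer (T : Set Γ) ↔ x ∈ G ∧ ∀ t ∈ T, t * x * t⁻¹ = x := by
  rw [Subgroup.mem_inf, Subgroup.mem_centralizer_iff]
  constructor
  · rintro ⟨hx, h⟩
    exact ⟨hx, fun s hs => by rw [h s hs, mul_inv_cancel_right]⟩
  · rintro ⟨hx, h⟩
    refine ⟨hx, fun s hs => ?_⟩
    calc s * x = (s * x * s⁻¹) * s := by group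
      _ = x * s := by rw [h s hs]

/-- a solvable group acting nontrivially and coprimely has a normal subgroup acting as a
nontrivial `p`-group -/
theorem exists_pgroup_layer [Finite Γ] (G S : Subgroup Γ)
    (hnorm : ∀ s ∈ S, ∀ g ∈ G, s * g * s⁻¹ ∈ G) (hcop : (Nat.card G).Coprime (Nat.card S))
    (hsolv : Group.IsSolvable S) (hB : ∃ s ∈ S, ∃ g ∈ G, s * g * s⁻¹ ≠ g) :
    ∃ (p : ℕ) (T : Subgroup Γ), p.Prime ∧ T ≤ S ∧ (∀ s ∈ S, ∀ t ∈ T, s * t * s⁻¹ ∈ T) ∧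
      ¬ p ∣ Nat.card G ∧
      (∀ t ∈ T, ∃ k : ℕ, t ^ p ^ k ∈ Subgroup.centralizer (G : Set Γ)) ∧
      ∃ t ∈ T, ∃ g ∈ G, t * g * t⁻¹ ≠ g := by
  classical
  have hn := norm_iff G S hnorm
  set κ := kap G S hn with hκ
  have hκ_apply : ∀ (s : S) (g : G), ((κ s g : G) : Γ) = s * g * (s : Γ)⁻¹ := fun s g => rfl
  set 𝒜 : Subgroup (MulAut G) := κ.range with h𝒜
  haveI : Finite G := inferInstance
  haveI : Finite (MulAut G) := Finite.of_injective (fun f : MulAut G => (f : G → G))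
    DFunLike.coe_injective
  haveI : Group.IsSolvable 𝒜 :=
    solvable_of_surjective (f := κ.rangeRestrict) κ.rangeRestrict_surjective
  haveI : Nontrivial 𝒜 := by
    obtain ⟨s, hs, g, hg, hne⟩ := hB
    refine nontrivial_of_ne (⟨κ ⟨s, hs⟩, ⟨s, hs⟩, rfl⟩ : 𝒜) 1 ?_
    intro h
    apply hne
    have h1 : κ ⟨s, hs⟩ = 1 := congrArg Subtype.val h
    have h2 := hκ_apply ⟨s, hs⟩ ⟨g, hg⟩
    rw [h1] at h2
    exact h2.symm
  obtain ⟨p, 𝒯, hp, h𝒯n, h𝒯ne, h𝒯p⟩ := Cfsg.Agent.Lib.Helper13.exists_normal_pgroup 𝒜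
  haveI : Fact p.Prime := ⟨hp⟩
  set T : Subgroup Γ := (Subgroup.comap κ (𝒯.map 𝒜.subtype)).map S.subtype with hT
  have hTmem : ∀ x : Γ, x ∈ T ↔ ∃ (h : x ∈ S) (h' : κ ⟨x, h⟩ ∈ 𝒜), (⟨κ ⟨x, h⟩, h'⟩ : 𝒜) ∈ 𝒯 := by
    intro x
    rw [hT, Subgroup.mem_map]
    constructor
    · rintro ⟨y, hy, rfl⟩
      rw [Subgroup.mem_comap, Subgroup.mem_map] at hy
      obtain ⟨a, ha, hay⟩ := hy
      refine ⟨y.2, ⟨y, rfl⟩, ?_⟩
      have : a = ⟨κ y, ⟨y, rfl⟩⟩ := Subtype.ext hay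
      have h2 : (⟨κ y, ⟨y, rfl⟩⟩ : 𝒜) ∈ 𝒯 := this ▸ ha
      exact h2
    · rintro ⟨h, h', hmem⟩
      refine ⟨⟨x, h⟩, ?_, rfl⟩
      rw [Subgroup.mem_comap, Subgroup.mem_map]
      exact ⟨_, hmem, rfl⟩
  have hTS : T ≤ S := fun x hx => ((hTmem x).mp hx).1
  -- a nontrivial element
  obtain ⟨a, ha, ha1⟩ : ∃ a ∈ 𝒯, a ≠ 1 := by
    by_contra hcon
    push Not at hcon
    exact h𝒯ne ((Subgroup.eq_bot_iff_forall _).mpr hcon)
  obtain ⟨t₀, ht₀⟩ : ∃ t₀ : S, κ t₀ = (a : MulAut G) := a.2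
  have ht₀T : (t₀ : Γ) ∈ T := by
    rw [hTmem]
    refine ⟨t₀.2, ⟨t₀, rfl⟩, ?_⟩
    have : (⟨κ ⟨t₀, t₀.2⟩, ⟨t₀, rfl⟩⟩ : 𝒜) = a := Subtype.ext ht₀
    rw [this]
    exact ha
  have hpS : p ∣ Nat.card S := by
    obtain ⟨k, hk⟩ := h𝒯p ⟨a, ha⟩
    have hk' : a ^ p ^ k = 1 := by
      have := congrArg Subtype.val hk
      exact this
    have h1 : orderOf a ∣ p ^ k := orderOf_dvd_of_pow_eq_one hk'
    obtain ⟨j, -, hj⟩ := (Nat.dvd_prime_pow hp).mp h1
    have hj0 : j ≠ 0 := by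
      rintro rfl
      rw [pow_zero, orderOf_eq_one_iff] at hj
      exact ha1 hj
    have h2 : orderOf (a : MulAut G) = orderOf a := Subgroup.orderOf_coe a
    have h3 : orderOf (κ t₀) ∣ orderOf t₀ := orderOf_map_dvd κ t₀
    rw [ht₀, h2, hj] at h3
    exact (dvd_pow_self p hj0).trans (h3.trans (orderOf_dvd_natCard t₀))
  have hpG : ¬ p ∣ Nat.card G := by
    intro h
    have h2 : p ∣ Nat.gcd (Nat.card G) (Nat.card S) := Nat.dvd_gcd h hpS
    rw [hcop] at h2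
    exact hp.one_lt.ne' (Nat.dvd_one.mp h2)
  refine ⟨p, T, hp, hTS, ?_, hpG, ?_, ?_⟩
  · intro s hs t ht
    obtain ⟨htS, h', hmem⟩ := (hTmem t).mp ht
    rw [hTmem]
    have hsts : s * t * s⁻¹ ∈ S := S.mul_mem (S.mul_mem hs htS) (S.inv_mem hs)
    refine ⟨hsts, ⟨⟨_, hsts⟩, rfl⟩, ?_⟩
    have h1 : (⟨κ ⟨s * t * s⁻¹, hsts⟩, ⟨⟨_, hsts⟩, rfl⟩⟩ : 𝒜) =
        (⟨κ ⟨s, hs⟩, ⟨⟨s, hs⟩, rfl⟩⟩ : 𝒜) * ⟨κ ⟨t, htS⟩, h'⟩ *
          (⟨κ ⟨s, hs⟩, ⟨⟨s, hs⟩, rfl⟩⟩ : 𝒜)⁻¹ := by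
      apply Subtype.ext
      show κ ⟨s * t * s⁻¹, hsts⟩ = κ ⟨s, hs⟩ * κ ⟨t, htS⟩ * (κ ⟨s, hs⟩)⁻¹
      rw [← map_inv, ← map_mul, ← map_mul]
      rfl
    rw [h1]
    exact h𝒯n.conj_mem _ hmem _
  · intro t ht
    obtain ⟨htS, h', hmem⟩ := (hTmem t).mp ht
    obtain ⟨k, hk⟩ := h𝒯p ⟨_, hmem⟩
    refine ⟨k, ?_⟩
    have hk' : (κ ⟨t, htS⟩) ^ p ^ k = 1 := by
      have := congrArg (fun x : 𝒯 => ((x : 𝒜) : MulAut G)) hk
      exact this
    rw [← map_pow] at hk'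
    rw [Subgroup.mem_centralizer_iff]
    intro g hg
    have h2 := hκ_apply (⟨t, htS⟩ ^ p ^ k) ⟨g, hg⟩
    rw [hk'] at h2
    have h3 : t ^ p ^ k * g * (t ^ p ^ k)⁻¹ = g := h2.symm
    calc g * t ^ p ^ k = (t ^ p ^ k * g * (t ^ p ^ k)⁻¹) * t ^ p ^ k := by rw [h3]
      _ = t ^ p ^ k * g := by group
  · refine ⟨t₀, ht₀T, ?_⟩
    by_contra hcon
    push Not at hcon
    apply ha1
    apply Subtype.ext
    rw [← ht₀]
    apply MulEquiv.ext
    intro g
    apply Subtype.ext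
    rw [hκ_apply]
    exact hcon g g.2

end Layer

section Equivariance

theorem sinv_iff (G S : Subgroup Γ) (hn : ∀ s ∈ S, ∀ g, g ∈ G ↔ s * g * s⁻¹ ∈ G) (χ : G → ℂ) :
    SInv G S χ ↔ ∀ (s : Γ) (hs : s ∈ S) (g : G), χ (cj G s (hn s hs) g) = χ g := by
  constructor
  · intro h s hs g
    exact h s hs g _ rfl
  · intro h s hs g g' hgg'
    have : g' = cj G s (hn s hs) g := Subtype.ext hgg'
    rw [this]
    exact h s hs g

/-- the correspondence commutes with conjugation by elements normalising everything -/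
theorem gc_equivariant {p : ℕ} (G T D : Subgroup Γ) [Fintype G] [Fintype D]
    (hDG : D ≤ G) (hgc : GCProp p G T D hDG) (s : Γ)
    (hsG : ∀ g, g ∈ G ↔ s * g * s⁻¹ ∈ G) (hsD : ∀ d, d ∈ D ↔ s * d * s⁻¹ ∈ D)
    (hsT : ∀ t ∈ T, s * t * s⁻¹ ∈ T)
    (χ : IrrCharacter G) (hχT : SInv G T (χ : G → ℂ)) (β : IrrCharacter D) (m : ℕ)
    (hm : classInner (fun d : D => (χ : G → ℂ) ⟨d, hDG d.2⟩) (β : D → ℂ) = m) (hpm : ¬ p ∣ m) :
    (∀ g : G, (χ : G → ℂ) (cj G s hsG g) = (χ : G → ℂ) g) ↔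
      (∀ d : D, (β : D → ℂ) (cj D s hsD d) = (β : D → ℂ) d) := by
  obtain ⟨hA, hB, -⟩ := hgc
  constructor
  · intro hχs
    obtain ⟨β₀, -, hoth⟩ := hA χ hχT
    have huniq : ∀ (β' : IrrCharacter D),
        classInner (fun d : D => (χ : G → ℂ) ⟨d, hDG d.2⟩) (β' : D → ℂ) = m → β' = β₀ := by
      intro β' hm'
      by_contra hne
      obtain ⟨m'', hm'', hpm''⟩ := hoth β' hne
      rw [hm'] at hm''
      have : m = m'' := by exact_mod_cast hm''
      exact hpm (this ▸ hpm'')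
    set β' : IrrCharacter D := ⟨fun d => (β : D → ℂ) (cj D s hsD d),
      isIrrCharacter_comp_mulEquiv β.2 (cj D s hsD)⟩ with hβ'
    have h1 : classInner (fun d : D => (χ : G → ℂ) ⟨d, hDG d.2⟩) (β' : D → ℂ) = m := by
      rw [← hm, ← classInner_equiv (cj D s hsD).toEquiv
        (fun d : D => (χ : G → ℂ) ⟨d, hDG d.2⟩) (β : D → ℂ)]
      congr 1
      funext d
      exact (hχs ⟨d, hDG d.2⟩).symm
    have h2 : β' = β := (huniq β' h1).trans (huniq β hm).symm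
    intro d
    exact congrFun (congrArg Subtype.val h2) d
  · intro hβs
    set χ' : IrrCharacter G := ⟨fun g => (χ : G → ℂ) (cj G s hsG g),
      isIrrCharacter_comp_mulEquiv χ.2 (cj G s hsG)⟩ with hχ'
    have hχ'T : SInv G T (χ' : G → ℂ) := by
      intro t ht g g' hgg'
      show (χ : G → ℂ) (cj G s hsG g') = (χ : G → ℂ) (cj G s hsG g)
      refine hχT (s * t * s⁻¹) (hsT t ht) _ _ ?_
      show s * (g' : Γ) * s⁻¹ = (s * t * s⁻¹) * (s * g * s⁻¹) * (s * t * s⁻¹)⁻¹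
      rw [hgg']
      group
    have h1 : classInner (fun d : D => (χ' : G → ℂ) ⟨d, hDG d.2⟩) (β : D → ℂ) = m := by
      rw [← hm, ← classInner_equiv (cj D s hsD).toEquiv
        (fun d : D => (χ : G → ℂ) ⟨d, hDG d.2⟩) (β : D → ℂ)]
      congr 1
      funext d
      exact (hβs d).symm
    have h2 : χ' = χ := hB χ' χ hχ'T hχT β m m h1 hpm hm hpm
    intro g
    exact congrFun (congrArg Subtype.val h2) g

/-- the correspondence restricts to a bijection between the characters invariant under a larger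
group -/
theorem card_inv_eq {p : ℕ} (hp : p.Prime) (G T D S : Subgroup Γ) [Fintype G] [Fintype D]
    (hDG : D ≤ G) (hgc : GCProp p G T D hDG) (hTS : T ≤ S)
    (hSG : ∀ s ∈ S, ∀ g, g ∈ G ↔ s * g * s⁻¹ ∈ G) (hSD : ∀ s ∈ S, ∀ d, d ∈ D ↔ s * d * s⁻¹ ∈ D)
    (hST : ∀ s ∈ S, ∀ t ∈ T, s * t * s⁻¹ ∈ T) :
    Nat.card {χ : IrrCharacter G // SInv G S (χ : G → ℂ)} =
      Nat.card {β : IrrCharacter D // SInv D S (β : D → ℂ)} := by
  classical
  have hgc' := hgc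
  obtain ⟨hA, hB, hCc⟩ := hgc
  have hTinv : ∀ χ : G → ℂ, SInv G S χ → SInv G T χ := fun χ h t ht => h t (hTS ht)
  have hex : ∀ χ : {χ : IrrCharacter G // SInv G S (χ : G → ℂ)}, ∃ β : IrrCharacter D,
      ∃ m : ℕ, classInner (fun d : D => (χ.1 : G → ℂ) ⟨d, hDG d.2⟩) (β : D → ℂ) = m ∧ ¬ p ∣ m := by
    intro χ
    obtain ⟨β₀, ⟨m, hm, hm1⟩, -⟩ := hA χ.1 (hTinv _ χ.2)
    exact ⟨β₀, m, hm, not_dvd_of_pm_one hp m hm1⟩
  choose f hf using hex
  have hfinv : ∀ χ, SInv D S (f χ : D → ℂ) := by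
    intro χ
    obtain ⟨m, hm, hpm⟩ := hf χ
    rw [sinv_iff D S hSD]
    intro s hs
    exact (gc_equivariant G T D hDG hgc' s (hSG s hs) (hSD s hs) (hST s hs) χ.1 (hTinv _ χ.2)
      (f χ) m hm hpm).mp ((sinv_iff G S hSG _).mp χ.2 s hs)
  let F : {χ : IrrCharacter G // SInv G S (χ : G → ℂ)} →
      {β : IrrCharacter D // SInv D S (β : D → ℂ)} := fun χ => ⟨f χ, hfinv χ⟩
  have hF : Function.Bijective F := by
    constructor
    · intro χ χ' h
      have h1 : f χ = f χ' := congrArg Subtype.val h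
      obtain ⟨m, hm, hpm⟩ := hf χ
      obtain ⟨m', hm', hpm'⟩ := hf χ'
      rw [← h1] at hm'
      exact Subtype.ext (hB χ.1 χ'.1 (hTinv _ χ.2) (hTinv _ χ'.2) (f χ) m m' hm hpm hm' hpm')
    · rintro ⟨β, hβ⟩
      obtain ⟨χ, hχT, m, hm, hpm⟩ := hCc β
      have hχS : SInv G S (χ : G → ℂ) := by
        rw [sinv_iff G S hSG]
        intro s hs
        exact (gc_equivariant G T D hDG hgc' s (hSG s hs) (hSD s hs) (hST s hs) χ hχT β m hm
          hpm).mpr ((sinv_iff D S hSD _).mp hβ s hs)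
      refine ⟨⟨χ, hχS⟩, ?_⟩
      apply Subtype.ext
      show f ⟨χ, hχS⟩ = β
      obtain ⟨m', hm', hpm'⟩ := hf ⟨χ, hχS⟩
      obtain ⟨β₀, -, hoth⟩ := hA χ hχT
      have h1 : f ⟨χ, hχS⟩ = β₀ := by
        by_contra hne
        obtain ⟨m'', hm'', hpm''⟩ := hoth _ hne
        rw [hm'] at hm''
        have : m' = m'' := by exact_mod_cast hm''
        exact hpm' (this ▸ hpm'')
      have h2 : β = β₀ := by
        by_contra hne
        obtain ⟨m'', hm'', hpm''⟩ := hoth _ hne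
        rw [hm] at hm''
        have : m = m'' := by exact_mod_cast hm''
        exact hpm (this ▸ hpm'')
      rw [h1, h2]
  exact Nat.card_congr (Equiv.ofBijective F hF)

end Equivariance

section SolvableCount

theorem card_inv_irr_aux [Finite Γ] (S : Subgroup Γ) (hsolv : Group.IsSolvable S) :
    ∀ (n : ℕ) (G C : Subgroup Γ) (hCG : C ≤ G), Nat.card G ≤ n →
      (∀ s ∈ S, ∀ g ∈ G, s * g * s⁻¹ ∈ G) → (Nat.card G).Coprime (Nat.card S) →
      (∀ g ∈ G, g ∈ C ↔ ∀ s ∈ S, s * g * s⁻¹ = g) →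
      Nat.card {χ : IrrCharacter G // SInv G S (χ : G → ℂ)} = Nat.card (IrrCharacter C) := by
  intro n
  induction n with
  | zero =>
    intro G C hCG hcard
    exfalso
    have : 0 < Nat.card G := Nat.card_pos
    omega
  | succ n ih =>
    intro G C hCG hcard hnorm hcop hC
    by_cases hB : ∃ s ∈ S, ∃ g ∈ G, s * g * s⁻¹ ≠ g
    · obtain ⟨p, T, hp, hTS, hST, hpG, hpk, t₀, ht₀, g₀, hg₀, hne⟩ :=
        exists_pgroup_layer G S hnorm hcop hsolv hB
      set D : Subgroup Γ := G ⊓ Subgroup.centralizer (T : Set Γ) with hD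
      have hDG : D ≤ G := inf_le_left
      have hDmem := mem_fixedSub G T
      rw [← hD] at hDmem
      have hg₀D : g₀ ∉ D := fun h => hne (((hDmem g₀).mp h).2 t₀ ht₀)
      have hDlt : Nat.card D < Nat.card G := by
        have hle : Nat.card D ≤ Nat.card G := Subgroup.card_le_of_le hDG
        rcases lt_or_eq_of_le hle with h | h
        · exact h
        · exfalso
          have := Subgroup.eq_of_le_of_card_ge hDG (le_of_eq h.symm)
          rw [this] at hg₀D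
          exact hg₀D hg₀
      have hnormD : ∀ s ∈ S, ∀ d ∈ D, s * d * s⁻¹ ∈ D := by
        intro s hs d hd
        obtain ⟨hdG, hdT⟩ := (hDmem d).mp hd
        rw [hDmem]
        refine ⟨hnorm s hs d hdG, fun t ht => ?_⟩
        have h1 : s⁻¹ * t * s⁻¹⁻¹ ∈ T := hST s⁻¹ (S.inv_mem hs) t ht
        have h2 := hdT _ h1
        calc t * (s * d * s⁻¹) * t⁻¹
            = s * ((s⁻¹ * t * s⁻¹⁻¹) * d * (s⁻¹ * t * s⁻¹⁻¹)⁻¹) * s⁻¹ := by group
          _ = s * d * s⁻¹ := by rw [h2]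
      have hCD : C ≤ D := by
        intro c hc
        rw [hDmem]
        exact ⟨hCG hc, fun t ht => (hC c (hCG hc)).mp hc t (hTS ht)⟩
      have hCD' : ∀ d ∈ D, d ∈ C ↔ ∀ s ∈ S, s * d * s⁻¹ = d := fun d hd => hC d (hDG hd)
      have hcopD : (Nat.card D).Coprime (Nat.card S) :=
        Nat.Coprime.coprime_dvd_left (Subgroup.card_dvd_of_le hDG) hcop
      haveI : Fintype G := Fintype.ofFinite G
      haveI : Fintype D := Fintype.ofFinite D
      have hgc : GCProp p G T D hDG :=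
        gc_aux hp T (Nat.card G) G D hDG le_rfl (fun t ht => hnorm t (hTS ht)) hpG hpk
          (fun g hg => by rw [hDmem]; exact ⟨fun h => h.2, fun h => ⟨hg, h⟩⟩)
      rw [card_inv_eq hp G T D S hDG hgc hTS (norm_iff G S hnorm) (norm_iff D S hnormD) hST]
      exact ih D C hCD (by omega) hnormD hcopD hCD'
    · push Not at hB
      have hCeq : C = G := le_antisymm hCG fun g hg => (hC g hg).mpr fun s hs => hB s hs g hg
      subst hCeq
      refine Nat.card_congr ⟨fun χ => χ.1, fun χ => ⟨χ, ?_⟩, fun χ => rfl, fun χ => rfl⟩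
      intro s hs g g' hgg'
      have : g' = g := Subtype.ext (by rw [hgg', hB s hs g g.2])
      rw [this]

end SolvableCount

end Cfsg.Agent.Lib.Helper7.GlaubCount
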