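import Mathlib
import Cfsg.Prelude.Def_Characters
import Cfsg.Agent.S0894
import Cfsg.Agent.Lib.Helper4.CenterDegree
import Cfsg.Agent.Lib.Helper4.CharOrtho
import Cfsg.Agent.Lib.Helper4.Decomp
import Cfsg.Agent.Lib.Helper2.CharConj

/-!
# Tensor decomposition of a representation over an invariant irreducible constituent (helper7)

If `X` is an irreducible matrix representation of `G` on `Fin e × Fin d → ℂ` whose restriction to
the normal subgroup `N` is `1 ⊗ σ` with `σ` irreducible and `G`-invariant, then every `X g` is a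
pure tensor `A ⊗ P`, and the matrices `A` (normalised to determinant one) form a finite group acting
irreducibly on `Fin e → ℂ` in which the elements over `N` are scalar.  Hence `e ∣ |G : N|`
(`card_dvd_index_of_tensor`).
-/

set_option autoImplicit false
set_option linter.unusedSectionVars false
open scoped Kronecker

namespace Cfsg.Agent.Lib.Helper7
open Cfsg Cfsg.Agent.Lib.Helper4 Cfsg.Agent.Lib.Helper2

section Kron
variable {ι κ : Type*} [Fintype ι] [Fintype κ] [DecidableEq ι] [DecidableEq κ]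

theorem one_kron_mul_apply (T : Matrix (ι × κ) (ι × κ) ℂ) (Y : Matrix κ κ ℂ) (i j : ι) (k l : κ) :
    (T * ((1 : Matrix ι ι ℂ) ⊗ₖ Y)) (i, k) (j, l) = ∑ k', T (i, k) (j, k') * Y k' l := by
  simp [Matrix.mul_apply, Fintype.sum_prod_type, Matrix.kroneckerMap_apply, Matrix.one_apply]

theorem mul_one_kron_apply (T : Matrix (ι × κ) (ι × κ) ℂ) (Y : Matrix κ κ ℂ) (i j : ι) (k l : κ) :
    (((1 : Matrix ι ι ℂ) ⊗ₖ Y) * T) (i, k) (j, l) = ∑ k', Y k k' * T (i, k') (j, l) := by
  simp [Matrix.mul_apply, Fintype.sum_prod_type, Matrix.kroneckerMap_apply, Matrix.one_apply]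

/-- Block form of Schur's lemma: a matrix commuting with `1 ⊗ σ(m)` for an irreducible `σ`
is of the form `A ⊗ 1`. -/
theorem commutant_kronecker {N : Type*} [Group N] (σ : Representation ℂ N (κ → ℂ))
    (hσ : σ.IsIrreducible) (T : Matrix (ι × κ) (ι × κ) ℂ)
    (hT : ∀ m : N, T * ((1 : Matrix ι ι ℂ) ⊗ₖ LinearMap.toMatrix' (σ m)) =
      ((1 : Matrix ι ι ℂ) ⊗ₖ LinearMap.toMatrix' (σ m)) * T) :
    ∃ A : Matrix ι ι ℂ, T = A ⊗ₖ (1 : Matrix κ κ ℂ) := by
  let B : ι → ι → Matrix κ κ ℂ := fun i j => Matrix.of fun k l => T (i, k) (j, l)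
  have hB : ∀ i j (m : N), B i j * LinearMap.toMatrix' (σ m) = LinearMap.toMatrix' (σ m) * B i j := by
    intro i j m
    ext k l
    have h1 := congrFun (congrFun (hT m) (i, k)) (j, l)
    rw [one_kron_mul_apply, mul_one_kron_apply] at h1
    simp only [Matrix.mul_apply]
    exact h1
  have hsc : ∀ i j, ∃ c : ℂ, B i j = c • (1 : Matrix κ κ ℂ) := by
    intro i j
    obtain ⟨c, hc⟩ := Cfsg.Agent.S0894.schur_scalar σ hσ (Matrix.toLin' (B i j)) (by
      intro m v
      have h1 : σ m = Matrix.toLin' (LinearMap.toMatrix' (σ m)) := (Matrix.toLin'_toMatrix' _).symm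
      rw [h1]
      rw [← LinearMap.comp_apply, ← Matrix.toLin'_mul, hB i j m, Matrix.toLin'_mul]
      rfl)
    refine ⟨c, ?_⟩
    have h2 := congrArg LinearMap.toMatrix' hc
    rw [LinearMap.toMatrix'_toLin', map_smul, LinearMap.toMatrix'_id] at h2
    exact h2
  choose a ha using hsc
  refine ⟨Matrix.of a, ?_⟩
  ext ⟨i, k⟩ ⟨j, l⟩
  have h1 : T (i, k) (j, l) = B i j k l := rfl
  rw [h1, ha i j]
  simp [Matrix.kroneckerMap_apply]

/-- Uniqueness of pure tensors up to scalars. -/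
theorem kronecker_unique (A A' : Matrix ι ι ℂ) (P P' : Matrix κ κ ℂ)
    (h : A ⊗ₖ P = A' ⊗ₖ P') (hP' : P' ≠ 0) : ∃ c : ℂ, A' = c • A := by
  have : ∃ k l, P' k l ≠ 0 := by
    by_contra hne
    push Not at hne
    apply hP'
    ext k l
    exact hne k l
  obtain ⟨k, l, hkl⟩ := this
  refine ⟨P k l / P' k l, ?_⟩
  ext i j
  have h1 := congrFun (congrFun h (i, k)) (j, l)
  simp only [Matrix.kroneckerMap_apply] at h1
  simp only [Matrix.smul_apply, smul_eq_mul]
  field_simp
  rw [← h1]; ring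

/-- `U ⊗ (κ → ℂ)` inside `ι × κ → ℂ`. -/
def tensorSub (U : Submodule ℂ (ι → ℂ)) : Submodule ℂ (ι × κ → ℂ) where
  carrier := {f | ∀ k, (fun i => f (i, k)) ∈ U}
  add_mem' := by
    intro f g hf hg k
    exact U.add_mem (hf k) (hg k)
  zero_mem' := by
    intro k
    exact U.zero_mem
  smul_mem' := by
    intro c f hf k
    exact U.smul_mem c (hf k)

theorem mem_tensorSub (U : Submodule ℂ (ι → ℂ)) (f : ι × κ → ℂ) :
    f ∈ (tensorSub U : Submodule ℂ (ι × κ → ℂ)) ↔ ∀ k, (fun i => f (i, k)) ∈ U := Iff.rfl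

theorem tensorSub_invariant (U : Submodule ℂ (ι → ℂ)) (A : Matrix ι ι ℂ) (P : Matrix κ κ ℂ)
    (hA : ∀ u ∈ U, A.mulVec u ∈ U) (f : ι × κ → ℂ)
    (hf : f ∈ (tensorSub U : Submodule ℂ (ι × κ → ℂ))) :
    (A ⊗ₖ P).mulVec f ∈ (tensorSub U : Submodule ℂ (ι × κ → ℂ)) := by
  intro k
  have h1 : (fun i => (A ⊗ₖ P).mulVec f (i, k)) =
      ∑ k', P k k' • A.mulVec (fun i' => f (i', k')) := by
    funext i
    simp only [Matrix.mulVec, dotProduct, Fintype.sum_prod_type, Matrix.kroneckerMap_apply,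
      Finset.sum_apply, Pi.smul_apply, smul_eq_mul]
    rw [Finset.sum_comm]
    refine Finset.sum_congr rfl fun k' _ => ?_
    rw [Finset.mul_sum]
    refine Finset.sum_congr rfl fun i' _ => ?_
    ring
  rw [h1]
  exact U.sum_mem fun k' _ => U.smul_mem _ (hA _ (hf k'))

end Kron

/-- the degree of an irreducible representation divides the index of any subgroup whose image
commutes with the whole image -/
theorem degree_dvd_index_of_comm {G : Type*} [Group G] [Fintype G]
    {V : Type*} [AddCommGroup V] [Module ℂ V] [FiniteDimensional ℂ V]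
    (ρ : Representation ℂ G V) (hirr : ρ.IsIrreducible) (Z : Subgroup G)
    (hZ : ∀ z ∈ Z, ∀ g : G, ρ z * ρ g = ρ g * ρ z) :
    Module.finrank ℂ V ∣ Z.index := by
  classical
  have := hirr
  let N : Subgroup G := MonoidHom.ker ρ
  have hN : N.Normal := MonoidHom.normal_ker ρ
  have : Fintype (G ⧸ N) := Fintype.ofFinite _
  let ρ' : Representation ℂ (G ⧸ N) V := QuotientGroup.lift N ρ (le_refl _)
  have hρ' : ∀ g : G, ρ' (QuotientGroup.mk g) = ρ g := fun g => rfl
  have hirr' : ρ'.IsIrreducible := by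
    have hbt : (⊥ : Subrepresentation ρ') ≠ ⊤ := by
      intro h1
      have h2 : (⊥ : Submodule ℂ V) = ⊤ := congrArg Subrepresentation.toSubmodule h1
      have h3 : (⊥ : Subrepresentation ρ) = ⊤ := Subrepresentation.toSubmodule_injective h2
      exact bot_ne_top h3
    exact { exists_pair_ne := ⟨⊥, ⊤, hbt⟩
            eq_bot_or_eq_top := fun σ => by
              let σ' : Subrepresentation ρ :=
                ⟨σ.toSubmodule, fun g v hv => by
                  rw [← hρ' g]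
                  exact σ.apply_mem_toSubmodule _ hv⟩
              rcases eq_bot_or_eq_top σ' with h1 | h1
              · left
                apply Subrepresentation.toSubmodule_injective
                have h2 : σ'.toSubmodule = (⊥ : Subrepresentation ρ).toSubmodule :=
                  congrArg Subrepresentation.toSubmodule h1
                exact h2
              · right
                apply Subrepresentation.toSubmodule_injective
                have h2 : σ'.toSubmodule = (⊤ : Subrepresentation ρ).toSubmodule :=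
                  congrArg Subrepresentation.toSubmodule h1
                exact h2 }
  have hinj' : Function.Injective ρ' := by
    intro a b hab
    obtain ⟨x, rfl⟩ := QuotientGroup.mk_surjective a
    obtain ⟨y, rfl⟩ := QuotientGroup.mk_surjective b
    rw [hρ', hρ'] at hab
    apply QuotientGroup.eq.mpr
    show x⁻¹ * y ∈ MonoidHom.ker ρ
    rw [MonoidHom.mem_ker, map_mul, ← hab, ← map_mul, inv_mul_cancel, map_one]
  have h1 := degree_dvd_index_center_of_faithful ρ' hirr' hinj'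
  have h2 : ((Subgroup.center (G ⧸ N)).comap (QuotientGroup.mk' N)).index =
      (Subgroup.center (G ⧸ N)).index :=
    Subgroup.index_comap_of_surjective _ (QuotientGroup.mk'_surjective N)
  have h3 : Z ≤ (Subgroup.center (G ⧸ N)).comap (QuotientGroup.mk' N) := by
    intro z hz
    rw [Subgroup.mem_comap, Subgroup.mem_center_iff]
    intro y
    obtain ⟨x, rfl⟩ := QuotientGroup.mk'_surjective N y
    apply hinj'
    rw [map_mul, map_mul]
    show ρ x * ρ z = ρ z * ρ x
    exact (hZ z hz x).symm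
  have h4 := Subgroup.index_dvd_of_le h3
  rw [h2] at h4
  exact h1.trans h4


section Rmat
variable {G : Type*} [Group G] {ι : Type*} [Fintype ι] [DecidableEq ι]

/-- matrix of `ρ g` -/
noncomputable def rmat (ρ : Representation ℂ G (ι → ℂ)) (g : G) : Matrix ι ι ℂ :=
  LinearMap.toMatrix' (ρ g)

theorem rmat_mul (ρ : Representation ℂ G (ι → ℂ)) (g h : G) :
    rmat ρ (g * h) = rmat ρ g * rmat ρ h := by
  unfold rmat
  rw [map_mul, Module.End.mul_eq_comp, LinearMap.toMatrix'_comp]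

theorem rmat_one (ρ : Representation ℂ G (ι → ℂ)) : rmat ρ 1 = 1 := by
  unfold rmat
  rw [map_one, Module.End.one_eq_id, LinearMap.toMatrix'_id]

theorem toLin'_rmat (ρ : Representation ℂ G (ι → ℂ)) (g : G) :
    Matrix.toLin' (rmat ρ g) = ρ g := by
  unfold rmat
  rw [Matrix.toLin'_toMatrix']

end Rmat

theorem tensor_decomp {G : Type*} [Group G] [Fintype G] (N : Subgroup G) [hN : N.Normal]
    {e d : ℕ}
    (X : Representation ℂ G (Fin e × Fin d → ℂ))
    (σ : Representation ℂ N (Fin d → ℂ)) (hσ : σ.IsIrreducible)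
    (hXσ : ∀ m : N, rmat X m = (1 : Matrix (Fin e) (Fin e) ℂ) ⊗ₖ rmat σ m)
    (hinv : ∀ (g : G) (m : N),
      σ.character ⟨g * m * g⁻¹, hN.conj_mem (m : G) m.2 g⟩ = σ.character m) (g : G) :
    ∃ (A : Matrix (Fin e) (Fin e) ℂ) (P P' : Matrix (Fin d) (Fin d) ℂ),
      P * P' = 1 ∧ rmat X g = A ⊗ₖ P := by
  classical
  have : Fintype N := Fintype.ofFinite _
  let c : N ≃* N := MulAut.conjNormal g⁻¹
  have hc : ∀ m : N, ((c m : N) : G) = g⁻¹ * m * g := fun m => by
    have := MulAut.conjNormal_apply g⁻¹ m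
    rw [inv_inv] at this
    exact this
  let σg : Representation ℂ N (Fin d → ℂ) := MonoidHom.comp σ c.toMonoidHom
  have hσg : σg.IsIrreducible :=
    Cfsg.Agent.Lib.Helper2.isIrreducible_comp_of_surjective σ c.toMonoidHom c.surjective hσ
  have hchar : σg.character = σ.character := by
    funext m
    show LinearMap.trace ℂ _ (σ (c m)) = _
    have h1 : c m = ⟨g⁻¹ * m * g⁻¹⁻¹, hN.conj_mem (m : G) m.2 g⁻¹⟩ :=
      Subtype.ext (by rw [hc]; simp)
    rw [h1]; exact hinv g⁻¹ m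
  obtain ⟨φ⟩ := equiv_of_character_eq σg σ hσg hσ hchar
  let E : (Fin d → ℂ) ≃ₗ[ℂ] (Fin d → ℂ) := φ.toLinearEquiv
  have hE : ∀ (m : N) (v : Fin d → ℂ), E (σ m v) = σ (c m) (E v) := fun m v =>
    LinearMap.congr_fun (φ.isIntertwining' m) v
  let Q : Matrix (Fin d) (Fin d) ℂ := LinearMap.toMatrix' E.toLinearMap
  let Q' : Matrix (Fin d) (Fin d) ℂ := LinearMap.toMatrix' E.symm.toLinearMap
  have hQQ' : Q * Q' = 1 := by
    rw [← LinearMap.toMatrix'_comp]
    simp
  have hQ'Q : Q' * Q = 1 := mul_eq_one_comm.mp hQQ'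
  have hQY : ∀ m : N, Q * rmat σ m = rmat σ (c m) * Q := by
    intro m
    unfold rmat
    rw [← LinearMap.toMatrix'_comp, ← LinearMap.toMatrix'_comp]
    congr 1
    apply LinearMap.ext
    intro v
    exact hE m v
  let T : Matrix (Fin e × Fin d) (Fin e × Fin d) ℂ :=
    rmat X g * ((1 : Matrix (Fin e) (Fin e) ℂ) ⊗ₖ Q)
  have hT : ∀ m : N, T * ((1 : Matrix (Fin e) (Fin e) ℂ) ⊗ₖ LinearMap.toMatrix' (σ m)) =
      ((1 : Matrix (Fin e) (Fin e) ℂ) ⊗ₖ LinearMap.toMatrix' (σ m)) * T := by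
    intro m
    have hgm : g * ((c m : N) : G) = (m : G) * g := by rw [hc]; group
    show rmat X g * ((1 : Matrix (Fin e) (Fin e) ℂ) ⊗ₖ Q) * ((1 : Matrix (Fin e) (Fin e) ℂ) ⊗ₖ rmat σ m) =
      ((1 : Matrix (Fin e) (Fin e) ℂ) ⊗ₖ rmat σ m) * (rmat X g * ((1 : Matrix (Fin e) (Fin e) ℂ) ⊗ₖ Q))
    rw [Matrix.mul_assoc, ← Matrix.mul_kronecker_mul, hQY m, Matrix.mul_kronecker_mul,
      ← hXσ (c m), ← hXσ m, ← Matrix.mul_assoc, ← Matrix.mul_assoc, ← rmat_mul, ← rmat_mul, hgm]
  obtain ⟨A, hA⟩ := commutant_kronecker σ hσ T hT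
  refine ⟨A, Q', Q, hQ'Q, ?_⟩
  have h1 : rmat X g = T * ((1 : Matrix (Fin e) (Fin e) ℂ) ⊗ₖ Q') := by
    show rmat X g = rmat X g * ((1 : Matrix (Fin e) (Fin e) ℂ) ⊗ₖ Q) * ((1 : Matrix (Fin e) (Fin e) ℂ) ⊗ₖ Q')
    rw [Matrix.mul_assoc, ← Matrix.mul_kronecker_mul, hQQ', Matrix.one_mul, Matrix.one_kronecker_one,
      Matrix.mul_one]
  rw [h1, hA, ← Matrix.mul_kronecker_mul, Matrix.mul_one, Matrix.one_mul]


theorem tensor_decomp_sl {G : Type*} [Group G] [Fintype G] (N : Subgroup G) [hN : N.Normal]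
    {e d : ℕ} (he : e ≠ 0)
    (X : Representation ℂ G (Fin e × Fin d → ℂ))
    (σ : Representation ℂ N (Fin d → ℂ)) (hσ : σ.IsIrreducible)
    (hXσ : ∀ m : N, rmat X m = (1 : Matrix (Fin e) (Fin e) ℂ) ⊗ₖ rmat σ m)
    (hinv : ∀ (g : G) (m : N),
      σ.character ⟨g * m * g⁻¹, hN.conj_mem (m : G) m.2 g⟩ = σ.character m) (g : G) :
    ∃ (A : Matrix.SpecialLinearGroup (Fin e) ℂ) (P P' : Matrix (Fin d) (Fin d) ℂ),
      P * P' = 1 ∧ rmat X g = (A : Matrix (Fin e) (Fin e) ℂ) ⊗ₖ P := by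
  classical
  have hntd : Nontrivial (Fin d → ℂ) := nontrivial_of_irreducible σ hσ
  have hd0 : d ≠ 0 := by
    rintro rfl
    exact not_subsingleton (Fin 0 → ℂ) inferInstance
  obtain ⟨A, P, P', hPP', hXg⟩ := tensor_decomp N X σ hσ hXσ hinv g
  have hdet : A.det ≠ 0 := by
    intro h0
    have h1 : rmat X g * rmat X g⁻¹ = 1 := by rw [← rmat_mul, mul_inv_cancel, rmat_one]
    have h2 := congrArg Matrix.det h1
    rw [Matrix.det_mul, hXg, Matrix.det_kronecker, h0, Matrix.det_one, Fintype.card_fin,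
      zero_pow hd0, zero_mul, zero_mul] at h2
    exact zero_ne_one h2
  obtain ⟨c, hc⟩ := IsAlgClosed.exists_pow_nat_eq A.det (Nat.pos_of_ne_zero he)
  have hc0 : c ≠ 0 := by
    rintro rfl
    rw [zero_pow he] at hc
    exact hdet hc.symm
  refine ⟨⟨c⁻¹ • A, ?_⟩, c • P, c⁻¹ • P', ?_, ?_⟩
  · rw [Matrix.det_smul, Fintype.card_fin, inv_pow, hc, inv_mul_cancel₀ hdet]
  · rw [Matrix.smul_mul, Matrix.mul_smul, smul_smul, mul_inv_cancel₀ hc0, one_smul, hPP']
  · show rmat X g = (c⁻¹ • A) ⊗ₖ (c • P)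
    rw [Matrix.smul_kronecker, Matrix.kronecker_smul, smul_smul, inv_mul_cancel₀ hc0, one_smul, hXg]

/-- The finite cover: pairs `(g, A)` with `X g = A ⊗ P`, `det A = 1`. -/
def coverGroup {G : Type*} [Group G] {e d : ℕ} (X : Representation ℂ G (Fin e × Fin d → ℂ)) :
    Subgroup (G × Matrix.SpecialLinearGroup (Fin e) ℂ) where
  carrier := {x | ∃ P P' : Matrix (Fin d) (Fin d) ℂ, P * P' = 1 ∧
    rmat X x.1 = (x.2 : Matrix (Fin e) (Fin e) ℂ) ⊗ₖ P}
  mul_mem' := by
    rintro x y ⟨P, P', hP, hx⟩ ⟨Q, Q', hQ, hy⟩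
    refine ⟨P * Q, Q' * P', ?_, ?_⟩
    · calc P * Q * (Q' * P') = P * (Q * Q') * P' := by simp only [Matrix.mul_assoc]
        _ = 1 := by rw [hQ, Matrix.mul_one, hP]
    · show rmat X (x.1 * y.1) =
        ((x.2 * y.2 : Matrix.SpecialLinearGroup (Fin e) ℂ) : Matrix (Fin e) (Fin e) ℂ) ⊗ₖ (P * Q)
      rw [rmat_mul, hx, hy, Matrix.SpecialLinearGroup.coe_mul, Matrix.mul_kronecker_mul]
  one_mem' := by
    refine ⟨1, 1, Matrix.one_mul 1, ?_⟩
    show rmat X 1 = ((1 : Matrix.SpecialLinearGroup (Fin e) ℂ) : Matrix (Fin e) (Fin e) ℂ) ⊗ₖ 1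
    rw [rmat_one, Matrix.SpecialLinearGroup.coe_one, Matrix.one_kronecker_one]
  inv_mem' := by
    rintro x ⟨P, P', hP, hx⟩
    refine ⟨P', P, mul_eq_one_comm.mp hP, ?_⟩
    show rmat X x.1⁻¹ =
      ((x.2⁻¹ : Matrix.SpecialLinearGroup (Fin e) ℂ) : Matrix (Fin e) (Fin e) ℂ) ⊗ₖ P'
    have h1 : rmat X x.1⁻¹ * rmat X x.1 = 1 := by rw [← rmat_mul, inv_mul_cancel, rmat_one]
    have h2 : (((x.2⁻¹ : Matrix.SpecialLinearGroup (Fin e) ℂ) : Matrix (Fin e) (Fin e) ℂ) ⊗ₖ P') *
        rmat X x.1 = 1 := by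
      rw [hx, ← Matrix.mul_kronecker_mul, ← Matrix.SpecialLinearGroup.coe_mul, inv_mul_cancel,
        Matrix.SpecialLinearGroup.coe_one, mul_eq_one_comm.mp hP, Matrix.one_kronecker_one]
    rw [← Matrix.inv_eq_left_inv h1, ← Matrix.inv_eq_left_inv h2]

theorem mem_coverGroup {G : Type*} [Group G] {e d : ℕ} (X : Representation ℂ G (Fin e × Fin d → ℂ))
    (x : G × Matrix.SpecialLinearGroup (Fin e) ℂ) :
    x ∈ coverGroup X ↔ ∃ P P' : Matrix (Fin d) (Fin d) ℂ, P * P' = 1 ∧
      rmat X x.1 = (x.2 : Matrix (Fin e) (Fin e) ℂ) ⊗ₖ P := Iff.rfl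


theorem invertible_ne_zero {d : ℕ} (hd0 : d ≠ 0) (P P' : Matrix (Fin d) (Fin d) ℂ)
    (h : P * P' = 1) : P ≠ 0 := by
  rintro rfl
  rw [Matrix.zero_mul] at h
  have : Nonempty (Fin d) := ⟨⟨0, Nat.pos_of_ne_zero hd0⟩⟩
  exact zero_ne_one h

theorem card_dvd_index_of_tensor {G : Type*} [Group G] [Fintype G] (N : Subgroup G) [hN : N.Normal]
    {e d : ℕ} (he : e ≠ 0)
    (X : Representation ℂ G (Fin e × Fin d → ℂ)) (hX : X.IsIrreducible)
    (σ : Representation ℂ N (Fin d → ℂ)) (hσ : σ.IsIrreducible)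
    (hXσ : ∀ m : N, rmat X m = (1 : Matrix (Fin e) (Fin e) ℂ) ⊗ₖ rmat σ m)
    (hinv : ∀ (g : G) (m : N),
      σ.character ⟨g * m * g⁻¹, hN.conj_mem (m : G) m.2 g⟩ = σ.character m) :
    e ∣ N.index := by
  classical
  have hntd : Nontrivial (Fin d → ℂ) := nontrivial_of_irreducible σ hσ
  have hd0 : d ≠ 0 := by
    rintro rfl
    exact not_subsingleton (Fin 0 → ℂ) inferInstance
  have hepos : 0 < e := Nat.pos_of_ne_zero he
  have hsurj := tensor_decomp_sl N he X σ hσ hXσ hinv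
  choose A₀ P₀ P₀' hP₀ hA₀ using hsurj
  let Gh : Subgroup (G × Matrix.SpecialLinearGroup (Fin e) ℂ) := coverGroup X
  -- scalar comparison
  have key : ∀ x : Gh, ∃ c : ℂ, c ^ e = 1 ∧
      ((x : G × Matrix.SpecialLinearGroup (Fin e) ℂ).2 : Matrix (Fin e) (Fin e) ℂ) =
        c • (A₀ (x : G × Matrix.SpecialLinearGroup (Fin e) ℂ).1 : Matrix (Fin e) (Fin e) ℂ) := by
    rintro ⟨⟨g, B⟩, P, P', hP, hx⟩
    have h1 : (A₀ g : Matrix (Fin e) (Fin e) ℂ) ⊗ₖ P₀ g = (B : Matrix (Fin e) (Fin e) ℂ) ⊗ₖ P := by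
      rw [← hA₀ g]; exact hx
    obtain ⟨c, hc⟩ := kronecker_unique _ _ _ _ h1 (invertible_ne_zero hd0 P P' hP)
    refine ⟨c, ?_, hc⟩
    have h2 := congrArg Matrix.det hc
    rw [Matrix.det_smul, Matrix.SpecialLinearGroup.det_coe, Matrix.SpecialLinearGroup.det_coe,
      Fintype.card_fin, mul_one] at h2
    exact h2.symm
  have hfin : Finite Gh := by
    choose c hc1 hc2 using key
    let f : Gh → G × ↥(Polynomial.nthRootsFinset e (1 : ℂ)) := fun x =>
      ((x : G × Matrix.SpecialLinearGroup (Fin e) ℂ).1,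
        ⟨c x, (Polynomial.mem_nthRootsFinset hepos (1 : ℂ)).mpr (hc1 x)⟩)
    apply Finite.of_injective f
    intro x y hxy
    have h1 : (x : G × Matrix.SpecialLinearGroup (Fin e) ℂ).1 =
        (y : G × Matrix.SpecialLinearGroup (Fin e) ℂ).1 := by
      have := congrArg Prod.fst hxy
      exact this
    have h2 : c x = c y := by
      have := congrArg (fun p => ((p.2 : ↥(Polynomial.nthRootsFinset e (1 : ℂ))) : ℂ)) hxy
      exact this
    apply Subtype.ext
    apply Prod.ext h1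
    apply Subtype.ext
    rw [hc2 x, hc2 y, h1, h2]
  have : Fintype Gh := Fintype.ofFinite _
  -- the representation on `Fin e → ℂ`
  let τ : Representation ℂ Gh (Fin e → ℂ) :=
    { toFun := fun x => Matrix.toLin'
        ((x : G × Matrix.SpecialLinearGroup (Fin e) ℂ).2 : Matrix (Fin e) (Fin e) ℂ)
      map_one' := by
        show Matrix.toLin' (((1 : G × Matrix.SpecialLinearGroup (Fin e) ℂ).2 :
          Matrix.SpecialLinearGroup (Fin e) ℂ) : Matrix (Fin e) (Fin e) ℂ) = 1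
        rw [Prod.snd_one, Matrix.SpecialLinearGroup.coe_one, Matrix.toLin'_one]; rfl
      map_mul' := fun x y => by
        show Matrix.toLin' ((((x : G × Matrix.SpecialLinearGroup (Fin e) ℂ) *
          (y : G × Matrix.SpecialLinearGroup (Fin e) ℂ)).2 :
          Matrix.SpecialLinearGroup (Fin e) ℂ) : Matrix (Fin e) (Fin e) ℂ) = _
        rw [Prod.snd_mul, Matrix.SpecialLinearGroup.coe_mul, Matrix.toLin'_mul]; rfl }
  have hτ : ∀ x : Gh, τ x = Matrix.toLin'
        ((x : G × Matrix.SpecialLinearGroup (Fin e) ℂ).2 : Matrix (Fin e) (Fin e) ℂ) := fun _ => rfl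
  have hfst : ∀ g : G, ∃ x : Gh, (x : G × Matrix.SpecialLinearGroup (Fin e) ℂ).1 = g := by
    intro g
    exact ⟨⟨(g, A₀ g), P₀ g, P₀' g, hP₀ g, hA₀ g⟩, rfl⟩
  have hτirr : τ.IsIrreducible := by
    have hnte : Nontrivial (Fin e → ℂ) := by
      have : Nonempty (Fin e) := ⟨⟨0, hepos⟩⟩
      infer_instance
    have := hX
    refine { exists_pair_ne := ?_, eq_bot_or_eq_top := ?_ }
    · refine ⟨⊥, ⊤, fun h => ?_⟩
      have h2 : (⊥ : Submodule ℂ (Fin e → ℂ)) = ⊤ := congrArg Subrepresentation.toSubmodule h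
      exact bot_ne_top h2
    · intro U
      let Ut : Subrepresentation X := ⟨tensorSub U.toSubmodule, fun g f hf => by
        obtain ⟨x, hx⟩ := hfst g
        obtain ⟨P, P', hP, hxP⟩ := x.2
        rw [← toLin'_rmat X g, ← hx, hxP, Matrix.toLin'_apply]
        apply tensorSub_invariant _ _ _ _ f hf
        intro u hu
        have := U.apply_mem_toSubmodule x hu
        rw [hτ, Matrix.toLin'_apply] at this
        exact this⟩
      have hd : Nonempty (Fin d) := ⟨⟨0, Nat.pos_of_ne_zero hd0⟩⟩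
      rcases eq_bot_or_eq_top Ut with h | h
      · left
        apply Subrepresentation.toSubmodule_injective
        show U.toSubmodule = ⊥
        rw [eq_bot_iff]
        intro u hu
        have h2 : (fun p : Fin e × Fin d => u p.1) ∈ Ut.toSubmodule := fun k => hu
        rw [h] at h2
        have h3 : (fun p : Fin e × Fin d => u p.1) = 0 := h2
        rw [Submodule.mem_bot]
        funext i
        exact congrFun h3 (i, Classical.arbitrary _)
      · right
        apply Subrepresentation.toSubmodule_injective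
        show U.toSubmodule = ⊤
        rw [eq_top_iff]
        intro u _
        have h2 : (fun p : Fin e × Fin d => u p.1) ∈ Ut.toSubmodule := by
          rw [h]; trivial
        exact h2 (Classical.arbitrary _)
  -- the subgroup over `N`
  let π : Gh →* G := (MonoidHom.fst G (Matrix.SpecialLinearGroup (Fin e) ℂ)).comp Gh.subtype
  have hπ : Function.Surjective π := by
    intro g
    obtain ⟨x, hx⟩ := hfst g
    exact ⟨x, hx⟩
  let Z : Subgroup Gh := N.comap π
  have hZ : ∀ z ∈ Z, ∀ x : Gh, τ z * τ x = τ x * τ z := by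
    intro z hz x
    have hzN : (z : G × Matrix.SpecialLinearGroup (Fin e) ℂ).1 ∈ N := hz
    obtain ⟨P, P', hP, hzP⟩ := z.2
    have h1 := hXσ ⟨_, hzN⟩
    rw [hzP] at h1
    obtain ⟨c, hc⟩ := kronecker_unique _ _ _ _ h1.symm (invertible_ne_zero hd0 P P' hP)
    have h2 : τ z = c • (1 : Module.End ℂ (Fin e → ℂ)) := by
      rw [hτ, hc, map_smul, Matrix.toLin'_one]; rfl
    rw [h2, smul_mul_assoc, mul_smul_comm, one_mul, mul_one]
  have hmain := degree_dvd_index_of_comm τ hτirr Z hZ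
  have hidx : Z.index = N.index := Subgroup.index_comap_of_surjective N hπ
  rw [hidx] at hmain
  simpa using hmain


theorem trace_toLin'_eq {ι : Type*} [Fintype ι] [DecidableEq ι] (M : Matrix ι ι ℂ) :
    LinearMap.trace ℂ (ι → ℂ) (Matrix.toLin' M) = M.trace := by
  rw [LinearMap.trace_eq_matrix_trace ℂ (Pi.basisFun ℂ ι), LinearMap.toMatrix_eq_toMatrix',
    LinearMap.toMatrix'_toLin']

/-- If `χ ∈ Irr(G)` restricts to `e • ϑ` on the normal subgroup `N` with `ϑ` irreducible and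
`G`-invariant, then `e` divides `|G : N|`. -/
theorem ram_dvd_index {G : Type*} [Group G] [Fintype G] (N : Subgroup G) [hN : N.Normal]
    (χ : G → ℂ) (hχ : IsIrrCharacter G χ) (ϑ : N → ℂ) (hϑ : IsIrrCharacter N ϑ)
    (hinv : ∀ (g : G) (n : N), ϑ ⟨g * n * g⁻¹, hN.conj_mem (n : G) n.2 g⟩ = ϑ n)
    (e : ℕ) (he : e ≠ 0) (hres : ∀ n : N, χ n = e * ϑ n) : e ∣ N.index := by
  classical
  have : Fintype N := Fintype.ofFinite _
  obtain ⟨n, ρ, hρirr, hρχ⟩ := hχ
  obtain ⟨d, σ, hσirr, hσϑ⟩ := hϑ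
  let σ' : Representation ℂ N (Fin e × Fin d → ℂ) :=
    { toFun := fun m => Matrix.toLin' ((1 : Matrix (Fin e) (Fin e) ℂ) ⊗ₖ rmat σ m)
      map_one' := by
        rw [rmat_one, Matrix.one_kronecker_one, Matrix.toLin'_one]; rfl
      map_mul' := fun a b => by
        rw [rmat_mul, ← Matrix.one_mul (1 : Matrix (Fin e) (Fin e) ℂ), Matrix.mul_kronecker_mul,
          Matrix.toLin'_mul, Matrix.one_mul]; rfl }
  have hσ' : ∀ m : N, σ' m = Matrix.toLin' ((1 : Matrix (Fin e) (Fin e) ℂ) ⊗ₖ rmat σ m) :=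
    fun _ => rfl
  let ρN : Representation ℂ N (Fin n → ℂ) := MonoidHom.comp ρ N.subtype
  have hchar : ρN.character = σ'.character := by
    funext m
    show LinearMap.trace ℂ _ (ρ (m : G)) = LinearMap.trace ℂ _ (σ' m)
    rw [hσ', trace_toLin'_eq, Matrix.trace_kronecker, Matrix.trace_one, Fintype.card_fin]
    have h1 : LinearMap.trace ℂ _ (ρ (m : G)) = χ m := congrFun hρχ m
    have h2 : (rmat σ m).trace = ϑ m := by
      rw [← congrFun hσϑ m]
      unfold rmat Representation.character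
      rw [LinearMap.trace_eq_matrix_trace ℂ (Pi.basisFun ℂ (Fin d)),
        LinearMap.toMatrix_eq_toMatrix']
    rw [h1, h2, hres]
  obtain ⟨Φ⟩ := equiv_of_character_eq' ρN σ' hchar
  let E : (Fin n → ℂ) ≃ₗ[ℂ] (Fin e × Fin d → ℂ) := Φ.toLinearEquiv
  have hE : ∀ (m : N) (v : Fin n → ℂ), E (ρ (m : G) v) = σ' m (E v) := fun m v =>
    LinearMap.congr_fun (Φ.isIntertwining' m) v
  let X : Representation ℂ G (Fin e × Fin d → ℂ) := transportRep ρ E
  have hXirr : X.IsIrreducible := isIrreducible_of_equiv (transportEquiv ρ E) hρirr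
  have hXσ : ∀ m : N, rmat X m = (1 : Matrix (Fin e) (Fin e) ℂ) ⊗ₖ rmat σ m := by
    intro m
    have h1 : X (m : G) = σ' m := by
      apply LinearMap.ext
      intro w
      rw [transportRep_apply, hE, LinearEquiv.apply_symm_apply]
    unfold rmat at *
    rw [h1, hσ', LinearMap.toMatrix'_toLin']
  refine card_dvd_index_of_tensor N he X hXirr σ hσirr hXσ ?_
  intro g m
  rw [hσϑ]
  exact hinv g m


end Cfsg.Agent.Lib.Helper7
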