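import Mathlib
import Cfsg.Prelude.Def_Characters
import Cfsg.Prelude.Def_Blocks
import Cfsg.Agent.Lib.Helper7.GlaubCount
import Cfsg.Agent.Lib.Helper7.ExtDet
import Cfsg.Agent.Lib.Helper7.Gallagher
import Cfsg.Agent.Lib.Helper7.PResChar
import Cfsg.Agent.Lib.Helper7.CliffordCorr
import Cfsg.Agent.S0887

/-!
# Counting characters of degree coprime to a normal Hall quotient (helper7)
-/

set_option autoImplicit false
set_option linter.style.haveILetI false

namespace Cfsg.Agent.Lib.Helper7.CoprimeCount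

open Cfsg Cfsg.Agent.Lib.Helper26 Cfsg.Agent.Lib.Helper2 Cfsg.Agent.Lib.Helper7
open scoped ComplexConjugate

universe u

section
variable {G : Type u} [Group G] [Fintype G] (N : Subgroup G) [hN : N.Normal] [Fintype N]

/-- a character containing an irreducible constituent of the same degree equals it -/
theorem eq_of_constituent_of_degree {K : Type*} [Group K] [Fintype K] (X ϑ : K → ℂ)
    (hX : IsCharacter K X) (hϑ : IsIrrCharacter K ϑ) (hcon : classInner X ϑ ≠ 0)
    (hdeg : X 1 = ϑ 1) : X = ϑ := by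
  classical
  haveI : Fintype (IrrCharacter K) := Fintype.ofFinite _
  have he : ∀ η : IrrCharacter K, ∃ e : ℕ, classInner X (η : K → ℂ) = e := fun η =>
    classInner_isCharacter_nat hX (isCharacter_of_isIrrCharacter η.2)
  choose e he using he
  have hd : ∀ η : IrrCharacter K, ∃ d : ℕ, 0 < d ∧ (η : K → ℂ) 1 = d := fun η => irr_degree η.2
  choose d hdpos hd using hd
  have hexp := Cfsg.Agent.Lib.Helper4.classFunction_expansion X (isClassFunction_of_isCharacter hX)
  set ϑ' : IrrCharacter K := ⟨ϑ, hϑ⟩ with hϑ'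
  have h1 : (d ϑ' : ℂ) = ∑ η : IrrCharacter K, (e η : ℂ) * (d η : ℂ) := by
    have h2 := congrFun hexp 1
    simp only [Finset.sum_apply, Pi.smul_apply, smul_eq_mul, he, hd] at h2
    rw [← h2, hdeg]
    exact (hd ϑ').symm
  have h1' : d ϑ' = ∑ η : IrrCharacter K, e η * d η := by exact_mod_cast h1
  have heϑ : 1 ≤ e ϑ' := by
    have : e ϑ' ≠ 0 := by
      intro h0
      apply hcon
      have := he ϑ'
      rw [h0] at this
      simpa using this
    omega
  rw [← Finset.add_sum_erase Finset.univ _ (Finset.mem_univ ϑ')] at h1'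
  have h3 : ∑ η ∈ Finset.univ.erase ϑ', e η * d η = 0 ∧ e ϑ' = 1 := by
    have h4 : d ϑ' ≤ e ϑ' * d ϑ' := Nat.le_mul_of_pos_left _ heϑ
    have h5 : ∑ η ∈ Finset.univ.erase ϑ', e η * d η = 0 := by omega
    refine ⟨h5, ?_⟩
    rw [h5, add_zero] at h1'
    have h6 := hdpos ϑ'
    nlinarith
  have h7 : ∀ η : IrrCharacter K, η ≠ ϑ' → e η = 0 := by
    intro η hη
    have := (Finset.sum_eq_zero_iff.mp h3.1) η (Finset.mem_erase.mpr ⟨hη, Finset.mem_univ _⟩)
    rcases Nat.mul_eq_zero.mp this with h | h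
    · exact h
    · have := hdpos η; omega
  rw [hexp, Finset.sum_eq_single ϑ']
  · rw [he, h3.2]; simp [hϑ']
  · intro η _ hη
    rw [he, h7 η hη]; simp
  · intro h; exact absurd (Finset.mem_univ _) h

/-- a character of degree coprime to the index of a normal subgroup restricts irreducibly -/
theorem restrict_irr_coprime (χ : G → ℂ) (hχ : IsIrrCharacter G χ) (c : ℕ) (hc : χ 1 = c)
    (hcop : c.Coprime N.index) : IsIrrCharacter N (fun n : N => χ n) := by
  classical
  have hχc := isCharacter_of_isIrrCharacter hχ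
  have hXc : IsCharacter N (fun n : N => χ n) := isCharacter_comp_hom hχc N.subtype
  obtain ⟨c', hc'pos, hc'⟩ := irr_degree hχ
  have hcc : c = c' := by
    have : (c : ℂ) = c' := by rw [← hc, hc']
    exact_mod_cast this
  have hX1 : (fun n : N => χ n) 1 ≠ 0 := by
    show χ ((1 : N) : G) ≠ 0
    rw [Subgroup.coe_one, hc]
    exact Nat.cast_ne_zero.mpr (by omega)
  obtain ⟨ϑ, hϑ⟩ := exists_constituent hXc hX1
  obtain ⟨d, hdpos, hd⟩ := irr_degree ϑ.2
  obtain ⟨hdc, hq⟩ := Cfsg.Agent.S0887.result N χ hχ (ϑ : N → ℂ) ϑ.2 hϑ c d hc hd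
  have h1 : c / d ∣ c := Nat.div_dvd_of_dvd hdc
  have h2 : c / d ∣ Nat.gcd c N.index := Nat.dvd_gcd h1 hq
  rw [hcop] at h2
  have h3 : c / d = 1 := Nat.dvd_one.mp h2
  have h4 : c = d := by
    obtain ⟨k, hk⟩ := hdc
    rw [hk, Nat.mul_div_cancel_left _ hdpos] at h3
    rw [hk, h3, mul_one]
  have := eq_of_constituent_of_degree (fun n : N => χ n) (ϑ : N → ℂ) hXc ϑ.2 hϑ (by
    show χ ((1 : N) : G) = (ϑ : N → ℂ) 1
    rw [Subgroup.coe_one, hc, hd, h4])
  rw [this]
  exact ϑ.2

end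

section Extensions
variable {G : Type u} [Group G] [Fintype G] (N : Subgroup G) [hN : N.Normal] [Fintype N]

/-- linear characters of the quotient twist an extension injectively -/
theorem twist_injective (ϑ : N → ℂ) (hϑ : IsIrrCharacter N ϑ) (χ : G → ℂ)
    (hχ : IsIrrCharacter G χ) (hext : ∀ n : N, χ n = ϑ n) (lam lam' : G ⧸ N →* ℂˣ)
    (h : (fun g : G => ((lam (QuotientGroup.mk g) : ℂˣ) : ℂ) * χ g) =
      fun g : G => ((lam' (QuotientGroup.mk g) : ℂˣ) : ℂ) * χ g) : lam = lam' := by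
  classical
  have hinv := inv_of_ext N ϑ χ hχ hext
  set φ : N → ℂ := fun _ => 1 with hφ
  have hφirr : IsIrrCharacter N φ := by
    have := isIrr_of_hom' (1 : N →* ℂˣ)
    simpa using this
  have hprod : φ * ϑ = ϑ := by
    funext n
    simp [hφ]
  obtain ⟨-, hinj, -⟩ := gallagher_gen N φ ϑ hφirr (fun _ _ => rfl) hinv (by rw [hprod]; exact hϑ)
    χ hχ hext
  have hβirr : ∀ mu : G ⧸ N →* ℂˣ,
      IsIrrCharacter G (fun g : G => ((mu (QuotientGroup.mk g) : ℂˣ) : ℂ)) := fun mu =>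
    isIrr_of_hom' (mu.comp (QuotientGroup.mk' N))
  have hβcon : ∀ mu : G ⧸ N →* ℂˣ,
      classInner (indFun N φ) (fun g : G => ((mu (QuotientGroup.mk g) : ℂˣ) : ℂ)) ≠ 0 := by
    intro mu
    rw [← classInner_conj_symm, classInner_indFun_right N _
      (isClassFunction_of_isIrrCharacter (hβirr mu))]
    have h1 : ∀ n : N, ((mu (QuotientGroup.mk (n : G)) : ℂˣ) : ℂ) * conj (φ n) = 1 := by
      intro n
      have : (QuotientGroup.mk (n : G) : G ⧸ N) = 1 := (QuotientGroup.eq_one_iff _).mpr n.2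
      rw [this, map_one, hφ]
      simp
    rw [Finset.sum_congr rfl fun n _ => h1 n]
    simp only [Finset.sum_const, Finset.card_univ, nsmul_eq_mul, mul_one]
    rw [← Nat.card_eq_fintype_card, inv_mul_cancel₀ (Nat.cast_ne_zero.mpr Nat.card_pos.ne'),
      map_one]
    exact one_ne_zero
  have h2 := hinj _ _ (hβirr lam) (hβirr lam') (hβcon lam) (hβcon lam') h
  apply MonoidHom.ext
  intro q
  obtain ⟨g, rfl⟩ := QuotientGroup.mk_surjective q
  apply Units.ext
  exact congrFun h2 g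

/-- the number of extensions of an extendible irreducible character -/
theorem card_extensions (ϑ : IrrCharacter N) (χ : G → ℂ) (hχ : IsIrrCharacter G χ)
    (hext : ∀ n : N, χ n = (ϑ : N → ℂ) n) :
    Nat.card {ψ : IrrCharacter G // ∀ n : N, (ψ : G → ℂ) n = (ϑ : N → ℂ) n} =
      Nat.card (G ⧸ N →* ℂˣ) := by
  classical
  let F : (G ⧸ N →* ℂˣ) → {ψ : IrrCharacter G // ∀ n : N, (ψ : G → ℂ) n = (ϑ : N → ℂ) n} :=
    fun lam => ⟨⟨fun g : G => ((lam (QuotientGroup.mk g) : ℂˣ) : ℂ) * χ g,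
      Cfsg.Agent.S0857.isIrr_twist (lam.comp (QuotientGroup.mk' N)) χ hχ⟩, by
        intro n
        show ((lam (QuotientGroup.mk (n : G)) : ℂˣ) : ℂ) * χ n = (ϑ : N → ℂ) n
        have : (QuotientGroup.mk (n : G) : G ⧸ N) = 1 := (QuotientGroup.eq_one_iff _).mpr n.2
        rw [this, map_one, Units.val_one, one_mul, hext]⟩
  have hF : Function.Bijective F := by
    constructor
    · intro lam lam' h
      have h1 : (fun g : G => ((lam (QuotientGroup.mk g) : ℂˣ) : ℂ) * χ g) =
          fun g : G => ((lam' (QuotientGroup.mk g) : ℂˣ) : ℂ) * χ g :=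
        congrArg (fun ψ : {ψ : IrrCharacter G // ∀ n : N, (ψ : G → ℂ) n = (ϑ : N → ℂ) n} =>
          ((ψ : IrrCharacter G) : G → ℂ)) h
      exact twist_injective N (ϑ : N → ℂ) ϑ.2 χ hχ hext lam lam' h1
    · rintro ⟨ψ, hψ⟩
      obtain ⟨β, hβN, hβ⟩ := ext_twist N (ϑ : N → ℂ) ϑ.2 χ (ψ : G → ℂ) hχ ψ.2 hext hψ
      have hker : N ≤ β.ker := fun n hn => MonoidHom.mem_ker.mpr (hβN ⟨n, hn⟩)
      refine ⟨QuotientGroup.lift N β hker, ?_⟩
      apply Subtype.ext
      apply Subtype.ext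
      show (fun g : G => (((QuotientGroup.lift N β hker) (QuotientGroup.mk g) : ℂˣ) : ℂ) * χ g) =
        (ψ : G → ℂ)
      rw [hβ]
      funext g
      rw [QuotientGroup.lift_mk]
  exact (Nat.card_congr (Equiv.ofBijective F hF)).symm

end Extensions

section MainCount
variable {G : Type u} [Group G] [Fintype G] (K : Subgroup G) [hK : K.Normal] [Fintype K]

/-- invariance of a function on a normal subgroup under the whole group -/
def GInv (ϑ : K → ℂ) : Prop :=
  ∀ (g : G) (k : K), ϑ ⟨g * k * g⁻¹, hK.conj_mem (k : G) k.2 g⟩ = ϑ k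

theorem irr_one_eq_charDegree {W : Type*} [Group W] (χ : IrrCharacter W) :
    (χ : W → ℂ) 1 = (charDegree (χ : W → ℂ) : ℂ) := by
  obtain ⟨d, -, hd⟩ := irr_degree χ.2
  rw [charDegree_eq_of hd, hd]

/-- the number of irreducible characters of degree coprime to the index of a normal Hall
subgroup with solvable quotient -/
theorem card_coprime_degree (hcop : (Nat.card K).Coprime K.index)
    (hsolv : Group.IsSolvable (G ⧸ K)) :
    Nat.card {χ : IrrCharacter G // (charDegree (χ : G → ℂ)).Coprime K.index} =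
      Nat.card {ϑ : IrrCharacter K // GInv K (ϑ : K → ℂ)} * Nat.card (G ⧸ K →* ℂˣ) := by
  classical
  haveI : Fintype {ϑ : IrrCharacter K // GInv K (ϑ : K → ℂ)} := Fintype.ofFinite _
  let r : {χ : IrrCharacter G // (charDegree (χ : G → ℂ)).Coprime K.index} →
      {ϑ : IrrCharacter K // GInv K (ϑ : K → ℂ)} := fun χ =>
    ⟨⟨fun k : K => (χ.1 : G → ℂ) k, restrict_irr_coprime K (χ.1 : G → ℂ) χ.1.2 _
      (irr_one_eq_charDegree χ.1) χ.2⟩,
      inv_of_ext K _ (χ.1 : G → ℂ) χ.1.2 (fun _ => rfl)⟩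
  rw [Nat.card_congr (Equiv.sigmaFiberEquiv r).symm, Nat.card_sigma]
  have hfib : ∀ b : {ϑ : IrrCharacter K // GInv K (ϑ : K → ℂ)},
      Nat.card {a : {χ : IrrCharacter G // (charDegree (χ : G → ℂ)).Coprime K.index} // r a = b} =
        Nat.card (G ⧸ K →* ℂˣ) := by
    intro b
    obtain ⟨d, hdpos, hd⟩ := irr_degree b.1.2
    have hdK : d ∣ Nat.card K := irr_degree_dvd_card b.1.2 d hd
    have hoK : detOrder (b.1 : K → ℂ) ∣ Nat.card K :=
      detOrder_dvd_card (isCharacter_of_isIrrCharacter b.1.2)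
    have hcop' : Nat.Coprime K.index (detOrder (b.1 : K → ℂ) * d) :=
      Nat.Coprime.mul_right (Nat.Coprime.coprime_dvd_right hoK hcop.symm)
        (Nat.Coprime.coprime_dvd_right hdK hcop.symm)
    obtain ⟨χ, hχ, hext, -⟩ := ext_coprime_solvable K hsolv (b.1 : K → ℂ) b.1.2 b.2 d hd hcop'
    rw [← card_extensions K b.1 χ hχ hext]
    refine Nat.card_congr ⟨fun a => ⟨a.1.1, fun n => ?_⟩, fun ψ => ⟨⟨ψ.1, ?_⟩, ?_⟩, ?_, ?_⟩
    · have := a.2
      exact congrFun (congrArg (fun b : {ϑ : IrrCharacter K // GInv K (ϑ : K → ℂ)} =>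
        ((b.1 : IrrCharacter K) : K → ℂ)) this) n
    · have h1 : (ψ.1 : G → ℂ) 1 = d := by
        have := ψ.2 1
        rw [hd] at this
        rw [← this]
        rfl
      rw [charDegree_eq_of h1]
      exact Nat.Coprime.coprime_dvd_left hdK hcop
    · apply Subtype.ext
      apply Subtype.ext
      funext n
      exact ψ.2 n
    · intro a
      rfl
    · intro ψ
      rfl
  rw [Finset.sum_congr rfl fun b _ => hfib b, Finset.sum_const, Finset.card_univ, smul_eq_mul,
    ← Nat.card_eq_fintype_card]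

end MainCount

section Helpers

theorem card_irr_congr {A B : Type*} [Group A] [Group B] (e : A ≃* B) :
    Nat.card (IrrCharacter A) = Nat.card (IrrCharacter B) := by
  refine Nat.card_congr ⟨fun ψ => ⟨(ψ : A → ℂ) ∘ e.symm, isIrrCharacter_comp_mulEquiv ψ.2 e.symm⟩,
    fun ψ => ⟨(ψ : B → ℂ) ∘ e, isIrrCharacter_comp_mulEquiv ψ.2 e⟩, ?_, ?_⟩
  · intro ψ
    apply Subtype.ext
    funext a
    simp
  · intro ψ
    apply Subtype.ext
    funext b
    simp

theorem card_hom_congr {A B : Type*} [Group A] [Group B] (e : A ≃* B) :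
    Nat.card (A →* ℂˣ) = Nat.card (B →* ℂˣ) := by
  refine Nat.card_congr ⟨fun f => f.comp e.symm.toMonoidHom, fun f => f.comp e.toMonoidHom, ?_, ?_⟩
  · intro f
    ext a
    simp
  · intro f
    ext b
    simp

/-- a complement of a normal subgroup is isomorphic to the quotient -/
noncomputable def complEquiv {G : Type*} [Group G] (K H : Subgroup G) [K.Normal]
    (hdisj : ∀ x, x ∈ K → x ∈ H → x = 1) (hprod : ∀ g : G, ∃ k ∈ K, ∃ h ∈ H, g = k * h) :
    H ≃* G ⧸ K :=
  MulEquiv.ofBijective ((QuotientGroup.mk' K).comp H.subtype) (by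
    constructor
    · rw [injective_iff_map_eq_one]
      intro h hh
      have h1 : (h : G) ∈ K := (QuotientGroup.eq_one_iff _).mp hh
      exact Subtype.ext (hdisj _ h1 h.2)
    · intro q
      obtain ⟨g, rfl⟩ := QuotientGroup.mk_surjective q
      obtain ⟨k, hk, h, hh, rfl⟩ := hprod g
      refine ⟨⟨h, hh⟩, ?_⟩
      show ((h : G) : G ⧸ K) = ((k * h : G) : G ⧸ K)
      rw [QuotientGroup.mk_mul, (QuotientGroup.eq_one_iff k).mpr hk, one_mul])

end Helpers

end Cfsg.Agent.Lib.Helper7.CoprimeCount
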