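import Mathlib
import Cfsg.Prelude.Def_Characters
import Cfsg.Prelude.Def_CharExt
import Cfsg.Agent.Lib.Helper7.GlaubPrime
import Cfsg.Agent.Lib.Helper7.GlaubCount
import Cfsg.Agent.Lib.Helper7.DetChar
import Cfsg.Agent.Lib.Helper4.GaloisConj
import Cfsg.Agent.Lib.Helper4.GaloisChar

/-!
# The Glauberman correspondence for a cyclic operator group via canonical extensions (helper7)
-/

set_option autoImplicit false
set_option linter.style.haveILetI false

namespace Cfsg.Agent.Lib.Helper7.GlaubCyc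

open Cfsg Cfsg.Agent.Lib.Helper26 Cfsg.Agent.Lib.Helper2 Cfsg.Agent.Lib.Helper7.GlaubSetup
  Cfsg.Agent.Lib.Helper7.GlaubPrime Cfsg.Agent.Lib.Helper4
open scoped ComplexConjugate
open SemidirectProduct

section Arith

/-- a sum of roots of unity with natural coefficients that is invariant under all Galois
twists is a rational integer -/
theorem int_of_pow_invariant {ι : Type*} [Fintype ι] (N : ℕ) (hN : 0 < N) (n : ι → ℕ) (μ : ι → ℂ)
    (hμ : ∀ i, μ i ^ N = 1)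
    (hinv : ∀ m : ℕ, m.Coprime N → ∑ i, (n i : ℂ) * μ i ^ m = ∑ i, (n i : ℂ) * μ i) :
    ∃ z : ℤ, ∑ i, (n i : ℂ) * μ i = z := by
  classical
  haveI : NeZero N := ⟨hN.ne'⟩
  set x : cycK N := ∑ i, (n i : cycK N) * ⟨μ i, root_mem_cycK N hN (μ i) (hμ i)⟩ with hx
  have hxc : (x : ℂ) = ∑ i, (n i : ℂ) * μ i := by
    rw [hx]
    have : ((∑ i, (n i : cycK N) * ⟨μ i, root_mem_cycK N hN (μ i) (hμ i)⟩ : cycK N) : ℂ) =
        algebraMap (cycK N) ℂ (∑ i, (n i : cycK N) * ⟨μ i, root_mem_cycK N hN (μ i) (hμ i)⟩) :=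
      rfl
    rw [this, map_sum]
    refine Finset.sum_congr rfl fun i _ => ?_
    rw [map_mul, map_natCast]
    rfl
  have hfix : ∀ σ : cycK N →ₐ[ℚ] ℂ, σ x = (x : ℂ) := by
    intro σ
    obtain ⟨m, hm, hσ⟩ := embedding_pow N hN σ
    rw [hxc, hx, map_sum, ← hinv m hm]
    refine Finset.sum_congr rfl fun i _ => ?_
    rw [map_mul, map_natCast, hσ _ (hμ i)]
  obtain ⟨q, hq⟩ := rational_of_fixed N hN x hfix
  have hint : IsIntegral ℤ (x : ℂ) := by
    rw [hxc]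
    refine IsIntegral.sum _ fun i _ => ?_
    refine IsIntegral.mul (isIntegral_natCast (n i)) ?_
    exact IsIntegral.of_pow hN (by rw [hμ i]; exact isIntegral_one)
  rw [hq] at hint
  have hint' : IsIntegral ℤ q := by
    have h1 : ((q : ℚ) : ℂ) = algebraMap ℚ ℂ q := rfl
    rw [h1] at hint
    exact (isIntegral_algebraMap_iff (algebraMap ℚ ℂ).injective).mp hint
  obtain ⟨z, hz⟩ := IsIntegrallyClosed.isIntegral_iff.mp hint'
  refine ⟨z, ?_⟩
  rw [← hxc, hq, ← hz]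
  simp

/-- integers whose squares sum to one -/
theorem exists_unique_pm_one {ι : Type*} [Fintype ι] (z : ι → ℤ) (h : ∑ i, z i ^ 2 = 1) :
    ∃ i₀, (z i₀ = 1 ∨ z i₀ = -1) ∧ ∀ i, i ≠ i₀ → z i = 0 := by
  classical
  have hex : ∃ i₀, z i₀ ≠ 0 := by
    by_contra hall
    push Not at hall
    rw [Finset.sum_congr rfl fun i _ => by rw [hall i]] at h
    simp at h
  obtain ⟨i₀, hi₀⟩ := hex
  have hsplit := Finset.add_sum_erase Finset.univ (fun i => z i ^ 2) (Finset.mem_univ i₀)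
  rw [h] at hsplit
  have hnn : 0 ≤ ∑ i ∈ Finset.univ.erase i₀, z i ^ 2 :=
    Finset.sum_nonneg fun i _ => sq_nonneg _
  have h1 : 1 ≤ z i₀ ^ 2 := by
    have := Int.one_le_abs hi₀
    nlinarith [abs_mul_abs_self (z i₀)]
  have h2 : z i₀ ^ 2 = 1 := by linarith
  have h3 : ∑ i ∈ Finset.univ.erase i₀, z i ^ 2 = 0 := by linarith
  refine ⟨i₀, ?_, ?_⟩
  · have : (z i₀ - 1) * (z i₀ + 1) = 0 := by ring_nf; linarith
    rcases mul_eq_zero.mp this with h | h
    · left; linarith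
    · right; linarith
  · intro i hi
    have h4 := (Finset.sum_eq_zero_iff_of_nonneg (fun i _ => sq_nonneg (z i))).mp h3 i
      (Finset.mem_erase.mpr ⟨hi, Finset.mem_univ _⟩)
    exact pow_eq_zero_iff (two_ne_zero) |>.mp h4

end Arith

section Expand

variable {H : Type*} [Group H] [Fintype H] {T : Type*} [Group T] [Fintype T] (φ : T →* MulAut H)
variable {D : Type*} [Group D] [Fintype D] (j : D →* H)
variable (hjfix : ∀ (s : T) (d : D), φ s (j d) = j d)

include hjfix in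
/-- the coefficients of the coset functions are natural combinations of linear characters of `T` -/
theorem Bc_expand (hcomm : ∀ a b : T, a * b = b * a) [Fintype (T →* ℂˣ)]
    (X : H ⋊[φ] T → ℂ) (hXc : IsCharacter (H ⋊[φ] T) X) (β : IrrCharacter D) :
    ∃ n : (T →* ℂˣ) → ℕ, ∀ t : T,
      Bc φ j X (β : D → ℂ) t = ∑ lam : T →* ℂˣ, (n lam : ℂ) * ((lam t : ℂˣ) : ℂ) := by
  classical
  have hT0 : (Nat.card T : ℂ) ≠ 0 := Nat.cast_ne_zero.mpr Nat.card_pos.ne'
  set a : (T →* ℂˣ) → ℂ := fun lam =>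
    classInner (X ∘ mu φ j hjfix) (fun x : D × T => (β : D → ℂ) x.1 * ((lam x.2 : ℂˣ) : ℂ)) with ha
  have ha_nat : ∀ (lam : T →* ℂˣ), ∃ n : ℕ, a lam = n := by
    intro lam
    exact classInner_isCharacter_nat (isCharacter_comp_hom hXc (mu φ j hjfix))
      (Cfsg.Agent.Lib.Helper4.isCharacter_prod (isCharacter_of_isIrrCharacter β.2)
        (Cfsg.Agent.Lib.Helper24.isCharacter_of_hom lam))
  choose n hn using ha_nat
  have ha_eq : ∀ (lam : T →* ℂˣ), a lam = (Nat.card T : ℂ)⁻¹ *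
      ∑ t : T, Bc φ j X (β : D → ℂ) t * conj ((lam t : ℂˣ) : ℂ) := by
    intro lam
    show classInner (X ∘ mu φ j hjfix)
      (fun x : D × T => (β : D → ℂ) x.1 * ((lam x.2 : ℂˣ) : ℂ)) = _
    unfold Bc classInner
    rw [Nat.card_prod, Fintype.sum_prod_type, Finset.sum_comm]
    push_cast
    rw [Finset.mul_sum, Finset.mul_sum]
    refine Finset.sum_congr rfl fun t _ => ?_
    rw [Finset.mul_sum, Finset.mul_sum, Finset.sum_mul, Finset.mul_sum]
    refine Finset.sum_congr rfl fun d _ => ?_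
    show ((Nat.card D : ℂ) * (Nat.card T : ℂ))⁻¹ * (X ⟨j d, t⟩ *
      conj ((β : D → ℂ) d * ((lam t : ℂˣ) : ℂ))) = _
    rw [map_mul, mul_inv]
    ring
  refine ⟨n, fun t => ?_⟩
  simp only [← hn, ha_eq]
  have h1 : ∀ lam : T →* ℂˣ, (Nat.card T : ℂ)⁻¹ *
      (∑ s : T, Bc φ j X (β : D → ℂ) s * conj ((lam s : ℂˣ) : ℂ)) * ((lam t : ℂˣ) : ℂ) =
      (Nat.card T : ℂ)⁻¹ * ∑ s : T, Bc φ j X (β : D → ℂ) s * ((lam (s⁻¹ * t) : ℂˣ) : ℂ) := by
    intro lam
    rw [mul_assoc, Finset.sum_mul]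
    congr 1
    refine Finset.sum_congr rfl fun s _ => ?_
    rw [conj_linChar, map_mul, Units.val_mul, mul_assoc]
  rw [Finset.sum_congr rfl fun lam _ => h1 lam, ← Finset.mul_sum, Finset.sum_comm]
  have h2 : ∀ s : T, ∑ lam : T →* ℂˣ, Bc φ j X (β : D → ℂ) s * ((lam (s⁻¹ * t) : ℂˣ) : ℂ) =
      if s = t then (Nat.card T : ℂ) * Bc φ j X (β : D → ℂ) s else 0 := by
    intro s
    rw [← Finset.mul_sum, Cfsg.Agent.S0857.sum_monoidHom_apply' hcomm]
    by_cases hs : s = t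
    · rw [if_pos hs, if_pos (by rw [hs]; group), mul_comm]
    · rw [if_neg hs, if_neg, mul_zero]
      intro h
      apply hs
      have := congrArg (fun y => s * y) h
      simpa using this.symm
  rw [Finset.sum_congr rfl fun s _ => h2 s, Finset.sum_ite_eq' Finset.univ t]
  simp only [Finset.mem_univ, if_true]
  rw [← mul_assoc, inv_mul_cancel₀ hT0, one_mul]

end Expand

section DetPow

variable {Γ : Type*} [Group Γ] [Fintype Γ]

/-- the determinant of a Galois twist -/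
theorem detChar_pow (ψ : Γ → ℂ) (hψ : IsCharacter Γ ψ) (m : ℕ) (hm : m.Coprime (Nat.card Γ))
    (x : Γ) : detChar (fun y => ψ (y ^ m)) x = (detChar ψ x) ^ m := by
  have hψm : IsCharacter Γ (fun y => ψ (y ^ m)) := isCharacter_pow ψ hψ m hm
  set Z : Subgroup Γ := Subgroup.zpowers x with hZ
  let f : Z →* Γ := Z.subtype
  let f' : Z →* Γ :=
    { toFun := fun z => (z : Γ) ^ m
      map_one' := by simp
      map_mul' := by
        intro a b
        obtain ⟨i, hi⟩ := Subgroup.mem_zpowers_iff.mp a.2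
        obtain ⟨k, hk⟩ := Subgroup.mem_zpowers_iff.mp b.2
        have hc : Commute (a : Γ) (b : Γ) := by
          rw [← hi, ← hk]
          exact Commute.zpow_zpow_self x i k
        show (((a * b : Z) : Γ)) ^ m = (a : Γ) ^ m * (b : Γ) ^ m
        rw [Subgroup.coe_mul, hc.mul_pow] }
  have hx : x ∈ Z := Subgroup.mem_zpowers x
  have h1 := detChar_comp f hψm ⟨x, hx⟩
  have h2 := detChar_comp f' hψ ⟨x, hx⟩
  have h3 : (fun z : Z => (fun y => ψ (y ^ m)) (f z)) = fun z : Z => ψ (f' z) := by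
    funext z
    rfl
  rw [h3] at h1
  have h4 : f ⟨x, hx⟩ = x := rfl
  have h5 : f' ⟨x, hx⟩ = x ^ m := rfl
  rw [h4] at h1
  rw [h5] at h2
  rw [← h1, h2]
  obtain ⟨δ, hδ⟩ := exists_detHom hψ
  rw [hδ, hδ, map_pow, Units.val_pow_eq_pow_val]

end DetPow

section Canonical

theorem pow_of_modEq_one {M : Type*} [Monoid M] (y : M) (N m : ℕ) (hy : y ^ N = 1)
    (hm : m ≡ 1 [MOD N]) : y ^ m = y := by
  have key : ∀ a : ℕ, y ^ a = y ^ (a % N) := by
    intro a
    conv_lhs => rw [← Nat.div_add_mod a N, pow_add, pow_mul, hy, one_pow, one_mul]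
  rw [key m, hm, ← key 1, pow_one]

variable {Γ : Type*} [Group Γ] [Fintype Γ]

/-- the canonical extension is fixed by the Galois twists that fix the roots of unity of order
dividing the order of the normal subgroup -/
theorem canonical_pow_eq (G : Subgroup Γ) [hG : G.Normal] [Fintype G] (χ : G → ℂ)
    (hχ : IsIrrCharacter G χ)
    (χh : Γ → ℂ) (hχh : IsIrrCharacter Γ χh) (hext : ∀ g : G, χh g = χ g)
    (hcopi : (Nat.card G).Coprime G.index) (hdet : (detOrder χh).Coprime G.index)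
    (m : ℕ) (hm1 : m ≡ 1 [MOD Nat.card G]) (hm : m.Coprime (Nat.card Γ)) :
    ∀ x, χh (x ^ m) = χh x := by
  have hχhc := isCharacter_of_isIrrCharacter hχh
  obtain ⟨d, -, hd⟩ := irr_degree hχ
  set ψ : Γ → ℂ := fun x => χh (x ^ m) with hψdef
  have hψ : IsIrrCharacter Γ ψ := isIrrCharacter_pow χh hχh m hm
  have hpowG : ∀ g : G, ((g : Γ)) ^ m = g := by
    intro g
    have h1 : orderOf (g : Γ) ∣ Nat.card G := by
      rw [Subgroup.orderOf_coe]
      exact orderOf_dvd_natCard g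
    have h2 : m ≡ 1 [MOD orderOf (g : Γ)] := hm1.of_dvd h1
    have := pow_eq_pow_iff_modEq.mpr h2
    rw [this, pow_one]
  have hψG : ∀ g : G, ψ g = χ g := by
    intro g
    show χh ((g : Γ) ^ m) = χ g
    rw [hpowG g, hext g]
  have hord : detOrder χh ∣ Nat.card G := by
    have h1 : detOrder χh ∣ Nat.card Γ := detOrder_dvd_card hχhc
    rw [← Subgroup.card_mul_index G] at h1
    exact hdet.dvd_of_dvd_mul_right h1
  have hdetpow : ∀ x : Γ, (detChar χh x) ^ (Nat.card G) = 1 := by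
    intro x
    have h1 : (detChar χh) ^ (Nat.card G) = 1 := orderOf_dvd_iff_pow_eq_one.mp hord
    have h2 := congrFun h1 x
    simpa using h2
  have hdetEq : detChar ψ = detChar χh := by
    funext x
    rw [hψdef, detChar_pow χh hχhc m hm x]
    exact pow_of_modEq_one _ _ m (hdetpow x) hm1
  have hdG : d ∣ Nat.card G := irr_degree_dvd_card hχ d hd
  have hcop' : Nat.Coprime G.index d := (hcopi.coprime_dvd_left hdG).symm
  have := ext_det_unique G χ hχ d hd hcop' ψ χh hψ hχh hψG hext hdetEq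
  intro x
  exact congrFun this x

end Canonical

section Bridge

variable {Γ : Type*} [Group Γ] (G S : Subgroup Γ)
variable (hn : ∀ s ∈ S, ∀ g, g ∈ G ↔ s * g * s⁻¹ ∈ G)

open Cfsg.Agent.Lib.Helper7.GlaubP

/-- the map from the external semidirect product -/
def theta : ↥G ⋊[kap G S hn] ↥S →* Γ :=
  SemidirectProduct.lift G.subtype S.subtype (by
    intro s
    ext g
    show ((kap G S hn s) g : Γ) = (s : Γ) * g * (s : Γ)⁻¹
    rfl)

theorem theta_mk (g : G) (s : S) : theta G S hn ⟨g, s⟩ = (g : Γ) * s := rfl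

theorem theta_inl (g : G) : theta G S hn (inl g) = (g : Γ) := by
  show (g : Γ) * ((1 : S) : Γ) = g
  simp

theorem theta_bijective (hdisj : G ⊓ S = ⊥) (htop : G ⊔ S = ⊤) :
    Function.Bijective (theta G S hn) := by
  constructor
  · rw [injective_iff_map_eq_one]
    intro a ha
    have h1 : (a.left : Γ) * (a.right : Γ) = 1 := ha
    have h2 : (a.left : Γ) = ((a.right)⁻¹ : S) := by
      rw [Subgroup.coe_inv]
      exact eq_inv_of_mul_eq_one_left h1
    have h3 : (a.left : Γ) ∈ G ⊓ S := ⟨a.left.2, by rw [h2]; exact (a.right⁻¹).2⟩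
    rw [hdisj, Subgroup.mem_bot] at h3
    have h4 : (a.right : Γ) = 1 := by rw [h3, one_mul] at h1; exact h1
    ext
    · exact h3
    · exact h4
  · rw [← MonoidHom.range_eq_top, eq_top_iff, ← htop, sup_le_iff]
    constructor
    · intro g hg
      exact ⟨inl ⟨g, hg⟩, theta_inl G S hn ⟨g, hg⟩⟩
    · intro s hs
      refine ⟨inr ⟨s, hs⟩, ?_⟩
      show ((1 : G) : Γ) * s = s
      simp

/-- the isomorphism with the external semidirect product -/
noncomputable def thetaE (hdisj : G ⊓ S = ⊥) (htop : G ⊔ S = ⊤) :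
    ↥G ⋊[kap G S hn] ↥S ≃* Γ :=
  MulEquiv.ofBijective (theta G S hn) (theta_bijective G S hn hdisj htop)

end Bridge

section Main

open Cfsg.Agent.Lib.Helper7.GlaubP

variable {Γ : Type*} [Group Γ] [Fintype Γ] (G S : Subgroup Γ) [Fintype G]

theorem normal_of_top (hnorm : ∀ s ∈ S, ∀ g ∈ G, s * g * s⁻¹ ∈ G) (htop : G ⊔ S = ⊤) :
    G.Normal := by
  rw [← Subgroup.normalizer_eq_top_iff, eq_top_iff, ← htop, sup_le_iff]
  refine ⟨Subgroup.le_normalizer, ?_⟩
  intro s hs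
  rw [Subgroup.mem_normalizer_iff]
  exact norm_iff G S hnorm s hs

theorem card_top (hnorm : ∀ s ∈ S, ∀ g ∈ G, s * g * s⁻¹ ∈ G)
    (hcop : (Nat.card G).Coprime (Nat.card S)) (htop : G ⊔ S = ⊤) :
    Nat.card Γ = Nat.card G * Nat.card S := by
  haveI : Fintype S := Fintype.ofFinite S
  rw [← Nat.card_congr (thetaE G S (norm_iff G S hnorm) (Subgroup.inf_eq_bot_of_coprime hcop)
    htop).toEquiv, card_sd]

theorem index_eq (hnorm : ∀ s ∈ S, ∀ g ∈ G, s * g * s⁻¹ ∈ G)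
    (hcop : (Nat.card G).Coprime (Nat.card S)) (htop : G ⊔ S = ⊤) :
    G.index = Nat.card S := by
  have h1 := Subgroup.card_mul_index G
  rw [card_top G S hnorm hcop htop] at h1
  exact Nat.eq_of_mul_eq_mul_left Nat.card_pos h1

omit [Fintype Γ] [Fintype G] in
theorem gen_pow [Finite Γ] (s s' : Γ) (hs : Subgroup.zpowers s = S) (hs' : Subgroup.zpowers s' = S) :
    ∃ k : ℕ, k.Coprime (Nat.card S) ∧ s' = s ^ k := by
  have h1 : s' ∈ Subgroup.zpowers s := by rw [hs, ← hs']; exact Subgroup.mem_zpowers s'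
  rw [← mem_powers_iff_mem_zpowers] at h1
  obtain ⟨k, hk⟩ := h1
  have hk : s ^ k = s' := hk
  refine ⟨k, ?_, hk.symm⟩
  have ho : orderOf s = Nat.card S := by rw [← hs, Nat.card_zpowers]
  have ho' : orderOf s' = Nat.card S := by rw [← hs', Nat.card_zpowers]
  have h2 : orderOf (s ^ k) = orderOf s / Nat.gcd (orderOf s) k := orderOf_pow s
  rw [hk, ho, ho'] at h2
  have h3 : Nat.gcd (Nat.card S) k = 1 := by
    rcases Nat.div_eq_self.mp h2.symm with h | h
    · exact absurd h Nat.card_pos.ne'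
    · exact h
  rw [Nat.Coprime, Nat.gcd_comm]
  exact h3

theorem crt (hnorm : ∀ s ∈ S, ∀ g ∈ G, s * g * s⁻¹ ∈ G)
    (hcop : (Nat.card G).Coprime (Nat.card S)) (htop : G ⊔ S = ⊤) (k : ℕ)
    (hk : k.Coprime (Nat.card S)) :
    ∃ m : ℕ, m ≡ 1 [MOD Nat.card G] ∧ m ≡ k [MOD Nat.card S] ∧ m.Coprime (Nat.card Γ) := by
  obtain ⟨m, hm1, hmk⟩ := Nat.chineseRemainder hcop 1 k
  refine ⟨m, hm1, hmk, ?_⟩
  rw [card_top G S hnorm hcop htop]
  apply Nat.Coprime.mul_right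
  · rw [Nat.Coprime, hm1.gcd_eq]
    exact Nat.gcd_one_left _
  · rw [Nat.Coprime, hmk.gcd_eq]
    exact hk

variable (hnorm : ∀ s ∈ S, ∀ g ∈ G, s * g * s⁻¹ ∈ G) (hcop : (Nat.card G).Coprime (Nat.card S))
  (htop : G ⊔ S = ⊤) (C : Subgroup Γ) [Fintype C]
  (hC : C = G ⊓ Subgroup.centralizer (S : Set Γ)) (hCG : C ≤ G)

include hnorm hcop htop hC hCG

/-- values of the canonical extension on `C s` do not depend on the generator `s` -/
theorem gal_inv (χ : IrrCharacter G) (χh : IrrCharacter Γ)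
    (hext : ∀ g : G, (χh : Γ → ℂ) g = (χ : G → ℂ) g)
    (hdet : (detOrder (χh : Γ → ℂ)).Coprime (Nat.card S))
    (k : ℕ) (hk : k.Coprime (Nat.card S)) (c : C) (s : Γ) (hs : s ∈ S) :
    (χh : Γ → ℂ) ((c : Γ) * s ^ k) = (χh : Γ → ℂ) ((c : Γ) * s) := by
  haveI := normal_of_top G S hnorm htop
  obtain ⟨m, hm1, hmk, hmcop⟩ := crt G S hnorm hcop htop k hk
  have hidx := index_eq G S hnorm hcop htop
  have h1 := canonical_pow_eq G (χ : G → ℂ) χ.2 (χh : Γ → ℂ) χh.2 hext (by rw [hidx]; exact hcop)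
    (by rw [hidx]; exact hdet) m hm1 hmcop ((c : Γ) * s)
  rw [← h1]
  have hcS : (c : Γ) ∈ Subgroup.centralizer (S : Set Γ) := by
    have h0 : (c : Γ) ∈ G ⊓ Subgroup.centralizer (S : Set Γ) := hC ▸ c.2
    exact h0.2
  have hcomm : Commute (c : Γ) s := by
    have := Subgroup.mem_centralizer_iff.mp hcS s hs
    exact this.symm
  rw [hcomm.mul_pow]
  have e1 : (c : Γ) ^ m = c := by
    have : ((c : Γ)) ^ (Nat.card G) = 1 := by
      have h2 : orderOf (c : Γ) ∣ Nat.card G := Subgroup.orderOf_dvd_natCard G (hCG c.2)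
      exact orderOf_dvd_iff_pow_eq_one.mp h2
    exact pow_of_modEq_one _ _ m this hm1
  have e2 : s ^ m = s ^ k := by
    have h2 : orderOf s ∣ Nat.card S := Subgroup.orderOf_dvd_natCard S hs
    have h3 : m ≡ k [MOD orderOf s] := hmk.of_dvd h2
    exact pow_eq_pow_iff_modEq.mpr h3
  rw [e1, e2]

omit [Fintype Γ] [Fintype G] [Fintype C] hcop htop in
theorem hjfix' (t : S) (d : C) :
    kap G S (norm_iff G S hnorm) t (Subgroup.inclusion hCG d) = Subgroup.inclusion hCG d := by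
  apply Subtype.ext
  show (t : Γ) * (d : Γ) * (t : Γ)⁻¹ = d
  have h0 : (d : Γ) ∈ G ⊓ Subgroup.centralizer (S : Set Γ) := hC ▸ d.2
  have := Subgroup.mem_centralizer_iff.mp h0.2 t t.2
  rw [this, mul_inv_cancel_right]

omit [Fintype Γ] [Fintype G] [Fintype C] hnorm hcop htop hC hCG in
theorem comm_S (s₀ : Γ) (hs₀ : Subgroup.zpowers s₀ = S) (a b : S) : a * b = b * a := by
  apply Subtype.ext
  have ha : (a : Γ) ∈ Subgroup.zpowers s₀ := hs₀ ▸ a.2
  have hb : (b : Γ) ∈ Subgroup.zpowers s₀ := hs₀ ▸ b.2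
  obtain ⟨i, hi⟩ := Subgroup.mem_zpowers_iff.mp ha
  obtain ⟨k, hk⟩ := Subgroup.mem_zpowers_iff.mp hb
  show (a : Γ) * b = b * a
  rw [← hi, ← hk]
  exact (Commute.zpow_zpow_self s₀ i k)

omit [Fintype C] htop in
theorem fix_gen (s₀ : Γ) (hs₀ : Subgroup.zpowers s₀ = S) (hs₀S : s₀ ∈ S) (e : G)
    (he : kap G S (norm_iff G S hnorm) ((⟨s₀, hs₀S⟩ : S) ^ Nat.card G) e = e) :
    e ∈ Set.range (Subgroup.inclusion hCG) := by
  have h1 : (s₀ ^ Nat.card G) * (e : Γ) * (s₀ ^ Nat.card G)⁻¹ = e := by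
    have := congrArg Subtype.val he
    exact this
  have hcomm1 : Commute (s₀ ^ Nat.card G) (e : Γ) := by
    show s₀ ^ Nat.card G * (e : Γ) = e * s₀ ^ Nat.card G
    calc s₀ ^ Nat.card G * (e : Γ) = (s₀ ^ Nat.card G * e * (s₀ ^ Nat.card G)⁻¹) * s₀ ^ Nat.card G := by
          group
      _ = e * s₀ ^ Nat.card G := by rw [h1]
  have hco : (Nat.card G).Coprime (orderOf s₀) :=
    hcop.coprime_dvd_right (Subgroup.orderOf_dvd_natCard S hs₀S)
  obtain ⟨a, ha⟩ := exists_pow_eq_self_of_coprime hco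
  have hcomm2 : Commute s₀ (e : Γ) := by
    rw [← ha]
    exact hcomm1.pow_left a
  have hcent : (e : Γ) ∈ Subgroup.centralizer (S : Set Γ) := by
    rw [Subgroup.mem_centralizer_iff]
    intro x hx
    have hx' : x ∈ Subgroup.zpowers s₀ := hs₀ ▸ hx
    obtain ⟨i, hi⟩ := Subgroup.mem_zpowers_iff.mp hx'
    rw [← hi]
    exact (hcomm2.zpow_left i)
  have heC : (e : Γ) ∈ C := by
    rw [hC]
    exact ⟨e.2, hcent⟩
  exact ⟨⟨e, heC⟩, Subtype.ext rfl⟩

/-- the coefficient functions of an extension on the cosets of `C` -/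
theorem cyc_expand [Fintype (↥S →* ℂˣ)] (s₀ : Γ) (hs₀ : Subgroup.zpowers s₀ = S)
    (χh : IrrCharacter Γ) (β : IrrCharacter C) :
    ∃ n : (↥S →* ℂˣ) → ℕ, ∀ t : S,
      classInner (fun c : C => (χh : Γ → ℂ) ((c : Γ) * t)) (β : C → ℂ) =
        ∑ lam : ↥S →* ℂˣ, (n lam : ℂ) * ((lam t : ℂˣ) : ℂ) := by
  haveI : Fintype S := Fintype.ofFinite S
  set hn := norm_iff G S hnorm
  have hdisj := Subgroup.inf_eq_bot_of_coprime hcop
  set X : ↥G ⋊[kap G S hn] ↥S → ℂ := (χh : Γ → ℂ) ∘ (thetaE G S hn hdisj htop) with hX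
  have hXirr : IsIrrCharacter _ X := isIrrCharacter_comp_mulEquiv χh.2 (thetaE G S hn hdisj htop)
  obtain ⟨n, hn'⟩ := Bc_expand (kap G S hn) (Subgroup.inclusion hCG) (hjfix' G S hnorm C hC hCG)
    (comm_S S s₀ hs₀) X (isCharacter_of_isIrrCharacter hXirr) β
  exact ⟨n, fun t => hn' t⟩

theorem cyc_norm [Fintype (IrrCharacter C)] (s₀ : Γ) (hs₀ : Subgroup.zpowers s₀ = S)
    (χ : IrrCharacter G) (χh : IrrCharacter Γ)
    (hext : ∀ g : G, (χh : Γ → ℂ) g = (χ : G → ℂ) g) :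
    ∑ β : IrrCharacter C,
      classInner (fun c : C => (χh : Γ → ℂ) ((c : Γ) * s₀)) (β : C → ℂ) *
        conj (classInner (fun c : C => (χh : Γ → ℂ) ((c : Γ) * s₀)) (β : C → ℂ)) = 1 := by
  haveI : Fintype S := Fintype.ofFinite S
  set hn := norm_iff G S hnorm
  have hdisj := Subgroup.inf_eq_bot_of_coprime hcop
  have hs₀S : s₀ ∈ S := hs₀ ▸ Subgroup.mem_zpowers s₀
  set X : ↥G ⋊[kap G S hn] ↥S → ℂ := (χh : Γ → ℂ) ∘ (thetaE G S hn hdisj htop) with hX
  have hXirr : IsIrrCharacter _ X := isIrrCharacter_comp_mulEquiv χh.2 (thetaE G S hn hdisj htop)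
  have hXcf := Cfsg.Agent.Lib.Helper26.isClassFunction_of_isIrrCharacter hXirr
  have hres : IsIrrCharacter G (fun h => X (inl h)) := by
    have : (fun h : G => X (inl h)) = (χ : G → ℂ) := by
      funext g
      show (χh : Γ → ℂ) (theta G S hn (inl g)) = _
      rw [theta_inl, hext]
    rw [this]
    exact χ.2
  have hjf := hjfix' G S hnorm C hC hCG
  have hcomm := comm_S S s₀ hs₀
  have hj : Function.Injective (Subgroup.inclusion hCG) := Subgroup.inclusion_injective hCG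
  have ht := fix_gen G S hnorm hcop C hC hCG s₀ hs₀ hs₀S
  have h1 := psi_inner (kap G S hn) (Subgroup.inclusion hCG) hjf X X hXcf (⟨s₀, hs₀S⟩ : S)
  have h2 := psi_inner_eq (kap G S hn) (Subgroup.inclusion hCG) hjf hj X X hXcf hXcf
    (⟨s₀, hs₀S⟩ : S) ht
  have h3 := coset_norm (kap G S hn) hcomm X hXirr hres (⟨s₀, hs₀S⟩ : S)
  rw [h3, inv_mul_cancel₀ (Nat.cast_ne_zero.mpr Nat.card_pos.ne')] at h2
  rw [h2] at h1
  exact h1.symm

theorem cyc_orth (s₀ : Γ) (hs₀ : Subgroup.zpowers s₀ = S)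
    (χ χ' : IrrCharacter G) (χh χh' : IrrCharacter Γ)
    (hext : ∀ g : G, (χh : Γ → ℂ) g = (χ : G → ℂ) g)
    (hext' : ∀ g : G, (χh' : Γ → ℂ) g = (χ' : G → ℂ) g) (hne : χ ≠ χ') :
    classInner (fun c : C => (χh : Γ → ℂ) ((c : Γ) * s₀))
      (fun c : C => (χh' : Γ → ℂ) ((c : Γ) * s₀)) = 0 := by
  haveI : Fintype S := Fintype.ofFinite S
  set hn := norm_iff G S hnorm
  have hdisj := Subgroup.inf_eq_bot_of_coprime hcop
  have hs₀S : s₀ ∈ S := hs₀ ▸ Subgroup.mem_zpowers s₀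
  set X : ↥G ⋊[kap G S hn] ↥S → ℂ := (χh : Γ → ℂ) ∘ (thetaE G S hn hdisj htop) with hX
  set X' : ↥G ⋊[kap G S hn] ↥S → ℂ := (χh' : Γ → ℂ) ∘ (thetaE G S hn hdisj htop) with hX'
  have hXirr : IsIrrCharacter _ X := isIrrCharacter_comp_mulEquiv χh.2 (thetaE G S hn hdisj htop)
  have hXirr' : IsIrrCharacter _ X' :=
    isIrrCharacter_comp_mulEquiv χh'.2 (thetaE G S hn hdisj htop)
  have hXcf := Cfsg.Agent.Lib.Helper26.isClassFunction_of_isIrrCharacter hXirr
  have hXcf' := Cfsg.Agent.Lib.Helper26.isClassFunction_of_isIrrCharacter hXirr'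
  have hjf := hjfix' G S hnorm C hC hCG
  have hcomm := comm_S S s₀ hs₀
  have hj : Function.Injective (Subgroup.inclusion hCG) := Subgroup.inclusion_injective hCG
  have ht := fix_gen G S hnorm hcop C hC hCG s₀ hs₀ hs₀S
  have hne' : ∃ h : G, X (inl h) ≠ X' (inl h) := by
    by_contra hall
    push Not at hall
    apply hne
    apply Subtype.ext
    funext g
    have := hall g
    have e1 : X (inl g) = (χ : G → ℂ) g := by
      show (χh : Γ → ℂ) (theta G S hn (inl g)) = _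
      rw [theta_inl, hext]
    have e2 : X' (inl g) = (χ' : G → ℂ) g := by
      show (χh' : Γ → ℂ) (theta G S hn (inl g)) = _
      rw [theta_inl, hext']
    rw [← e1, ← e2, this]
  have h2 := psi_inner_eq (kap G S hn) (Subgroup.inclusion hCG) hjf hj X X' hXcf hXcf'
    (⟨s₀, hs₀S⟩ : S) ht
  have h3 := coset_orth (kap G S hn) hcomm X X' hXirr hXirr' hne' (⟨s₀, hs₀S⟩ : S)
  rw [h3, mul_zero] at h2
  exact h2

omit [Fintype Γ] [Fintype G] [Fintype C] hnorm hcop htop hCG in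
theorem coset_class (s₀ : Γ) (hs₀S : s₀ ∈ S) (F : Γ → ℂ) (hF : IsClassFunction Γ F) :
    IsClassFunction C (fun c : C => F ((c : Γ) * s₀)) := by
  intro d e
  show F (((e * d * e⁻¹ : C) : Γ) * s₀) = F ((d : Γ) * s₀)
  have h0 : (e : Γ) ∈ G ⊓ Subgroup.centralizer (S : Set Γ) := hC ▸ e.2
  have hc : s₀ * (e : Γ) = e * s₀ := Subgroup.mem_centralizer_iff.mp h0.2 s₀ hs₀S
  have : ((e * d * e⁻¹ : C) : Γ) * s₀ = (e : Γ) * ((d : Γ) * s₀) * (e : Γ)⁻¹ := by
    push_cast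
    have hc' : s₀ * (e : Γ)⁻¹ = (e : Γ)⁻¹ * s₀ :=
      (show Commute s₀ (e : Γ) from hc).inv_right.eq
    calc (e : Γ) * d * (e : Γ)⁻¹ * s₀ = (e : Γ) * d * ((e : Γ)⁻¹ * s₀) := by group
      _ = (e : Γ) * d * (s₀ * (e : Γ)⁻¹) := by rw [hc']
      _ = (e : Γ) * ((d : Γ) * s₀) * (e : Γ)⁻¹ := by group
  rw [this, hF]

/-- Isaacs 13.6, existence -/
theorem cyc_exists (hcyc : IsCyclic S) (χ : IrrCharacter G) (χh : IrrCharacter Γ)
    (hext : ∀ g : G, (χh : Γ → ℂ) g = (χ : G → ℂ) g)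
    (hdet : (detOrder (χh : Γ → ℂ)).Coprime (Nat.card S)) :
    ∃ (β : IrrCharacter C) (ε : ℤ), (ε = 1 ∨ ε = -1) ∧ ∀ c : C, ∀ s : Γ,
      Subgroup.zpowers s = S → (χh : Γ → ℂ) ((c : Γ) * s) = (ε : ℂ) * (β : C → ℂ) c := by
  classical
  haveI : Fintype (IrrCharacter C) := Fintype.ofFinite _
  haveI : Fintype (↥S →* ℂˣ) := Fintype.ofFinite _
  obtain ⟨g, hg⟩ := hcyc.exists_generator
  set s₀ : Γ := (g : Γ) with hs₀def
  have hs₀S : s₀ ∈ S := g.2
  have hs₀ : Subgroup.zpowers s₀ = S := by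
    apply le_antisymm
    · exact (Subgroup.zpowers_le).mpr hs₀S
    · intro x hx
      obtain ⟨i, hi⟩ := Subgroup.mem_zpowers_iff.mp (hg ⟨x, hx⟩)
      rw [Subgroup.mem_zpowers_iff]
      refine ⟨i, ?_⟩
      have := congrArg Subtype.val hi
      simpa using this
  set B : IrrCharacter C → ℂ := fun β =>
    classInner (fun c : C => (χh : Γ → ℂ) ((c : Γ) * s₀)) (β : C → ℂ) with hB
  have hgal := gal_inv G S hnorm hcop htop C hC hCG χ χh hext hdet
  have hB_int : ∀ β : IrrCharacter C, ∃ z : ℤ, B β = z := by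
    intro β
    obtain ⟨n, hn⟩ := cyc_expand G S hnorm hcop htop C hC hCG s₀ hs₀ χh β
    have hBn : B β = ∑ lam : ↥S →* ℂˣ, (n lam : ℂ) * ((lam ⟨s₀, hs₀S⟩ : ℂˣ) : ℂ) := hn ⟨s₀, hs₀S⟩
    rw [hBn]
    apply int_of_pow_invariant (Nat.card S) Nat.card_pos n
    · intro lam
      rw [← Units.val_pow_eq_pow_val, ← map_pow, pow_card_eq_one', map_one, Units.val_one]
    · intro m hm
      rw [← hBn]
      have h1 : ∀ lam : ↥S →* ℂˣ, (n lam : ℂ) * ((lam ⟨s₀, hs₀S⟩ : ℂˣ) : ℂ) ^ m =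
          (n lam : ℂ) * ((lam ((⟨s₀, hs₀S⟩ : S) ^ m) : ℂˣ) : ℂ) := by
        intro lam
        rw [map_pow, Units.val_pow_eq_pow_val]
      rw [Finset.sum_congr rfl fun lam _ => h1 lam, ← hn]
      show classInner (fun c : C => (χh : Γ → ℂ) ((c : Γ) * (((⟨s₀, hs₀S⟩ : S) ^ m : S) : Γ)))
        (β : C → ℂ) = B β
      have h2 : (fun c : C => (χh : Γ → ℂ) ((c : Γ) * (((⟨s₀, hs₀S⟩ : S) ^ m : S) : Γ))) =
          fun c : C => (χh : Γ → ℂ) ((c : Γ) * s₀) := by
        funext c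
        rw [Subgroup.coe_pow]
        exact hgal m hm c s₀ hs₀S
      rw [h2]
  choose z hz using hB_int
  have hnorm1 := cyc_norm G S hnorm hcop htop C hC hCG s₀ hs₀ χ χh hext
  have hsum : ∑ β : IrrCharacter C, z β ^ 2 = 1 := by
    have h1 : ((∑ β : IrrCharacter C, z β ^ 2 : ℤ) : ℂ) = 1 := by
      rw [← hnorm1]
      push_cast
      refine Finset.sum_congr rfl fun β _ => ?_
      have : classInner (fun c : C => (χh : Γ → ℂ) ((c : Γ) * s₀)) (β : C → ℂ) = (z β : ℂ) := hz β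
      rw [this, map_intCast, sq]
    exact_mod_cast h1
  obtain ⟨β₀, hε, hoth⟩ := exists_unique_pm_one z hsum
  refine ⟨β₀, z β₀, hε, ?_⟩
  have hval : ∀ c : C, (χh : Γ → ℂ) ((c : Γ) * s₀) = (z β₀ : ℂ) * (β₀ : C → ℂ) c := by
    intro c
    have hcf := coset_class G S C hC s₀ hs₀S (χh : Γ → ℂ)
      (Cfsg.Agent.Lib.Helper26.isClassFunction_of_isIrrCharacter χh.2)
    have hexp := Cfsg.Agent.Lib.Helper4.classFunction_expansion
      (fun c : C => (χh : Γ → ℂ) ((c : Γ) * s₀)) hcf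
    have h1 := congrFun hexp c
    simp only [Finset.sum_apply, Pi.smul_apply, smul_eq_mul] at h1
    rw [h1, Finset.sum_eq_single β₀]
    · have : classInner (fun c : C => (χh : Γ → ℂ) ((c : Γ) * s₀)) (β₀ : C → ℂ) = (z β₀ : ℂ) :=
        hz β₀
      rw [this]
    · intro β _ hβ
      have : classInner (fun c : C => (χh : Γ → ℂ) ((c : Γ) * s₀)) (β : C → ℂ) = (z β : ℂ) :=
        hz β
      rw [this, hoth β hβ]
      simp
    · intro h
      exact absurd (Finset.mem_univ _) h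
  intro c s hs
  obtain ⟨k, hk, hsk⟩ := gen_pow S s₀ s hs₀ hs
  rw [hsk, hgal k hk c s₀ hs₀S]
  exact hval c

omit [Fintype Γ] [Fintype G] [Fintype C] hnorm hcop htop hC hCG in
theorem exists_gen (hcyc : IsCyclic S) : ∃ s₀ : Γ, Subgroup.zpowers s₀ = S := by
  obtain ⟨g, hg⟩ := hcyc.exists_generator
  refine ⟨(g : Γ), ?_⟩
  apply le_antisymm
  · exact (Subgroup.zpowers_le).mpr g.2
  · intro x hx
    obtain ⟨i, hi⟩ := Subgroup.mem_zpowers_iff.mp (hg ⟨x, hx⟩)
    rw [Subgroup.mem_zpowers_iff]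
    refine ⟨i, ?_⟩
    have := congrArg Subtype.val hi
    simpa using this

omit [Fintype C] hC hCG in
/-- the canonical extension exists -/
theorem exists_canonical (hcyc : IsCyclic S) (χ : IrrCharacter G)
    (hinv : SInv G S (χ : G → ℂ)) :
    ∃ χh : IrrCharacter Γ, (∀ g : G, (χh : Γ → ℂ) g = (χ : G → ℂ) g) ∧
      (detOrder (χh : Γ → ℂ)).Coprime (Nat.card S) := by
  haveI hGn := normal_of_top G S hnorm htop
  have hn := norm_iff G S hnorm
  have hdisj := Subgroup.inf_eq_bot_of_coprime hcop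
  have hsurj := (theta_bijective G S hn hdisj htop).2
  have hidx := index_eq G S hnorm hcop htop
  -- the quotient is solvable
  have hsolv : Group.IsSolvable (Γ ⧸ G) := by
    obtain ⟨s₀, hs₀⟩ := exists_gen S hcyc
    haveI : Group.IsSolvable S := Group.isSolvable_of_comm (comm_S S s₀ hs₀)
    let f : S →* Γ ⧸ G := (QuotientGroup.mk' G).comp S.subtype
    apply solvable_of_surjective (f := f)
    intro q
    obtain ⟨x, rfl⟩ := QuotientGroup.mk_surjective q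
    obtain ⟨a, ha⟩ := hsurj x
    refine ⟨a.right, ?_⟩
    show ((a.right : Γ) : Γ ⧸ G) = (x : Γ ⧸ G)
    rw [QuotientGroup.eq, ← ha]
    show ((a.right : Γ))⁻¹ * ((a.left : Γ) * (a.right : Γ)) ∈ G
    have := hnorm _ (S.inv_mem a.right.2) _ a.left.2
    rw [inv_inv] at this
    rw [← mul_assoc]
    exact this
  -- invariance under all of Γ
  have hinvΓ : ∀ (x : Γ) (g : G),
      (χ : G → ℂ) ⟨x * g * x⁻¹, hGn.conj_mem (g : Γ) g.2 x⟩ = (χ : G → ℂ) g := by
    intro x g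
    obtain ⟨a, ha⟩ := hsurj x
    have hx : x = (a.left : Γ) * (a.right : Γ) := ha.symm
    have hy : (a.right : Γ) * g * (a.right : Γ)⁻¹ ∈ G := hnorm _ a.right.2 _ g.2
    have h1 : (χ : G → ℂ) ⟨(a.right : Γ) * g * (a.right : Γ)⁻¹, hy⟩ = (χ : G → ℂ) g :=
      hinv _ a.right.2 g _ rfl
    have hcf := Cfsg.Agent.Lib.Helper26.isClassFunction_of_isIrrCharacter χ.2
    have h2 := hcf ⟨(a.right : Γ) * g * (a.right : Γ)⁻¹, hy⟩ a.left
    rw [← h1, ← h2]
    refine congrArg (χ : G → ℂ) (Subtype.ext ?_)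
    show x * g * x⁻¹ = (a.left : Γ) * ((a.right : Γ) * g * (a.right : Γ)⁻¹) * (a.left : Γ)⁻¹
    rw [hx]
    group
  obtain ⟨d, -, hd⟩ := irr_degree χ.2
  have hdG : d ∣ Nat.card G := irr_degree_dvd_card χ.2 d hd
  have hoG : detOrder (χ : G → ℂ) ∣ Nat.card G :=
    detOrder_dvd_card (isCharacter_of_isIrrCharacter χ.2)
  have hcop' : Nat.Coprime G.index (detOrder (χ : G → ℂ) * d) := by
    rw [hidx]
    apply Nat.Coprime.mul_right
    · exact (hcop.coprime_dvd_left hoG).symm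
    · exact (hcop.coprime_dvd_left hdG).symm
  obtain ⟨ψ, hψ, hψe, hψdet⟩ := ext_coprime_solvable G hsolv (χ : G → ℂ) χ.2 hinvΓ d hd hcop'
  refine ⟨⟨ψ, hψ⟩, hψe, ?_⟩
  show (detOrder ψ).Coprime (Nat.card S)
  rw [hψdet]
  exact hcop.coprime_dvd_left hoG

/-- the correspondent is a constituent of the restriction -/
theorem cyc_constituent (χ : IrrCharacter G) (χh : IrrCharacter Γ)
    (hext : ∀ g : G, (χh : Γ → ℂ) g = (χ : G → ℂ) g) (β : IrrCharacter C) (ε : ℤ)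
    (hε : ε = 1 ∨ ε = -1) (s₀ : Γ) (hs₀ : Subgroup.zpowers s₀ = S)
    (hval : ∀ c : C, (χh : Γ → ℂ) ((c : Γ) * s₀) = (ε : ℂ) * (β : C → ℂ) c) :
    classInner (fun c : C => (χ : G → ℂ) ⟨c, hCG c.2⟩) (β : C → ℂ) ≠ 0 := by
  classical
  haveI : Fintype (↥S →* ℂˣ) := Fintype.ofFinite _
  have hs₀S : s₀ ∈ S := hs₀ ▸ Subgroup.mem_zpowers s₀
  obtain ⟨n, hn⟩ := cyc_expand G S hnorm hcop htop C hC hCG s₀ hs₀ χh β
  intro h0
  have h1 := hn 1
  have e1 : (fun c : C => (χh : Γ → ℂ) ((c : Γ) * ((1 : S) : Γ))) =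
      fun c : C => (χ : G → ℂ) ⟨c, hCG c.2⟩ := by
    funext c
    rw [Subgroup.coe_one, mul_one]
    exact hext ⟨c, hCG c.2⟩
  rw [e1, h0] at h1
  have h2 : ∑ lam : ↥S →* ℂˣ, n lam = 0 := by
    have : ((∑ lam : ↥S →* ℂˣ, n lam : ℕ) : ℂ) = 0 := by
      rw [h1]
      push_cast
      refine Finset.sum_congr rfl fun lam _ => ?_
      rw [map_one, Units.val_one, mul_one]
    exact_mod_cast this
  have h3 : ∀ lam : ↥S →* ℂˣ, n lam = 0 := by
    intro lam
    exact (Finset.sum_eq_zero_iff.mp h2) lam (Finset.mem_univ _)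
  have h4 := hn ⟨s₀, hs₀S⟩
  rw [Finset.sum_congr rfl fun lam _ => by rw [h3 lam, Nat.cast_zero, zero_mul]] at h4
  rw [Finset.sum_const_zero] at h4
  have h5 : (fun c : C => (χh : Γ → ℂ) ((c : Γ) * ((⟨s₀, hs₀S⟩ : S) : Γ))) =
      fun c : C => (ε : ℂ) * (β : C → ℂ) c := funext hval
  rw [h5] at h4
  have h6 : classInner (fun c : C => (ε : ℂ) * (β : C → ℂ) c) (β : C → ℂ) = (ε : ℂ) := by
    have := classInner_irr β.2 β.2
    rw [if_pos rfl] at this
    unfold classInner at this ⊢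
    simp only [mul_assoc]
    rw [← Finset.mul_sum, mul_left_comm, this, mul_one]
  rw [h6] at h4
  rcases hε with h | h <;> rw [h] at h4 <;> norm_num at h4

/-- distinct invariant characters have distinct correspondents -/
theorem cyc_inj (χ χ' : IrrCharacter G) (χh χh' : IrrCharacter Γ)
    (hext : ∀ g : G, (χh : Γ → ℂ) g = (χ : G → ℂ) g)
    (hext' : ∀ g : G, (χh' : Γ → ℂ) g = (χ' : G → ℂ) g)
    (β : IrrCharacter C) (ε ε' : ℤ) (hε : ε = 1 ∨ ε = -1) (hε' : ε' = 1 ∨ ε' = -1)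
    (s₀ : Γ) (hs₀ : Subgroup.zpowers s₀ = S)
    (hval : ∀ c : C, (χh : Γ → ℂ) ((c : Γ) * s₀) = (ε : ℂ) * (β : C → ℂ) c)
    (hval' : ∀ c : C, (χh' : Γ → ℂ) ((c : Γ) * s₀) = (ε' : ℂ) * (β : C → ℂ) c) : χ = χ' := by
  by_contra hne
  have h1 := cyc_orth G S hnorm hcop htop C hC hCG s₀ hs₀ χ χ' χh χh' hext hext' hne
  rw [funext hval, funext hval'] at h1
  have h6 : classInner (fun c : C => (ε : ℂ) * (β : C → ℂ) c)
      (fun c : C => (ε' : ℂ) * (β : C → ℂ) c) = (ε : ℂ) * (ε' : ℂ) := by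
    have := classInner_irr β.2 β.2
    rw [if_pos rfl] at this
    unfold classInner at this ⊢
    have h7 : ∀ c : C, (ε : ℂ) * (β : C → ℂ) c * conj ((ε' : ℂ) * (β : C → ℂ) c) =
        ((ε : ℂ) * (ε' : ℂ)) * ((β : C → ℂ) c * conj ((β : C → ℂ) c)) := by
      intro c
      rw [map_mul, map_intCast]
      ring
    rw [Finset.sum_congr rfl fun c _ => h7 c, ← Finset.mul_sum, mul_left_comm, this, mul_one]
  rw [h6] at h1
  rcases hε with h | h <;> rcases hε' with h' | h' <;> rw [h, h'] at h1 <;> norm_num at h1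

omit [Fintype Γ] [Fintype G] hnorm hcop htop hC hCG in
theorem cyc_unique (F : Γ → ℂ) (β β' : IrrCharacter C) (ε ε' : ℤ)
    (hε : ε = 1 ∨ ε = -1) (hε' : ε' = 1 ∨ ε' = -1) (s₀ : Γ)
    (hval : ∀ c : C, F ((c : Γ) * s₀) = (ε : ℂ) * (β : C → ℂ) c)
    (hval' : ∀ c : C, F ((c : Γ) * s₀) = (ε' : ℂ) * (β' : C → ℂ) c) : β = β' ∧ ε = ε' := by
  obtain ⟨d, hd0, hd⟩ := irr_degree β.2
  obtain ⟨d', hd0', hd'⟩ := irr_degree β'.2
  have h1 : (ε : ℂ) * (d : ℂ) = (ε' : ℂ) * (d' : ℂ) := by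
    rw [← hd, ← hd', ← hval 1, ← hval' 1]
  have hεε : ε = ε' := by
    rcases hε with h | h <;> rcases hε' with h' | h'
    · rw [h, h']
    · exfalso
      rw [h, h'] at h1
      have : ((d + d' : ℕ) : ℂ) = 0 := by
        push_cast
        have := h1
        push_cast at this
        linear_combination this
      have : d + d' = 0 := by exact_mod_cast this
      omega
    · exfalso
      rw [h, h'] at h1
      have : ((d + d' : ℕ) : ℂ) = 0 := by
        push_cast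
        have := h1
        push_cast at this
        linear_combination -this
      have : d + d' = 0 := by exact_mod_cast this
      omega
    · rw [h, h']
  refine ⟨?_, hεε⟩
  apply Subtype.ext
  funext c
  have h2 := (hval c).symm.trans (hval' c)
  rw [← hεε] at h2
  have hε0 : (ε : ℂ) ≠ 0 := by
    rcases hε with h | h <;> rw [h] <;> norm_num
  exact mul_left_cancel₀ hε0 h2

/-- every irreducible character of `C` is a correspondent -/
theorem cyc_surj (hcyc : IsCyclic S) (β : IrrCharacter C) :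
    ∃ (χ : IrrCharacter G) (χh : IrrCharacter Γ) (ε : ℤ), SInv G S (χ : G → ℂ) ∧
      (∀ g : G, (χh : Γ → ℂ) g = (χ : G → ℂ) g) ∧
      (detOrder (χh : Γ → ℂ)).Coprime (Nat.card S) ∧ (ε = 1 ∨ ε = -1) ∧
      ∀ c : C, ∀ s : Γ, Subgroup.zpowers s = S →
        (χh : Γ → ℂ) ((c : Γ) * s) = (ε : ℂ) * (β : C → ℂ) c := by
  classical
  obtain ⟨s₀, hs₀⟩ := exists_gen S hcyc
  have hsolv : Group.IsSolvable S := Group.isSolvable_of_comm (comm_S S s₀ hs₀)
  have hex1 : ∀ χ : {χ : IrrCharacter G // SInv G S (χ : G → ℂ)},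
      ∃ χh : IrrCharacter Γ, (∀ g : G, (χh : Γ → ℂ) g = (χ.1 : G → ℂ) g) ∧
        (detOrder (χh : Γ → ℂ)).Coprime (Nat.card S) :=
    fun χ => exists_canonical G S hnorm hcop htop hcyc χ.1 χ.2
  choose xh hxh using hex1
  have hex2 : ∀ χ : {χ : IrrCharacter G // SInv G S (χ : G → ℂ)},
      ∃ (β : IrrCharacter C) (ε : ℤ), (ε = 1 ∨ ε = -1) ∧ ∀ c : C, ∀ s : Γ,
        Subgroup.zpowers s = S → (xh χ : Γ → ℂ) ((c : Γ) * s) = (ε : ℂ) * (β : C → ℂ) c :=
    fun χ => cyc_exists G S hnorm hcop htop C hC hCG hcyc χ.1 (xh χ) (hxh χ).1 (hxh χ).2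
  choose f e hf using hex2
  have hinj : Function.Injective f := by
    intro χ χ' h
    apply Subtype.ext
    refine cyc_inj G S hnorm hcop htop C hC hCG χ.1 χ'.1 (xh χ) (xh χ') (hxh χ).1 (hxh χ').1
      (f χ) (e χ) (e χ') (hf χ).1 (hf χ').1 s₀ hs₀ (fun c => (hf χ).2 c s₀ hs₀) ?_
    intro c
    rw [h]
    exact (hf χ').2 c s₀ hs₀
  have hCfix : ∀ g ∈ G, g ∈ C ↔ ∀ s ∈ S, s * g * s⁻¹ = g := by
    intro g hg
    rw [hC, Cfsg.Agent.Lib.Helper7.GlaubCount.mem_fixedSub]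
    exact ⟨fun h => h.2, fun h => ⟨hg, h⟩⟩
  have hcard := Cfsg.Agent.Lib.Helper7.GlaubCount.card_inv_irr_aux S hsolv (Nat.card G) G C hCG
    le_rfl hnorm hcop hCfix
  have hsurj : Function.Surjective f := (hinj.bijective_of_nat_card_le hcard.ge).2
  obtain ⟨χ, hχ⟩ := hsurj β
  refine ⟨χ.1, xh χ, e χ, χ.2, (hxh χ).1, (hxh χ).2, (hf χ).1, ?_⟩
  rw [← hχ]
  exact (hf χ).2

end Main

end Cfsg.Agent.Lib.Helper7.GlaubCyc
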