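import Mathlib
import Cfsg.Prelude
import Cfsg.Agent.S0842
import Cfsg.Agent.S0843
import Cfsg.Agent.Lib.Helper3.QuatSylow

set_option autoImplicit false
open Cfsg

/-! Brauer–Suzuki for quaternion Sylow 2-subgroups of order at least 16: group-theoretic setup. -/

namespace Cfsg.Agent.Lib.Helper7.BS

open Cfsg.Agent.Lib.Helper3
open scoped commutatorElement

section quat

variable (k : ℕ)

theorem two_k_zero : (2 * (k : ZMod (2 * k))) = 0 := by
  have h : ((2 * k : ℕ) : ZMod (2 * k)) = 0 := ZMod.natCast_self _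
  push_cast at h
  exact h

theorem comm_mem (p q : QuaternionGroup k) :
    ∃ m : ZMod (2 * k), ⁅p, q⁆ = QuaternionGroup.a (2 * m) := by
  have h0 : (2 * (k : ZMod (2 * k))) = 0 := two_k_zero k
  rcases p with i | i <;> rcases q with j | j
  · refine ⟨0, ?_⟩
    rw [commutatorElement_def, Cfsg.Agent.S0842.q_inv_a, Cfsg.Agent.S0842.q_inv_a,
      QuaternionGroup.a_mul_a, QuaternionGroup.a_mul_a, QuaternionGroup.a_mul_a]
    congr 1; ring
  · refine ⟨i, ?_⟩
    rw [commutatorElement_def, Cfsg.Agent.S0842.q_inv_a, Cfsg.Agent.S0842.q_inv_xa,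
      QuaternionGroup.a_mul_xa, QuaternionGroup.xa_mul_a, QuaternionGroup.xa_mul_xa]
    congr 1; linear_combination h0
  · refine ⟨-j, ?_⟩
    rw [commutatorElement_def, Cfsg.Agent.S0842.q_inv_xa, Cfsg.Agent.S0842.q_inv_a,
      QuaternionGroup.xa_mul_a, QuaternionGroup.xa_mul_xa, QuaternionGroup.a_mul_a]
    congr 1; linear_combination h0
  · refine ⟨j - i, ?_⟩
    rw [commutatorElement_def, Cfsg.Agent.S0842.q_inv_xa, Cfsg.Agent.S0842.q_inv_xa,
      QuaternionGroup.xa_mul_xa, QuaternionGroup.a_mul_xa, QuaternionGroup.xa_mul_xa]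
    congr 1; linear_combination h0

theorem a_eq_pow [NeZero k] (m : ZMod (2 * k)) :
    (QuaternionGroup.a m : QuaternionGroup k) = QuaternionGroup.a 1 ^ m.val := by
  rw [QuaternionGroup.a_one_pow, ZMod.natCast_zmod_val]

theorem a_two_mul_eq_pow [NeZero k] (m : ZMod (2 * k)) :
    (QuaternionGroup.a (2 * m) : QuaternionGroup k) = QuaternionGroup.a 1 ^ (2 * m.val) := by
  rw [QuaternionGroup.a_one_pow]
  congr 1
  push_cast
  rw [ZMod.natCast_zmod_val]

theorem xa_conj_a_one (i : ZMod (2 * k)) :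
    (QuaternionGroup.xa i : QuaternionGroup k) * QuaternionGroup.a 1 * (QuaternionGroup.xa i)⁻¹ =
      (QuaternionGroup.a 1)⁻¹ := by
  have h0 : (2 * (k : ZMod (2 * k))) = 0 := two_k_zero k
  rw [Cfsg.Agent.S0842.q_inv_xa, Cfsg.Agent.S0842.q_inv_a, QuaternionGroup.xa_mul_a,
    QuaternionGroup.xa_mul_xa]
  congr 1; linear_combination h0

theorem a_one_comm_xa (i : ZMod (2 * k)) :
    (QuaternionGroup.a 1 : QuaternionGroup k) * QuaternionGroup.xa i * (QuaternionGroup.a 1)⁻¹ *
      (QuaternionGroup.xa i)⁻¹ = QuaternionGroup.a 1 ^ 2 := by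
  have h0 : (2 * (k : ZMod (2 * k))) = 0 := two_k_zero k
  rw [Cfsg.Agent.S0842.q_inv_a, Cfsg.Agent.S0842.q_inv_xa, QuaternionGroup.a_mul_xa,
    QuaternionGroup.xa_mul_a, QuaternionGroup.xa_mul_xa, QuaternionGroup.a_one_pow]
  congr 1; push_cast; linear_combination h0

theorem a_one_pow_k_ne_one [NeZero k] : (QuaternionGroup.a 1 : QuaternionGroup k) ^ k ≠ 1 := by
  rw [QuaternionGroup.a_one_pow, QuaternionGroup.one_def]
  intro h
  have h1 : ((k : ℕ) : ZMod (2 * k)) = 0 := QuaternionGroup.a.inj h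
  rw [ZMod.natCast_eq_zero_iff] at h1
  have h2 := Nat.le_of_dvd (Nat.pos_of_ne_zero (NeZero.ne k)) h1
  have h3 := Nat.pos_of_ne_zero (NeZero.ne k)
  omega

/-- an element of the quaternion group commuting with everything is `a 0` or `a k` -/
theorem central_sq (q : QuaternionGroup k) (h2 : (2 : ZMod (2 * k)) ≠ 0)
    (hq : ∀ p : QuaternionGroup k, p * q = q * p) : q * q = 1 := by
  rcases q with j | j
  · have h := hq (QuaternionGroup.xa 0)
    rw [QuaternionGroup.xa_mul_a, QuaternionGroup.a_mul_xa] at h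
    have h1 : (0 : ZMod (2 * k)) + j = 0 - j := QuaternionGroup.xa.inj h
    rw [QuaternionGroup.a_mul_a, QuaternionGroup.one_def]
    congr 1
    linear_combination h1
  · exfalso
    have h := hq (QuaternionGroup.a 1)
    rw [QuaternionGroup.a_mul_xa, QuaternionGroup.xa_mul_a] at h
    have h1 : j - 1 = j + 1 := QuaternionGroup.xa.inj h
    apply h2
    linear_combination -h1

end quat

end Cfsg.Agent.Lib.Helper7.BS
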