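import Mathlib
import Cfsg.Prelude
import Cfsg.Agent.Lib.Helper7.BSA

set_option autoImplicit false
open Cfsg

/-! Brauer–Suzuki for quaternion Sylow 2-subgroups of order at least 16: the TI set and the
linear character of order four of the centralizer of the derived subgroup. -/

namespace Cfsg.Agent.Lib.Helper7.BS

open Cfsg.Agent.Lib.Helper3
open scoped commutatorElement

set_option maxHeartbeats 1600000 in
theorem bs_group {G : Type*} [Group G] [Finite G] (S : Sylow 2 G) (n : ℕ)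
    (e : (S : Subgroup G) ≃* QuaternionGroup (2 ^ (n + 2))) :
    ∃ (C N : Subgroup G) (X : Set G) (t₀ : G) (μ : ↥C →* ℂˣ) (ht₀ : t₀ ^ 2 ∈ C),
      C ≤ N ∧ Nat.card N = 2 * Nat.card C ∧
      (∀ g ∈ N, ∀ y ∈ C, g * y * g⁻¹ ∈ C) ∧
      X ⊆ (C : Set G) ∧
      (∀ g y : G, y ∈ X → g * y * g⁻¹ ∈ C → g ∈ N) ∧
      (∀ g y : G, g ∈ N → y ∈ X → g * y * g⁻¹ ∈ X) ∧
      (∀ y ∈ X, 4 ∣ orderOf y) ∧
      (∀ y : ↥C, (y : G) ∉ X → μ y = 1) ∧
      (∀ g ∈ N, g ∉ C → ∀ (y : ↥C) (h : g * (y : G) * g⁻¹ ∈ C),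
        μ ⟨g * y * g⁻¹, h⟩ = (μ y)⁻¹) ∧
      t₀ ∈ (S : Subgroup G) ∧
      μ ⟨t₀ ^ 2, ht₀⟩ ≠ 1 ∧
      (∃ y : ↥C, μ y ^ 2 ≠ 1) ∧
      (∀ s ∈ (S : Subgroup G), s ∉ C → t₀ * s * t₀⁻¹ * s⁻¹ = t₀ ^ 2) ∧
      (∀ u ∈ (S : Subgroup G) ⊓ C, ∀ v ∈ (S : Subgroup G) ⊓ C, u * v = v * u) := by
  classical
  haveI : Fact (Nat.Prime 2) := ⟨Nat.prime_two⟩
  haveI hk0 : NeZero (2 ^ (n + 2)) := ⟨by positivity⟩
  obtain ⟨D, hD⟩ : ∃ D : Subgroup G, D = ⁅(S : Subgroup G), (S : Subgroup G)⁆ := ⟨_, rfl⟩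
  obtain ⟨K, hKodd, hKC, hNK, hKS, hKT, hidx⟩ := Cfsg.Agent.S0842.result S n e D hD
  obtain ⟨hT1, hT2, hT3⟩ := Cfsg.Agent.S0843.result S n e D hD
  obtain ⟨C, hC⟩ : ∃ C : Subgroup G, C = Subgroup.centralizer (D : Set G) := ⟨_, rfl⟩
  obtain ⟨N, hN⟩ : ∃ N : Subgroup G, N = Subgroup.normalizer (D : Set G) := ⟨_, rfl⟩
  rw [← hC] at hKC hKT hidx hT1 hT2 hT3
  rw [← hN] at hNK hKS hidx hT2 hT3
  -- the sign homomorphism on `S`
  let ψ : (S : Subgroup G) →* ℤˣ := (quatSign (2 ^ (n + 2))).comp e.toMonoidHom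
  have hψ : ∀ s : (S : Subgroup G), ψ s = quatSign (2 ^ (n + 2)) (e s) := fun s => rfl
  have hDS : D ≤ (S : Subgroup G) := by rw [hD]; exact Subgroup.commutator_le_self _
  have hψD : ∀ d (hd : d ∈ D), ψ ⟨d, hDS hd⟩ = 1 := by
    intro d hd
    have hker : commutator (S : Subgroup G) ≤ ψ.ker := Abelianization.commutator_subset_ker ψ
    have hd' : d ∈ (commutator (S : Subgroup G)).map (S : Subgroup G).subtype := by
      rw [Subgroup.map_subtype_commutator, ← hD]; exact hd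
    obtain ⟨u, hu, hud⟩ := hd'
    have : u = ⟨d, hDS hd⟩ := Subtype.ext hud
    rw [← this]
    exact hker hu
  have hcomm : ∀ u v : (S : Subgroup G), ψ u = 1 → ψ v = 1 → (u : G) * v = v * u := by
    intro u v hu hv
    have h1 : u * v = v * u := by
      apply e.injective
      rw [map_mul, map_mul]
      exact quat_comm_of_sign _ _ _ hu hv
    exact congrArg Subtype.val h1
  -- the generator
  obtain ⟨t₁, ht₁⟩ : ∃ t₁ : (S : Subgroup G), t₁ = e.symm (QuaternionGroup.a 1) := ⟨_, rfl⟩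
  have het₁ : e t₁ = QuaternionGroup.a 1 := by rw [ht₁, e.apply_symm_apply]
  have hψt₁ : ψ t₁ = 1 := by rw [hψ, het₁]; rfl
  -- elements of S with trivial sign are powers of t₁
  have hpowS : ∀ s : (S : Subgroup G), ψ s = 1 → ∃ j : ℕ, s = t₁ ^ j := by
    intro s hs
    rw [hψ] at hs
    rcases hes : e s with i | i
    · refine ⟨i.val, ?_⟩
      apply e.injective
      rw [map_pow, het₁, hes]
      exact a_eq_pow _ i
    · rw [hes, Cfsg.Agent.S0842.quatSign_xa] at hs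
      exact absurd hs (by decide)
  -- elements of S with nontrivial sign
  have hnegS : ∀ s : (S : Subgroup G), ψ s ≠ 1 → s * t₁ * s⁻¹ = t₁⁻¹ ∧
      t₁ * s * t₁⁻¹ * s⁻¹ = t₁ ^ 2 := by
    intro s hs
    rw [hψ] at hs
    rcases hes : e s with i | i
    · rw [hes] at hs
      exact absurd rfl hs
    · constructor
      · apply e.injective
        rw [map_mul, map_mul, map_inv, map_inv, het₁, hes]
        exact xa_conj_a_one _ i
      · apply e.injective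
        rw [map_mul, map_mul, map_mul, map_inv, map_inv, map_pow, het₁, hes]
        exact a_one_comm_xa _ i
  -- an element of S with nontrivial sign
  obtain ⟨s₁, hs₁⟩ : ∃ s₁ : (S : Subgroup G), ψ s₁ ≠ 1 := by
    refine ⟨e.symm (QuaternionGroup.xa 0), ?_⟩
    rw [hψ, e.apply_symm_apply, Cfsg.Agent.S0842.quatSign_xa]
    decide
  -- t₁ ^ 2 ∈ D
  have ht₁D : ((t₁ : G)) ^ 2 ∈ D := by
    have h1 := (hnegS s₁ hs₁).2
    have h2 : (t₁ : G) ^ 2 = ⁅(t₁ : G), (s₁ : G)⁆ := by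
      rw [commutatorElement_def]
      have := congrArg Subtype.val h1
      simpa using this.symm
    rw [h2, hD]
    exact Subgroup.commutator_mem_commutator t₁.2 s₁.2
  -- D ≤ zpowers (t₁ ^ 2)
  have hDle : D ≤ Subgroup.zpowers ((t₁ : G) ^ 2) := by
    rw [hD, Subgroup.commutator_le]
    intro g₁ h1 g₂ h2
    obtain ⟨m, hm⟩ := comm_mem (2 ^ (n + 2)) (e ⟨g₁, h1⟩) (e ⟨g₂, h2⟩)
    have h3 : (⁅(⟨g₁, h1⟩ : (S : Subgroup G)), ⟨g₂, h2⟩⁆ : (S : Subgroup G)) = t₁ ^ (2 * m.val) := by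
      apply e.injective
      rw [map_commutatorElement, hm, map_pow, het₁]
      exact a_two_mul_eq_pow _ m
    have h4 : ⁅g₁, g₂⁆ = (t₁ : G) ^ (2 * m.val) := by
      have := congrArg Subtype.val h3
      simpa [commutatorElement_def] using this
    rw [h4, pow_mul]
    exact Subgroup.pow_mem _ (Subgroup.mem_zpowers _) _
  -- orders
  have ht₁pow : t₁ ^ (2 * 2 ^ (n + 2)) = 1 := by
    apply e.injective
    rw [map_pow, het₁, map_one]
    exact QuaternionGroup.a_one_pow_n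
  have ht₁pow' : (t₁ : G) ^ (2 * 2 ^ (n + 2)) = 1 := by
    have := congrArg Subtype.val ht₁pow
    simpa using this
  have hordt2 : orderOf ((t₁ : G) ^ 2) ∣ 2 ^ (n + 2) := by
    apply orderOf_dvd_of_pow_eq_one
    rw [← pow_mul]; exact ht₁pow'
  have hDeq : D = Subgroup.zpowers ((t₁ : G) ^ 2) :=
    le_antisymm hDle (Subgroup.zpowers_le.mpr ht₁D)
  have hcardD : Nat.card D = orderOf ((t₁ : G) ^ 2) := by
    rw [hDeq, Nat.card_zpowers]
  have hcardD_dvd : Nat.card D ∣ 2 ^ (n + 2) := by rw [hcardD]; exact hordt2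
  have h4D : 4 ∣ Nat.card D := by
    rw [hcardD]
    obtain ⟨i, hi, hi2⟩ := (Nat.dvd_prime_pow Nat.prime_two).mp hordt2
    by_cases h2i : 2 ≤ i
    · rw [hi2]
      exact pow_dvd_pow 2 h2i
    · exfalso
      have h5 : ((t₁ : G) ^ 2) ^ 2 = 1 := by
        apply orderOf_dvd_iff_pow_eq_one.mp
        rw [hi2]
        exact pow_dvd_pow 2 (by omega : i ≤ 1)
      have h6 : t₁ ^ 4 = 1 := by
        apply Subtype.ext
        rw [Subgroup.coe_pow, Subgroup.coe_one, ← h5, ← pow_mul]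
      have h7 := congrArg e h6
      rw [map_pow, het₁, map_one, QuaternionGroup.a_one_pow, QuaternionGroup.one_def] at h7
      have h8 : ((4 : ℕ) : ZMod (2 * 2 ^ (n + 2))) = 0 := QuaternionGroup.a.inj h7
      exact Cfsg.Agent.S0842.four_ne_zero n (by exact_mod_cast h8)
  -- membership of S in C
  have hSC : ∀ s : (S : Subgroup G), (s : G) ∈ C ↔ ψ s = 1 := by
    intro s
    constructor
    · intro hsC
      by_contra hne
      have h1 := (hnegS s hne).2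
      -- s commutes with t₁^2 ∈ D
      have h2 : (t₁ : G) ^ 2 * s = s * (t₁ : G) ^ 2 := by
        rw [hC] at hsC
        exact Subgroup.mem_centralizer_iff.mp hsC _ ht₁D
      have h3 := (hnegS s hne).1
      have h4 : (s : G) * t₁ * (s : G)⁻¹ = (t₁ : G)⁻¹ := by
        have := congrArg Subtype.val h3
        simpa using this
      have h5 : (s : G) * (t₁ : G) ^ 2 * (s : G)⁻¹ = ((t₁ : G) ^ 2)⁻¹ := by
        rw [← conj_pow, h4, inv_pow]
      have h6 : ((t₁ : G) ^ 2) = ((t₁ : G) ^ 2)⁻¹ := by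
        rw [← h5, ← h2]; group
      have h7 : ((t₁ : G) ^ 2) ^ 2 = 1 := by
        rw [pow_two]
        nth_rewrite 1 [h6]
        group
      have h8 : 4 ∣ orderOf ((t₁ : G) ^ 2) := hcardD ▸ h4D
      have h9 := Nat.le_of_dvd (by norm_num) (h8.trans (orderOf_dvd_of_pow_eq_one h7))
      omega
    · intro hs1
      rw [hC, Subgroup.mem_centralizer_iff]
      intro d hd
      exact hcomm ⟨d, hDS hd⟩ s (hψD d hd) hs1
  have hCN : C ≤ N := by rw [hC, hN]; exact Subgroup.centralizer_le_normalizer _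
  have hcardN : Nat.card N = 2 * Nat.card C := by
    have h := Subgroup.card_mul_index (C.subgroupOf N)
    rw [hidx, Nat.card_congr (Subgroup.subgroupOfEquivOfLe hCN).toEquiv] at h
    omega
  have hNC : ∀ g ∈ N, ∀ y ∈ C, g * y * g⁻¹ ∈ C := by
    intro g hg y hy
    rw [hC]; rw [hN] at hg; rw [hC] at hy
    exact conj_mem_centralizer _ hg hy
  have hSN : (S : Subgroup G) ≤ N := by rw [← hKS]; exact le_sup_right
  have hKN : K ≤ N := by rw [← hKS]; exact le_sup_left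
  have ht₁C : (t₁ : G) ∈ C := (hSC t₁).mpr hψt₁
  -- decompositions
  have hdecC : ∀ y ∈ C, ∃ κ ∈ K, ∃ j : ℕ, y = κ * (t₁ : G) ^ j := by
    intro y hy
    have h1 : y ∈ ((K ⊔ ((S : Subgroup G) ⊓ C) : Subgroup G) : Set G) := by
      rw [hKT]; exact hy
    rw [Subgroup.coe_mul_of_right_le_normalizer_left K _
      ((inf_le_right.trans hCN).trans hNK)] at h1
    obtain ⟨κ, hκ, t, ht, rfl⟩ := Set.mem_mul.mp h1
    obtain ⟨j, hj⟩ := hpowS ⟨t, ht.1⟩ ((hSC ⟨t, ht.1⟩).mp ht.2)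
    refine ⟨κ, hκ, j, ?_⟩
    have := congrArg Subtype.val hj
    simp only [Subgroup.coe_pow] at this
    rw [← this]
  have hdecN : ∀ g ∈ N, g ∉ C → ∃ κ ∈ K, ∃ s : (S : Subgroup G), ψ s ≠ 1 ∧ g = κ * s := by
    intro g hg hgC
    have h1 : g ∈ ((K ⊔ (S : Subgroup G) : Subgroup G) : Set G) := by
      rw [hKS]; exact hg
    rw [Subgroup.coe_mul_of_right_le_normalizer_left K _ (hSN.trans hNK)] at h1
    obtain ⟨κ, hκ, s, hs, rfl⟩ := Set.mem_mul.mp h1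
    refine ⟨κ, hκ, ⟨s, hs⟩, ?_, rfl⟩
    intro h1
    apply hgC
    exact C.mul_mem (hKC hκ) ((hSC ⟨s, hs⟩).mpr h1)
  -- the quotient
  haveI hK'n : (K.subgroupOf C).Normal :=
    Subgroup.normal_subgroupOf_of_le_normalizer (hCN.trans hNK)
  obtain ⟨tC, htC⟩ : ∃ tC : ↥C, tC = ⟨(t₁ : G), ht₁C⟩ := ⟨_, rfl⟩
  have htCval : (tC : G) = (t₁ : G) := by rw [htC]
  have hπK : ∀ c : ↥C, (c : G) ∈ K → (QuotientGroup.mk' (K.subgroupOf C)) c = 1 := by
    intro c hc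
    exact (QuotientGroup.eq_one_iff c).mpr (Subgroup.mem_subgroupOf.mpr hc)
  have hdecC' : ∀ c : ↥C, ∃ κ : ↥C, (κ : G) ∈ K ∧ ∃ j : ℕ, c = κ * tC ^ j := by
    intro c
    obtain ⟨κ, hκ, j, hj⟩ := hdecC c c.2
    refine ⟨⟨κ, hKC hκ⟩, hκ, j, ?_⟩
    apply Subtype.ext
    rw [Subgroup.coe_mul, Subgroup.coe_pow, htCval]
    exact hj
  have hgen : ∀ q : ↥C ⧸ K.subgroupOf C,
      q ∈ Subgroup.zpowers ((QuotientGroup.mk' (K.subgroupOf C)) tC) := by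
    intro q
    obtain ⟨c, rfl⟩ := QuotientGroup.mk'_surjective _ q
    obtain ⟨κ, hκ, j, hj⟩ := hdecC' c
    rw [hj, map_mul, map_pow, hπK κ hκ, one_mul]
    exact Subgroup.pow_mem _ (Subgroup.mem_zpowers _) _
  haveI hcyc : IsCyclic (↥C ⧸ K.subgroupOf C) := ⟨⟨_, hgen⟩⟩
  letI : CommGroup (↥C ⧸ K.subgroupOf C) := IsCyclic.commGroup
  -- the involution
  have htCpow : tC ^ (2 * 2 ^ (n + 2)) = 1 := by
    apply Subtype.ext
    rw [Subgroup.coe_pow, htCval, Subgroup.coe_one]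
    exact ht₁pow'
  have hzne : (t₁ : G) ^ (2 ^ (n + 2)) ≠ 1 := by
    intro h
    have h1 : t₁ ^ (2 ^ (n + 2)) = 1 := by
      apply Subtype.ext
      rw [Subgroup.coe_pow, Subgroup.coe_one]; exact h
    have h2 := congrArg e h1
    rw [map_pow, het₁, map_one] at h2
    exact a_one_pow_k_ne_one _ h2
  have hzK : (t₁ : G) ^ (2 ^ (n + 2)) ∉ K := by
    intro h
    apply hzne
    have h1 : ((t₁ : G) ^ (2 ^ (n + 2))) ^ Nat.card K = 1 := by
      have h2 := pow_card_eq_one' (x := (⟨_, h⟩ : K))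
      have h3 : (((⟨_, h⟩ : K) ^ Nat.card K : K) : G) = ((1 : K) : G) := congrArg Subtype.val h2
      rwa [Subgroup.coe_pow, Subgroup.coe_one] at h3
    have h2 : ((t₁ : G) ^ (2 ^ (n + 2))) ^ 2 = 1 := by
      rw [← pow_mul, mul_comm]; exact ht₁pow'
    have h3 := pow_gcd_eq_one.mpr ⟨h2, h1⟩
    have h4 : Nat.gcd 2 (Nat.card K) = 1 := Nat.coprime_two_left.mpr hKodd
    rw [h4, pow_one] at h3
    exact h3
  have hπz : (QuotientGroup.mk' (K.subgroupOf C)) (tC ^ (2 ^ (n + 2))) ≠ 1 := by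
    intro h
    rw [QuotientGroup.mk'_apply, QuotientGroup.eq_one_iff, Subgroup.mem_subgroupOf,
      Subgroup.coe_pow, htCval] at h
    exact hzK h
  obtain ⟨φ, hφ⟩ := CommGroup.exists_apply_ne_one_of_hasEnoughRootsOfUnity
    (↥C ⧸ K.subgroupOf C) ℂ hπz
  obtain ⟨ν, hν⟩ : ∃ ν : ↥C →* ℂˣ, ν = φ.comp (QuotientGroup.mk' (K.subgroupOf C)) := ⟨_, rfl⟩
  have hνK : ∀ c : ↥C, (c : G) ∈ K → ν c = 1 := by
    intro c hc
    rw [hν, MonoidHom.comp_apply, hπK c hc, map_one]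
  have hνz : ν tC ^ (2 ^ (n + 2)) ≠ 1 := by
    rw [← map_pow, hν, MonoidHom.comp_apply]
    exact hφ
  have hνdec : ∀ c : ↥C, ∃ j : ℕ, ν c = ν tC ^ j := by
    intro c
    obtain ⟨κ, hκ, j, hj⟩ := hdecC' c
    exact ⟨j, by rw [hj, map_mul, map_pow, hνK κ hκ, one_mul]⟩
  have hνtC : ν tC ^ (2 * 2 ^ (n + 2)) = 1 := by rw [← map_pow, htCpow, map_one]
  have hν2k : ∀ c : ↥C, ν c ^ (2 * 2 ^ (n + 2)) = 1 := by
    intro c
    obtain ⟨j, hj⟩ := hνdec c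
    rw [hj, ← pow_mul, mul_comm, pow_mul, hνtC, one_pow]
  obtain ⟨μ, hμ⟩ : ∃ μ : ↥C →* ℂˣ, μ = (powMonoidHom (2 ^ (n + 1))).comp ν := ⟨_, rfl⟩
  have hμν : ∀ c : ↥C, μ c = ν c ^ (2 ^ (n + 1)) := by
    intro c; rw [hμ]; rfl
  have hμtC2 : μ tC ^ 2 ≠ 1 := by
    rw [hμν, ← pow_mul]
    have : 2 ^ (n + 1) * 2 = 2 ^ (n + 2) := by ring
    rw [this]
    exact hνz
  have ht₀C : (t₁ : G) ^ 2 ∈ C := C.pow_mem ht₁C 2
  refine ⟨C, N, {y | y ∈ C ∧ Nat.card D ∣ orderOf y}, (t₁ : G), μ, ht₀C, hCN, hcardN, hNC,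
    fun y hy => hy.1, ?_, ?_, ?_, ?_, ?_, t₁.2, ?_, ⟨tC, hμtC2⟩, ?_, ?_⟩
  · intro g y hy hgy
    exact hT2 g y hy.1 hy.2 hgy
  · intro g y hg hy
    exact hT3 g y hg hy.1 hy.2
  · intro y hy
    exact h4D.trans hy.2
  · -- μ trivial off X
    intro y hy
    have hy' : ¬ Nat.card D ∣ orderOf (y : G) := fun h => hy ⟨y.2, h⟩
    rw [hμν]
    have h1 : ν y ^ orderOf (y : G) = 1 := by
      rw [← map_pow, Subgroup.orderOf_coe, pow_orderOf_eq_one, map_one]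
    have h2 := hν2k y
    have h3 := pow_gcd_eq_one.mpr ⟨h1, h2⟩
    have h4 : Nat.gcd (orderOf (y : G)) (2 * 2 ^ (n + 2)) ∣ 2 ^ (n + 3) := by
      have : 2 * 2 ^ (n + 2) = 2 ^ (n + 3) := by ring
      rw [← this]; exact Nat.gcd_dvd_right _ _
    obtain ⟨i, hi, hi2⟩ := (Nat.dvd_prime_pow Nat.prime_two).mp h4
    have hi3 : i ≤ n + 1 := by
      by_contra hcon
      apply hy'
      refine hcardD_dvd.trans (dvd_trans ?_ (Nat.gcd_dvd_left (orderOf (y : G)) (2 * 2 ^ (n + 2))))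
      rw [hi2]
      exact pow_dvd_pow 2 (by omega)
    rw [hi2] at h3
    obtain ⟨c, hc⟩ := pow_dvd_pow 2 hi3
    rw [hc, pow_mul, h3, one_pow]
  · -- inversion
    intro g hg hgC y h
    obtain ⟨κ₁, hκ₁, s, hs, rfl⟩ := hdecN g hg hgC
    obtain ⟨κ, hκ, j, hj⟩ := hdecC' y
    have hinv := (hnegS s hs).1
    have hinv' : (s : G) * t₁ * (s : G)⁻¹ = (t₁ : G)⁻¹ := by
      have := congrArg Subtype.val hinv
      simpa using this
    have hgκ : κ₁ * (s : G) * (κ : G) * (κ₁ * (s : G))⁻¹ ∈ K := by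
      have h1 := hNK hg
      exact (Subgroup.mem_set_normalizer_iff.mp h1 (κ : G)).mp hκ
    have hgt : κ₁ * (s : G) * (tC : G) * (κ₁ * (s : G))⁻¹ ∈ C := hNC _ hg _ tC.2
    have hyG : (y : G) = (κ : G) * (tC : G) ^ j := by
      have := congrArg Subtype.val hj
      simpa using this
    have hAG : κ₁ * (s : G) * (y : G) * (κ₁ * (s : G))⁻¹ =
        (κ₁ * (s : G) * (κ : G) * (κ₁ * (s : G))⁻¹) *
          (κ₁ * (s : G) * (tC : G) * (κ₁ * (s : G))⁻¹) ^ j := by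
      rw [hyG, conj_pow]; group
    have hA : (⟨κ₁ * (s : G) * (y : G) * (κ₁ * (s : G))⁻¹, h⟩ : ↥C) =
        ⟨_, hKC hgκ⟩ * (⟨_, hgt⟩ : ↥C) ^ j := by
      apply Subtype.ext
      rw [Subgroup.coe_mul, Subgroup.coe_pow]
      exact hAG
    have hCG : κ₁ * (s : G) * (tC : G) * (κ₁ * (s : G))⁻¹ = κ₁ * (tC : G)⁻¹ * κ₁⁻¹ := by
      rw [htCval, ← hinv']; group
    have hC' : (⟨_, hgt⟩ : ↥C) = ⟨κ₁, hKC hκ₁⟩ * tC⁻¹ * (⟨κ₁, hKC hκ₁⟩ : ↥C)⁻¹ := by
      apply Subtype.ext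
      rw [Subgroup.coe_mul, Subgroup.coe_mul, Subgroup.coe_inv, Subgroup.coe_inv]
      exact hCG
    have hνC : ν ⟨_, hgt⟩ = (ν tC)⁻¹ := by
      rw [hC', map_mul, map_mul, map_inv, map_inv, hνK ⟨κ₁, hKC hκ₁⟩ hκ₁]
      simp
    have hν1 : ν ⟨κ₁ * (s : G) * (y : G) * (κ₁ * (s : G))⁻¹, h⟩ = (ν y)⁻¹ := by
      rw [hA, map_mul, map_pow, hνK ⟨_, hKC hgκ⟩ hgκ, one_mul, hνC]
      rw [hj, map_mul, map_pow, hνK κ hκ, one_mul, inv_pow]
    rw [hμν, hμν, hν1, inv_pow]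
  · -- μ (t₀²) ≠ 1
    have h1 : (⟨(t₁ : G) ^ 2, ht₀C⟩ : ↥C) = tC ^ 2 := by
      apply Subtype.ext
      rw [Subgroup.coe_pow, htCval]
    rw [h1, map_pow]
    exact hμtC2
  · intro s hs hsC
    have hne : ψ ⟨s, hs⟩ ≠ 1 := fun h => hsC ((hSC ⟨s, hs⟩).mpr h)
    have := congrArg Subtype.val (hnegS ⟨s, hs⟩ hne).2
    simpa using this
  · intro u hu v hv
    exact hcomm ⟨u, hu.1⟩ ⟨v, hv.1⟩ ((hSC ⟨u, hu.1⟩).mp hu.2) ((hSC ⟨v, hv.1⟩).mp hv.2)

end Cfsg.Agent.Lib.Helper7.BS
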