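import Mathlib
import Cfsg.Prelude
import Cfsg.Agent.Lib.Helper7.ExtDet
import Cfsg.Agent.Lib.Helper26.TIInd
import Cfsg.Agent.Lib.Helper26.IndChar
import Cfsg.Agent.Lib.Helper26.GenChar
import Cfsg.Agent.Lib.Helper26.CharBasic
import Cfsg.Agent.Lib.Helper4.BurnsideClass

set_option autoImplicit false
open Cfsg

/-! Brauer–Suzuki for quaternion Sylow 2-subgroups of order at least 16: the induced generalized
character of norm three. -/

namespace Cfsg.Agent.Lib.Helper7.BS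

open Cfsg.Agent.Lib.Helper26
open scoped ComplexConjugate

section ind

variable {G : Type*} [Group G] [Fintype G]

open scoped Classical in
theorem sum_ite_mem_subgroup (H : Subgroup G) (c : ℂ) :
    ∑ x : G, (if x ∈ H then c else 0) = (Nat.card H : ℂ) * c := by
  rw [← Finset.sum_filter, Finset.sum_const, nsmul_eq_mul]
  congr 2
  rw [Nat.card_eq_fintype_card, Fintype.card_subtype]

/-- value of the induced function on `C` -/
theorem ind_value (C N : Subgroup G) (X : Set G)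
    (hCN : C ≤ N) (hcard : Nat.card N = 2 * Nat.card C)
    (hNC : ∀ g ∈ N, ∀ y ∈ C, g * y * g⁻¹ ∈ C)
    (hX1 : ∀ g y : G, y ∈ X → g * y * g⁻¹ ∈ C → g ∈ N)
    (μ : ↥C →* ℂˣ)
    (hμ1 : ∀ y : ↥C, (y : G) ∉ X → μ y = 1)
    (hμ2 : ∀ g ∈ N, g ∉ C → ∀ (y : ↥C) (h : g * (y : G) * g⁻¹ ∈ C),
      μ ⟨g * y * g⁻¹, h⟩ = (μ y)⁻¹)
    (y : ↥C) :
    indFun C (fun c : ↥C => 1 - ((μ c : ℂˣ) : ℂ)) (y : G) =
      2 - ((μ y : ℂˣ) : ℂ) - (((μ y)⁻¹ : ℂˣ) : ℂ) := by
  classical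
  have hterm : ∀ x : G, extendByZero C (fun c : ↥C => 1 - ((μ c : ℂˣ) : ℂ)) (x⁻¹ * y * x) =
      (if x ∈ C then ((((μ y)⁻¹ : ℂˣ) : ℂ) - ((μ y : ℂˣ) : ℂ)) else 0) +
        (if x ∈ N then 1 - (((μ y)⁻¹ : ℂˣ) : ℂ) else 0) := by
    intro x
    by_cases hxC : x ∈ C
    · have hxN : x ∈ N := hCN hxC
      rw [if_pos hxC, if_pos hxN]
      have hmem : x⁻¹ * (y : G) * x ∈ C := C.mul_mem (C.mul_mem (C.inv_mem hxC) y.2) hxC
      rw [extendByZero_apply_mem C _ _ hmem]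
      have h1 : (⟨x⁻¹ * (y : G) * x, hmem⟩ : ↥C) = (⟨x, hxC⟩ : ↥C)⁻¹ * y * ⟨x, hxC⟩ := rfl
      have h2 : (μ ⟨x, hxC⟩)⁻¹ * μ y * μ ⟨x, hxC⟩ = μ y := by
        rw [mul_comm, ← mul_assoc, mul_inv_cancel, one_mul]
      beta_reduce
      rw [h1, map_mul, map_mul, map_inv, h2]
      ring
    · rw [if_neg hxC, zero_add]
      by_cases hxN : x ∈ N
      · rw [if_pos hxN]
        have hx' : x⁻¹ ∈ N := N.inv_mem hxN
        have hx'C : x⁻¹ ∉ C := fun h => hxC (by simpa using C.inv_mem h)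
        have hmem : x⁻¹ * (y : G) * (x⁻¹)⁻¹ ∈ C := hNC _ hx' _ y.2
        have h3 := hμ2 _ hx' hx'C y hmem
        have hmem' : x⁻¹ * (y : G) * x ∈ C := by simpa using hmem
        rw [extendByZero_apply_mem C _ _ hmem']
        have h4 : (⟨x⁻¹ * (y : G) * x, hmem'⟩ : ↥C) = ⟨x⁻¹ * (y : G) * (x⁻¹)⁻¹, hmem⟩ :=
          Subtype.ext (by simp)
        beta_reduce
        rw [h4, h3]
      · rw [if_neg hxN]
        by_cases hmem : x⁻¹ * (y : G) * x ∈ C
        · rw [extendByZero_apply_mem C _ _ hmem]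
          have hnX : x⁻¹ * (y : G) * x ∉ X := by
            intro hX
            apply hxN
            apply hX1 x _ hX
            have : x * (x⁻¹ * (y : G) * x) * x⁻¹ = y := by group
            rw [this]; exact y.2
          beta_reduce
          rw [hμ1 ⟨_, hmem⟩ hnX]; simp
        · exact extendByZero_apply_not_mem C _ _ hmem
  unfold indFun
  rw [Finset.sum_congr rfl (fun x _ => hterm x)]
  rw [Finset.sum_add_distrib, sum_ite_mem_subgroup, sum_ite_mem_subgroup, hcard]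
  have hC0 : (Nat.card C : ℂ) ≠ 0 := Nat.cast_ne_zero.mpr Nat.card_pos.ne'
  push_cast
  field_simp
  ring

theorem ind_vanish (C : Subgroup G) (X : Set G) (μ : ↥C →* ℂˣ)
    (hμ1 : ∀ y : ↥C, (y : G) ∉ X → μ y = 1) (g : G) (hg : ∀ x : G, x⁻¹ * g * x ∉ X) :
    indFun C (fun c : ↥C => 1 - ((μ c : ℂˣ) : ℂ)) g = 0 := by
  unfold indFun
  rw [Finset.sum_eq_zero, mul_zero]
  intro x _
  by_cases hmem : x⁻¹ * g * x ∈ C
  · rw [extendByZero_apply_mem C _ _ hmem]
    beta_reduce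
    rw [hμ1 ⟨_, hmem⟩ (hg x)]; simp
  · exact extendByZero_apply_not_mem C _ _ hmem

/-- the induced function is a generalized character with `(Θ, 1) = 1`, `(Θ, Θ) = 3`, `Θ 1 = 0` -/
theorem bs_theta (C N : Subgroup G) (X : Set G)
    (hCN : C ≤ N) (hcard : Nat.card N = 2 * Nat.card C)
    (hNC : ∀ g ∈ N, ∀ y ∈ C, g * y * g⁻¹ ∈ C)
    (hX1 : ∀ g y : G, y ∈ X → g * y * g⁻¹ ∈ C → g ∈ N)
    (μ : ↥C →* ℂˣ)
    (hμ1 : ∀ y : ↥C, (y : G) ∉ X → μ y = 1)
    (hμ2 : ∀ g ∈ N, g ∉ C → ∀ (y : ↥C) (h : g * (y : G) * g⁻¹ ∈ C),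
      μ ⟨g * y * g⁻¹, h⟩ = (μ y)⁻¹)
    (hμ3 : ∃ y : ↥C, μ y ^ 2 ≠ 1) :
    IsGeneralizedCharacter G (indFun C (fun c : ↥C => 1 - ((μ c : ℂˣ) : ℂ))) ∧
    classInner (indFun C (fun c : ↥C => 1 - ((μ c : ℂˣ) : ℂ))) (fun _ => 1) = 1 ∧
    classInner (indFun C (fun c : ↥C => 1 - ((μ c : ℂˣ) : ℂ)))
      (indFun C (fun c : ↥C => 1 - ((μ c : ℂˣ) : ℂ))) = 3 ∧
    indFun C (fun c : ↥C => 1 - ((μ c : ℂˣ) : ℂ)) 1 = 0 := by
  classical
  haveI : Fintype ↥C := Fintype.ofFinite _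
  obtain ⟨y₀, hy₀⟩ := hμ3
  obtain ⟨one, hone⟩ : ∃ one : ↥C → ℂ, one = fun _ => 1 := ⟨_, rfl⟩
  obtain ⟨m, hm⟩ : ∃ m : ↥C → ℂ, m = fun c => ((μ c : ℂˣ) : ℂ) := ⟨_, rfl⟩
  obtain ⟨m', hm'⟩ : ∃ m' : ↥C → ℂ, m' = fun c => (((μ c)⁻¹ : ℂˣ) : ℂ) := ⟨_, rfl⟩
  have hIone : IsIrrCharacter ↥C one := by
    rw [hone]; exact Cfsg.Agent.Lib.Helper4.isIrrCharacter_one
  have hIm : IsIrrCharacter ↥C m := by
    rw [hm]; exact Cfsg.Agent.Lib.Helper7.isIrr_of_hom' μ
  have hIm' : IsIrrCharacter ↥C m' := by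
    rw [hm']; exact Cfsg.Agent.Lib.Helper7.isIrr_of_hom' μ⁻¹
  have hα : (fun c : ↥C => 1 - ((μ c : ℂˣ) : ℂ)) = one - m := by
    rw [hone, hm]; rfl
  have hne1 : one ≠ m := by
    intro h
    apply hy₀
    have h1 := congrFun h y₀
    rw [hone, hm] at h1
    have h2 : μ y₀ = 1 := by
      apply Units.ext
      rw [Units.val_one]; exact h1.symm
    rw [h2, one_pow]
  have hne2 : one ≠ m' := by
    intro h
    apply hy₀
    have h1 := congrFun h y₀
    rw [hone, hm'] at h1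
    have h2 : (μ y₀)⁻¹ = 1 := by
      apply Units.ext
      rw [Units.val_one]; exact h1.symm
    rw [inv_eq_one.mp h2, one_pow]
  have hne3 : m ≠ m' := by
    intro h
    apply hy₀
    have h1 := congrFun h y₀
    rw [hm, hm'] at h1
    have h2 : μ y₀ = (μ y₀)⁻¹ := Units.ext h1
    rw [pow_two]
    nth_rewrite 1 [h2]
    exact inv_mul_cancel _
  have i11 : classInner one one = 1 := by rw [classInner_irr hIone hIone, if_pos rfl]
  have i12 : classInner one m = 0 := by rw [classInner_irr hIone hIm, if_neg hne1]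
  have i13 : classInner one m' = 0 := by rw [classInner_irr hIone hIm', if_neg hne2]
  have i21 : classInner m one = 0 := by rw [classInner_irr hIm hIone, if_neg (Ne.symm hne1)]
  have i22 : classInner m m = 1 := by rw [classInner_irr hIm hIm, if_pos rfl]
  have i23 : classInner m m' = 0 := by rw [classInner_irr hIm hIm', if_neg hne3]
  have hcf := isClassFunction_indFun C (one - m)
  have hres : (indFun C (one - m)) ∘ C.subtype = (2 : ℂ) • one - m - m' := by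
    funext y
    rw [Function.comp_apply, Subgroup.coe_subtype, ← hα,
      ind_value C N X hCN hcard hNC hX1 μ hμ1 hμ2 y, hone, hm, hm']
    simp
  rw [hα]
  refine ⟨?_, ?_, ?_, ?_⟩
  · exact isGeneralizedCharacter_indFun C ⟨one, m, isCharacter_of_isIrrCharacter hIone,
      isCharacter_of_isIrrCharacter hIm, rfl⟩
  · rw [classInner_indFun_left' C _ _ (isClassFunction_of_isIrrCharacter
      Cfsg.Agent.Lib.Helper4.isIrrCharacter_one)]
    have : (fun _ : G => (1 : ℂ)) ∘ C.subtype = one := by rw [hone]; rfl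
    rw [this, classInner_sub_left, i11, i21, sub_zero]
  · rw [classInner_indFun_left' C _ _ hcf, hres, classInner_sub_left, classInner_sub_right,
      classInner_sub_right, classInner_sub_right, classInner_sub_right, classInner_smul_right,
      classInner_smul_right, i11, i12, i13, i21, i22, i23, map_ofNat]
    norm_num
  · rw [indFun_one]
    have : (one - m) 1 = 0 := by
      rw [hone, hm]; simp
    rw [this, mul_zero, mul_zero]

end ind

section decomp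

variable {G : Type*} [Group G] [Fintype G]

/-- A generalized character of norm `2` is `± μ₁ ± μ₂` for distinct irreducible characters. -/
theorem genChar_norm_two' {X : G → ℂ} (hX : IsGeneralizedCharacter G X)
    (hnorm : classInner X X = 2) :
    ∃ (μ₁ μ₂ : G → ℂ) (c₁ c₂ : ℤ), IsIrrCharacter G μ₁ ∧ IsIrrCharacter G μ₂ ∧ μ₁ ≠ μ₂ ∧
      (c₁ = 1 ∨ c₁ = -1) ∧ (c₂ = 1 ∨ c₂ = -1) ∧ X = (c₁ : ℂ) • μ₁ + (c₂ : ℂ) • μ₂ := by
  classical
  have : Fintype (IrrCharacter G) := Fintype.ofFinite _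
  obtain ⟨c, hc⟩ := exists_int_coeff hX
  have hP := genChar_norm hX c hc
  rw [hnorm] at hP
  have hP' : ∑ μ : IrrCharacter G, (c μ) ^ 2 = 2 := by exact_mod_cast hP.symm
  have hex1 : ∃ μ₁, c μ₁ ≠ 0 := by
    by_contra hcon
    push Not at hcon
    have : ∑ μ : IrrCharacter G, (c μ) ^ 2 = 0 := by
      apply Finset.sum_eq_zero
      intro μ _
      rw [hcon μ]; rfl
    omega
  obtain ⟨μ₁, hμ₁⟩ := hex1
  have hsplit1 := Finset.add_sum_erase Finset.univ (fun μ => (c μ) ^ 2) (Finset.mem_univ μ₁)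
  rw [hP'] at hsplit1
  have hrest_nonneg : 0 ≤ ∑ μ ∈ Finset.univ.erase μ₁, (c μ) ^ 2 :=
    Finset.sum_nonneg (fun μ _ => sq_nonneg (c μ))
  have hc1sq : (c μ₁) ^ 2 = 1 := by
    have hpos : 1 ≤ (c μ₁) ^ 2 := by
      have : 0 < (c μ₁) ^ 2 := by positivity
      omega
    have hle : (c μ₁) ^ 2 ≤ 2 := by linarith
    have hne2 : (c μ₁) ^ 2 ≠ 2 := by
      intro h2
      have habs : |c μ₁| < 2 := by
        by_contra hge
        push Not at hge
        have : 4 ≤ (c μ₁) ^ 2 := by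
          have := sq_le_sq' (by linarith [abs_nonneg (c μ₁)] : -|c μ₁| ≤ 2) hge
          rw [sq_abs] at this
          linarith
        omega
      have hlt := abs_lt.1 habs
      have : c μ₁ = -1 ∨ c μ₁ = 0 ∨ c μ₁ = 1 := by omega
      rcases this with h | h | h <;> rw [h] at h2 <;> norm_num at h2
    omega
  have hrest1 : ∑ μ ∈ Finset.univ.erase μ₁, (c μ) ^ 2 = 1 := by linarith
  have hex2 : ∃ μ₂ ∈ Finset.univ.erase μ₁, c μ₂ ≠ 0 := by
    by_contra hcon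
    push Not at hcon
    have : ∑ μ ∈ Finset.univ.erase μ₁, (c μ) ^ 2 = 0 := by
      apply Finset.sum_eq_zero
      intro μ hμ
      rw [hcon μ hμ]; rfl
    omega
  obtain ⟨μ₂, hμ₂mem, hμ₂⟩ := hex2
  have hne12 : μ₂ ≠ μ₁ := (Finset.mem_erase.1 hμ₂mem).1
  have hsplit2 := Finset.add_sum_erase (Finset.univ.erase μ₁) (fun μ => (c μ) ^ 2) hμ₂mem
  rw [hrest1] at hsplit2
  have hrest2_nonneg : 0 ≤ ∑ μ ∈ (Finset.univ.erase μ₁).erase μ₂, (c μ) ^ 2 :=
    Finset.sum_nonneg (fun μ _ => sq_nonneg (c μ))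
  have hc2sq : (c μ₂) ^ 2 = 1 := by
    have hpos : 1 ≤ (c μ₂) ^ 2 := by
      have : 0 < (c μ₂) ^ 2 := by positivity
      omega
    linarith
  have hrest2 : ∑ μ ∈ (Finset.univ.erase μ₁).erase μ₂, (c μ) ^ 2 = 0 := by linarith
  have hzero : ∀ μ ∈ (Finset.univ.erase μ₁).erase μ₂, c μ = 0 := by
    intro μ hμ
    have := (Finset.sum_eq_zero_iff_of_nonneg (fun μ _ => sq_nonneg (c μ))).1 hrest2 μ hμ
    exact pow_eq_zero_iff (by norm_num) |>.1 this
  have hexp := genChar_expansion hX c hc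
  have hX2 : X = (c μ₁ : ℂ) • (μ₁ : G → ℂ) + (c μ₂ : ℂ) • (μ₂ : G → ℂ) := by
    rw [hexp, ← Finset.add_sum_erase Finset.univ _ (Finset.mem_univ μ₁),
      ← Finset.add_sum_erase (Finset.univ.erase μ₁) _ hμ₂mem]
    have : ∑ μ ∈ (Finset.univ.erase μ₁).erase μ₂, (c μ : ℂ) • (μ : G → ℂ) = 0 := by
      apply Finset.sum_eq_zero
      intro μ hμ
      rw [hzero μ hμ]; simp
    rw [this, add_zero]
  have hsq : ∀ z : ℤ, z ^ 2 = 1 → z = 1 ∨ z = -1 := by
    intro z hz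
    have hz' : (z - 1) * (z + 1) = 0 := by ring_nf; linarith
    rcases mul_eq_zero.1 hz' with h | h
    · left; omega
    · right; omega
  exact ⟨μ₁, μ₂, c μ₁, c μ₂, μ₁.2, μ₂.2, fun h => hne12 (Subtype.ext h).symm, hsq _ hc1sq,
    hsq _ hc2sq, hX2⟩

theorem bs_pair (Θ : G → ℂ) (hgen : IsGeneralizedCharacter G Θ)
    (h1 : classInner Θ (fun _ => 1) = 1) (h3 : classInner Θ Θ = 3) (hΘ1 : Θ 1 = 0) :
    ∃ χ₁ χ₂ : G → ℂ, IsIrrCharacter G χ₁ ∧ IsIrrCharacter G χ₂ ∧ χ₁ ≠ (fun _ => 1) ∧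
      χ₂ ≠ (fun _ => 1) ∧ χ₁ 1 = χ₂ 1 + 1 ∧ ∀ g, Θ g = 1 + χ₂ g - χ₁ g := by
  classical
  obtain ⟨one, hone⟩ : ∃ one : G → ℂ, one = fun _ => 1 := ⟨_, rfl⟩
  have hIone : IsIrrCharacter G one := by
    rw [hone]; exact Cfsg.Agent.Lib.Helper4.isIrrCharacter_one
  rw [← hone] at h1
  have h1' : classInner one Θ = 1 := by
    rw [← classInner_conj_symm, h1, map_one]
  have i11 : classInner one one = 1 := by rw [classInner_irr hIone hIone, if_pos rfl]
  have hgenX : IsGeneralizedCharacter G (Θ - one) :=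
    isGeneralizedCharacter_sub hgen
      (isGeneralizedCharacter_of_isCharacter (isCharacter_of_isIrrCharacter hIone))
  have hnorm : classInner (Θ - one) (Θ - one) = 2 := by
    rw [classInner_sub_left, classInner_sub_right, classInner_sub_right, h3, h1, h1', i11]
    norm_num
  have hX1 : classInner (Θ - one) one = 0 := by
    rw [classInner_sub_left, h1, i11, sub_self]
  obtain ⟨μ₁, μ₂, c₁, c₂, hI1, hI2, hne, hc1, hc2, hX⟩ := genChar_norm_two' hgenX hnorm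
  have hμ₁one : μ₁ ≠ one := by
    intro h
    have h2 : μ₂ ≠ one := fun h' => hne (h.trans h'.symm)
    rw [hX, classInner_add_left, classInner_smul_left, classInner_smul_left,
      classInner_irr hI1 hIone, classInner_irr hI2 hIone, if_pos h, if_neg h2] at hX1
    rcases hc1 with h | h <;> rw [h] at hX1 <;> norm_num at hX1
  have hμ₂one : μ₂ ≠ one := by
    intro h
    rw [hX, classInner_add_left, classInner_smul_left, classInner_smul_left,
      classInner_irr hI1 hIone, classInner_irr hI2 hIone, if_neg hμ₁one, if_pos h] at hX1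
    rcases hc2 with h | h <;> rw [h] at hX1 <;> norm_num at hX1
  obtain ⟨d₁, hd₁pos, hd₁⟩ := irr_degree hI1
  obtain ⟨d₂, hd₂pos, hd₂⟩ := irr_degree hI2
  have hval : (c₁ : ℂ) * d₁ + (c₂ : ℂ) * d₂ = -1 := by
    have := congrFun hX 1
    simp only [Pi.add_apply, Pi.smul_apply, Pi.sub_apply, smul_eq_mul, hd₁, hd₂, hΘ1] at this
    rw [← this, hone]; ring
  have hvalZ : c₁ * d₁ + c₂ * d₂ = -1 := by exact_mod_cast hval
  have hd₁' : (0 : ℤ) < d₁ := by exact_mod_cast hd₁pos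
  have hd₂' : (0 : ℤ) < d₂ := by exact_mod_cast hd₂pos
  have hΘ : ∀ g, Θ g = 1 + ((c₁ : ℂ) * μ₁ g + (c₂ : ℂ) * μ₂ g) := by
    intro g
    have := congrFun hX g
    simp only [Pi.add_apply, Pi.smul_apply, Pi.sub_apply, smul_eq_mul] at this
    rw [← this, hone]; ring
  rw [hone] at hμ₁one hμ₂one
  rcases hc1 with e1 | e1 <;> rcases hc2 with e2 | e2
  · exfalso
    rw [e1, e2] at hvalZ
    linarith
  · -- Θ - 1 = μ₁ - μ₂
    refine ⟨μ₂, μ₁, hI2, hI1, hμ₂one, hμ₁one, ?_, ?_⟩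
    · rw [hd₁, hd₂]
      rw [e1, e2] at hvalZ
      have : (d₂ : ℤ) = d₁ + 1 := by linarith
      exact_mod_cast this
    · intro g
      rw [hΘ g, e1, e2]; push_cast; ring
  · refine ⟨μ₁, μ₂, hI1, hI2, hμ₁one, hμ₂one, ?_, ?_⟩
    · rw [hd₁, hd₂]
      rw [e1, e2] at hvalZ
      have : (d₁ : ℤ) = d₂ + 1 := by linarith
      exact_mod_cast this
    · intro g
      rw [hΘ g, e1, e2]; push_cast; ring
  · exfalso
    rw [e1, e2] at hvalZ
    linarith

end decomp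

end Cfsg.Agent.Lib.Helper7.BS
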