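import Mathlib
import Cfsg.Prelude
import Cfsg.Agent.Lib.Helper7.BSB
import Cfsg.Agent.Lib.Helper7.BSC

set_option autoImplicit false
open Cfsg

/-! Brauer–Suzuki for quaternion Sylow 2-subgroups of order at least 16: the pair of characters. -/

namespace Cfsg.Agent.Lib.Helper7.BS

open Cfsg.Agent.Lib.Helper26
open scoped ComplexConjugate

theorem bs_main {G : Type*} [Group G] [Fintype G] (S : Sylow 2 G) (n : ℕ)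
    (e : (S : Subgroup G) ≃* QuaternionGroup (2 ^ (n + 2))) :
    ∃ (χ₁ χ₂ : G → ℂ) (C : Subgroup G) (t₀ : G), IsIrrCharacter G χ₁ ∧ IsIrrCharacter G χ₂ ∧
      χ₁ ≠ (fun _ => 1) ∧ χ₂ ≠ (fun _ => 1) ∧ χ₁ 1 = χ₂ 1 + 1 ∧
      (∀ g : G, ¬ 4 ∣ orderOf g → χ₁ g - χ₂ g = 1) ∧
      t₀ ∈ (S : Subgroup G) ∧ χ₁ (t₀ ^ 2) - χ₂ (t₀ ^ 2) ≠ 1 ∧
      (∀ s ∈ (S : Subgroup G), s ∉ C → t₀ * s * t₀⁻¹ * s⁻¹ = t₀ ^ 2) ∧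
      (∀ u ∈ (S : Subgroup G) ⊓ C, ∀ v ∈ (S : Subgroup G) ⊓ C, u * v = v * u) := by
  classical
  obtain ⟨C, N, X, t₀, μ, ht₀, hCN, hcard, hNC, hXC, hX1, hX2, hX4, hμ1, hμ2, ht₀S, hμt, hμ3,
    hcommt, hab⟩ := bs_group S n e
  obtain ⟨hgen, h1, h3, hΘ1⟩ := bs_theta C N X hCN hcard hNC hX1 μ hμ1 hμ2 hμ3
  obtain ⟨χ₁, χ₂, hI1, hI2, hne1, hne2, hdeg, hΘ⟩ := bs_pair _ hgen h1 h3 hΘ1
  refine ⟨χ₁, χ₂, C, t₀, hI1, hI2, hne1, hne2, hdeg, ?_, ht₀S, ?_, hcommt, hab⟩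
  · intro g hg
    have h0 : indFun C (fun c : ↥C => 1 - ((μ c : ℂˣ) : ℂ)) g = 0 := by
      apply ind_vanish C X μ hμ1
      intro x hx
      apply hg
      have h4 := hX4 _ hx
      have h5 := (MulAut.conj x⁻¹).orderOf_eq g
      rw [MulAut.conj_apply, inv_inv] at h5
      rw [← h5]; exact h4
    rw [hΘ g] at h0
    linear_combination -h0
  · intro hcon
    have h0 := ind_value C N X hCN hcard hNC hX1 μ hμ1 hμ2 ⟨t₀ ^ 2, ht₀⟩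
    rw [hΘ] at h0
    simp only [] at h0
    have hw : ((μ ⟨t₀ ^ 2, ht₀⟩ : ℂˣ) : ℂ) ≠ 0 := Units.ne_zero _
    have hw' : (((μ ⟨t₀ ^ 2, ht₀⟩)⁻¹ : ℂˣ) : ℂ) = ((μ ⟨t₀ ^ 2, ht₀⟩ : ℂˣ) : ℂ)⁻¹ :=
      Units.val_inv_eq_inv_val _
    rw [hw'] at h0
    have h2 : (((μ ⟨t₀ ^ 2, ht₀⟩ : ℂˣ) : ℂ) - 1) ^ 2 = 0 := by
      have h5 : 2 - ((μ ⟨t₀ ^ 2, ht₀⟩ : ℂˣ) : ℂ) - ((μ ⟨t₀ ^ 2, ht₀⟩ : ℂˣ) : ℂ)⁻¹ = 0 := by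
        rw [← h0]; linear_combination -hcon
      have h6 : (((μ ⟨t₀ ^ 2, ht₀⟩ : ℂˣ) : ℂ) - 1) ^ 2 =
          -((μ ⟨t₀ ^ 2, ht₀⟩ : ℂˣ) : ℂ) *
            (2 - ((μ ⟨t₀ ^ 2, ht₀⟩ : ℂˣ) : ℂ) - ((μ ⟨t₀ ^ 2, ht₀⟩ : ℂˣ) : ℂ)⁻¹) := by
        field_simp
        ring
      rw [h6, h5, mul_zero]
    have h7 : ((μ ⟨t₀ ^ 2, ht₀⟩ : ℂˣ) : ℂ) = 1 := by
      have := pow_eq_zero_iff (two_ne_zero) |>.mp h2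
      linear_combination this
    apply hμt
    apply Units.ext
    rw [Units.val_one]; exact h7

end Cfsg.Agent.Lib.Helper7.BS
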