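import Mathlib
import Cfsg.Prelude
import Cfsg.Agent.Lib.Helper7.BSD
import Cfsg.Agent.Lib.Helper4.ClassMult
import Cfsg.Agent.Lib.Helper4.TwoClasses

set_option autoImplicit false
open Cfsg

/-! Brauer–Suzuki for quaternion Sylow 2-subgroups of order at least 16: involution counting. -/

namespace Cfsg.Agent.Lib.Helper7.BS

open Cfsg.Agent.Lib.Helper26 Cfsg.Agent.Lib.Helper3
open scoped ComplexConjugate

section count

variable {G : Type*} [Group G] [Fintype G]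

theorem sum_sum_irr (χ : G → ℂ) (hχ : IsIrrCharacter G χ) (u : G) :
    ∑ h : G, ∑ k : G, χ ((h * u * h⁻¹) * (k * u * k⁻¹)) =
      (Nat.card G : ℂ) ^ 2 * χ u ^ 2 / χ 1 := by
  classical
  have hcf := isClassFunction_of_isIrrCharacter hχ
  obtain ⟨n, ρ, hρ, rfl⟩ := hχ
  have h1 : ∀ h : G, ∑ k : G, ρ.character ((h * u * h⁻¹) * (k * u * k⁻¹)) =
      (Nat.card G : ℂ) * ρ.character u * ρ.character u / ρ.character 1 := by
    intro h
    rw [Cfsg.Agent.Lib.Helper4.sum_char_mul_conj ρ hρ (h * u * h⁻¹) u, hcf u h,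
      Representation.char_one]
  rw [Finset.sum_congr rfl (fun h _ => h1 h), Finset.sum_const, Finset.card_univ, nsmul_eq_mul,
    Nat.card_eq_fintype_card]
  ring

theorem inv_in_kernels (χ₁ χ₂ : G → ℂ) (hI1 : IsIrrCharacter G χ₁) (hI2 : IsIrrCharacter G χ₂)
    (hdeg : χ₁ 1 = χ₂ 1 + 1)
    (hval : ∀ g : G, ¬ 4 ∣ orderOf g → χ₁ g - χ₂ g = 1) (u : G) (hu : ¬ 4 ∣ orderOf u)
    (hprod : ∀ h k : G, ¬ 4 ∣ orderOf ((h * u * h⁻¹) * (k * u * k⁻¹))) :
    χ₁ u = χ₁ 1 ∧ χ₂ u = χ₂ 1 := by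
  classical
  have hsum : ∑ h : G, ∑ k : G, ((1 : ℂ) + χ₂ ((h * u * h⁻¹) * (k * u * k⁻¹)) -
      χ₁ ((h * u * h⁻¹) * (k * u * k⁻¹))) = 0 := by
    apply Finset.sum_eq_zero
    intro h _
    apply Finset.sum_eq_zero
    intro k _
    have := hval _ (hprod h k)
    linear_combination -this
  simp only [Finset.sum_sub_distrib, Finset.sum_add_distrib] at hsum
  rw [sum_sum_irr χ₁ hI1 u, sum_sum_irr χ₂ hI2 u] at hsum
  simp only [Finset.sum_const, Finset.card_univ, nsmul_eq_mul, mul_one] at hsum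
  rw [← Nat.card_eq_fintype_card] at hsum
  obtain ⟨d₂, hd₂pos, hd₂⟩ := irr_degree hI2
  have hN : (Nat.card G : ℂ) ≠ 0 := Nat.cast_ne_zero.mpr Nat.card_pos.ne'
  have hu1 : χ₁ u = χ₂ u + 1 := by
    have := hval u hu
    linear_combination this
  rw [hdeg, hd₂, hu1] at hsum
  have hd0 : (d₂ : ℂ) ≠ 0 := Nat.cast_ne_zero.mpr hd₂pos.ne'
  have hd1 : (d₂ : ℂ) + 1 ≠ 0 := by
    have : ((d₂ + 1 : ℕ) : ℂ) ≠ 0 := Nat.cast_ne_zero.mpr (Nat.succ_ne_zero _)
    push_cast at this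
    exact this
  have key : ((d₂ : ℂ) - χ₂ u) ^ 2 * (Nat.card G : ℂ) ^ 2 = (d₂ * (d₂ + 1)) *
      ((Nat.card G : ℂ) * (Nat.card G : ℂ) + (Nat.card G : ℂ) ^ 2 * χ₂ u ^ 2 / d₂ -
        (Nat.card G : ℂ) ^ 2 * (χ₂ u + 1) ^ 2 / (d₂ + 1)) := by
    field_simp
    ring
  rw [hsum, mul_zero] at key
  have h2 : ((d₂ : ℂ) - χ₂ u) ^ 2 = 0 := by
    rcases mul_eq_zero.mp key with h | h
    · exact h
    · exact absurd (pow_eq_zero_iff two_ne_zero |>.mp h) hN
  have h3 : (d₂ : ℂ) - χ₂ u = 0 := pow_eq_zero_iff two_ne_zero |>.mp h2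
  have h4 : χ₂ u = d₂ := by linear_combination -h3
  refine ⟨?_, ?_⟩
  · rw [hu1, hdeg, hd₂, h4]
  · rw [hd₂, h4]

end count

section invol

variable {G : Type*} [Group G] [Finite G]

theorem not_four_dvd_mul_invol (S : Sylow 2 G) (n : ℕ)
    (e : (S : Subgroup G) ≃* QuaternionGroup (2 ^ (n + 2))) (x y : G) (hx : orderOf x = 2)
    (hy : orderOf y = 2) : ¬ 4 ∣ orderOf (x * y) := by
  classical
  haveI : Fact (Nat.Prime 2) := ⟨Nat.prime_two⟩
  intro h4
  have hinv := fun K hK => unique_inv_of_isPGroup S (unique_inv_sylow S n e) K hK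
  have hx2 : x * x = 1 := by
    have := pow_orderOf_eq_one x
    rwa [hx, pow_two] at this
  have hy2 : y * y = 1 := by
    have := pow_orderOf_eq_one y
    rwa [hy, pow_two] at this
  have hxi : x⁻¹ = x := inv_eq_of_mul_eq_one_left hx2
  have hyi : y⁻¹ = y := inv_eq_of_mul_eq_one_left hy2
  obtain ⟨g, hg⟩ : ∃ g : G, g = x * y := ⟨_, rfl⟩
  rw [← hg] at h4
  have hm0 : orderOf g ≠ 0 := (orderOf_pos g).ne'
  have h2m : 2 ∣ orderOf g := dvd_trans (by norm_num) h4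
  obtain ⟨w, hw⟩ : ∃ w : G, w = g ^ (orderOf g / 2) := ⟨_, rfl⟩
  have how : orderOf w = 2 := by rw [hw]; exact orderOf_pow_orderOf_div hm0 h2m
  have hw2 : w * w = 1 := by
    have := pow_orderOf_eq_one w
    rwa [how, pow_two] at this
  have hwi : w⁻¹ = w := inv_eq_of_mul_eq_one_left hw2
  have hconj : x * g * x⁻¹ = g⁻¹ := by
    rw [hg, mul_inv_rev, hxi, hyi, ← mul_assoc, hx2, one_mul]
  have hxw : x * w * x⁻¹ = w := by
    rw [hw, ← conj_pow, hconj, inv_pow, ← hw, hwi]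
  have hcomm : w * x = x * w := by
    have : x * w * x⁻¹ * x = w * x := by rw [hxw]
    rw [← this]; group
  -- the 2-group generated by x and w
  have hpx : IsPGroup 2 (Subgroup.zpowers x) := by
    apply IsPGroup.of_card (n := 1)
    rw [Nat.card_zpowers, hx, pow_one]
  have hpw : IsPGroup 2 (Subgroup.zpowers w) := by
    apply IsPGroup.of_card (n := 1)
    rw [Nat.card_zpowers, how, pow_one]
  have hxN : Subgroup.zpowers x ≤ Subgroup.normalizer (Subgroup.zpowers w : Set G) := by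
    rw [Subgroup.zpowers_le]
    apply Subgroup.centralizer_le_normalizer
    rw [Subgroup.mem_centralizer_iff]
    intro h hh
    obtain ⟨i, rfl⟩ := Subgroup.mem_zpowers_iff.mp hh
    exact ((Commute.zpow_left (show Commute w x from hcomm) i)).eq
  have hK : IsPGroup 2 (Subgroup.zpowers x ⊔ Subgroup.zpowers w : Subgroup G) :=
    IsPGroup.to_sup_of_normal_right' hpx hpw hxN
  have hxw' : x = w := hinv _ hK x w
    (Subgroup.mem_sup_left (Subgroup.mem_zpowers x)) (Subgroup.mem_sup_right (Subgroup.mem_zpowers w))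
    hx how
  -- so x commutes with g
  have hxg : x * g * x⁻¹ = g := by
    rw [hxw', hw]
    have : Commute (g ^ (orderOf g / 2)) g := (Commute.refl g).pow_left _
    rw [this.eq]; group
  have hgi : g = g⁻¹ := by rw [← hconj, hxg]
  have hg2 : g ^ 2 = 1 := by
    rw [pow_two]
    nth_rewrite 1 [hgi]
    exact inv_mul_cancel g
  have := Nat.le_of_dvd (by norm_num) (h4.trans (orderOf_dvd_of_pow_eq_one hg2))
  omega

end invol

section ker

variable {G : Type*} [Group G] [Fintype G]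

/-- the kernel statement: there are two irreducible characters whose kernels contain all
involutions, but not the square of a fixed element `t₀` of `S` of maximal order. -/
theorem bs_kernel (S : Sylow 2 G) (n : ℕ)
    (e : (S : Subgroup G) ≃* QuaternionGroup (2 ^ (n + 2))) :
    ∃ (χ₁ χ₂ : IrrCharacter G) (C : Subgroup G) (t₀ : G),
      (χ₁ : G → ℂ) 1 = (χ₂ : G → ℂ) 1 + 1 ∧
      (∀ u : G, orderOf u = 2 → u ∈ Cfsg.Agent.Lib.Helper4.charKer χ₁ ⊓
        Cfsg.Agent.Lib.Helper4.charKer χ₂) ∧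
      t₀ ∈ (S : Subgroup G) ∧
      t₀ ^ 2 ∉ Cfsg.Agent.Lib.Helper4.charKer χ₁ ⊓ Cfsg.Agent.Lib.Helper4.charKer χ₂ ∧
      (∀ s ∈ (S : Subgroup G), s ∉ C → t₀ * s * t₀⁻¹ * s⁻¹ = t₀ ^ 2) ∧
      (∀ u ∈ (S : Subgroup G) ⊓ C, ∀ v ∈ (S : Subgroup G) ⊓ C, u * v = v * u) := by
  obtain ⟨χ₁, χ₂, C, t₀, hI1, hI2, hne1, hne2, hdeg, hval, ht₀S, ht₀, hcommt, hab⟩ := bs_main S n e
  refine ⟨⟨χ₁, hI1⟩, ⟨χ₂, hI2⟩, C, t₀, hdeg, ?_, ht₀S, ?_, hcommt, hab⟩
  · intro u hu
    have hu4 : ¬ 4 ∣ orderOf u := by rw [hu]; norm_num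
    have hprod : ∀ h k : G, ¬ 4 ∣ orderOf ((h * u * h⁻¹) * (k * u * k⁻¹)) := by
      intro h k
      apply not_four_dvd_mul_invol S n e
      · have := (MulAut.conj h).orderOf_eq u
        rw [MulAut.conj_apply] at this
        rw [this, hu]
      · have := (MulAut.conj k).orderOf_eq u
        rw [MulAut.conj_apply] at this
        rw [this, hu]
    obtain ⟨h1, h2⟩ := inv_in_kernels χ₁ χ₂ hI1 hI2 hdeg hval u hu4 hprod
    exact ⟨h1, h2⟩
  · intro hmem
    apply ht₀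
    have h1 : χ₁ (t₀ ^ 2) = χ₁ 1 := hmem.1
    have h2 : χ₂ (t₀ ^ 2) = χ₂ 1 := hmem.2
    rw [h1, h2, hdeg]; ring

end ker

end Cfsg.Agent.Lib.Helper7.BS
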