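import Mathlib
import Cfsg.Prelude
import Cfsg.Agent.Lib.Helper7.BSE

set_option autoImplicit false
open Cfsg

/-! Brauer–Suzuki for quaternion Sylow 2-subgroups of order at least 16: the normal subgroup
containing all involutions whose 2-subgroups are abelian. -/

namespace Cfsg.Agent.Lib.Helper7.BS

open Cfsg.Agent.Lib.Helper26 Cfsg.Agent.Lib.Helper3

theorem bs_normal {G : Type*} [Group G] [Finite G] (S : Sylow 2 G) (n : ℕ)
    (e : (S : Subgroup G) ≃* QuaternionGroup (2 ^ (n + 2))) :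
    ∃ M : Subgroup G, M.Normal ∧ (∀ u : G, orderOf u = 2 → u ∈ M) ∧
      (∀ R : Subgroup G, R ≤ M → IsPGroup 2 R → ∀ u ∈ R, ∀ v ∈ R, u * v = v * u) := by
  classical
  haveI : Fintype G := Fintype.ofFinite G
  haveI : Fact (Nat.Prime 2) := ⟨Nat.prime_two⟩
  obtain ⟨χ₁, χ₂, C, t₀, hdeg, hinvol, ht₀S, ht₀M, hcommt, hab⟩ := bs_kernel S n e
  obtain ⟨M, hM⟩ : ∃ M : Subgroup G, M = Cfsg.Agent.Lib.Helper4.charKer χ₁ ⊓
      Cfsg.Agent.Lib.Helper4.charKer χ₂ := ⟨_, rfl⟩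
  have hMn : M.Normal := by rw [hM]; infer_instance
  rw [← hM] at hinvol ht₀M
  refine ⟨M, hMn, hinvol, ?_⟩
  intro R hRM hR u hu v hv
  obtain ⟨P, hRP⟩ := hR.exists_le_sylow
  obtain ⟨g, hg⟩ := MulAction.exists_smul_eq G S P
  -- conjugating into `S ⊓ C`
  have key : ∀ w ∈ R, g⁻¹ * w * g ∈ (S : Subgroup G) ⊓ C := by
    intro w hw
    have hw' : w ∈ ((g • S : Sylow 2 G) : Subgroup G) := by rw [hg]; exact hRP hw
    rw [Sylow.coe_subgroup_smul, Subgroup.mem_pointwise_smul_iff_inv_smul_mem] at hw'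
    have hwS : g⁻¹ * w * g ∈ (S : Subgroup G) := by
      have h1 : (MulAut.conj g)⁻¹ • w = g⁻¹ * w * g := by
        rw [MulAut.smul_def, ← map_inv, MulAut.conj_apply, inv_inv]
      rw [h1] at hw'
      exact hw'
    have hwM : g⁻¹ * w * g ∈ M := by
      have := hMn.conj_mem w (hRM hw) g⁻¹
      rwa [inv_inv] at this
    refine ⟨hwS, ?_⟩
    by_contra hC
    apply ht₀M
    rw [← hcommt _ hwS hC]
    exact M.mul_mem (hMn.conj_mem _ hwM t₀) (M.inv_mem hwM)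
  have h1 := hab _ (key u hu) _ (key v hv)
  have h2 : g⁻¹ * (u * v) * g = g⁻¹ * (v * u) * g := by
    have e1 : g⁻¹ * (u * v) * g = (g⁻¹ * u * g) * (g⁻¹ * v * g) := by group
    have e2 : g⁻¹ * (v * u) * g = (g⁻¹ * v * g) * (g⁻¹ * u * g) := by group
    rw [e1, e2, h1]
  exact mul_left_cancel (mul_right_cancel h2)

end Cfsg.Agent.Lib.Helper7.BS
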