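import Mathlib
import Cfsg.Prelude
import Cfsg.Agent.Lib.Helper4.Deflate
import Cfsg.Agent.Lib.Helper2.CharConj
import Cfsg.Agent.Lib.Helper26.CharBasic

/-!
# Transfer of characters along surjective homomorphisms (helper7)
-/

set_option autoImplicit false

namespace Cfsg.Agent.Lib.Helper7.InvAbove

open Cfsg Cfsg.Agent.Lib.Helper26 Cfsg.Agent.Lib.Helper7
open scoped ComplexConjugate

/-- an irreducible character trivial on the kernel of a surjective homomorphism factors through
it -/
theorem exists_deflate_of_surjective {H K : Type*} [Group H] [Group K] [Fintype H] (f : H →* K)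
    (hf : Function.Surjective f) (χ : IrrCharacter H)
    (hker : ∀ h ∈ f.ker, (χ : H → ℂ) h = (χ : H → ℂ) 1) :
    ∃ ψ : IrrCharacter K, ∀ h : H, (ψ : K → ℂ) (f h) = (χ : H → ℂ) h := by
  obtain ⟨ψ₀, hψ₀⟩ := Cfsg.Agent.Lib.Helper4.exists_deflate_irr f.ker χ hker
  let e : H ⧸ f.ker ≃* K := QuotientGroup.quotientKerEquivOfSurjective f hf
  refine ⟨⟨(ψ₀ : H ⧸ f.ker → ℂ) ∘ e.symm,
    Cfsg.Agent.Lib.Helper2.isIrrCharacter_comp_mulEquiv ψ₀.2 e.symm⟩, ?_⟩
  intro h
  show (ψ₀ : H ⧸ f.ker → ℂ) (e.symm (f h)) = _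
  have h1 : e.symm (f h) = (QuotientGroup.mk h : H ⧸ f.ker) := by
    rw [MulEquiv.symm_apply_eq]
    rfl
  rw [h1]
  exact hψ₀ h

theorem sum_comp_surjective {H K : Type*} [Group H] [Group K] [Fintype H] [Fintype K]
    (f : H →* K) (hf : Function.Surjective f) (F : K → ℂ) :
    ∑ h : H, F (f h) = (Nat.card f.ker : ℂ) * ∑ k : K, F k := by
  classical
  rw [← Finset.sum_fiberwise (s := Finset.univ) (g := fun h => f h) (f := fun h => F (f h)),
    Finset.mul_sum]
  refine Finset.sum_congr rfl fun k _ => ?_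
  have h0 : ∀ h ∈ Finset.univ.filter (fun h : H => f h = k), F (f h) = F k := by
    intro h hh
    rw [(Finset.mem_filter.mp hh).2]
  rw [Finset.sum_congr rfl h0, Finset.sum_const, nsmul_eq_mul]
  congr 2
  have h1 := MonoidHom.card_fiber_eq_of_mem_range f (hf k) (hf 1)
  rw [h1, Nat.card_eq_fintype_card]
  symm
  apply Fintype.card_of_subtype
  intro x
  simp [MonoidHom.mem_ker]

theorem classInner_comp_surjective {H K : Type*} [Group H] [Group K] [Fintype H] [Fintype K]
    (f : H →* K) (hf : Function.Surjective f) (X Y : K → ℂ) :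
    classInner (X ∘ f) (Y ∘ f) = classInner X Y := by
  unfold classInner
  have h1 := sum_comp_surjective f hf (fun k => X k * conj (Y k))
  simp only [Function.comp_apply]
  rw [h1]
  have h2 : Nat.card H = Nat.card f.ker * Nat.card K := by
    rw [← Subgroup.card_mul_index f.ker, Subgroup.index_ker,
      MonoidHom.range_eq_top.mpr hf]
    congr 1
    exact (Nat.card_congr Subgroup.topEquiv.toEquiv)
  rw [h2]
  have hk0 : (Nat.card f.ker : ℂ) ≠ 0 := Nat.cast_ne_zero.mpr Nat.card_pos.ne'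
  have hK0 : (Nat.card K : ℂ) ≠ 0 := Nat.cast_ne_zero.mpr Nat.card_pos.ne'
  push_cast
  field_simp

end Cfsg.Agent.Lib.Helper7.InvAbove
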