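import Mathlib
import Cfsg.Prelude.Def_Characters
import Cfsg.Agent.Lib.Helper7.GlaubCount
import Cfsg.Agent.S0887

/-!
# Invariant characters above invariant characters under coprime solvable actions (helper7)
-/

set_option autoImplicit false
set_option linter.style.haveILetI false

namespace Cfsg.Agent.Lib.Helper7.GlaubAbove

open Cfsg Cfsg.Agent.Lib.Helper26 Cfsg.Agent.Lib.Helper2 Cfsg.Agent.Lib.Helper7
open Cfsg.Agent.Lib.Helper7.GlaubP Cfsg.Agent.Lib.Helper7.GlaubCount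
open scoped ComplexConjugate

section Ram

/-- the ramification index divides the group order -/
theorem ram_dvd_card {G : Type*} [Group G] [Fintype G] (N : Subgroup G) [hN : N.Normal] [Fintype N]
    (χ : G → ℂ) (hχ : IsIrrCharacter G χ) (ϑ : N → ℂ) (hϑ : IsIrrCharacter N ϑ) (e : ℕ)
    (he : classInner (fun n : N => χ n) ϑ = e) (he0 : e ≠ 0) : e ∣ Nat.card G := by
  classical
  have hcon : classInner (fun n : N => χ n) ϑ ≠ 0 := by
    rw [he]; exact Nat.cast_ne_zero.mpr he0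
  have hϑcf : IsClassFunction N ϑ := isClassFunction_of_isIrrCharacter hϑ
  set T := Cfsg.Agent.S0169.inertia N ϑ with hTdef
  have : Fintype T := Fintype.ofFinite T
  have hNT : N ≤ T := Cfsg.Agent.S0169.le_inertia N ϑ hϑcf
  obtain ⟨ψ, hψ, -, he'⟩ := Cfsg.Agent.S0854.result N ϑ hϑ T (Cfsg.Agent.S0169.mem_inertia N ϑ)
    hNT χ hχ hcon
  have hinvT : ∀ t ∈ T, ∀ n : N, ϑ ⟨t * n * t⁻¹, hN.conj_mem (n : G) n.2 t⟩ = ϑ n :=
    fun t ht => (Cfsg.Agent.S0169.mem_inertia N ϑ t).mp ht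
  obtain ⟨f, hf0, hf⟩ := restrict_inertia N T hNT ϑ hϑ hinvT ψ hψ (by rw [he']; exact hcon)
  have hfn : ∀ n : N, ψ ⟨(n : G), hNT n.2⟩ = (f : ℂ) * ϑ n := by
    intro n
    have := congrFun hf n
    simpa using this
  have hdvd : f ∣ N.relIndex T :=
    Cfsg.Agent.S0887.ram_dvd_relIndex N T hNT ϑ hϑ hinvT ψ hψ f hf0 hfn
  have hfe : f = e := by
    have h1 : classInner (fun n : N => ψ ⟨(n : G), hNT n.2⟩) ϑ = f := by
      rw [hf, classInner_smul_left, classInner_irr hϑ hϑ, if_pos rfl, mul_one]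
    rw [he', he] at h1
    exact_mod_cast h1.symm
  rw [← hfe]
  have h2 : N.relIndex T ∣ Nat.card T := Subgroup.index_dvd_card _
  exact hdvd.trans (h2.trans (Subgroup.card_subgroup_dvd_card T))

variable {Γ : Type*} [Group Γ]

theorem classInner_subgroupOf' (H T : Subgroup Γ) [Fintype H] [Fintype (H.subgroupOf T)]
    (hHT : H ≤ T) (ϑ : H → ℂ) (ψ : T → ℂ) :
    classInner (fun x : H.subgroupOf T => ϑ ⟨((x : T) : Γ), Subgroup.mem_subgroupOf.mp x.2⟩)
      (fun x : H.subgroupOf T => ψ x) =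
    classInner ϑ (fun n : H => ψ ⟨(n : Γ), hHT n.2⟩) := by
  let e : H.subgroupOf T ≃* H := Subgroup.subgroupOfEquivOfLe hHT
  unfold classInner
  rw [Nat.card_congr e.toEquiv]
  congr 1
  refine Fintype.sum_equiv e.toEquiv _ _ (fun x => ?_)
  show ϑ ⟨((x : T) : Γ), _⟩ * conj (ψ (x : T)) = ϑ (e x) * conj (ψ ⟨((e x : H) : Γ), hHT (e x).2⟩)
  congr 2

/-- internal version of `ram_dvd_card` -/
theorem ram_dvd_card_int [Finite Γ] (D M : Subgroup Γ) [Fintype D] [Fintype M] (hMD : M ≤ D)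
    (hMn : ∀ d ∈ D, ∀ m ∈ M, d * m * d⁻¹ ∈ M)
    (β : IrrCharacter D) (φ : IrrCharacter M) (e : ℕ)
    (he : classInner (fun m : M => (β : D → ℂ) ⟨m, hMD m.2⟩) (φ : M → ℂ) = e) (he0 : e ≠ 0) :
    e ∣ Nat.card D := by
  classical
  set M' : Subgroup D := M.subgroupOf D with hM'
  haveI : M'.Normal := by
    constructor
    intro m hm d
    rw [hM', Subgroup.mem_subgroupOf] at hm ⊢
    exact hMn d d.2 m hm
  haveI : Fintype M' := Fintype.ofFinite M'
  let ε : M' ≃* M := Subgroup.subgroupOfEquivOfLe hMD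
  have hφ' : IsIrrCharacter M' (fun x : M' => (φ : M → ℂ) ⟨((x : D) : Γ),
      Subgroup.mem_subgroupOf.mp x.2⟩) := isIrrCharacter_comp_mulEquiv φ.2 ε
  have h1 := classInner_subgroupOf' M D hMD (φ : M → ℂ) (β : D → ℂ)
  have h2 : classInner (φ : M → ℂ) (fun m : M => (β : D → ℂ) ⟨m, hMD m.2⟩) = e := by
    rw [← classInner_conj_symm, he, Complex.conj_natCast]
  rw [h2] at h1
  have h3 : classInner (fun x : M' => (β : D → ℂ) x)
      (fun x : M' => (φ : M → ℂ) ⟨((x : D) : Γ), Subgroup.mem_subgroupOf.mp x.2⟩) = e := by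
    rw [← classInner_conj_symm, h1, Complex.conj_natCast]
  exact ram_dvd_card M' (β : D → ℂ) β.2 _ hφ' e h3 he0

end Ram

section Over

variable {H : Type*} [Group H] [Fintype H] {D : Type*} [Group D] [Fintype D]

/-- every irreducible character of a subgroup lies under some irreducible character -/
theorem exists_over_hom (j : D →* H) (hj : Function.Injective j) (β : IrrCharacter D) :
    ∃ χ : IrrCharacter H, classInner (fun d : D => (χ : H → ℂ) (j d)) (β : D → ℂ) ≠ 0 := by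
  classical
  haveI : Fintype (IrrCharacter H) := Fintype.ofFinite _
  by_contra hcon
  push Not at hcon
  obtain ⟨dβ, hdβ0, hdβ⟩ := irr_degree β.2
  have hH0 : (Nat.card H : ℂ) ≠ 0 := Nat.cast_ne_zero.mpr Nat.card_pos.ne'
  have hD0 : (Nat.card D : ℂ) ≠ 0 := Nat.cast_ne_zero.mpr Nat.card_pos.ne'
  have h1 : ∀ d : D, ∑ χ : IrrCharacter H, (χ : H → ℂ) (j d) * conj ((χ : H → ℂ) 1) =
      if d = 1 then (Nat.card H : ℂ) else 0 := by
    intro d
    rw [Cfsg.Agent.Lib.Helper4.column_orthogonality (j d) (1 : H)]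
    by_cases hd : d = 1
    · rw [if_pos hd, if_pos (by rw [hd, map_one]), hd, map_one,
        Cfsg.Agent.Lib.Helper4.card_centralizer_one]
    · rw [if_neg hd, if_neg]
      intro hc
      apply hd
      have : j d = 1 := isConj_one_left.mp hc
      exact hj (this.trans (map_one j).symm)
  have h2 : ∑ χ : IrrCharacter H, conj ((χ : H → ℂ) 1) *
      classInner (fun d : D => (χ : H → ℂ) (j d)) (β : D → ℂ) =
      (Nat.card D : ℂ)⁻¹ * ((Nat.card H : ℂ) * dβ) := by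
    unfold classInner
    simp only [Finset.mul_sum]
    rw [Finset.sum_comm]
    have h3 : ∀ d : D, ∑ χ : IrrCharacter H, conj ((χ : H → ℂ) 1) * ((Nat.card D : ℂ)⁻¹ *
        ((χ : H → ℂ) (j d) * conj ((β : D → ℂ) d))) =
        (Nat.card D : ℂ)⁻¹ * ((if d = 1 then (Nat.card H : ℂ) else 0) * conj ((β : D → ℂ) d)) := by
      intro d
      rw [← h1 d, Finset.sum_mul, Finset.mul_sum]
      refine Finset.sum_congr rfl fun χ _ => ?_
      ring
    rw [Finset.sum_congr rfl fun d _ => h3 d, Finset.sum_eq_single (1 : D)]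
    · rw [if_pos rfl, hdβ, Complex.conj_natCast]
    · intro d _ hd
      rw [if_neg hd, zero_mul, mul_zero]
    · intro h; exact absurd (Finset.mem_univ _) h
  simp only [hcon, mul_zero, Finset.sum_const_zero] at h2
  have h4 : (Nat.card D : ℂ)⁻¹ * ((Nat.card H : ℂ) * dβ) ≠ 0 :=
    mul_ne_zero (inv_ne_zero hD0) (mul_ne_zero hH0 (Nat.cast_ne_zero.mpr hdβ0.ne'))
  exact h4 h2.symm

end Over

section Cong

variable {Γ : Type*} [Group Γ]

/-- the conjugation action of a normalising subgroup on the irreducible characters -/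
def irrActSub (N A : Subgroup Γ) (hn : ∀ a ∈ A, ∀ n, n ∈ N ↔ a * n * a⁻¹ ∈ N) :
    MulAction A (IrrCharacter N) where
  smul a η := ⟨fun n => (η : N → ℂ) (cj N (a⁻¹ : A) (hn _ (a⁻¹ : A).2) n),
    isIrrCharacter_comp_mulEquiv η.2 (cj N (a⁻¹ : A) (hn _ (a⁻¹ : A).2))⟩
  one_smul η := by
    apply Subtype.ext
    funext n
    show (η : N → ℂ) (cj N ((1 : A)⁻¹ : A) _ n) = (η : N → ℂ) n
    refine congrArg (η : N → ℂ) (Subtype.ext ?_)
    show (((1 : A)⁻¹ : A) : Γ) * n * (((1 : A)⁻¹ : A) : Γ)⁻¹ = n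
    simp
  mul_smul a b η := by
    apply Subtype.ext
    funext n
    show (η : N → ℂ) (cj N ((a * b)⁻¹ : A) _ n) =
      (η : N → ℂ) (cj N (b⁻¹ : A) _ (cj N (a⁻¹ : A) _ n))
    refine congrArg (η : N → ℂ) (Subtype.ext ?_)
    show (((a * b)⁻¹ : A) : Γ) * n * (((a * b)⁻¹ : A) : Γ)⁻¹ =
      ((b⁻¹ : A) : Γ) * (((a⁻¹ : A) : Γ) * n * ((a⁻¹ : A) : Γ)⁻¹) * ((b⁻¹ : A) : Γ)⁻¹
    simp only [Subgroup.coe_inv, Subgroup.coe_mul]
    group

theorem dvd_iff_of_modEq {p : ℕ} (hp : p.Prime) (X a m : ℕ) (hm : ¬ p ∣ m)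
    (h : (X : ℤ) ≡ (m : ℤ) * (a : ℤ) [ZMOD p]) : p ∣ X ↔ p ∣ a := by
  have h1 : (p : ℤ) ∣ (X : ℤ) ↔ (p : ℤ) ∣ (m : ℤ) * (a : ℤ) := by
    rw [← Int.modEq_zero_iff_dvd, ← Int.modEq_zero_iff_dvd]
    exact ⟨fun h2 => h.symm.trans h2, fun h2 => h.trans h2⟩
  constructor
  · intro hX
    have h2 : (p : ℤ) ∣ (m : ℤ) * (a : ℤ) := h1.mp (Int.natCast_dvd_natCast.mpr hX)
    have h3 : p ∣ m * a := by exact_mod_cast h2
    rcases hp.dvd_mul.mp h3 with h4 | h4
    · exact absurd h4 hm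
    · exact h4
  · intro ha
    have h2 : (p : ℤ) ∣ (m : ℤ) * (a : ℤ) :=
      dvd_mul_of_dvd_right (Int.natCast_dvd_natCast.mpr ha) _
    exact Int.natCast_dvd_natCast.mp (h1.mpr h2)

/-- Isaacs 13.29 modulo `p`: a character lies over `ϑ` with multiplicity prime to `p` iff its
correspondent lies over the correspondent of `ϑ` with multiplicity prime to `p` -/
theorem cong_above [Finite Γ] {p : ℕ} (hp : p.Prime) (G N T D M : Subgroup Γ)
    [Fintype G] [Fintype N] [Fintype D] [Fintype M]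
    (hNG : N ≤ G) (hDG : D ≤ G) (hMN : M ≤ N) (hMD : M ≤ D)
    (hnT : ∀ t ∈ T, ∀ n, n ∈ N ↔ t * n * t⁻¹ ∈ N)
    (hMT : ∀ t ∈ T, ∀ m ∈ M, t * m * t⁻¹ = m)
    (hpk : ∀ t ∈ T, ∃ k : ℕ, ∀ n ∈ N, t ^ p ^ k * n * (t ^ p ^ k)⁻¹ = n)
    (hgcG : GCProp p G T D hDG) (hgcN : GCProp p N T M hMN)
    (χ : IrrCharacter G) (hχT : SInv G T (χ : G → ℂ)) (β : IrrCharacter D) (m₁ : ℕ)
    (hm₁ : classInner (fun d : D => (χ : G → ℂ) ⟨d, hDG d.2⟩) (β : D → ℂ) = m₁) (hpm₁ : ¬ p ∣ m₁)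
    (ϑ : IrrCharacter N) (hϑT : SInv N T (ϑ : N → ℂ)) (φ : IrrCharacter M) (m₂ : ℕ)
    (hm₂ : classInner (fun m : M => (ϑ : N → ℂ) ⟨m, hMN m.2⟩) (φ : M → ℂ) = m₂)
    (hpm₂ : ¬ p ∣ m₂) :
    ∃ a b : ℕ, classInner (fun n : N => (χ : G → ℂ) ⟨n, hNG n.2⟩) (ϑ : N → ℂ) = a ∧
      classInner (fun m : M => (β : D → ℂ) ⟨m, hMD m.2⟩) (φ : M → ℂ) = b ∧ (p ∣ a ↔ p ∣ b) := by
  classical
  haveI : Fact p.Prime := ⟨hp⟩
  haveI : Fintype (IrrCharacter N) := Fintype.ofFinite _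
  have hχc := isCharacter_of_isIrrCharacter χ.2
  obtain ⟨b, hb⟩ := classInner_isCharacter_nat
    (isCharacter_comp_hom (isCharacter_of_isIrrCharacter β.2) (Subgroup.inclusion hMD))
    (isCharacter_of_isIrrCharacter φ.2)
  have hb' : classInner (fun m : M => (β : D → ℂ) ⟨m, hMD m.2⟩) (φ : M → ℂ) = b := hb
  -- the path through `D`
  obtain ⟨β₀, -, hothG⟩ := hgcG.1 χ hχT
  have hββ₀ : β = β₀ := by
    by_contra hne
    obtain ⟨m, hm, hpm⟩ := hothG β hne
    rw [hm₁] at hm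
    have : m₁ = m := by exact_mod_cast hm
    exact hpm₁ (this ▸ hpm)
  rw [← hββ₀] at hothG
  obtain ⟨X, hX, hXD⟩ := mult_comp (Subgroup.inclusion hDG) (Subgroup.inclusion hMD) (χ : G → ℂ)
    hχc β m₁ hm₁ hothG φ b hb'
  have hX' : classInner (fun m : M => (χ : G → ℂ) ⟨m, hMN.trans hNG m.2⟩) (φ : M → ℂ) = X := hX
  -- the path through `N`
  have hn : ∀ η : IrrCharacter N, ∃ n : ℕ,
      classInner (fun n : N => (χ : G → ℂ) ⟨n, hNG n.2⟩) (η : N → ℂ) = n := fun η =>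
    classInner_isCharacter_nat (isCharacter_comp_hom hχc (Subgroup.inclusion hNG))
      (isCharacter_of_isIrrCharacter η.2)
  have hk : ∀ η : IrrCharacter N, ∃ k : ℕ,
      classInner (fun m : M => (η : N → ℂ) ⟨m, hMN m.2⟩) (φ : M → ℂ) = k := fun η =>
    classInner_isCharacter_nat
      (isCharacter_comp_hom (isCharacter_of_isIrrCharacter η.2) (Subgroup.inclusion hMN))
      (isCharacter_of_isIrrCharacter φ.2)
  choose nn hnn using hn
  choose kk hkk using hk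
  have hXN : X = ∑ η : IrrCharacter N, nn η * kk η := by
    have h1 := classInner_comp_trans (Subgroup.inclusion hNG) (Subgroup.inclusion hMN)
      (χ : G → ℂ) hχc (φ : M → ℂ)
    have h2 : ((X : ℕ) : ℂ) = ((∑ η : IrrCharacter N, nn η * kk η : ℕ) : ℂ) := by
      push_cast
      refine hX'.symm.trans (h1.trans (Finset.sum_congr rfl fun η _ => ?_))
      rw [← hnn η, ← hkk η]
      rfl
    exact_mod_cast h2
  -- the orbit sum
  letI := irrActSub N T hnT
  have hsmul : ∀ (t : T) (η : IrrCharacter N) (n : N),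
      ((t • η : IrrCharacter N) : N → ℂ) n = (η : N → ℂ) (cj N (t⁻¹ : T) (hnT _ (t⁻¹ : T).2) n) :=
    fun t η n => rfl
  have hfix_iff : ∀ η : IrrCharacter N, (∀ t : T, t • η = η) ↔ SInv N T (η : N → ℂ) := by
    intro η
    constructor
    · intro h t ht n n' hnn'
      have h1 := congrFun (congrArg Subtype.val (h ⟨t, ht⟩⁻¹)) n
      rw [hsmul] at h1
      have h2 : cj N ((⟨t, ht⟩⁻¹ : T)⁻¹ : T) (hnT _ ((⟨t, ht⟩⁻¹ : T)⁻¹ : T).2) n = n' := by
        apply Subtype.ext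
        rw [hnn']
        show (((⟨t, ht⟩⁻¹ : T)⁻¹ : T) : Γ) * n * (((⟨t, ht⟩⁻¹ : T)⁻¹ : T) : Γ)⁻¹ = t * n * t⁻¹
        simp
      rw [h2] at h1
      exact h1
    · intro h t
      apply Subtype.ext
      funext n
      rw [hsmul]
      exact h _ (t⁻¹ : T).2 n _ rfl
  have hPk : ∀ t : T, ∃ k : ℕ, ∀ η : IrrCharacter N, (t ^ p ^ k) • η = η := by
    intro t
    obtain ⟨k, hk⟩ := hpk t t.2
    refine ⟨k, fun η => ?_⟩
    apply Subtype.ext
    funext n
    rw [hsmul]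
    refine congrArg (η : N → ℂ) (Subtype.ext ?_)
    show ((((t ^ p ^ k)⁻¹ : T)) : Γ) * n * ((((t ^ p ^ k)⁻¹ : T)) : Γ)⁻¹ = n
    have h1 := hk n n.2
    simp only [Subgroup.coe_inv, Subgroup.coe_pow, inv_inv]
    calc ((t : Γ) ^ p ^ k)⁻¹ * n * (t : Γ) ^ p ^ k
        = ((t : Γ) ^ p ^ k)⁻¹ * ((t : Γ) ^ p ^ k * n * ((t : Γ) ^ p ^ k)⁻¹) * (t : Γ) ^ p ^ k := by
          rw [h1]
      _ = n := by group
  have hfinv : ∀ (t : T) (η : IrrCharacter N), nn (t • η) * kk (t • η) = nn η * kk η := by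
    intro t η
    have hs := hnT _ (t⁻¹ : T).2
    have h1 : nn (t • η) = nn η := by
      have : ((nn (t • η) : ℕ) : ℂ) = (nn η : ℂ) := by
        rw [← hnn, ← hnn]
        rw [← classInner_equiv (cj N (t⁻¹ : T) hs).toEquiv
          (fun n : N => (χ : G → ℂ) ⟨n, hNG n.2⟩) (η : N → ℂ)]
        congr 1
        funext n
        exact (hχT _ (t⁻¹ : T).2 ⟨n, hNG n.2⟩ ⟨(cj N (t⁻¹ : T) hs n : N), hNG (cj N (t⁻¹ : T) hs n).2⟩
          rfl).symm
      exact_mod_cast this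
    have h2 : kk (t • η) = kk η := by
      have : ((kk (t • η) : ℕ) : ℂ) = (kk η : ℂ) := by
        rw [← hkk, ← hkk]
        congr 1
        funext m
        rw [hsmul]
        refine congrArg (η : N → ℂ) (Subtype.ext ?_)
        exact hMT _ (t⁻¹ : T).2 m m.2
      exact_mod_cast this
    rw [h1, h2]
  have horb := Cfsg.Agent.Lib.Helper7.GlaubArith.sum_modEq_sum_fixed' (p := p) hPk
    (fun η : IrrCharacter N => nn η * kk η) hfinv
    (Finset.univ.filter fun η : IrrCharacter N => ∀ t : T, t • η = η) (fun η => by simp)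
  -- the fixed part
  have hϑfix : ϑ ∈ Finset.univ.filter fun η : IrrCharacter N => ∀ t : T, t • η = η :=
    Finset.mem_filter.mpr ⟨Finset.mem_univ _, (hfix_iff ϑ).mpr hϑT⟩
  have hrest : ∀ η ∈ (Finset.univ.filter fun η : IrrCharacter N => ∀ t : T, t • η = η).erase ϑ,
      p ∣ nn η * kk η := by
    intro η hη
    have hηne : η ≠ ϑ := Finset.ne_of_mem_erase hη
    have hηT : SInv N T (η : N → ℂ) :=
      (hfix_iff η).mp (Finset.mem_filter.mp (Finset.mem_of_mem_erase hη)).2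
    obtain ⟨η₀, ⟨m, hm, hm1⟩, hoth⟩ := hgcN.1 η hηT
    have hφ : φ ≠ η₀ := by
      intro h
      rw [← h] at hm
      exact hηne (hgcN.2.1 η ϑ hηT hϑT φ m m₂ hm (not_dvd_of_pm_one hp m hm1) hm₂ hpm₂)
    obtain ⟨m', hm', hpm'⟩ := hoth φ hφ
    have : kk η = m' := by
      have h1 := hkk η
      rw [hm'] at h1
      exact_mod_cast h1.symm
    rw [this]
    exact dvd_mul_of_dvd_right hpm' _
  have ha : nn ϑ * kk ϑ = nn ϑ * m₂ := by
    have : kk ϑ = m₂ := by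
      have h1 := hkk ϑ
      rw [hm₂] at h1
      exact_mod_cast h1.symm
    rw [this]
  have hXa : X ≡ nn ϑ * m₂ [MOD p] := by
    rw [hXN]
    refine horb.trans ?_
    rw [← Finset.add_sum_erase _ _ hϑfix, ha]
    have h1 : p ∣ ∑ η ∈ (Finset.univ.filter fun η : IrrCharacter N => ∀ t : T, t • η = η).erase ϑ,
        nn η * kk η := Finset.dvd_sum hrest
    obtain ⟨c, hc⟩ := h1
    rw [hc]
    exact Nat.add_mul_mod_self_left _ _ _
  refine ⟨nn ϑ, b, hnn ϑ, hb', ?_⟩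
  have h1 : p ∣ X ↔ p ∣ b := dvd_iff_of_modEq hp X b m₁ hpm₁ hXD
  have h2 : p ∣ X ↔ p ∣ nn ϑ := by
    have h3 : (X : ℤ) ≡ (m₂ : ℤ) * (nn ϑ : ℤ) [ZMOD p] := by
      have := (Int.natCast_modEq_iff (a := X) (b := nn ϑ * m₂) (n := p)).mpr hXa
      push_cast at this
      rw [mul_comm] at this
      exact this
    exact dvd_iff_of_modEq hp X (nn ϑ) m₂ hpm₂ h3
  exact h2.symm.trans h1

end Cong

section Main

variable {Γ : Type*} [Group Γ]

theorem above_aux [Finite Γ] (S : Subgroup Γ) (hsolv : Group.IsSolvable S) :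
    ∀ (n : ℕ) (G N : Subgroup Γ) [Fintype N] (hNG : N ≤ G), Nat.card G ≤ n →
      (∀ s ∈ S, ∀ g ∈ G, s * g * s⁻¹ ∈ G) →
      (∀ g ∈ G, ∀ n ∈ N, g * n * g⁻¹ ∈ N) → (∀ s ∈ S, ∀ n ∈ N, s * n * s⁻¹ ∈ N) →
      (Nat.card G).Coprime (Nat.card S) →
      ∀ ϑ : IrrCharacter N, SInv N S (ϑ : N → ℂ) →
      ∃ χ : IrrCharacter G, classInner (fun n : N => (χ : G → ℂ) ⟨n, hNG n.2⟩) (ϑ : N → ℂ) ≠ 0 ∧
        SInv G S (χ : G → ℂ) := by
  intro n
  induction n with
  | zero =>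
    intro G N _ hNG hcard
    exfalso
    have : 0 < Nat.card G := Nat.card_pos
    omega
  | succ n ih =>
    intro G N _ hNG hcard hnorm hNn hNS hcop ϑ hϑS
    classical
    haveI : Fintype G := Fintype.ofFinite G
    by_cases hB : ∃ s ∈ S, ∃ g ∈ G, s * g * s⁻¹ ≠ g
    · obtain ⟨p, T, hp, hTS, hST, hpG, hpk, t₀, ht₀, g₀, hg₀, hne⟩ :=
        exists_pgroup_layer G S hnorm hcop hsolv hB
      set D : Subgroup Γ := G ⊓ Subgroup.centralizer (T : Set Γ) with hD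
      set M : Subgroup Γ := N ⊓ Subgroup.centralizer (T : Set Γ) with hM
      have hDG : D ≤ G := inf_le_left
      have hMN : M ≤ N := inf_le_left
      have hDmem := mem_fixedSub G T
      rw [← hD] at hDmem
      have hMmem := mem_fixedSub N T
      rw [← hM] at hMmem
      have hMD : M ≤ D := fun m hm => (hDmem m).mpr ⟨hNG ((hMmem m).mp hm).1, ((hMmem m).mp hm).2⟩
      have hg₀D : g₀ ∉ D := fun h => hne (((hDmem g₀).mp h).2 t₀ ht₀)
      have hDlt : Nat.card D < Nat.card G := by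
        have hle : Nat.card D ≤ Nat.card G := Subgroup.card_le_of_le hDG
        rcases lt_or_eq_of_le hle with h | h
        · exact h
        · exfalso
          have := Subgroup.eq_of_le_of_card_ge hDG (le_of_eq h.symm)
          rw [this] at hg₀D
          exact hg₀D hg₀
      -- normalisation facts
      have hfixnorm : ∀ (K : Subgroup Γ), (∀ s ∈ S, ∀ k ∈ K, s * k * s⁻¹ ∈ K) →
          ∀ s ∈ S, ∀ d ∈ K ⊓ Subgroup.centralizer (T : Set Γ),
            s * d * s⁻¹ ∈ K ⊓ Subgroup.centralizer (T : Set Γ) := by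
        intro K hK s hs d hd
        obtain ⟨hdK, hdT⟩ := (mem_fixedSub K T d).mp hd
        rw [mem_fixedSub]
        refine ⟨hK s hs d hdK, fun t ht => ?_⟩
        have h1 : s⁻¹ * t * s⁻¹⁻¹ ∈ T := hST s⁻¹ (S.inv_mem hs) t ht
        have h2 := hdT _ h1
        calc t * (s * d * s⁻¹) * t⁻¹
            = s * ((s⁻¹ * t * s⁻¹⁻¹) * d * (s⁻¹ * t * s⁻¹⁻¹)⁻¹) * s⁻¹ := by group
          _ = s * d * s⁻¹ := by rw [h2]
      have hnormD : ∀ s ∈ S, ∀ d ∈ D, s * d * s⁻¹ ∈ D := hfixnorm G hnorm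
      have hnormM : ∀ s ∈ S, ∀ m ∈ M, s * m * s⁻¹ ∈ M := hfixnorm N hNS
      have hMn : ∀ d ∈ D, ∀ m ∈ M, d * m * d⁻¹ ∈ M := by
        intro d hd m hm
        obtain ⟨hdG, hdT⟩ := (hDmem d).mp hd
        obtain ⟨hmN, hmT⟩ := (hMmem m).mp hm
        rw [hMmem]
        refine ⟨hNn d hdG m hmN, fun t ht => ?_⟩
        calc t * (d * m * d⁻¹) * t⁻¹
            = (t * d * t⁻¹) * (t * m * t⁻¹) * (t * d * t⁻¹)⁻¹ := by group
          _ = d * m * d⁻¹ := by rw [hdT t ht, hmT t ht]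
      have hcopD : (Nat.card D).Coprime (Nat.card S) :=
        Nat.Coprime.coprime_dvd_left (Subgroup.card_dvd_of_le hDG) hcop
      haveI : Fintype D := Fintype.ofFinite D
      haveI : Fintype M := Fintype.ofFinite M
      have hnormT : ∀ t ∈ T, ∀ g ∈ G, t * g * t⁻¹ ∈ G := fun t ht => hnorm t (hTS ht)
      have hnormNT : ∀ t ∈ T, ∀ n ∈ N, t * n * t⁻¹ ∈ N := fun t ht => hNS t (hTS ht)
      have hgcG : GCProp p G T D hDG :=
        gc_aux hp T (Nat.card G) G D hDG le_rfl hnormT hpG hpk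
          (fun g hg => by rw [hDmem]; exact ⟨fun h => h.2, fun h => ⟨hg, h⟩⟩)
      have hpN : ¬ p ∣ Nat.card N := fun h => hpG (h.trans (Subgroup.card_dvd_of_le hNG))
      have hpkN : ∀ t ∈ T, ∃ k : ℕ, t ^ p ^ k ∈ Subgroup.centralizer (N : Set Γ) := by
        intro t ht
        obtain ⟨k, hk⟩ := hpk t ht
        exact ⟨k, Subgroup.centralizer_le (by exact_mod_cast hNG) hk⟩
      have hgcN : GCProp p N T M hMN :=
        gc_aux hp T (Nat.card N) N M hMN le_rfl hnormNT hpN hpkN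
          (fun g hg => by rw [hMmem]; exact ⟨fun h => h.2, fun h => ⟨hg, h⟩⟩)
      have hϑT : SInv N T (ϑ : N → ℂ) := fun t ht => hϑS t (hTS ht)
      -- the correspondent of `ϑ`
      obtain ⟨φ, ⟨m₂, hm₂, hm₂'⟩, -⟩ := hgcN.1 ϑ hϑT
      have hpm₂ := not_dvd_of_pm_one hp m₂ hm₂'
      have hnN := norm_iff N S hNS
      have hnM := norm_iff M S hnormM
      have hnG := norm_iff G S hnorm
      have hnD := norm_iff D S hnormD
      have hφS : SInv M S (φ : M → ℂ) := by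
        rw [sinv_iff M S hnM]
        intro s hs
        exact (gc_equivariant N T M hMN hgcN s (hnN s hs) (hnM s hs) (hST s hs) ϑ hϑT φ m₂ hm₂
          hpm₂).mp ((sinv_iff N S hnN _).mp hϑS s hs)
      -- induction
      obtain ⟨β, hβφ, hβS⟩ := ih D M hMD (by omega) hnormD hMn hnormM hcopD φ hφS
      obtain ⟨χ, hχT, m₁, hm₁, hpm₁⟩ := hgcG.2.2 β
      have hχS : SInv G S (χ : G → ℂ) := by
        rw [sinv_iff G S hnG]
        intro s hs
        exact (gc_equivariant G T D hDG hgcG s (hnG s hs) (hnD s hs) (hST s hs) χ hχT β m₁ hm₁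
          hpm₁).mpr ((sinv_iff D S hnD _).mp hβS s hs)
      refine ⟨χ, ?_, hχS⟩
      have hpk' : ∀ t ∈ T, ∃ k : ℕ, ∀ n ∈ N, t ^ p ^ k * n * (t ^ p ^ k)⁻¹ = n := by
        intro t ht
        obtain ⟨k, hk⟩ := hpkN t ht
        refine ⟨k, fun n hn => ?_⟩
        have h1 := Subgroup.mem_centralizer_iff.mp hk n hn
        rw [← h1, mul_inv_cancel_right]
      obtain ⟨a, b, ha, hb, hab⟩ := cong_above hp G N T D M hNG hDG hMN hMD
        (norm_iff N T hnormNT) (fun t ht m hm => ((hMmem m).mp hm).2 t ht) hpk' hgcG hgcN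
        χ hχT β m₁ hm₁ hpm₁ ϑ hϑT φ m₂ hm₂ hpm₂
      have hb0 : b ≠ 0 := by
        rintro rfl
        rw [hb] at hβφ
        exact hβφ (by simp)
      have hbD : b ∣ Nat.card D := ram_dvd_card_int D M hMD hMn β φ b hb hb0
      have hpD : ¬ p ∣ Nat.card D := fun h => hpG (h.trans (Subgroup.card_dvd_of_le hDG))
      have hpb : ¬ p ∣ b := fun h => hpD (h.trans hbD)
      have hpa : ¬ p ∣ a := fun h => hpb (hab.mp h)
      rw [ha]
      intro h0
      have : a = 0 := by exact_mod_cast h0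
      exact hpa (this ▸ dvd_zero p)
    · push Not at hB
      obtain ⟨χ, hχ⟩ := exists_over_hom (Subgroup.inclusion hNG) (Subgroup.inclusion_injective hNG) ϑ
      refine ⟨χ, hχ, ?_⟩
      intro s hs g g' hgg'
      have : g' = g := Subtype.ext (by rw [hgg', hB s hs g g.2])
      rw [this]

end Main

end Cfsg.Agent.Lib.Helper7.GlaubAbove
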