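import Mathlib
import Cfsg.Prelude
import Cfsg.Agent.Lib.Helper7.InvAboveB
import Cfsg.Agent.Lib.Helper7.ExtDet
import Cfsg.Agent.S4449

/-!
# Invariant constituents above an invariant linear character of order prime to the top index
(helper7)
-/

set_option autoImplicit false

namespace Cfsg.Agent.Lib.Helper7.InvAbove

open Cfsg Cfsg.Agent.Lib.Helper26 Cfsg.Agent.Lib.Helper7
open scoped ComplexConjugate Pointwise

/-- the statement to be transported -/
def HasInvAbove {Γ : Type*} [Group Γ] (G N : Subgroup Γ) [Fintype G] [Fintype N] (hNG : N ≤ G)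
    (θ : N → ℂ) : Prop :=
  ∃ χ : G → ℂ, IsIrrCharacter G χ ∧ classInner (fun n : N => χ ⟨n, hNG n.2⟩) θ ≠ 0 ∧
    ∀ (x : Γ) (g g' : G), (g' : Γ) = x * g * x⁻¹ → χ g' = χ g

theorem linear_coprime {Γ : Type*} [Group Γ] [Finite Γ] (G N : Subgroup Γ) [hG : G.Normal]
    [hN : N.Normal] [Fintype G] [Fintype N] (hNG : N ≤ G)
    (hcop : (G.index).Coprime (N.relIndex G)) (k : ℕ) (hsolv : derivedSeries Γ k ≤ G)
    (lam : N →* ℂˣ) (hinv : ∀ (x : Γ) (n n' : N), (n' : Γ) = x * n * x⁻¹ → lam n' = lam n)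
    (e : ℕ) (he0 : e ≠ 0) (he : lam ^ e = 1) (hecop : e.Coprime G.index) :
    HasInvAbove G N hNG (fun n => ((lam n : ℂˣ) : ℂ)) := by
  classical
  set M : Subgroup Γ := lam.ker.map N.subtype with hM
  have hMN : M ≤ N := Subgroup.map_subtype_le _
  have hmemM : ∀ n : N, (n : Γ) ∈ M ↔ lam n = 1 := by
    intro n
    rw [hM]
    constructor
    · rintro ⟨m, hm, hmn⟩
      have : m = n := Subtype.ext hmn
      rw [← this]
      exact hm
    · intro h
      exact ⟨n, h, rfl⟩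
  haveI hMn : M.Normal := by
    constructor
    intro m hm x
    have hmN : m ∈ N := hMN hm
    have h1 : x * m * x⁻¹ ∈ N := hN.conj_mem m hmN x
    have h2 := (hmemM ⟨x * m * x⁻¹, h1⟩).mpr (by
      rw [hinv x ⟨m, hmN⟩ ⟨x * m * x⁻¹, h1⟩ rfl]
      exact (hmemM ⟨m, hmN⟩).mp hm)
    exact h2
  let f : Γ →* Γ ⧸ M := QuotientGroup.mk' M
  have hf : Function.Surjective f := QuotientGroup.mk'_surjective M
  have hker : f.ker = M := QuotientGroup.ker_mk' M
  set Gb : Subgroup (Γ ⧸ M) := G.map f with hGb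
  set Nb : Subgroup (Γ ⧸ M) := N.map f with hNb
  haveI hGbn : Gb.Normal := Subgroup.Normal.map hG f hf
  haveI hNbn : Nb.Normal := Subgroup.Normal.map hN f hf
  have hNGb : Nb ≤ Gb := Subgroup.map_mono hNG
  haveI : Fintype (Γ ⧸ M) := Fintype.ofFinite _
  haveI : Fintype Gb := Fintype.ofFinite _
  haveI : Fintype Nb := Fintype.ofFinite _
  have hidx : Gb.index = G.index :=
    Subgroup.index_map_eq G hf (by rw [hker]; exact hMN.trans hNG)
  -- the order of Gb
  have hkeridx : lam.ker.index ∣ e := by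
    rw [Subgroup.index_ker]
    haveI : NeZero e := ⟨he0⟩
    have hle : lam.range ≤ rootsOfUnity e ℂ := by
      rintro _ ⟨n, rfl⟩
      rw [mem_rootsOfUnity]
      have := congrArg (fun μ : N →* ℂˣ => μ n) he
      simpa using this
    have h1 := Subgroup.card_dvd_of_le hle
    rwa [Complex.card_rootsOfUnity e] at h1
  have hMsub : M.subgroupOf N = lam.ker := by
    rw [hM]
    exact Subgroup.comap_map_eq_self_of_injective N.subtype_injective _
  have hcardGb : Nat.card Gb = lam.ker.index * N.relIndex G := by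
    have h1 : Nat.card Gb * Gb.index = M.index := by
      rw [Subgroup.card_mul_index, Subgroup.index_eq_card]
    have h2 : M.relIndex N * N.index = M.index := Subgroup.relIndex_mul_index hMN
    have h3 : N.relIndex G * G.index = N.index := Subgroup.relIndex_mul_index hNG
    have h4 : M.relIndex N = lam.ker.index := by
      show (M.subgroupOf N).index = _
      rw [hMsub]
    rw [hidx, ← h2, ← h3, h4, ← mul_assoc] at h1
    exact Nat.eq_of_mul_eq_mul_right (Nat.pos_of_ne_zero Subgroup.index_ne_zero_of_finite) h1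
  have hcop' : Nat.Coprime (Nat.card Gb) Gb.index := by
    rw [hcardGb, hidx]
    exact Nat.Coprime.mul_left (Nat.Coprime.coprime_dvd_left hkeridx hecop) hcop.symm
  obtain ⟨Ab, hAb⟩ := Subgroup.exists_right_complement'_of_coprime hcop'
  have hAbcard : Nat.card Ab = Gb.index := (hAb.symm.index_eq_card).symm
  have hAbsolv : Group.IsSolvable Ab := by
    rw [Group.isSolvable_def]
    refine ⟨k, ?_⟩
    rw [eq_bot_iff]
    intro a ha
    have h1 : (a : Γ ⧸ M) ∈ (derivedSeries Ab k).map Ab.subtype := ⟨a, ha, rfl⟩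
    have h2 := map_derivedSeries_le_derivedSeries Ab.subtype k h1
    have h3 : derivedSeries (Γ ⧸ M) k ≤ Gb := by
      rw [← map_derivedSeries_eq hf k]
      exact Subgroup.map_mono hsolv
    have h4 : (a : Γ ⧸ M) ∈ Gb ⊓ Ab := ⟨h3 h2, a.2⟩
    rw [hAb.disjoint.eq_bot] at h4
    exact Subtype.ext (Subgroup.mem_bot.mp h4)
  -- the deflated linear character
  let fN : N →* Nb := f.subgroupMap N
  have hfN : Function.Surjective fN := f.subgroupMap_surjective N
  have hfNval : ∀ n : N, ((fN n : Nb) : Γ ⧸ M) = f n := fun n => rfl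
  let lamC : IrrCharacter N := ⟨fun n => ((lam n : ℂˣ) : ℂ), isIrr_of_hom' lam⟩
  obtain ⟨lamb, hlamb⟩ := exists_deflate_of_surjective fN hfN lamC (by
    intro n hn
    have h1 : f (n : Γ) = 1 := congrArg Subtype.val (MonoidHom.mem_ker.mp hn)
    have h2 : (n : Γ) ∈ M := by
      rw [← hker]
      exact h1
    show ((lam n : ℂˣ) : ℂ) = ((lam 1 : ℂˣ) : ℂ)
    rw [(hmemM n).mp h2, map_one])
  have hlamb' : ∀ n : N, (lamb : Nb → ℂ) (fN n) = ((lam n : ℂˣ) : ℂ) := hlamb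
  have hinvb : ∀ s ∈ Ab, ∀ g g' : Nb, (g' : Γ ⧸ M) = s * g * s⁻¹ →
      (lamb : Nb → ℂ) g' = (lamb : Nb → ℂ) g := by
    intro s _ g g' hg'
    obtain ⟨x, rfl⟩ := hf s
    obtain ⟨n, rfl⟩ := hfN g
    have h1 : x * (n : Γ) * x⁻¹ ∈ N := hN.conj_mem n n.2 x
    have h2 : g' = fN ⟨x * n * x⁻¹, h1⟩ := by
      apply Subtype.ext
      rw [hg', hfNval, hfNval]
      simp only [map_mul, map_inv]
    rw [h2, hlamb', hlamb', hinv x n ⟨x * n * x⁻¹, h1⟩ rfl]
  obtain ⟨χb, hχb, hχbinv⟩ := Cfsg.Agent.S4449.result Gb Ab Nb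
    (fun s _ g hg => hGbn.conj_mem g hg s) hNGb (fun g _ n hn => hNbn.conj_mem n hn g)
    (fun s _ n hn => hNbn.conj_mem n hn s) (by rw [hAbcard]; exact hcop') hAbsolv lamb hinvb
  -- pull back
  let fG : G →* Gb := f.subgroupMap G
  have hfG : Function.Surjective fG := f.subgroupMap_surjective G
  have hfGval : ∀ g : G, ((fG g : Gb) : Γ ⧸ M) = f g := fun g => rfl
  refine ⟨(χb : Gb → ℂ) ∘ fG,
    Cfsg.Agent.Lib.Helper2.isIrrCharacter_comp_of_surjective χb.2 fG hfG, ?_, ?_⟩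
  · have h1 : (fun n : N => ((χb : Gb → ℂ) ∘ fG) ⟨n, hNG n.2⟩) =
        (fun nb : Nb => (χb : Gb → ℂ) ⟨nb, hNGb nb.2⟩) ∘ fN := by
      funext n
      rfl
    have h2 : (fun n : N => ((lam n : ℂˣ) : ℂ)) = (lamb : Nb → ℂ) ∘ fN := by
      funext n
      exact (hlamb' n).symm
    rw [h1, h2, classInner_comp_surjective fN hfN]
    exact hχb
  · intro x g g' hg'
    show (χb : Gb → ℂ) (fG g') = (χb : Gb → ℂ) (fG g)
    have hprod : (Gb : Set (Γ ⧸ M)) * (Ab : Set (Γ ⧸ M)) = Set.univ := hAb.mul_eq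
    have hx : f x ∈ (Gb : Set (Γ ⧸ M)) * (Ab : Set (Γ ⧸ M)) := by
      rw [hprod]
      exact Set.mem_univ _
    obtain ⟨gb, hgb, ab, hab, hx'⟩ := Set.mem_mul.mp hx
    have hconj : ab * ((fG g : Gb) : Γ ⧸ M) * ab⁻¹ ∈ Gb := hGbn.conj_mem _ (fG g).2 ab
    have h1 := hχbinv ab hab (fG g) ⟨ab * ((fG g : Gb) : Γ ⧸ M) * ab⁻¹, hconj⟩ rfl
    have h2 : fG g' = (⟨gb, hgb⟩ : Gb) * ⟨ab * ((fG g : Gb) : Γ ⧸ M) * ab⁻¹, hconj⟩ *
        (⟨gb, hgb⟩ : Gb)⁻¹ := by
      apply Subtype.ext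
      show ((fG g' : Gb) : Γ ⧸ M) = gb * (ab * ((fG g : Gb) : Γ ⧸ M) * ab⁻¹) * gb⁻¹
      rw [hfGval, hfGval, hg', map_mul, map_mul, map_inv, ← hx']
      group
    rw [h2, Cfsg.Agent.Lib.Helper26.isClassFunction_of_isIrrCharacter χb.2 _ _, h1]

end Cfsg.Agent.Lib.Helper7.InvAbove
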