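import Mathlib
import Cfsg.Prelude
import Cfsg.Agent.Lib.Helper7.InvAboveC
import Cfsg.Agent.S0857

/-!
# Invariant constituents above an invariant linear character, solvable top (helper7)
-/

set_option autoImplicit false

namespace Cfsg.Agent.Lib.Helper7.InvAbove

open Cfsg Cfsg.Agent.Lib.Helper26 Cfsg.Agent.Lib.Helper7
open scoped ComplexConjugate Pointwise

theorem classInner_twist {K : Type*} [Group K] [Fintype K] (mu : K →* ℂˣ) (f g : K → ℂ) :
    classInner (fun k => ((mu k : ℂˣ) : ℂ) * f k) (fun k => ((mu k : ℂˣ) : ℂ) * g k) =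
      classInner f g := by
  unfold classInner
  congr 1
  refine Finset.sum_congr rfl fun k _ => ?_
  have h2 : ((mu k : ℂˣ) : ℂ) * conj ((mu k : ℂˣ) : ℂ) = 1 := by
    rw [conj_linChar, ← Units.val_mul, ← map_mul, mul_inv_cancel, map_one, Units.val_one]
  rw [map_mul]
  calc ((mu k : ℂˣ) : ℂ) * f k * (conj ((mu k : ℂˣ) : ℂ) * conj (g k))
      = (((mu k : ℂˣ) : ℂ) * conj ((mu k : ℂˣ) : ℂ)) * (f k * conj (g k)) := by ring
    _ = f k * conj (g k) := by rw [h2, one_mul]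

theorem coprime_split (e a b : ℕ) (he : e ≠ 0) (hab : Nat.Coprime b a) :
    ∃ e₁ e₂ : ℕ, e₁ * e₂ = e ∧ Nat.Coprime e₁ e₂ ∧ Nat.Coprime e₁ b ∧ Nat.Coprime e₂ a := by
  classical
  refine ⟨∏ p ∈ e.primeFactors.filter (fun p => ¬ p ∣ b), p ^ e.factorization p,
    ∏ p ∈ e.primeFactors.filter (fun p => p ∣ b), p ^ e.factorization p, ?_, ?_, ?_, ?_⟩
  · rw [mul_comm, Finset.prod_filter_mul_prod_filter_not]
    have := Nat.factorization_prod_pow_eq_self he
    rwa [Nat.prod_factorization_eq_prod_primeFactors] at this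
  · apply Nat.Coprime.prod_left
    intro p hp
    apply Nat.Coprime.prod_right
    intro q hq
    rw [Finset.mem_filter] at hp hq
    have hpp := Nat.prime_of_mem_primeFactors hp.1
    have hqp := Nat.prime_of_mem_primeFactors hq.1
    apply Nat.Coprime.pow
    rw [Nat.coprime_primes hpp hqp]
    rintro rfl
    exact hp.2 hq.2
  · apply Nat.Coprime.prod_left
    intro p hp
    rw [Finset.mem_filter] at hp
    have hpp := Nat.prime_of_mem_primeFactors hp.1
    apply Nat.Coprime.pow_left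
    exact (Nat.Prime.coprime_iff_not_dvd hpp).mpr hp.2
  · apply Nat.Coprime.prod_left
    intro p hp
    rw [Finset.mem_filter] at hp
    have hpp := Nat.prime_of_mem_primeFactors hp.1
    apply Nat.Coprime.pow_left
    apply (Nat.Prime.coprime_iff_not_dvd hpp).mpr
    intro hpa
    have := Nat.dvd_gcd hp.2 hpa
    rw [hab.gcd_eq_one] at this
    exact hpp.one_lt.ne' (Nat.dvd_one.mp this)

theorem hom_zpow_apply {A : Type*} [Group A] (lam : A →* ℂˣ) (z : ℤ) (n : A) :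
    (lam ^ z) n = (lam n) ^ z :=
  map_zpow (MonoidHom.eval n) lam z

theorem top_solvable_linear {Γ : Type*} [Group Γ] [Finite Γ] (G N : Subgroup Γ) [hG : G.Normal]
    [hN : N.Normal] [Fintype G] [Fintype N] (hNG : N ≤ G)
    (hcop : (G.index).Coprime (N.relIndex G)) (k : ℕ) (hsolv : derivedSeries Γ k ≤ G)
    (lam : N →* ℂˣ) (hinv : ∀ (x : Γ) (n n' : N), (n' : Γ) = x * n * x⁻¹ → lam n' = lam n) :
    HasInvAbove G N hNG (fun n => ((lam n : ℂˣ) : ℂ)) := by
  classical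
  have hcardN : lam ^ Nat.card N = 1 := by
    apply MonoidHom.ext
    intro n
    rw [MonoidHom.pow_apply, ← map_pow, pow_card_eq_one', map_one]
    rfl
  obtain ⟨e₁, e₂, he, h12, h1b, h2a⟩ :=
    coprime_split (Nat.card N) (N.relIndex G) G.index Nat.card_pos.ne' hcop
  have he10 : e₁ ≠ 0 := by
    rintro rfl
    rw [zero_mul] at he
    exact Nat.card_pos.ne' he.symm
  obtain ⟨u, v, huv⟩ : ∃ u v : ℤ, u * e₂ + v * e₁ = 1 := by
    obtain ⟨a, b, hab⟩ := Nat.Coprime.isCoprime h12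
    exact ⟨b, a, by linarith⟩
  set lam₁ : N →* ℂˣ := lam ^ (u * e₂) with hlam₁
  set lam₂ : N →* ℂˣ := lam ^ (v * e₁) with hlam₂
  have hcardN' : ∀ n : N, (lam n) ^ Nat.card N = 1 := by
    intro n
    rw [← map_pow, pow_card_eq_one', map_one]
  have hprod : lam₂ * lam₁ = lam := by
    apply MonoidHom.ext
    intro n
    rw [MonoidHom.mul_apply, hlam₁, hlam₂, hom_zpow_apply, hom_zpow_apply, ← zpow_add, add_comm,
      huv, zpow_one]
  have h1 : lam₁ ^ e₁ = 1 := by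
    have h0 : (u * (e₂ : ℤ)) * (e₁ : ℤ) = ((Nat.card N : ℕ) : ℤ) * u := by
      rw [← he]; push_cast; ring
    apply MonoidHom.ext
    intro n
    rw [MonoidHom.pow_apply, hlam₁, hom_zpow_apply, ← zpow_natCast, ← zpow_mul, h0, zpow_mul,
      zpow_natCast, hcardN', one_zpow]
    rfl
  have h2 : lam₂ ^ e₂ = 1 := by
    have h0 : (v * (e₁ : ℤ)) * (e₂ : ℤ) = ((Nat.card N : ℕ) : ℤ) * v := by
      rw [← he]; push_cast; ring
    apply MonoidHom.ext
    intro n
    rw [MonoidHom.pow_apply, hlam₂, hom_zpow_apply, ← zpow_natCast, ← zpow_mul, h0, zpow_mul,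
      zpow_natCast, hcardN', one_zpow]
    rfl
  have hinv₁ : ∀ (x : Γ) (n n' : N), (n' : Γ) = x * n * x⁻¹ → lam₁ n' = lam₁ n := by
    intro x n n' h
    rw [hlam₁, hom_zpow_apply, hom_zpow_apply, hinv x n n' h]
  have hinv₂ : ∀ (x : Γ) (n n' : N), (n' : Γ) = x * n * x⁻¹ → lam₂ n' = lam₂ n := by
    intro x n n' h
    rw [hlam₂, hom_zpow_apply, hom_zpow_apply, hinv x n n' h]
  -- extend lam₂
  let N' : Subgroup G := N.subgroupOf G
  haveI hN'n : N'.Normal := Subgroup.normal_subgroupOf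
  let eN : N' ≃* N := Subgroup.subgroupOfEquivOfLe hNG
  have heN : ∀ n' : N', ((eN n' : N) : Γ) = ((n' : G) : Γ) := fun n' => rfl
  let lam₂' : N' →* ℂˣ := lam₂.comp eN.toMonoidHom
  have hlam₂' : ∀ n' : N', lam₂' n' = lam₂ (eN n') := fun n' => rfl
  have h2' : lam₂' ^ e₂ = 1 := by
    apply MonoidHom.ext
    intro n'
    rw [MonoidHom.pow_apply, hlam₂', ← MonoidHom.pow_apply, h2]
    rfl
  have hord : orderOf lam₂' ∣ e₂ := orderOf_dvd_of_pow_eq_one h2'
  obtain ⟨ν, hνN, hνord⟩ := lin_ext N' lam₂' (by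
    intro g n
    rw [hlam₂', hlam₂']
    apply hinv₂ (g : Γ)
    rw [heN, heN]
    rfl) (Nat.Coprime.coprime_dvd_right hord h2a.symm)
  have hνe : ν ^ e₂ = 1 :=
    (orderOf_dvd_iff_pow_eq_one (x := ν) (n := e₂)).mp (hνord.symm ▸ hord)
  have hνN' : ∀ n : N, ν ⟨n, hNG n.2⟩ = lam₂ n := by
    intro n
    have hmem : (⟨n, hNG n.2⟩ : G) ∈ N' := Subgroup.mem_subgroupOf.mpr n.2
    have h3 := hνN ⟨⟨n, hNG n.2⟩, hmem⟩
    rw [hlam₂'] at h3
    have h4 : eN ⟨⟨n, hNG n.2⟩, hmem⟩ = n := Subtype.ext (heN _)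
    rw [h4] at h3
    exact h3
  have hνinv : ∀ (x : Γ) (g g' : G), (g' : Γ) = x * g * x⁻¹ → ν g' = ν g := by
    intro x g g' hg'
    let νx : G →* ℂˣ := ν.comp (MulAut.conjNormal x : G ≃* G).toMonoidHom
    have hνx : ∀ y : G, νx y = ν (MulAut.conjNormal x y) := fun y => rfl
    have hg'' : g' = MulAut.conjNormal x g := by
      apply Subtype.ext
      rw [hg', MulAut.conjNormal_apply]
    have hβN : ∀ n : N', (νx / ν) n = 1 := by
      intro n
      rw [MonoidHom.div_apply, hνx]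
      have hmem : (MulAut.conjNormal x (n : G) : G) ∈ N' := by
        rw [Subgroup.mem_subgroupOf, MulAut.conjNormal_apply]
        exact hN.conj_mem _ (Subgroup.mem_subgroupOf.mp n.2) x
      have h3 := hνN ⟨MulAut.conjNormal x (n : G), hmem⟩
      have h4 := hνN n
      have h5 : lam₂' ⟨MulAut.conjNormal x (n : G), hmem⟩ = lam₂' n := by
        rw [hlam₂', hlam₂']
        apply hinv₂ x
        rw [heN, heN]
        exact MulAut.conjNormal_apply x (n : G)
      rw [h5, ← h4] at h3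
      simp only at h3
      rw [h3, div_self']
    have hβa : (νx / ν) ^ N'.index = 1 := pow_index_eq_one N' (νx / ν) hβN
    have hβe : (νx / ν) ^ e₂ = 1 := by
      apply MonoidHom.ext
      intro y
      rw [MonoidHom.pow_apply, MonoidHom.div_apply, div_pow, hνx, ← MonoidHom.pow_apply,
        ← MonoidHom.pow_apply, hνe]
      simp
    have hβ1 : νx / ν = 1 := by
      have h3 : orderOf (νx / ν) ∣ Nat.gcd e₂ (N.relIndex G) :=
        Nat.dvd_gcd (orderOf_dvd_of_pow_eq_one hβe) (orderOf_dvd_of_pow_eq_one hβa)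
      rw [h2a.gcd_eq_one] at h3
      exact orderOf_eq_one_iff.mp (Nat.dvd_one.mp h3)
    have hνxν : νx = ν := div_eq_one.mp hβ1
    rw [hg'', ← hνx, hνxν]
  -- the character above lam₁
  obtain ⟨χ₁, hχ₁, hχ₁N, hχ₁inv⟩ :=
    linear_coprime G N hNG hcop k hsolv lam₁ hinv₁ e₁ he10 h1 h1b
  refine ⟨fun g => ((ν g : ℂˣ) : ℂ) * χ₁ g, Cfsg.Agent.S0857.isIrr_twist ν χ₁ hχ₁, ?_, ?_⟩
  · have h3 : (fun n : N => ((ν (⟨n, hNG n.2⟩ : G) : ℂˣ) : ℂ) * χ₁ ⟨n, hNG n.2⟩) =
        fun n : N => ((lam₂ n : ℂˣ) : ℂ) * (fun n : N => χ₁ ⟨n, hNG n.2⟩) n := by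
      funext n
      rw [hνN' n]
    have h4 : (fun n : N => ((lam n : ℂˣ) : ℂ)) =
        fun n : N => ((lam₂ n : ℂˣ) : ℂ) * (fun n : N => ((lam₁ n : ℂˣ) : ℂ)) n := by
      funext n
      rw [← Units.val_mul, ← MonoidHom.mul_apply, hprod]
    rw [h3, h4, classInner_twist]
    exact hχ₁N
  · intro x g g' hg'
    show ((ν g' : ℂˣ) : ℂ) * χ₁ g' = ((ν g : ℂˣ) : ℂ) * χ₁ g
    rw [hνinv x g g' hg', hχ₁inv x g g' hg']

end Cfsg.Agent.Lib.Helper7.InvAbove
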