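import Mathlib
import Cfsg.Prelude
import Cfsg.Agent.Lib.Helper7.ProjDecomp

/-!
# The finite cover group attached to an invariant irreducible representation (helper7)

For `ρ` an irreducible representation of the normal subgroup `N` of `Γ` with `Γ`-invariant
character, the pairs `(x, T)` with `T ∈ SL_d(ℂ)` and `T ρ(n) = ρ(x n x⁻¹) T` form a finite group
mapping onto `Γ`, which acts on `Fin d → ℂ` through `T`; over `N` the action is a linear character
times `ρ`.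
-/

set_option autoImplicit false

namespace Cfsg.Agent.Lib.Helper7.InvAbove

open Cfsg Cfsg.Agent.Lib.Helper4 Cfsg.Agent.Lib.Helper2 Cfsg.Agent.Lib.Helper7

theorem schur_matrix {N : Type*} [Group N] {κ : Type*} [Fintype κ] [DecidableEq κ]
    (σ : Representation ℂ N (κ → ℂ)) (hσ : σ.IsIrreducible) (B : Matrix κ κ ℂ)
    (hB : ∀ m : N, B * rmat σ m = rmat σ m * B) : ∃ c : ℂ, B = c • (1 : Matrix κ κ ℂ) := by
  obtain ⟨c, hc⟩ := Cfsg.Agent.S0894.schur_scalar σ hσ (Matrix.toLin' B) (by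
    intro m v
    have h1 : σ m = Matrix.toLin' (rmat σ m) := (toLin'_rmat σ m).symm
    rw [h1]
    rw [← LinearMap.comp_apply, ← Matrix.toLin'_mul, hB m, Matrix.toLin'_mul]
    rfl)
  refine ⟨c, ?_⟩
  have h2 := congrArg LinearMap.toMatrix' hc
  rw [LinearMap.toMatrix'_toLin', map_smul, LinearMap.toMatrix'_id] at h2
  exact h2

section Cover
variable {Γ : Type*} [Group Γ] (N : Subgroup Γ) [hN : N.Normal] {d : ℕ}
  (ρ : Representation ℂ N (Fin d → ℂ))

/-- the cover group -/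
def coverSub : Subgroup (Γ × Matrix.SpecialLinearGroup (Fin d) ℂ) where
  carrier := {p | ∀ n : N, (p.2 : Matrix (Fin d) (Fin d) ℂ) * rmat ρ n =
      rmat ρ (MulAut.conjNormal p.1 n) * (p.2 : Matrix (Fin d) (Fin d) ℂ)}
  mul_mem' := by
    intro p q hp hq n
    show ((p.2 * q.2 : Matrix.SpecialLinearGroup (Fin d) ℂ) : Matrix (Fin d) (Fin d) ℂ) *
        rmat ρ n = rmat ρ (MulAut.conjNormal (p.1 * q.1) n) *
        ((p.2 * q.2 : Matrix.SpecialLinearGroup (Fin d) ℂ) : Matrix (Fin d) (Fin d) ℂ)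
    rw [Matrix.SpecialLinearGroup.coe_mul, Matrix.mul_assoc, hq n, ← Matrix.mul_assoc, hp,
      Matrix.mul_assoc, map_mul, MulAut.mul_apply]
  one_mem' := by
    intro n
    show ((1 : Matrix.SpecialLinearGroup (Fin d) ℂ) : Matrix (Fin d) (Fin d) ℂ) * rmat ρ n =
      rmat ρ (MulAut.conjNormal (1 : Γ) n) *
        ((1 : Matrix.SpecialLinearGroup (Fin d) ℂ) : Matrix (Fin d) (Fin d) ℂ)
    rw [Matrix.SpecialLinearGroup.coe_one, Matrix.one_mul, Matrix.mul_one, map_one,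
      MulAut.one_apply]
  inv_mem' := by
    intro p hp n
    show ((p.2⁻¹ : Matrix.SpecialLinearGroup (Fin d) ℂ) : Matrix (Fin d) (Fin d) ℂ) * rmat ρ n =
      rmat ρ (MulAut.conjNormal (p.1⁻¹) n) *
        ((p.2⁻¹ : Matrix.SpecialLinearGroup (Fin d) ℂ) : Matrix (Fin d) (Fin d) ℂ)
    have h1 : ((p.2⁻¹ : Matrix.SpecialLinearGroup (Fin d) ℂ) : Matrix (Fin d) (Fin d) ℂ) *
        (p.2 : Matrix (Fin d) (Fin d) ℂ) = 1 := by
      rw [← Matrix.SpecialLinearGroup.coe_mul, inv_mul_cancel, Matrix.SpecialLinearGroup.coe_one]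
    have h2 : (p.2 : Matrix (Fin d) (Fin d) ℂ) *
        ((p.2⁻¹ : Matrix.SpecialLinearGroup (Fin d) ℂ) : Matrix (Fin d) (Fin d) ℂ) = 1 := by
      rw [← Matrix.SpecialLinearGroup.coe_mul, mul_inv_cancel, Matrix.SpecialLinearGroup.coe_one]
    have h3 : MulAut.conjNormal p.1 (MulAut.conjNormal p.1⁻¹ n) = n := by
      rw [← MulAut.mul_apply, ← map_mul, mul_inv_cancel, map_one, MulAut.one_apply]
    have h4 := hp (MulAut.conjNormal p.1⁻¹ n)
    rw [h3] at h4
    generalize ((p.2⁻¹ : Matrix.SpecialLinearGroup (Fin d) ℂ) : Matrix (Fin d) (Fin d) ℂ) = A'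
      at h1 h2 ⊢
    generalize (p.2 : Matrix (Fin d) (Fin d) ℂ) = A at h1 h2 h4
    calc A' * rmat ρ n = A' * (rmat ρ n * A) * A' := by
          rw [Matrix.mul_assoc, Matrix.mul_assoc, h2, Matrix.mul_one]
      _ = A' * (A * rmat ρ (MulAut.conjNormal p.1⁻¹ n)) * A' := by rw [h4]
      _ = rmat ρ (MulAut.conjNormal p.1⁻¹ n) * A' := by
          rw [← Matrix.mul_assoc, h1, Matrix.one_mul]

theorem mem_coverSub (p : Γ × Matrix.SpecialLinearGroup (Fin d) ℂ) :
    p ∈ coverSub N ρ ↔ ∀ n : N, (p.2 : Matrix (Fin d) (Fin d) ℂ) * rmat ρ n =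
      rmat ρ (MulAut.conjNormal p.1 n) * (p.2 : Matrix (Fin d) (Fin d) ℂ) := Iff.rfl

/-- the projection to `Γ` -/
def coverProj : coverSub N ρ →* Γ :=
  (MonoidHom.fst Γ (Matrix.SpecialLinearGroup (Fin d) ℂ)).comp (coverSub N ρ).subtype

theorem coverProj_apply (p : coverSub N ρ) :
    coverProj N ρ p = (p : Γ × Matrix.SpecialLinearGroup (Fin d) ℂ).1 := rfl

/-- the representation of the cover group -/
noncomputable def coverRep : Representation ℂ (coverSub N ρ) (Fin d → ℂ) where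
  toFun := fun x => Matrix.toLin'
      ((x : Γ × Matrix.SpecialLinearGroup (Fin d) ℂ).2 : Matrix (Fin d) (Fin d) ℂ)
  map_one' := by
    show Matrix.toLin' (((1 : Γ × Matrix.SpecialLinearGroup (Fin d) ℂ).2 :
      Matrix.SpecialLinearGroup (Fin d) ℂ) : Matrix (Fin d) (Fin d) ℂ) = 1
    rw [Prod.snd_one, Matrix.SpecialLinearGroup.coe_one, Matrix.toLin'_one]; rfl
  map_mul' := fun x y => by
    show Matrix.toLin' ((((x : Γ × Matrix.SpecialLinearGroup (Fin d) ℂ) *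
      (y : Γ × Matrix.SpecialLinearGroup (Fin d) ℂ)).2 :
      Matrix.SpecialLinearGroup (Fin d) ℂ) : Matrix (Fin d) (Fin d) ℂ) = _
    rw [Prod.snd_mul, Matrix.SpecialLinearGroup.coe_mul, Matrix.toLin'_mul]; rfl

theorem rmat_coverRep (p : coverSub N ρ) :
    rmat (coverRep N ρ) p =
      ((p : Γ × Matrix.SpecialLinearGroup (Fin d) ℂ).2 : Matrix (Fin d) (Fin d) ℂ) := by
  unfold rmat
  show LinearMap.toMatrix' (Matrix.toLin'
      ((p : Γ × Matrix.SpecialLinearGroup (Fin d) ℂ).2 : Matrix (Fin d) (Fin d) ℂ)) = _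
  rw [LinearMap.toMatrix'_toLin']

theorem rmat_coverRep_mul (p : coverSub N ρ) (n : N) :
    rmat (coverRep N ρ) p * rmat ρ n =
      rmat ρ (MulAut.conjNormal (coverProj N ρ p) n) * rmat (coverRep N ρ) p := by
  rw [rmat_coverRep]
  exact p.2 n

variable [Finite Γ]

theorem deg_ne_zero (hρ : ρ.IsIrreducible) : d ≠ 0 := by
  have hntd : Nontrivial (Fin d → ℂ) := nontrivial_of_irreducible ρ hρ
  rintro rfl
  exact not_subsingleton (Fin 0 → ℂ) inferInstance

theorem exists_lift (hρ : ρ.IsIrreducible)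
    (hinv : ∀ (x : Γ) (n : N), ρ.character (MulAut.conjNormal x n) = ρ.character n) (x : Γ) :
    ∃ T : Matrix.SpecialLinearGroup (Fin d) ℂ, (x, T) ∈ coverSub N ρ := by
  classical
  have : Fintype N := Fintype.ofFinite _
  have hd0 := deg_ne_zero N ρ hρ
  let c : N ≃* N := MulAut.conjNormal x
  let σg : Representation ℂ N (Fin d → ℂ) := MonoidHom.comp ρ c.toMonoidHom
  have hσg : σg.IsIrreducible :=
    Cfsg.Agent.Lib.Helper2.isIrreducible_comp_of_surjective ρ c.toMonoidHom c.surjective hρ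
  have hchar : σg.character = ρ.character := by
    funext m
    exact hinv x m
  obtain ⟨φ⟩ := equiv_of_character_eq σg ρ hσg hρ hchar
  let E : (Fin d → ℂ) ≃ₗ[ℂ] (Fin d → ℂ) := φ.toLinearEquiv
  have hE : ∀ (m : N) (v : Fin d → ℂ), E (ρ m v) = ρ (c m) (E v) := fun m v =>
    LinearMap.congr_fun (φ.isIntertwining' m) v
  let Q : Matrix (Fin d) (Fin d) ℂ := LinearMap.toMatrix' E.toLinearMap
  let Q' : Matrix (Fin d) (Fin d) ℂ := LinearMap.toMatrix' E.symm.toLinearMap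
  have hQQ' : Q * Q' = 1 := by
    rw [← LinearMap.toMatrix'_comp]
    simp
  have hQY : ∀ m : N, Q * rmat ρ m = rmat ρ (c m) * Q := by
    intro m
    unfold rmat
    rw [← LinearMap.toMatrix'_comp, ← LinearMap.toMatrix'_comp]
    congr 1
    apply LinearMap.ext
    intro v
    exact hE m v
  have hdet : Q.det ≠ 0 := by
    intro h0
    have h2 := congrArg Matrix.det hQQ'
    rw [Matrix.det_mul, h0, zero_mul, Matrix.det_one] at h2
    exact zero_ne_one h2
  obtain ⟨a, ha⟩ := IsAlgClosed.exists_pow_nat_eq Q.det (Nat.pos_of_ne_zero hd0)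
  have ha0 : a ≠ 0 := by
    rintro rfl
    rw [zero_pow hd0] at ha
    exact hdet ha.symm
  refine ⟨⟨a⁻¹ • Q, ?_⟩, ?_⟩
  · rw [Matrix.det_smul, Fintype.card_fin, inv_pow, ha, inv_mul_cancel₀ hdet]
  · intro m
    show (a⁻¹ • Q) * rmat ρ m = rmat ρ (c m) * (a⁻¹ • Q)
    rw [Matrix.smul_mul, Matrix.mul_smul, hQY m]

theorem scalar_of_fst_eq_one (hρ : ρ.IsIrreducible)
    (q : Γ × Matrix.SpecialLinearGroup (Fin d) ℂ) (hq : q ∈ coverSub N ρ) (hq1 : q.1 = 1) :
    ∃ c : ℂ, c ^ d = 1 ∧ (q.2 : Matrix (Fin d) (Fin d) ℂ) = c • (1 : Matrix (Fin d) (Fin d) ℂ) := by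
  obtain ⟨c, hc⟩ := schur_matrix ρ hρ (q.2 : Matrix (Fin d) (Fin d) ℂ) (by
    intro m
    have h := hq m
    rw [hq1, map_one, MulAut.one_apply] at h
    exact h)
  refine ⟨c, ?_, hc⟩
  have h2 := congrArg Matrix.det hc
  rw [Matrix.det_smul, Matrix.SpecialLinearGroup.det_coe, Matrix.det_one, Fintype.card_fin,
    mul_one] at h2
  exact h2.symm

theorem finite_coverSub (hρ : ρ.IsIrreducible)
    (hinv : ∀ (x : Γ) (n : N), ρ.character (MulAut.conjNormal x n) = ρ.character n) :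
    Finite (coverSub N ρ) := by
  classical
  have hd0 := deg_ne_zero N ρ hρ
  have hdpos : 0 < d := Nat.pos_of_ne_zero hd0
  choose T₀ hT₀ using exists_lift N ρ hρ hinv
  have key : ∀ p : coverSub N ρ, ∃ c : ℂ, c ^ d = 1 ∧
      ((p : Γ × Matrix.SpecialLinearGroup (Fin d) ℂ).2 : Matrix (Fin d) (Fin d) ℂ) =
        c • (T₀ (p : Γ × Matrix.SpecialLinearGroup (Fin d) ℂ).1 : Matrix (Fin d) (Fin d) ℂ) := by
    rintro ⟨⟨x, A⟩, hp⟩
    have hq : ((x, T₀ x)⁻¹ * (x, A) : Γ × Matrix.SpecialLinearGroup (Fin d) ℂ) ∈ coverSub N ρ :=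
      (coverSub N ρ).mul_mem ((coverSub N ρ).inv_mem (hT₀ x)) hp
    obtain ⟨c, hc1, hc2⟩ := scalar_of_fst_eq_one N ρ hρ _ hq (by simp)
    refine ⟨c, hc1, ?_⟩
    have h3 : (((x, T₀ x)⁻¹ * (x, A) : Γ × Matrix.SpecialLinearGroup (Fin d) ℂ).2 :
        Matrix.SpecialLinearGroup (Fin d) ℂ) = (T₀ x)⁻¹ * A := rfl
    rw [h3] at hc2
    show (A : Matrix (Fin d) (Fin d) ℂ) = c • (T₀ x : Matrix (Fin d) (Fin d) ℂ)
    have h4 : (A : Matrix (Fin d) (Fin d) ℂ) = (T₀ x : Matrix (Fin d) (Fin d) ℂ) *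
        (((T₀ x)⁻¹ * A : Matrix.SpecialLinearGroup (Fin d) ℂ) : Matrix (Fin d) (Fin d) ℂ) := by
      rw [← Matrix.SpecialLinearGroup.coe_mul, mul_inv_cancel_left]
    rw [h4, hc2, Matrix.mul_smul, Matrix.mul_one]
  choose c hc1 hc2 using key
  let f : coverSub N ρ → Γ × ↥(Polynomial.nthRootsFinset d (1 : ℂ)) := fun x =>
    ((x : Γ × Matrix.SpecialLinearGroup (Fin d) ℂ).1,
      ⟨c x, (Polynomial.mem_nthRootsFinset hdpos (1 : ℂ)).mpr (hc1 x)⟩)
  apply Finite.of_injective f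
  intro x y hxy
  have h1 : (x : Γ × Matrix.SpecialLinearGroup (Fin d) ℂ).1 =
      (y : Γ × Matrix.SpecialLinearGroup (Fin d) ℂ).1 := by
    have := congrArg Prod.fst hxy
    exact this
  have h2 : c x = c y := by
    have := congrArg (fun p => ((p.2 : ↥(Polynomial.nthRootsFinset d (1 : ℂ))) : ℂ)) hxy
    exact this
  apply Subtype.ext
  apply Prod.ext h1
  apply Subtype.ext
  rw [hc2 x, hc2 y, h1, h2]

theorem coverProj_surjective (hρ : ρ.IsIrreducible)
    (hinv : ∀ (x : Γ) (n : N), ρ.character (MulAut.conjNormal x n) = ρ.character n) :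
    Function.Surjective (coverProj N ρ) := by
  intro x
  obtain ⟨T, hT⟩ := exists_lift N ρ hρ hinv x
  exact ⟨⟨(x, T), hT⟩, rfl⟩

theorem exists_scalar_over (hρ : ρ.IsIrreducible) (p : coverSub N ρ)
    (hp : coverProj N ρ p ∈ N) :
    ∃ c : ℂˣ, rmat (coverRep N ρ) p = ((c : ℂˣ) : ℂ) • rmat ρ ⟨coverProj N ρ p, hp⟩ := by
  classical
  have hd0 := deg_ne_zero N ρ hρ
  set n : N := ⟨coverProj N ρ p, hp⟩ with hn
  set A : Matrix (Fin d) (Fin d) ℂ := rmat (coverRep N ρ) p with hA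
  have hconj : ∀ m : N, MulAut.conjNormal (coverProj N ρ p) m = n * m * n⁻¹ := by
    intro m
    apply Subtype.ext
    rw [MulAut.conjNormal_apply]
    rfl
  have hcomm : ∀ m : N, (rmat ρ n⁻¹ * A) * rmat ρ m = rmat ρ m * (rmat ρ n⁻¹ * A) := by
    intro m
    rw [Matrix.mul_assoc, hA, rmat_coverRep_mul, hconj m, ← Matrix.mul_assoc, ← rmat_mul,
      ← Matrix.mul_assoc, ← rmat_mul]
    congr 2
    group
  obtain ⟨c, hc⟩ := schur_matrix ρ hρ _ hcomm
  have hAc : A = c • rmat ρ n := by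
    have h1 : A = rmat ρ n * (rmat ρ n⁻¹ * A) := by
      rw [← Matrix.mul_assoc, ← rmat_mul, mul_inv_cancel, rmat_one, Matrix.one_mul]
    rw [h1, hc, Matrix.mul_smul, Matrix.mul_one]
  have hc0 : c ≠ 0 := by
    rintro rfl
    rw [zero_smul] at hAc
    have h2 : A.det = 1 := by
      rw [hA, rmat_coverRep]
      exact Matrix.SpecialLinearGroup.det_coe _
    have : Nonempty (Fin d) := ⟨⟨0, Nat.pos_of_ne_zero hd0⟩⟩
    rw [hAc, Matrix.det_zero] at h2
    exact zero_ne_one h2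
  exact ⟨Units.mk0 c hc0, hAc⟩

theorem exists_omega (hρ : ρ.IsIrreducible) :
    ∃ ω : N.comap (coverProj N ρ) →* ℂˣ, ∀ n : N.comap (coverProj N ρ),
      rmat (coverRep N ρ) (n : coverSub N ρ) =
        ((ω n : ℂˣ) : ℂ) • rmat ρ ⟨coverProj N ρ (n : coverSub N ρ), n.2⟩ := by
  classical
  have hd0 := deg_ne_zero N ρ hρ
  have hex : ∀ n : N.comap (coverProj N ρ), ∃ c : ℂˣ,
      rmat (coverRep N ρ) (n : coverSub N ρ) =
        ((c : ℂˣ) : ℂ) • rmat ρ ⟨coverProj N ρ (n : coverSub N ρ), n.2⟩ :=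
    fun n => exists_scalar_over N ρ hρ (n : coverSub N ρ) n.2
  choose w hw using hex
  refine ⟨MonoidHom.mk' w ?_, hw⟩
  intro a b
  have h1 : rmat (coverRep N ρ) ((a * b : N.comap (coverProj N ρ)) : coverSub N ρ) =
      rmat (coverRep N ρ) (a : coverSub N ρ) * rmat (coverRep N ρ) (b : coverSub N ρ) := by
    rw [← rmat_mul]
    rfl
  have h2 : (⟨coverProj N ρ ((a * b : N.comap (coverProj N ρ)) : coverSub N ρ), (a * b).2⟩ : N) =
      ⟨coverProj N ρ (a : coverSub N ρ), a.2⟩ * ⟨coverProj N ρ (b : coverSub N ρ), b.2⟩ := by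
    apply Subtype.ext
    show coverProj N ρ ((a : coverSub N ρ) * (b : coverSub N ρ)) = _
    rw [map_mul]
    rfl
  have h3 := hw (a * b)
  rw [h1, hw a, hw b, h2, rmat_mul, Matrix.smul_mul, Matrix.mul_smul, smul_smul] at h3
  have hne : rmat ρ (⟨coverProj N ρ (a : coverSub N ρ), a.2⟩ : N) *
      rmat ρ (⟨coverProj N ρ (b : coverSub N ρ), b.2⟩ : N) ≠ 0 := by
    rw [← rmat_mul]
    apply invertible_ne_zero hd0 _ (rmat ρ (⟨coverProj N ρ (a : coverSub N ρ), a.2⟩ *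
      ⟨coverProj N ρ (b : coverSub N ρ), b.2⟩ : N)⁻¹)
    rw [← rmat_mul, mul_inv_cancel, rmat_one]
  have h4 := smul_left_injective ℂ hne h3
  apply Units.ext
  rw [Units.val_mul]
  exact h4.symm

end Cover

end Cfsg.Agent.Lib.Helper7.InvAbove
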