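import Mathlib
import Cfsg.Prelude
import Cfsg.Agent.Lib.Helper7.InvAboveD
import Cfsg.Agent.Lib.Helper7.InvAboveE
import Cfsg.Agent.Lib.Helper7.Gallagher
import Cfsg.Agent.Lib.Helper26.Clifford
import Cfsg.Agent.Lib.Helper26.IndChar

/-!
# Invariant constituents above an invariant character, solvable top (helper7)
-/

set_option autoImplicit false

namespace Cfsg.Agent.Lib.Helper7.InvAbove

open Cfsg Cfsg.Agent.Lib.Helper26 Cfsg.Agent.Lib.Helper7
open scoped ComplexConjugate Pointwise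

universe u

theorem character_eq_trace_rmat {A : Type*} [Group A] {ι : Type*} [Fintype ι] [DecidableEq ι]
    (ρ : Representation ℂ A (ι → ℂ)) (a : A) : ρ.character a = (rmat ρ a).trace := by
  rw [← trace_toLin'_eq, toLin'_rmat]
  rfl

theorem rep_eq_smul_of_rmat {A B : Type*} [Group A] [Group B] {ι : Type*} [Fintype ι]
    [DecidableEq ι] (τ : Representation ℂ A (ι → ℂ)) (ρ : Representation ℂ B (ι → ℂ))
    (a : A) (b : B) (c : ℂ) (h : rmat τ a = c • rmat ρ b) : τ a = c • ρ b := by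
  rw [← toLin'_rmat τ a, h, map_smul, toLin'_rmat]

theorem main_of_cover {Γ Γh : Type u} [Group Γ] [Finite Γ] [Group Γh] [Finite Γh]
    (G N : Subgroup Γ) [hG : G.Normal] [hN : N.Normal] [Fintype G] [Fintype N] (hNG : N ≤ G)
    (hcop : (G.index).Coprime (N.relIndex G)) (k : ℕ) (hsolv : derivedSeries Γ k ≤ G)
    {d : ℕ} (ρ : Representation ℂ N (Fin d → ℂ)) (hρ : ρ.IsIrreducible)
    (hinv : ∀ (x : Γ) (n : N), ρ.character (MulAut.conjNormal x n) = ρ.character n)
    (π : Γh →* Γ) (hπ : Function.Surjective π) (τ : Representation ℂ Γh (Fin d → ℂ))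
    (hτ : ∀ (p : Γh) (n : N),
      rmat τ p * rmat ρ n = rmat ρ (MulAut.conjNormal (π p) n) * rmat τ p)
    (Gh Nh : Subgroup Γh) (hGh : Gh = G.comap π) (hNh : Nh = N.comap π)
    (ω : Nh →* ℂˣ)
    (hω : ∀ (n : Nh) (hn : π n ∈ N),
      rmat τ (n : Γh) = ((ω n : ℂˣ) : ℂ) • rmat ρ ⟨π n, hn⟩) :
    HasInvAbove G N hNG ρ.character := by
  classical
  have hmemG : ∀ x : Γh, x ∈ Gh ↔ π x ∈ G := by
    intro x
    rw [hGh]
    rfl
  have hmemN : ∀ x : Γh, x ∈ Nh ↔ π x ∈ N := by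
    intro x
    rw [hNh]
    rfl
  haveI hGhn : Gh.Normal := by
    rw [hGh]
    exact hG.comap π
  haveI hNhn : Nh.Normal := by
    rw [hNh]
    exact hN.comap π
  have hNGh : Nh ≤ Gh := by
    rw [hGh, hNh]
    exact Subgroup.comap_mono hNG
  haveI : Fintype Gh := Fintype.ofFinite _
  haveI : Fintype Nh := Fintype.ofFinite _
  have hidx : Gh.index = G.index := by
    rw [hGh]
    exact Subgroup.index_comap_of_surjective G hπ
  have hrel : Nh.relIndex Gh = N.relIndex G := by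
    rw [hNh, Subgroup.relIndex_comap, hGh, Subgroup.map_comap_eq_self_of_surjective hπ]
  have hsolvh : derivedSeries Γh k ≤ Gh := by
    rw [hGh, ← Subgroup.map_le_iff_le_comap, map_derivedSeries_eq hπ]
    exact hsolv
  have hd0 := deg_ne_zero N ρ hρ
  have hntd : Nontrivial (Fin d → ℂ) := Cfsg.Agent.Lib.Helper4.nontrivial_of_irreducible ρ hρ
  have hRne : ∀ n : N, rmat ρ n ≠ 0 := fun n =>
    invertible_ne_zero hd0 _ (rmat ρ n⁻¹) (by rw [← rmat_mul, mul_inv_cancel, rmat_one])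
  have hωinv : ∀ (x : Γh) (n n' : Nh), (n' : Γh) = x * n * x⁻¹ → ω n' = ω n := by
    intro x n n' h
    have hn : π n ∈ N := (hmemN _).mp n.2
    have hn' : π n' ∈ N := (hmemN _).mp n'.2
    have h1 : rmat τ (n' : Γh) = rmat τ x * rmat τ n * rmat τ x⁻¹ := by
      rw [h, rmat_mul, rmat_mul]
    have h2 : (⟨π n', hn'⟩ : N) = MulAut.conjNormal (π x) ⟨π n, hn⟩ := by
      apply Subtype.ext
      rw [MulAut.conjNormal_apply]
      show π (n' : Γh) = π x * π n * (π x)⁻¹
      rw [h, map_mul, map_mul, map_inv]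
    rw [hω n' hn', hω n hn, h2, Matrix.mul_smul, hτ x, Matrix.smul_mul, Matrix.mul_assoc,
      ← rmat_mul, mul_inv_cancel, rmat_one, Matrix.mul_one] at h1
    exact Units.ext (smul_left_injective ℂ (hRne (MulAut.conjNormal (π x) ⟨π n, hn⟩)) h1)
  -- the invariant character above `ω⁻¹`
  obtain ⟨β, hβ, hβN, hβinv⟩ := top_solvable_linear Gh Nh hNGh
    (by rw [hidx, hrel]; exact hcop) k hsolvh ω⁻¹ (by
      intro x n n' h
      rw [MonoidHom.inv_apply, MonoidHom.inv_apply, hωinv x n n' h])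
  -- set up Gallagher
  let N' : Subgroup Gh := Nh.subgroupOf Gh
  haveI hN'n : N'.Normal := Subgroup.normal_subgroupOf
  haveI : Fintype N' := Fintype.ofFinite _
  let eN : N' ≃* Nh := Subgroup.subgroupOfEquivOfLe hNGh
  have heN : ∀ n' : N', ((eN n' : Nh) : Γh) = ((n' : Gh) : Γh) := fun _ => rfl
  let πNh : Nh →* N := (π.comp Nh.subtype).codRestrict N (fun n => (hmemN _).mp n.2)
  have hπNh : Function.Surjective πNh := by
    intro n
    obtain ⟨x, hx⟩ := hπ (n : Γ)
    have hxN : x ∈ Nh := by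
      rw [hmemN, hx]
      exact n.2
    exact ⟨⟨x, hxN⟩, Subtype.ext hx⟩
  let πN : N' →* N := πNh.comp eN.toMonoidHom
  have hπN : Function.Surjective πN := hπNh.comp eN.surjective
  have hπNval : ∀ n' : N', ((πN n' : N) : Γ) = π ((n' : Gh) : Γh) := fun _ => rfl
  let φ : N' → ℂ := fun n' => ((ω⁻¹ (eN n') : ℂˣ) : ℂ)
  let ϑ : N' → ℂ := fun n' => τ.character ((n' : Gh) : Γh)
  let χτ : Gh → ℂ := fun g => τ.character (g : Γh)
  have hφ : IsIrrCharacter N' φ := isIrr_of_hom' (ω⁻¹.comp eN.toMonoidHom)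
  have hφϑ : φ * ϑ = ρ.character ∘ πN := by
    funext n'
    show ((ω⁻¹ (eN n') : ℂˣ) : ℂ) * τ.character ((n' : Gh) : Γh) = ρ.character (πN n')
    have hn : π ((eN n' : Nh) : Γh) ∈ N := (hmemN _).mp (eN n').2
    have h1 : (⟨π ((eN n' : Nh) : Γh), hn⟩ : N) = πN n' := rfl
    rw [character_eq_trace_rmat τ, character_eq_trace_rmat ρ, ← heN n', hω (eN n') hn, h1,
      Matrix.trace_smul, smul_eq_mul, ← mul_assoc, ← Units.val_mul, MonoidHom.inv_apply,
      inv_mul_cancel, Units.val_one, one_mul]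
  have hθ' : IsIrrCharacter N' (ρ.character ∘ πN) :=
    Cfsg.Agent.Lib.Helper2.isIrrCharacter_comp_of_surjective ⟨d, ρ, hρ, rfl⟩ πN hπN
  have hprod : IsIrrCharacter N' (φ * ϑ) := by
    rw [hφϑ]
    exact hθ'
  have hφinv : ∀ (g : Gh) (n : N'),
      φ ⟨g * n * g⁻¹, hN'n.conj_mem (n : Gh) n.2 g⟩ = φ n := by
    intro g n
    show ((ω⁻¹ (eN _) : ℂˣ) : ℂ) = ((ω⁻¹ (eN n) : ℂˣ) : ℂ)
    rw [MonoidHom.inv_apply, MonoidHom.inv_apply,
      hωinv (g : Γh) (eN n) (eN ⟨g * n * g⁻¹, hN'n.conj_mem (n : Gh) n.2 g⟩) rfl]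
  have hϑinv : ∀ (g : Gh) (n : N'),
      ϑ ⟨g * n * g⁻¹, hN'n.conj_mem (n : Gh) n.2 g⟩ = ϑ n := by
    intro g n
    show τ.character (((g * n * g⁻¹ : Gh) : Γh)) = τ.character ((n : Gh) : Γh)
    exact Representation.char_conj τ ((n : Gh) : Γh) (g : Γh)
  -- irreducibility of `τ` on `Gh`
  let τG : Representation ℂ Gh (Fin d → ℂ) := MonoidHom.comp τ Gh.subtype
  have hτG : ∀ g : Gh, τG g = τ (g : Γh) := fun _ => rfl
  have hτGirr : τG.IsIrreducible := by
    have := hρ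
    refine { exists_pair_ne := ?_, eq_bot_or_eq_top := ?_ }
    · refine ⟨⊥, ⊤, fun h => ?_⟩
      have h2 : (⊥ : Submodule ℂ (Fin d → ℂ)) = ⊤ := congrArg Subrepresentation.toSubmodule h
      exact bot_ne_top h2
    · intro U
      let Ut : Subrepresentation ρ := ⟨U.toSubmodule, fun n v hv => by
        obtain ⟨x, hx⟩ := hπ (n : Γ)
        have hxN : x ∈ Nh := by
          rw [hmemN, hx]
          exact n.2
        have hxN' : π x ∈ N := (hmemN _).mp hxN
        have h1 := U.apply_mem_toSubmodule (⟨x, hNGh hxN⟩ : Gh) hv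
        rw [hτG] at h1
        have h2 : τ x = ((ω ⟨x, hxN⟩ : ℂˣ) : ℂ) • ρ n := by
          apply rep_eq_smul_of_rmat
          have h3 := hω ⟨x, hxN⟩ hxN'
          have h4 : (⟨π x, hxN'⟩ : N) = n := Subtype.ext hx
          rw [← h4]
          exact h3
        rw [show ((⟨x, hNGh hxN⟩ : Gh) : Γh) = x from rfl, h2, LinearMap.smul_apply] at h1
        have h5 := U.toSubmodule.smul_mem (((ω ⟨x, hxN⟩ : ℂˣ) : ℂ)⁻¹) h1
        rwa [smul_smul, inv_mul_cancel₀ (Units.ne_zero _), one_smul] at h5⟩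
      rcases eq_bot_or_eq_top Ut with h | h
      · left
        apply Subrepresentation.toSubmodule_injective
        show U.toSubmodule = ⊥
        have h2 : Ut.toSubmodule = ⊥ := congrArg Subrepresentation.toSubmodule h
        exact h2
      · right
        apply Subrepresentation.toSubmodule_injective
        show U.toSubmodule = ⊤
        have h2 : Ut.toSubmodule = ⊤ := congrArg Subrepresentation.toSubmodule h
        exact h2
  have hχτ : IsIrrCharacter Gh χτ := ⟨d, τG, hτGirr, rfl⟩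
  have hext : ∀ n : N', χτ n = ϑ n := fun _ => rfl
  obtain ⟨hgal, -, -⟩ := gallagher_gen N' φ ϑ hφ hφinv hϑinv hprod χτ hχτ hext
  -- `β` lies over `φ`
  have hβcl := isClassFunction_of_isIrrCharacter hβ
  have hβφ : classInner (indFun N' φ) β ≠ 0 := by
    rw [classInner_indFun_left' N' φ β hβcl]
    have h1 : φ = (fun n : Nh => ((ω⁻¹ n : ℂˣ) : ℂ)) ∘ eN.toMonoidHom := rfl
    have h2 : β ∘ N'.subtype = (fun n : Nh => β ⟨n, hNGh n.2⟩) ∘ eN.toMonoidHom := rfl
    rw [h1, h2, classInner_comp_surjective eN.toMonoidHom eN.surjective, ← classInner_conj_symm]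
    intro h0
    apply hβN
    have h3 := congrArg conj h0
    rwa [Complex.conj_conj, map_zero] at h3
  obtain ⟨hirr, hcl⟩ := hgal β hβ hβφ
  have hconst : classInner ((β * χτ) ∘ N'.subtype) (ρ.character ∘ πN) ≠ 0 := by
    rw [hφϑ, classInner_indFun_left' N' _ _ (isClassFunction_of_isIrrCharacter hirr)] at hcl
    rw [← classInner_conj_symm, hcl]
    intro h0
    apply hβφ
    have h3 := congrArg conj h0
    rwa [Complex.conj_conj, map_zero] at h3
  -- Clifford
  have hclif := clifford_restrict N' hirr hθ' hconst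
  have himg : Finset.univ.image (conjFunN N' (ρ.character ∘ πN)) = {ρ.character ∘ πN} := by
    have hall : ∀ g : Gh, conjFunN N' (ρ.character ∘ πN) g = ρ.character ∘ πN := by
      intro g
      funext n
      show ρ.character (πN ⟨g * n * g⁻¹, hN'n.conj_mem (n : Gh) n.2 g⟩) = ρ.character (πN n)
      have h1 : πN ⟨g * n * g⁻¹, hN'n.conj_mem (n : Gh) n.2 g⟩ =
          MulAut.conjNormal (π (g : Γh)) (πN n) := by
        apply Subtype.ext
        rw [MulAut.conjNormal_apply, hπNval, hπNval]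
        show π ((g : Γh) * ((n : Gh) : Γh) * (g : Γh)⁻¹) = _
        rw [map_mul, map_mul, map_inv]
      rw [h1, hinv]
    ext ψ
    simp only [Finset.mem_image, Finset.mem_univ, true_and, Finset.mem_singleton]
    constructor
    · rintro ⟨g, rfl⟩
      exact hall g
    · rintro rfl
      exact ⟨1, hall 1⟩
  rw [himg, Finset.sum_singleton] at hclif
  -- deflate
  let πG : Gh →* G := (π.comp Gh.subtype).codRestrict G (fun g => (hmemG _).mp g.2)
  have hπG : Function.Surjective πG := by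
    intro g
    obtain ⟨x, hx⟩ := hπ (g : Γ)
    have hxG : x ∈ Gh := by
      rw [hmemG, hx]
      exact g.2
    exact ⟨⟨x, hxG⟩, Subtype.ext hx⟩
  have hπGval : ∀ g : Gh, ((πG g : G) : Γ) = π (g : Γh) := fun _ => rfl
  have hval : ∀ n' : N', (β * χτ) (n' : Gh) =
      classInner ((β * χτ) ∘ N'.subtype) (ρ.character ∘ πN) * ρ.character (πN n') := by
    intro n'
    have h1 := congrFun hclif n'
    exact h1
  obtain ⟨ψ, hψ⟩ := exists_deflate_of_surjective πG hπG ⟨β * χτ, hirr⟩ (by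
    intro z hz
    have hz1 : π (z : Γh) = 1 := by
      have h1 := MonoidHom.mem_ker.mp hz
      rw [← hπGval, h1]
      rfl
    have hzN : z ∈ N' := by
      rw [Subgroup.mem_subgroupOf, hmemN, hz1]
      exact N.one_mem
    show (β * χτ) z = (β * χτ) 1
    have h2 := hval ⟨z, hzN⟩
    have h3 := hval 1
    have h4 : πN ⟨z, hzN⟩ = πN 1 := by
      apply Subtype.ext
      rw [hπNval, hπNval]
      show π (z : Γh) = π ((1 : Gh) : Γh)
      rw [hz1]
      simp
    rw [h4, ← h3] at h2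
    exact h2)
  have hψ' : ∀ g : Gh, (ψ : G → ℂ) (πG g) = (β * χτ) g := hψ
  refine ⟨ψ, ψ.2, ?_, ?_⟩
  · have h1 : (fun n : N => (ψ : G → ℂ) ⟨n, hNG n.2⟩) ∘ πN = (β * χτ) ∘ N'.subtype := by
      funext n'
      show (ψ : G → ℂ) ⟨πN n', hNG (πN n').2⟩ = (β * χτ) (n' : Gh)
      rw [← hψ']
      congr 1
    rw [← classInner_comp_surjective πN hπN, h1]
    exact hconst
  · intro x g g' hg'
    obtain ⟨xh, rfl⟩ := hπ x
    obtain ⟨gh, rfl⟩ := hπG g
    have hmem : xh * (gh : Γh) * xh⁻¹ ∈ Gh := hGhn.conj_mem _ gh.2 xh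
    have h1 : g' = πG ⟨xh * (gh : Γh) * xh⁻¹, hmem⟩ := by
      apply Subtype.ext
      rw [hg', hπGval, hπGval]
      show _ = π (xh * (gh : Γh) * xh⁻¹)
      rw [map_mul, map_mul, map_inv]
    rw [h1, hψ', hψ']
    show β ⟨xh * (gh : Γh) * xh⁻¹, hmem⟩ * τ.character (xh * (gh : Γh) * xh⁻¹) =
      β gh * τ.character (gh : Γh)
    rw [hβinv xh gh ⟨xh * (gh : Γh) * xh⁻¹, hmem⟩ rfl, Representation.char_conj]

theorem top_solvable {Γ : Type u} [Group Γ] [Finite Γ] (G N : Subgroup Γ) [hG : G.Normal]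
    [hN : N.Normal] [Fintype G] [Fintype N] (hNG : N ≤ G)
    (hcop : (G.index).Coprime (N.relIndex G)) (k : ℕ) (hsolv : derivedSeries Γ k ≤ G)
    (θ : N → ℂ) (hθ : IsIrrCharacter N θ)
    (hinv : ∀ (x : Γ) (n n' : N), (n' : Γ) = x * n * x⁻¹ → θ n' = θ n) :
    HasInvAbove G N hNG θ := by
  obtain ⟨d, ρ, hρ, rfl⟩ := hθ
  have hinv' : ∀ (x : Γ) (n : N), ρ.character (MulAut.conjNormal x n) = ρ.character n :=
    fun x n => hinv x n _ (MulAut.conjNormal_apply x n)
  haveI := finite_coverSub N ρ hρ hinv'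
  obtain ⟨ω, hω⟩ := exists_omega N ρ hρ
  exact main_of_cover G N hNG hcop k hsolv ρ hρ hinv' (coverProj N ρ)
    (coverProj_surjective N ρ hρ hinv') (coverRep N ρ) (rmat_coverRep_mul N ρ)
    (G.comap (coverProj N ρ)) (N.comap (coverProj N ρ)) rfl rfl ω (fun n _ => hω n)

end Cfsg.Agent.Lib.Helper7.InvAbove
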