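import Mathlib
import Cfsg.Prelude.Def_Characters
import Cfsg.Agent.Lib.Helper7.ExtDet
import Cfsg.Agent.S4493

/-!
# Restriction of characters of `p'`-degree to normal subgroups of `p`-power index (helper7)
-/

set_option autoImplicit false

namespace Cfsg.Agent.Lib.Helper7
open Cfsg Cfsg.Agent.Lib.Helper26 Cfsg.Agent.Lib.Helper2
open scoped ComplexConjugate

/-- an irreducible character lying over an invariant irreducible character of a normal subgroup
of prime index restricts to it -/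
theorem restrict_prime_index {G : Type*} [Group G] [Fintype G] (N : Subgroup G) [hN : N.Normal]
    [Fintype N] (hp : N.index.Prime) (θ : N → ℂ) (hθ : IsIrrCharacter N θ)
    (hinv : ∀ (g : G) (n : N), θ ⟨g * n * g⁻¹, hN.conj_mem (n : G) n.2 g⟩ = θ n)
    (χ : G → ℂ) (hχ : IsIrrCharacter G χ) (hcon : classInner (fun n : N => χ n) θ ≠ 0) :
    ∀ n : N, χ n = θ n := by
  classical
  have hT : ∀ g : G, g ∈ (⊤ : Subgroup G) ↔
      ∀ h : N, θ ⟨g * h * g⁻¹, hN.conj_mem h h.2 g⟩ = θ h :=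
    fun g => ⟨fun _ h => hinv g h, fun _ => Subgroup.mem_top g⟩
  have hcomm : ∀ a b : G ⧸ N, a * b = b * a := by
    haveI : Fact (Nat.card (G ⧸ N)).Prime := ⟨by rwa [← Subgroup.index_eq_card]⟩
    haveI := isCyclic_of_prime_card (α := G ⧸ N) rfl
    exact fun a b => Std.Commutative.comm a b
  have hab : ∀ x ∈ (⊤ : Subgroup G), ∀ y ∈ (⊤ : Subgroup G), x * y * x⁻¹ * y⁻¹ ∈ N := by
    intro x _ y _
    rw [← QuotientGroup.eq_one_iff]
    simp only [QuotientGroup.mk_mul, QuotientGroup.mk_inv]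
    rw [hcomm (x : G ⧸ N) (y : G ⧸ N)]
    group
  obtain ⟨e, C, he, hC, hcard, hind, hdeg⟩ := Cfsg.Agent.S1490.result N ⊤ θ hθ hT hab
  have hcardtop : Nat.card (⊤ : Subgroup G) = N.index * Nat.card N := by
    rw [Subgroup.card_top, N.index_mul_card]
  rw [hcardtop] at hcard
  have hcard2 : e ^ 2 * C.card = N.index :=
    Nat.eq_of_mul_eq_mul_right Nat.card_pos hcard
  have he1 : e = 1 := by
    have hdvd : e ∣ N.index := ⟨e * C.card, by rw [← hcard2]; ring⟩
    rcases (Nat.dvd_prime hp).mp hdvd with h | h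
    · exact h
    · exfalso
      have h2 : N.index * (N.index * C.card) = N.index * 1 := by
        rw [mul_one]; nth_rewrite 3 [← hcard2]; rw [h]; ring
      have h3 := Nat.eq_of_mul_eq_mul_left hp.pos h2
      have h4 : N.index = 1 := Nat.eq_one_of_mul_eq_one_right h3
      exact hp.one_lt.ne' h4
  subst he1
  obtain ⟨m, hm1, hm2⟩ := Cfsg.Agent.S0900.ind_coeff N θ (isCharacter_of_isIrrCharacter hθ) χ
    (isCharacter_of_isIrrCharacter hχ)
  have hχC : χ ∈ C := by
    by_contra hnot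
    apply hcon
    rw [hm2, ← hm1, hind]
    simp only [Nat.cast_one, one_smul]
    rw [classInner_sum_left]
    refine Finset.sum_eq_zero fun ψ hψ => ?_
    rw [classInner_irr (hC ψ hψ) hχ, if_neg]
    rintro rfl
    exact hnot hψ
  have hχ1 : χ 1 = θ 1 := by
    rw [hdeg χ hχC, Subgroup.index_top]; simp
  obtain ⟨e', he', hres⟩ := Cfsg.Agent.S0900.clifford_inv N χ hχ θ hθ hcon hinv
  obtain ⟨d, hd, hd1⟩ := irr_degree hθ
  have h1 := congrFun hres 1
  simp only [Pi.smul_apply, smul_eq_mul, Subgroup.coe_one] at h1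
  rw [hχ1, hd1] at h1
  have hd0 : (d : ℂ) ≠ 0 := by exact_mod_cast hd.ne'
  have he'1 : (e' : ℂ) = 1 := by
    have : (1 : ℂ) * d = e' * d := by rw [one_mul]; exact h1
    exact (mul_right_cancel₀ hd0 this).symm
  intro n
  have := congrFun hres n
  simp only [Pi.smul_apply, smul_eq_mul] at this
  rw [this, he'1, one_mul]

/-- uniqueness of the extension with determinantal order prime to `p` (quotient a `p`-group,
degree prime to `p`) -/
theorem ext_pprime_unique {G : Type*} [Group G] [Fintype G] (p : ℕ) (hp : p.Prime)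
    (N : Subgroup G) [hN : N.Normal] (k : ℕ) (hidx : N.index = p ^ k) (ϑ : N → ℂ)
    (hϑ : IsIrrCharacter N ϑ) (d : ℕ) (hd : ϑ 1 = d) (hpd : ¬ p ∣ d) (χ₁ χ₂ : G → ℂ)
    (h₁ : IsIrrCharacter G χ₁) (h₂ : IsIrrCharacter G χ₂)
    (he₁ : ∀ n : N, χ₁ n = ϑ n) (he₂ : ∀ n : N, χ₂ n = ϑ n)
    (ho₁ : ¬ p ∣ detOrder χ₁) (ho₂ : ¬ p ∣ detOrder χ₂) : χ₁ = χ₂ := by
  obtain ⟨β, hβN, hβ⟩ := ext_twist N ϑ hϑ χ₁ χ₂ h₁ h₂ he₁ he₂
  have h₁c := isCharacter_of_isIrrCharacter h₁
  have h₂c := isCharacter_of_isIrrCharacter h₂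
  obtain ⟨δ₁, hδ₁, hδ₁o⟩ := detHom_of_irr h₁c
  obtain ⟨δ₂, hδ₂, hδ₂o⟩ := detHom_of_irr h₂c
  have hχ₁1 : χ₁ 1 = d := by
    have := he₁ 1
    rw [Subgroup.coe_one] at this
    rw [this, hd]
  have hβi : β ^ N.index = 1 := pow_index_eq_one N β hβN
  have hcopp : ∀ o : ℕ, ¬ p ∣ o → Nat.Coprime o (p ^ k) := fun o ho =>
    Nat.Coprime.pow_right k ((Nat.Prime.coprime_iff_not_dvd hp).mpr ho).symm
  have hβ1 : ∀ g, β g = 1 := by
    intro g
    have hdet : ((δ₂ g : ℂˣ) : ℂ) = ((β g : ℂˣ) : ℂ) ^ d * ((δ₁ g : ℂˣ) : ℂ) := by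
      rw [← hδ₂, ← hδ₁, hβ]
      exact detChar_twist β h₁c d hχ₁1 g
    have hdet' : δ₂ g = (β g) ^ d * δ₁ g := by
      apply Units.ext
      rw [Units.val_mul, Units.val_pow_eq_pow_val]
      exact hdet
    have hbd : (β g) ^ d = δ₂ g * (δ₁ g)⁻¹ := by
      rw [hdet', mul_inv_cancel_right]
    have ho1 : (δ₁ g) ^ (orderOf δ₁) = 1 := by
      have := DFunLike.congr_fun (pow_orderOf_eq_one δ₁) g
      exact this
    have ho2 : (δ₂ g) ^ (orderOf δ₂) = 1 := by
      have := DFunLike.congr_fun (pow_orderOf_eq_one δ₂) g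
      exact this
    have hpk : (β g) ^ (p ^ k) = 1 := by
      have := DFunLike.congr_fun hβi g
      rw [hidx] at this
      exact this
    have h1 : ((β g) ^ d) ^ (orderOf δ₁ * orderOf δ₂) = 1 := by
      rw [hbd, mul_pow, inv_pow, mul_comm (orderOf δ₁) (orderOf δ₂), pow_mul, ho2, one_pow,
        mul_comm (orderOf δ₂) (orderOf δ₁), pow_mul, ho1, one_pow, inv_one, mul_one]
    have h2 : ((β g) ^ d) ^ (p ^ k) = 1 := by
      rw [← pow_mul, mul_comm, pow_mul, hpk, one_pow]
    have hcop1 : Nat.Coprime (orderOf δ₁ * orderOf δ₂) (p ^ k) := by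
      apply hcopp
      rw [hδ₁o, hδ₂o]
      intro hdvd
      rcases (Nat.Prime.dvd_mul hp).mp hdvd with h | h
      · exact ho₁ h
      · exact ho₂ h
    have h3 : (β g) ^ d = 1 := by
      have hd1 := orderOf_dvd_of_pow_eq_one h1
      have hd2 := orderOf_dvd_of_pow_eq_one h2
      have hd3 := Nat.dvd_gcd hd1 hd2
      rw [hcop1] at hd3
      exact orderOf_eq_one_iff.mp (Nat.dvd_one.mp hd3)
    have hd1 := orderOf_dvd_of_pow_eq_one h3
    have hd2 := orderOf_dvd_of_pow_eq_one hpk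
    have hd3 := Nat.dvd_gcd hd1 hd2
    rw [hcopp d hpd] at hd3
    exact orderOf_eq_one_iff.mp (Nat.dvd_one.mp hd3)
  rw [hβ]
  funext g
  rw [hβ1 g]
  simp

section
universe u

theorem restrict_irr_pgroup_aux (p : ℕ) (hp : p.Prime) : ∀ (k : ℕ) (G : Type u) [Group G]
    [Fintype G] (N : Subgroup G) [hN : N.Normal], N.index = p ^ k → ∀ χ : G → ℂ,
    IsIrrCharacter G χ → ∀ c : ℕ, χ 1 = c → ¬ p ∣ c → IsIrrCharacter N (fun n : N => χ n) := by
  intro k
  induction k with
  | zero =>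
    intro G _ _ N hN hidx χ hχ c hc hpc
    rw [pow_zero, Subgroup.index_eq_one] at hidx
    have hmem : ∀ g : G, g ∈ N := fun g => by rw [hidx]; exact Subgroup.mem_top g
    let e : N ≃* G :=
      { toFun := fun n => n
        invFun := fun g => ⟨g, hmem g⟩
        left_inv := fun _ => rfl
        right_inv := fun _ => rfl
        map_mul' := fun _ _ => rfl }
    exact isIrrCharacter_comp_mulEquiv hχ e
  | succ k ih =>
    intro G _ _ N hN hidx χ hχ c hc hpc
    classical
    haveI : Fact p.Prime := ⟨hp⟩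
    have htop : N ≠ ⊤ := by
      intro h
      rw [h, Subgroup.index_top] at hidx
      have : p ∣ 1 := by rw [hidx]; exact dvd_pow_self p (Nat.succ_ne_zero k)
      exact hp.one_lt.ne' (Nat.dvd_one.mp this)
    have hsolv : Group.IsSolvable (G ⧸ N) := by
      have hQ : IsPGroup p (G ⧸ N) := IsPGroup.of_card (n := k + 1) (by
        rw [← Subgroup.index_eq_card]; exact hidx)
      haveI := hQ.isNilpotent
      infer_instance
    obtain ⟨M, hMn, hNM, hMp⟩ := exists_normal_prime_index N htop hsolv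
    haveI := hMn
    haveI : Fintype M := Fintype.ofFinite _
    haveI hN'n : (N.subgroupOf M).Normal := Subgroup.normal_subgroupOf
    have hrel : (N.subgroupOf M).index * M.index = N.index :=
      Subgroup.relIndex_mul_index hNM
    have hMidx : M.index = p := by
      have h1 : M.index ∣ p ^ (k + 1) := by rw [← hidx, ← hrel]; exact dvd_mul_left _ _
      exact (Nat.prime_dvd_prime_iff_eq hMp hp).mp (hMp.dvd_of_dvd_pow h1)
    have hN'idx : (N.subgroupOf M).index = p ^ k := by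
      rw [hidx, hMidx, pow_succ] at hrel
      exact Nat.eq_of_mul_eq_mul_right hp.pos hrel
    -- constituent of χ_M
    have hχc := isCharacter_of_isIrrCharacter hχ
    have hresc : IsCharacter M (fun m : M => χ m) := isCharacter_comp_hom hχc M.subtype
    have hres1 : (fun m : M => χ m) 1 ≠ 0 := by
      show χ ((1 : M) : G) ≠ 0
      rw [Subgroup.coe_one, hc]
      intro h0
      have : c = 0 := by exact_mod_cast h0
      exact hpc (by rw [this]; exact dvd_zero p)
    obtain ⟨μ, hμ⟩ := exists_constituent hresc hres1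
    obtain ⟨θ, hθ⟩ := μ
    simp only at hμ
    have hθinv : ∀ (x : G) (m : M), θ ⟨x * m * x⁻¹, hMn.conj_mem (m : G) m.2 x⟩ = θ m := by
      by_contra hx
      obtain ⟨d, hd⟩ := Cfsg.Agent.S4493.p_dvd_of_not_invariant M p hp 1
        (by rw [pow_one]; exact hMidx) θ hθ hx χ hχ hμ
      rw [hc] at hd
      have : c = p * d := by exact_mod_cast hd
      exact hpc ⟨d, this⟩
    have hχM := restrict_prime_index M hMp θ hθ hθinv χ hχ hμ
    have hθ1 : θ 1 = c := by
      rw [← hχM 1, Subgroup.coe_one, hc]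
    have hIH := ih M (N.subgroupOf M) hN'idx θ hθ c hθ1 hpc
    let eN : N.subgroupOf M ≃* N := Subgroup.subgroupOfEquivOfLe hNM
    have := isIrrCharacter_comp_mulEquiv hIH eN.symm
    convert this using 1
    funext n
    show χ n = θ ((eN.symm n : N.subgroupOf M) : M)
    rw [← hχM]
    rfl

theorem restrict_irr_pgroup {G : Type u} [Group G] [Fintype G] (p : ℕ) (hp : p.Prime)
    (N : Subgroup G) [hN : N.Normal] (k : ℕ) (hidx : N.index = p ^ k) (χ : G → ℂ)
    (hχ : IsIrrCharacter G χ) (c : ℕ) (hc : χ 1 = c) (hpc : ¬ p ∣ c) :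
    IsIrrCharacter N (fun n : N => χ n) :=
  restrict_irr_pgroup_aux p hp k G N hidx χ hχ c hc hpc

end

end Cfsg.Agent.Lib.Helper7
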