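import Mathlib
import Cfsg.Prelude
import Cfsg.Agent.Lib.Helper28.SectionE
import Cfsg.Agent.Lib.Helper28.SectionH

set_option autoImplicit false
open Cfsg

/-! Klein four Sylow 2-subgroups: 2-elements and 2-singular elements. -/

namespace Cfsg.Agent.Lib.Helper7.KF

variable {G : Type*} [Group G]

theorem isKleinFour_of (P : Subgroup G) (hP : Nat.card P = 4) (hsq : ∀ x ∈ P, x * x = 1) :
    IsKleinFour P := by
  haveI : Finite P := Nat.finite_of_card_ne_zero (by omega)
  have hnt : Nontrivial P := by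
    rw [← Finite.one_lt_card_iff_nontrivial, hP]
    norm_num
  refine ⟨hP, ?_⟩
  rw [Monoid.exponent_eq_prime_iff Nat.prime_two]
  intro g hg
  apply orderOf_eq_prime
  · rw [pow_two]; exact Subtype.ext (hsq g g.2)
  · exact hg

variable [Finite G]

/-- a `2`-element of a group with an exponent two Sylow `2`-subgroup squares to one -/
theorem two_element_sq (P : Sylow 2 G) (hsq : ∀ x ∈ (P : Subgroup G), x * x = 1) (w : G)
    (hw : ∃ k : ℕ, orderOf w = 2 ^ k) : w * w = 1 := by
  haveI : Fact (Nat.Prime 2) := ⟨Nat.prime_two⟩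
  obtain ⟨k, hk⟩ := hw
  have hp : IsPGroup 2 (Subgroup.zpowers w) := by
    apply IsPGroup.of_card (n := k); rw [Nat.card_zpowers, hk]
  obtain ⟨P', hP'⟩ := hp.exists_le_sylow
  obtain ⟨g, hg⟩ := MulAction.exists_smul_eq G P P'
  have hx' : w ∈ ((g • P : Sylow 2 G) : Subgroup G) := by
    rw [hg]; exact hP' (Subgroup.mem_zpowers w)
  rw [Sylow.coe_subgroup_smul, Subgroup.mem_pointwise_smul_iff_inv_smul_mem] at hx'
  rw [MulAut.smul_def, ← map_inv, MulAut.conj_apply, inv_inv] at hx'
  have h1 := hsq _ hx'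
  have h2 : w * w = g * ((g⁻¹ * w * g) * (g⁻¹ * w * g)) * g⁻¹ := by group
  rw [h2, h1]; group

/-- the `2`-singular elements are those whose `2`-part is conjugate to the involution `z` -/
theorem singular_iff (P : Sylow 2 G) (hsq : ∀ x ∈ (P : Subgroup G), x * x = 1) (z : G)
    (hz : orderOf z = 2)
    (hone : ∀ s t : G, orderOf s = 2 → orderOf t = 2 → IsConj s t) (g : G) :
    2 ∣ orderOf g ↔ IsConj (Cfsg.Agent.Lib.Helper28.pPartOf Nat.prime_two g) z := by
  have hpp := Cfsg.Agent.Lib.Helper28.isPPart_pPartOf Nat.prime_two g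
  constructor
  · intro h2
    obtain ⟨y, hxy, -, hk, hy⟩ := hpp
    have hx1 : Cfsg.Agent.Lib.Helper28.pPartOf Nat.prime_two g ≠ 1 := by
      intro h1
      rw [h1, one_mul] at hxy
      rw [hxy] at hy
      exact hy h2
    have hsq' := two_element_sq P hsq _ hk
    apply hone _ _ _ hz
    exact orderOf_eq_prime (by rw [pow_two]; exact hsq') hx1
  · intro hc
    obtain ⟨t, ht⟩ := isConj_iff.mp hc
    have ho : orderOf (Cfsg.Agent.Lib.Helper28.pPartOf Nat.prime_two g) = 2 := by
      have h1 := (MulAut.conj t).orderOf_eq (Cfsg.Agent.Lib.Helper28.pPartOf Nat.prime_two g)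
      rw [MulAut.conj_apply, ht, hz] at h1
      exact h1.symm
    obtain ⟨n, hn⟩ := Cfsg.Agent.Lib.Helper28.isPPart_eq_pow Nat.prime_two hpp
    rw [← ho, hn]
    exact orderOf_pow_dvd n

end Cfsg.Agent.Lib.Helper7.KF
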