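import Mathlib
import Cfsg.Prelude
import Cfsg.Agent.Lib.Helper2.NilpotentCoprime

set_option autoImplicit false
open Cfsg

/-! Klein four Sylow 2-subgroups: the centralizer of an involution has a normal 2-complement. -/

namespace Cfsg.Agent.Lib.Helper7.KF

/-- in a group with a central involution `z` and a Klein four Sylow 2-subgroup `Q`,
`N(Q) = C(Q)` -/
theorem normalizer_le_centralizer {H : Type*} [Group H] [Finite H] (Q : Sylow 2 H)
    [IsKleinFour (Q : Subgroup H)] (z : H) (hzQ : z ∈ (Q : Subgroup H)) (hz1 : z ≠ 1)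
    (hzc : ∀ g : H, g * z = z * g) :
    Subgroup.normalizer ((Q : Subgroup H) : Set H) ≤
      Subgroup.centralizer ((Q : Subgroup H) : Set H) := by
  classical
  haveI : Fact (Nat.Prime 2) := ⟨Nat.prime_two⟩
  intro g hg
  have hsq : ∀ x ∈ (Q : Subgroup H), x * x = 1 := by
    intro x hx
    have := IsKleinFour.mul_self (⟨x, hx⟩ : (Q : Subgroup H))
    exact congrArg Subtype.val this
  have hinvQ : ∀ x ∈ (Q : Subgroup H), x⁻¹ = x := fun x hx =>
    inv_eq_of_mul_eq_one_left (hsq x hx)
  have hcommQ : ∀ x ∈ (Q : Subgroup H), ∀ y ∈ (Q : Subgroup H), x * y = y * x := by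
    intro x hx y hy
    rw [← hinvQ (x * y) (mul_mem hx hy), mul_inv_rev, hinvQ x hx, hinvQ y hy]
  obtain ⟨a, b, ha, hb, hgab, ⟨k, hak⟩, hbcop⟩ :=
    Cfsg.Agent.Lib.Helper2.exists_p_decomp g 2 Nat.prime_two
  have hzle : Subgroup.zpowers g ≤ Subgroup.normalizer ((Q : Subgroup H) : Set H) :=
    Subgroup.zpowers_le.mpr hg
  have haN := hzle ha
  have hbN := hzle hb
  have haQ : a ∈ (Q : Subgroup H) := by
    have hpa : IsPGroup 2 (Subgroup.zpowers a) := by
      obtain ⟨m, -, hm⟩ := (Nat.dvd_prime_pow Nat.prime_two).mp hak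
      apply IsPGroup.of_card (n := m); rw [Nat.card_zpowers, hm]
    have hsup : IsPGroup 2 (Subgroup.zpowers a ⊔ (Q : Subgroup H) : Subgroup H) :=
      IsPGroup.to_sup_of_normal_right' hpa Q.isPGroup' (Subgroup.zpowers_le.mpr haN)
    have := Q.is_maximal' hsup le_sup_right
    rw [← this]; exact Subgroup.mem_sup_left (Subgroup.mem_zpowers a)
  have hbconj : ∀ x ∈ (Q : Subgroup H), b * x * b⁻¹ ∈ (Q : Subgroup H) := fun x hx =>
    (Subgroup.mem_normalizer_iff.mp hbN x).mp hx
  have hbz : b * z * b⁻¹ = z := by rw [hzc b, mul_assoc, mul_inv_cancel, mul_one]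
  -- `b * b` commutes with `Q`
  have hb2 : ∀ x ∈ (Q : Subgroup H), (b * b) * x * (b * b)⁻¹ = x := by
    intro x hx
    by_cases hx1 : x = 1
    · rw [hx1]; group
    by_cases hxz : x = z
    · rw [hxz, mul_inv_rev]
      calc b * b * z * (b⁻¹ * b⁻¹) = b * (b * z * b⁻¹) * b⁻¹ := by group
        _ = z := by rw [hbz, hbz]
    -- the four elements
    obtain ⟨y, hy⟩ : ∃ y : H, y = b * x * b⁻¹ := ⟨_, rfl⟩
    have hyQ : y ∈ (Q : Subgroup H) := hy ▸ hbconj x hx
    have hy1 : y ≠ 1 := by
      intro h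
      apply hx1
      rw [hy] at h
      have : x = b⁻¹ * (b * x * b⁻¹) * b := by group
      rw [this, h]; group
    have hyz : y ≠ z := by
      intro h
      apply hxz
      rw [hy] at h
      have : x = b⁻¹ * (b * x * b⁻¹) * b := by group
      rw [this, h]
      calc b⁻¹ * z * b = b⁻¹ * (b * z * b⁻¹) * b := by rw [hbz]
        _ = z := by group
    haveI : Fintype (Q : Subgroup H) := Fintype.ofFinite _
    have huniv := IsKleinFour.eq_finset_univ (G := (Q : Subgroup H))
      (x := ⟨x, hx⟩) (y := ⟨z, hzQ⟩) (fun h => hx1 (congrArg Subtype.val h))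
      (fun h => hz1 (congrArg Subtype.val h)) (fun h => hxz (congrArg Subtype.val h))
    have hmem : (⟨y, hyQ⟩ : (Q : Subgroup H)) ∈
        ({⟨x, hx⟩ * ⟨z, hzQ⟩, ⟨x, hx⟩, ⟨z, hzQ⟩, 1} : Finset (Q : Subgroup H)) := by
      rw [huniv]; exact Finset.mem_univ _
    simp only [Finset.mem_insert, Finset.mem_singleton] at hmem
    have hcases : y = x * z ∨ y = x := by
      rcases hmem with h | h | h | h
      · left; exact congrArg Subtype.val h
      · right; exact congrArg Subtype.val h
      · exact absurd (congrArg Subtype.val h) hyz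
      · exact absurd (congrArg Subtype.val h) hy1
    have hstep : (b * b) * x * (b * b)⁻¹ = b * y * b⁻¹ := by rw [hy]; group
    rw [hstep]
    rcases hcases with h | h
    · rw [h]
      calc b * (x * z) * b⁻¹ = (b * x * b⁻¹) * (b * z * b⁻¹) := by group
        _ = x * z * z := by rw [← hy, h, hbz]
        _ = x := by rw [mul_assoc, hsq z hzQ, mul_one]
    · rw [h, ← hy, h]
  -- `b` commutes with `Q`
  have hbodd : Odd (orderOf b) := Nat.coprime_two_right.mp hbcop
  have hbc : ∀ x ∈ (Q : Subgroup H), b * x = x * b := by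
    intro x hx
    obtain ⟨j, hj⟩ := hbodd
    have hbpow : b = (b * b) ^ (j + 1) := by
      have h1 : b ^ (2 * j + 1) = 1 := by rw [← hj]; exact pow_orderOf_eq_one b
      calc b = b ^ (2 * j + 1) * b := by rw [h1, one_mul]
        _ = (b * b) ^ (j + 1) := by rw [← pow_two, ← pow_mul, ← pow_succ]; congr 1
    have hc : Commute (b * b) x := by
      have := hb2 x hx
      show b * b * x = x * (b * b)
      calc b * b * x = (b * b * x * (b * b)⁻¹) * (b * b) := by group
        _ = x * (b * b) := by rw [this]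
    have := (hc.pow_left (j + 1)).eq
    rw [← hbpow] at this
    exact this
  rw [Subgroup.mem_centralizer_iff]
  intro x hx
  rw [hgab, ← mul_assoc, hcommQ x hx a haQ, mul_assoc, ← hbc x hx, mul_assoc]

end Cfsg.Agent.Lib.Helper7.KF
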