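import Mathlib
import Cfsg.Prelude
import Cfsg.Agent.Lib.Helper7.KFA
import Cfsg.Agent.Lib.Helper28.SectionG
import Cfsg.Agent.Lib.Helper28.GreenVanJ
import Cfsg.Agent.Lib.Helper4.Deflate
import Cfsg.Agent.Lib.Helper20.Cores
import Cfsg.Agent.Lib.Helper26.CharBasic

set_option autoImplicit false
open Cfsg

/-! Klein four Sylow 2-subgroups: the column of the principal block at an involution. -/

namespace Cfsg.Agent.Lib.Helper7.KF

open scoped ComplexConjugate

section complement

variable {G : Type*} [Group G] [Finite G]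

theorem klein_comm (P : Subgroup G) [IsKleinFour P] (x y : G) (hx : x ∈ P) (hy : y ∈ P) :
    x * y = y * x := by
  have hsq : ∀ x ∈ P, x * x = 1 := by
    intro x hx
    have := IsKleinFour.mul_self (⟨x, hx⟩ : P)
    exact congrArg Subtype.val this
  have hinvQ : ∀ x ∈ P, x⁻¹ = x := fun x hx => inv_eq_of_mul_eq_one_left (hsq x hx)
  rw [← hinvQ (x * y) (mul_mem hx hy), mul_inv_rev, hinvQ x hx, hinvQ y hy]

/-- the centralizer of an involution of a Klein four Sylow subgroup has a normal `2`-complement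
of index four -/
theorem centralizer_complement (P : Sylow 2 G) [IsKleinFour (P : Subgroup G)] (z : G)
    (hzP : z ∈ (P : Subgroup G)) (hz1 : z ≠ 1) :
    ∃ K : Subgroup (Subgroup.centralizer ({z} : Set G)), K.Normal ∧ K.index = 4 ∧
      (Nat.card K).Coprime 2 := by
  classical
  haveI : Fact (Nat.Prime 2) := ⟨Nat.prime_two⟩
  have hle : (P : Subgroup G) ≤ Subgroup.centralizer ({z} : Set G) := by
    intro x hx
    rw [Subgroup.mem_centralizer_iff]
    intro h hh
    rw [Set.mem_singleton_iff.mp hh]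
    exact klein_comm (P : Subgroup G) z x hzP hx
  obtain ⟨Q, hQ⟩ : ∃ Q : Sylow 2 (Subgroup.centralizer ({z} : Set G)),
      (Q : Subgroup (Subgroup.centralizer ({z} : Set G))) =
        (P : Subgroup G).subgroupOf (Subgroup.centralizer ({z} : Set G)) :=
    ⟨P.subtype hle, Sylow.coe_subtype P hle⟩
  have e : (Q : Subgroup (Subgroup.centralizer ({z} : Set G))) ≃* (P : Subgroup G) :=
    (MulEquiv.subgroupCongr hQ).trans (Subgroup.subgroupOfEquivOfLe hle)
  haveI : IsKleinFour (Q : Subgroup (Subgroup.centralizer ({z} : Set G))) :=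
    ⟨by rw [Nat.card_congr e.toEquiv]; exact IsKleinFour.card_four,
     by rw [Monoid.exponent_eq_of_mulEquiv e]; exact IsKleinFour.exponent_two⟩
  have hzC : z ∈ Subgroup.centralizer ({z} : Set G) := hle hzP
  have hzQ : (⟨z, hzC⟩ : Subgroup.centralizer ({z} : Set G)) ∈
      (Q : Subgroup (Subgroup.centralizer ({z} : Set G))) := by
    rw [hQ, Subgroup.mem_subgroupOf]; exact hzP
  have hNC := normalizer_le_centralizer Q ⟨z, hzC⟩ hzQ
    (fun h => hz1 (congrArg Subtype.val h)) (fun g => by
      apply Subtype.ext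
      rw [Subgroup.coe_mul, Subgroup.coe_mul]
      exact (Subgroup.mem_centralizer_iff.mp g.2 z (Set.mem_singleton z)).symm)
  have hc := MonoidHom.ker_transferSylow_isComplement' Q hNC
  refine ⟨(MonoidHom.transferSylow Q hNC).ker, inferInstance, ?_, ?_⟩
  · rw [hc.symm.index_eq_card]
    exact IsKleinFour.card_four
  · have := MonoidHom.not_dvd_card_ker_transferSylow Q hNC
    exact Nat.Coprime.symm ((Nat.Prime.coprime_iff_not_dvd Nat.prime_two).mpr this)

end complement

section column

variable {G : Type*} [Group G] [Fintype G] {M : Ideal AlgInt}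

open scoped Classical in
/-- the norm of the column of the principal block at an involution is at most `4` -/
theorem column_bound (hM : IsPModular 2 M) (P : Sylow 2 G) [IsKleinFour (P : Subgroup G)]
    (z : G) (hzP : z ∈ (P : Subgroup G)) (hz : orderOf z = 2) [Fintype (IrrCharacter G)] :
    ∃ m : ℕ, m ≤ 4 ∧ ∑ χ : IrrCharacter G, (if χ ∈ principalBlock M G then
        (χ : G → ℂ) z * conj ((χ : G → ℂ) z) else 0) = (m : ℂ) := by
  haveI : Fact (Nat.Prime 2) := ⟨Nat.prime_two⟩
  haveI : Fintype (Subgroup.centralizer ({z} : Set G)) := Fintype.ofFinite _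
  haveI : Fintype (IrrCharacter (Subgroup.centralizer ({z} : Set G))) := Fintype.ofFinite _
  have hz1 : z ≠ 1 := by
    intro h; rw [h, orderOf_one] at hz; omega
  rw [Cfsg.Agent.Lib.Helper28.principal_column_norm hM z ⟨1, by rw [hz, pow_one]⟩]
  obtain ⟨K, hKn, hKi, hKc⟩ := centralizer_complement P z hzP hz1
  have hdeg : ∀ ψ : IrrCharacter (Subgroup.centralizer ({z} : Set G)), ∃ n : ℕ,
      (ψ : Subgroup.centralizer ({z} : Set G) → ℂ) 1 = n := fun ψ => by
    obtain ⟨n, -, hn⟩ := Cfsg.Agent.Lib.Helper26.irr_degree ψ.2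
    exact ⟨n, hn⟩
  choose d hd using hdeg
  have h1 := Cfsg.Agent.Lib.Helper4.sum_sq_degree_ker K
  rw [hKi, Finset.sum_filter] at h1
  have hle : ∀ ψ : IrrCharacter (Subgroup.centralizer ({z} : Set G)),
      ψ ∈ principalBlock M (Subgroup.centralizer ({z} : Set G)) →
      ∀ n ∈ K, (ψ : Subgroup.centralizer ({z} : Set G) → ℂ) n =
        (ψ : Subgroup.centralizer ({z} : Set G) → ℂ) 1 := by
    intro ψ hψ n hn
    exact Cfsg.Agent.Lib.Helper28.principalBlock_trivial_on_pPrimeCore hM ψ hψ n
      (Cfsg.Agent.Lib.Helper20.le_pPrimeCore' hKn hKc hn)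
  refine ⟨∑ ψ : IrrCharacter (Subgroup.centralizer ({z} : Set G)),
    (if ψ ∈ principalBlock M (Subgroup.centralizer ({z} : Set G)) then d ψ ^ 2 else 0), ?_, ?_⟩
  · have h2 : ((∑ ψ : IrrCharacter (Subgroup.centralizer ({z} : Set G)),
        (if (∀ n ∈ K, (ψ : Subgroup.centralizer ({z} : Set G) → ℂ) n =
          (ψ : Subgroup.centralizer ({z} : Set G) → ℂ) 1) then d ψ ^ 2 else 0) : ℕ) : ℂ) =
        ((4 : ℕ) : ℂ) := by
      rw [← h1]
      push_cast
      refine Finset.sum_congr rfl fun ψ _ => ?_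
      split_ifs
      · rw [hd]
      · rfl
    have h3 : (∑ ψ : IrrCharacter (Subgroup.centralizer ({z} : Set G)),
        (if (∀ n ∈ K, (ψ : Subgroup.centralizer ({z} : Set G) → ℂ) n =
          (ψ : Subgroup.centralizer ({z} : Set G) → ℂ) 1) then d ψ ^ 2 else 0) : ℕ) = 4 := by
      exact_mod_cast h2
    rw [← h3]
    apply Finset.sum_le_sum
    intro ψ _
    by_cases hψ : ψ ∈ principalBlock M (Subgroup.centralizer ({z} : Set G))
    · rw [if_pos hψ, if_pos (hle ψ hψ)]
    · rw [if_neg hψ]; exact Nat.zero_le _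
  · push_cast
    refine Finset.sum_congr rfl fun ψ _ => ?_
    split_ifs
    · rw [hd, Complex.conj_natCast]; ring
    · rfl

end column

end Cfsg.Agent.Lib.Helper7.KF
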