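import Mathlib
import Cfsg.Prelude
import Cfsg.Agent.Lib.Helper26.CharInt
import Cfsg.Agent.Lib.Helper24.LinBridge
import Cfsg.Agent.Lib.Helper2.CharConj
import Cfsg.Agent.Lib.Helper28.LocalIdeal

set_option autoImplicit false
open Cfsg

/-! Klein four Sylow 2-subgroups: auxiliary lemmas (averages over subgroups, nonvanishing in the
principal block, and the combinatorial pattern). -/

namespace Cfsg.Agent.Lib.Helper7.KF

open Cfsg.Agent.Lib.Helper26
open scoped ComplexConjugate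

/-- the multiplicity of the trivial character in the restriction to a subgroup on which the
character is constant off the identity -/
theorem avg_nat {G : Type*} [Group G] [Finite G] (H : Subgroup G) (χ : G → ℂ)
    (hχ : IsCharacter G χ) (c : ℂ) (hc : ∀ y ∈ H, y ≠ 1 → χ y = c) :
    ∃ n : ℕ, χ 1 + ((Nat.card H : ℂ) - 1) * c = (Nat.card H : ℂ) * n := by
  classical
  haveI : Fintype H := Fintype.ofFinite _
  have hX : IsCharacter H (χ ∘ H.subtype) :=
    Cfsg.Agent.Lib.Helper2.isCharacter_comp_hom hχ H.subtype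
  have h1c : IsCharacter H (fun _ => (1 : ℂ)) := by
    have := Cfsg.Agent.Lib.Helper24.isCharacter_of_hom (1 : H →* ℂˣ)
    simpa using this
  obtain ⟨n, hn⟩ := classInner_isCharacter_nat hX h1c
  refine ⟨n, ?_⟩
  unfold classInner at hn
  simp only [map_one, mul_one] at hn
  have h2 : ∑ y ∈ Finset.univ.erase (1 : H), (χ ∘ H.subtype) y =
      ((Nat.card H : ℂ) - 1) * c := by
    rw [Finset.sum_congr rfl (g := fun _ => c) (fun y hy => by
      have hy1 : y ≠ 1 := (Finset.mem_erase.mp hy).1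
      exact hc y y.2 (fun h => hy1 (Subtype.ext h)))]
    rw [Finset.sum_const, Finset.card_erase_of_mem (Finset.mem_univ _), Finset.card_univ,
      ← Nat.card_eq_fintype_card, nsmul_eq_mul, Nat.cast_sub Nat.card_pos, Nat.cast_one]
  have hsum : ∑ y : H, (χ ∘ H.subtype) y = χ 1 + ((Nat.card H : ℂ) - 1) * c := by
    rw [← Finset.add_sum_erase Finset.univ _ (Finset.mem_univ (1 : H)), h2]
    rfl
  rw [hsum] at hn
  have hne : (Nat.card H : ℂ) ≠ 0 := by
    have : Nat.card H ≠ 0 := Nat.card_pos.ne'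
    exact_mod_cast this
  rw [← hn]
  field_simp

/-- a character of the principal block does not vanish on a class of odd size -/
theorem value_ne_zero {G : Type*} [Group G] {M : Ideal AlgInt} (hM : IsPModular 2 M)
    (χ : IrrCharacter G) (hχ : χ ∈ principalBlock M G) (z : G)
    (hodd : ((Subgroup.centralizer ({z} : Set G)).index).Coprime 2) : (χ : G → ℂ) z ≠ 0 := by
  intro h0
  have h1 : MemLocalIdeal M (centralChar (fun _ : G => (1 : ℂ)) z - centralChar (χ : G → ℂ) z) :=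
    hχ z
  unfold centralChar at h1
  rw [h0] at h1
  simp only [mul_one, div_one, mul_zero, zero_div, sub_zero] at h1
  exact Cfsg.Agent.Lib.Helper28.not_memLocalIdeal_natCast hM hodd h1

/-- the combinatorial pattern of the column at an involution -/
theorem klein_pattern {ι : Type*} [DecidableEq ι] (T : Finset ι) (c d : ι → ℤ) (t₀ : ι)
    (ht₀ : t₀ ∈ T) (hc₀ : c t₀ = 1) (hd₀ : d t₀ = 1) (hne : ∀ i ∈ T, c i ≠ 0)
    (hsum : ∑ i ∈ T, c i ^ 2 ≤ 4) (hdpos : ∀ i ∈ T, 0 < d i)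
    (hmod : ∀ i ∈ T, (4 : ℤ) ∣ d i - c i) (horth : ∑ i ∈ T, c i * d i = 0) :
    ∃ i₂ i₃ i₄ : ι, ∃ ε : ℤ, (ε = 1 ∨ ε = -1) ∧ i₂ ≠ t₀ ∧ i₃ ≠ t₀ ∧ i₄ ≠ t₀ ∧ i₂ ≠ i₃ ∧
      i₂ ≠ i₄ ∧ i₃ ≠ i₄ ∧ T = {t₀, i₂, i₃, i₄} ∧ c i₂ = 1 ∧ c i₃ = ε ∧ c i₄ = -1 := by
  have hpm : ∀ i ∈ T, c i = 1 ∨ c i = -1 := by
    intro i hi
    by_cases hit : i = t₀
    · left; rw [hit, hc₀]
    · have hsub : ({t₀, i} : Finset ι) ⊆ T := by
        intro j hj
        simp only [Finset.mem_insert, Finset.mem_singleton] at hj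
        rcases hj with rfl | rfl <;> assumption
      have h1 : ∑ j ∈ ({t₀, i} : Finset ι), c j ^ 2 ≤ ∑ j ∈ T, c j ^ 2 :=
        Finset.sum_le_sum_of_subset_of_nonneg hsub (fun j _ _ => sq_nonneg _)
      rw [Finset.sum_pair (Ne.symm hit), hc₀] at h1
      have h2 : c i ^ 2 ≤ 3 := by linarith
      have h3 := hne i hi
      have h4 : -1 ≤ c i := by
        by_contra h; push Not at h; nlinarith
      have h5 : c i ≤ 1 := by
        by_contra h; push Not at h; nlinarith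
      omega
  have hcard : ∑ i ∈ T, c i ^ 2 = (T.card : ℤ) := by
    rw [Finset.sum_congr rfl (g := fun _ => (1 : ℤ)) (fun i hi => by
      rcases hpm i hi with h | h <;> rw [h] <;> norm_num)]
    simp
  have hdiv : (4 : ℤ) ∣ ∑ i ∈ T, (c i * d i - 1) := by
    apply Finset.dvd_sum
    intro i hi
    obtain ⟨k, hk⟩ := hmod i hi
    rcases hpm i hi with h | h
    · rw [h] at hk ⊢; exact ⟨k, by linarith⟩
    · rw [h] at hk ⊢; exact ⟨-k, by linarith⟩
  have hone : ∑ _i ∈ T, (1 : ℤ) = (T.card : ℤ) := by simp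
  rw [Finset.sum_sub_distrib, horth, hone] at hdiv
  have hT4 : T.card = 4 := by
    have hpos : 0 < T.card := Finset.card_pos.mpr ⟨t₀, ht₀⟩
    have hle : (T.card : ℤ) ≤ 4 := by rw [← hcard]; exact hsum
    omega
  have herase : (T.erase t₀).card = 3 := by rw [Finset.card_erase_of_mem ht₀, hT4]
  obtain ⟨x, y, w, hxy, hxw, hyw, hE⟩ := Finset.card_eq_three.mp herase
  have hmemE : ∀ j, j ∈ T.erase t₀ ↔ j = x ∨ j = y ∨ j = w := by
    intro j; rw [hE]; simp
  have hx : x ∈ T ∧ x ≠ t₀ := by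
    have := (hmemE x).mpr (Or.inl rfl)
    rw [Finset.mem_erase] at this; exact ⟨this.2, this.1⟩
  have hy : y ∈ T ∧ y ≠ t₀ := by
    have := (hmemE y).mpr (Or.inr (Or.inl rfl))
    rw [Finset.mem_erase] at this; exact ⟨this.2, this.1⟩
  have hw : w ∈ T ∧ w ≠ t₀ := by
    have := (hmemE w).mpr (Or.inr (Or.inr rfl))
    rw [Finset.mem_erase] at this; exact ⟨this.2, this.1⟩
  have hTeq : T = {t₀, x, y, w} := by
    rw [← Finset.insert_erase ht₀, hE]
  have horth' : 1 + c x * d x + c y * d y + c w * d w = 0 := by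
    have h1 : t₀ ∉ ({x, y, w} : Finset ι) := by
      simp only [Finset.mem_insert, Finset.mem_singleton, not_or]
      exact ⟨hx.2.symm, hy.2.symm, hw.2.symm⟩
    have h2 : x ∉ ({y, w} : Finset ι) := by
      simp only [Finset.mem_insert, Finset.mem_singleton, not_or]
      exact ⟨hxy, hxw⟩
    rw [hTeq, Finset.sum_insert h1, Finset.sum_insert h2, Finset.sum_pair hyw, hc₀, hd₀] at horth
    linarith
  have hdx := hdpos x hx.1
  have hdy := hdpos y hy.1
  have hdw := hdpos w hw.1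
  rcases hpm x hx.1 with hcx | hcx <;> rcases hpm y hy.1 with hcy | hcy <;>
    rcases hpm w hw.1 with hcw | hcw
  · exfalso; rw [hcx, hcy, hcw] at horth'; omega
  · exact ⟨x, y, w, 1, Or.inl rfl, hx.2, hy.2, hw.2, hxy, hxw, hyw, hTeq, hcx, hcy, hcw⟩
  · refine ⟨x, w, y, 1, Or.inl rfl, hx.2, hw.2, hy.2, hxw, hxy, hyw.symm, ?_, hcx, hcw, hcy⟩
    rw [hTeq]; ext j; simp only [Finset.mem_insert, Finset.mem_singleton]; tauto
  · exact ⟨x, y, w, -1, Or.inr rfl, hx.2, hy.2, hw.2, hxy, hxw, hyw, hTeq, hcx, hcy, hcw⟩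
  · refine ⟨y, w, x, 1, Or.inl rfl, hy.2, hw.2, hx.2, hyw, hxy.symm, hxw.symm, ?_, hcy, hcw, hcx⟩
    rw [hTeq]; ext j; simp only [Finset.mem_insert, Finset.mem_singleton]; tauto
  · refine ⟨y, x, w, -1, Or.inr rfl, hy.2, hx.2, hw.2, hxy.symm, hyw, hxw, ?_, hcy, hcx, hcw⟩
    rw [hTeq]; ext j; simp only [Finset.mem_insert, Finset.mem_singleton]; tauto
  · refine ⟨w, x, y, -1, Or.inr rfl, hw.2, hx.2, hy.2, hxw.symm, hyw.symm, hxy, ?_, hcw, hcx, hcy⟩
    rw [hTeq]; ext j; simp only [Finset.mem_insert, Finset.mem_singleton]; tauto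
  · exfalso; rw [hcx, hcy, hcw] at horth'; omega

end Cfsg.Agent.Lib.Helper7.KF
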