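import Mathlib
import Cfsg.Prelude
import Cfsg.Agent.Lib.Helper13.Hall

/-!
# Group theory for characters induced from a maximal subgroup (helper7)
-/

set_option autoImplicit false

namespace Cfsg.Agent.Lib.Helper7.MaxInd

open Cfsg

section GT
variable {G : Type*} [Group G]

theorem dec_of_sup_top (H M : Subgroup G) [hM : M.Normal] (htop : M ⊔ H = ⊤) (g : G) :
    ∃ m ∈ M, ∃ h ∈ H, g = m * h := by
  have hg : g ∈ (↑(M ⊔ H) : Set G) := by rw [htop]; trivial
  rw [Subgroup.normal_mul] at hg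
  obtain ⟨m, hm, h, hh, rfl⟩ := Set.mem_mul.mp hg
  exact ⟨m, hm, h, hh, rfl⟩

/-- if `M` normalises `N ⊓ H` into `H`, then `N ⊓ H` lies in the core `K` of `H` -/
theorem inf_le_core (H K M N : Subgroup G) [hM : M.Normal] [hN : N.Normal]
    (hcore : ∀ X : Subgroup G, X.Normal → X ≤ H → X ≤ K)
    (htop : M ⊔ H = ⊤) (hnorm : ∀ m ∈ M, ∀ d ∈ N ⊓ H, m * d * m⁻¹ ∈ H) : N ⊓ H ≤ K := by
  have hDn : (N ⊓ H).Normal := by
    constructor
    intro d hd g
    obtain ⟨m, hm, h, hh, rfl⟩ := dec_of_sup_top H M htop g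
    have h1 : h * d * h⁻¹ ∈ N ⊓ H :=
      ⟨hN.conj_mem d hd.1 h, H.mul_mem (H.mul_mem hh hd.2) (H.inv_mem hh)⟩
    have e : m * h * d * (m * h)⁻¹ = m * (h * d * h⁻¹) * m⁻¹ := by group
    rw [e]
    exact ⟨hN.conj_mem _ h1.1 m, hnorm m hm _ h1⟩
  exact hcore _ hDn inf_le_right

theorem le_of_inf_le (H K M N : Subgroup G) [hM : M.Normal] (hKM : K ≤ M) (hMN : M ≤ N)
    (htop : M ⊔ H = ⊤) (hDK : N ⊓ H ≤ K) : N ≤ M := by
  intro n hn
  obtain ⟨m, hm, h, hh, rfl⟩ := dec_of_sup_top H M htop n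
  have h1 : h ∈ N := by
    have := N.mul_mem (N.inv_mem (hMN hm)) hn
    simpa using this
  exact M.mul_mem hm (hKM (hDK ⟨h1, hh⟩))

/-- quotients above `L` are solvable -/
theorem solvable_quot (L A : Subgroup G) [L.Normal] [A.Normal] (hLA : L ≤ A)
    (hsolv : Group.IsSolvable (G ⧸ L)) : Group.IsSolvable (G ⧸ A) := by
  haveI := hsolv
  have hle : L ≤ A.comap (MonoidHom.id G) := hLA
  refine solvable_of_surjective (f := QuotientGroup.map L A (MonoidHom.id G) hle) ?_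
  intro q
  obtain ⟨g, rfl⟩ := QuotientGroup.mk_surjective q
  exact ⟨QuotientGroup.mk g, rfl⟩

theorem nontrivial_quot (A : Subgroup G) [A.Normal] (hA : A ≠ ⊤) : Nontrivial (G ⧸ A) := by
  have : ∃ g : G, g ∉ A := by
    by_contra h
    push Not at h
    exact hA (eq_top_iff.mpr fun g _ => h g)
  obtain ⟨g, hg⟩ := this
  exact ⟨⟨QuotientGroup.mk g, 1, fun h => hg ((QuotientGroup.eq_one_iff g).mp h)⟩⟩

theorem relIndex_comap_mk (A : Subgroup G) [A.Normal] (N : Subgroup G) :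
    A.relIndex N = Nat.card (N.map (QuotientGroup.mk' A)) := by
  have h1 : A = (⊥ : Subgroup (G ⧸ A)).comap (QuotientGroup.mk' A) := by
    rw [MonoidHom.comap_bot, QuotientGroup.ker_mk']
  conv_lhs => rw [h1]
  rw [Subgroup.relIndex_comap, Subgroup.relIndex_bot_left]

end GT

section Fin
variable {G : Type*} [Group G] [Finite G]

/-- a normal subgroup above `A` with quotient a nontrivial `q`-group -/
theorem exists_above (L A : Subgroup G) [L.Normal] [hA : A.Normal] (hLA : L ≤ A) (hAtop : A ≠ ⊤)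
    (hsolv : Group.IsSolvable (G ⧸ L)) :
    ∃ (N : Subgroup G) (q l : ℕ), N.Normal ∧ A ≤ N ∧ A ≠ N ∧ q.Prime ∧ A.relIndex N = q ^ l := by
  haveI := solvable_quot L A hLA hsolv
  haveI := nontrivial_quot A hAtop
  obtain ⟨q, W, hq, hWn, hWne, hWq⟩ := Cfsg.Agent.Lib.Helper13.exists_normal_pgroup (G ⧸ A)
  haveI := hWn
  haveI : Fact q.Prime := ⟨hq⟩
  obtain ⟨l, hl⟩ := IsPGroup.iff_card.mp hWq
  refine ⟨W.comap (QuotientGroup.mk' A), q, l, Subgroup.Normal.comap hWn _, ?_, ?_, hq, ?_⟩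
  · intro a ha
    rw [Subgroup.mem_comap]
    have : (QuotientGroup.mk' A) a = 1 := (QuotientGroup.eq_one_iff a).mpr ha
    rw [this]; exact W.one_mem
  · intro h
    apply hWne
    rw [eq_bot_iff]
    intro w hw
    obtain ⟨g, rfl⟩ := QuotientGroup.mk_surjective w
    have hg : g ∈ W.comap (QuotientGroup.mk' A) := hw
    rw [← h] at hg
    exact (Subgroup.mem_bot).mpr ((QuotientGroup.eq_one_iff g).mpr hg)
  · rw [relIndex_comap_mk, Subgroup.map_comap_eq_self_of_surjective (QuotientGroup.mk'_surjective A),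
      hl]

/-- the main configuration -/
theorem exists_config (L H : Subgroup G) [hL : L.Normal] (hLH : L ≤ H) (hmax : IsCoatom H)
    (hsolv : Group.IsSolvable (G ⧸ L)) :
    ∃ (K M : Subgroup G) (p k : ℕ), K.Normal ∧ M.Normal ∧ L ≤ K ∧ K ≤ H ∧ K ≤ M ∧ K ≠ M ∧
      (∀ X : Subgroup G, X.Normal → X ≤ H → X ≤ K) ∧ M ⊔ H = ⊤ ∧ M ⊓ H = K ∧ p.Prime ∧
      K.relIndex M = p ^ k ∧
      (∀ N : Subgroup G, N.Normal → M ≤ N → (∃ j, K.relIndex N = p ^ j) → N ≤ M) := by
  classical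
  set K : Subgroup G := H.normalCore with hK
  haveI hKn : K.Normal := Subgroup.normalCore_normal H
  have hKH : K ≤ H := Subgroup.normalCore_le H
  have hLK : L ≤ K := Subgroup.normal_le_normalCore.mpr hLH
  have hcore : ∀ X : Subgroup G, X.Normal → X ≤ H → X ≤ K := by
    intro X hX hXH
    haveI := hX
    exact Subgroup.normal_le_normalCore.mpr hXH
  have hKtop : K ≠ ⊤ := by
    intro h
    apply hmax.1
    rw [eq_top_iff, ← h]
    exact hKH
  haveI := solvable_quot L K hLK hsolv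
  haveI := nontrivial_quot K hKtop
  obtain ⟨p, V, hp, hVn, hVne, hVp⟩ := Cfsg.Agent.Lib.Helper13.exists_normal_pgroup (G ⧸ K)
  haveI := hVn
  haveI : Fact p.Prime := ⟨hp⟩
  -- a maximal normal p-subgroup
  obtain ⟨P₀, hVP, hP₀max⟩ := Set.Finite.exists_le_maximal
    (Set.toFinite {R : Subgroup (G ⧸ K) | R.Normal ∧ IsPGroup p R}) (a := V) ⟨hVn, hVp⟩
  obtain ⟨⟨hP₀n, hP₀p⟩, hP₀m⟩ := hP₀max
  haveI := hP₀n
  have hmaxP : ∀ R : Subgroup (G ⧸ K), R.Normal → IsPGroup p R → R ≤ P₀ := by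
    intro R hRn hRp
    haveI := hRn
    have h1 : (R ⊔ P₀) ∈ {R : Subgroup (G ⧸ K) | R.Normal ∧ IsPGroup p R} :=
      ⟨inferInstance, IsPGroup.to_sup_of_normal_right hRp hP₀p⟩
    exact le_trans le_sup_left (hP₀m h1 le_sup_right)
  haveI : Nontrivial P₀ := by
    rw [Subgroup.nontrivial_iff_ne_bot]
    intro h
    apply hVne
    rw [eq_bot_iff, ← h]
    exact hVP
  haveI : Nontrivial (Subgroup.center P₀) := hP₀p.center_nontrivial
  set Z : Subgroup (G ⧸ K) := (Subgroup.center P₀).map P₀.subtype with hZ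
  haveI hZn : Z.Normal := ConjAct.normal_of_characteristic_of_normal
  have hZP : Z ≤ P₀ := by
    rintro z ⟨c, -, rfl⟩
    exact c.2
  have hZcomm : ∀ z ∈ Z, ∀ r ∈ P₀, r * z = z * r := by
    rintro z ⟨c, hc, rfl⟩ r hr
    have h1 := Subgroup.mem_center_iff.mp hc ⟨r, hr⟩
    exact congrArg Subtype.val h1
  have hZne : Z ≠ ⊥ := by
    intro h
    have h2 : Subgroup.center P₀ ≠ ⊥ := (Subgroup.nontrivial_iff_ne_bot _).mp inferInstance
    exact h2 ((Subgroup.map_eq_bot_iff_of_injective _ P₀.subtype_injective).mp h)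
  have hZp : IsPGroup p Z := hP₀p.to_le hZP
  obtain ⟨k, hk⟩ := IsPGroup.iff_card.mp hZp
  set M : Subgroup G := Z.comap (QuotientGroup.mk' K) with hM
  haveI hMn : M.Normal := Subgroup.Normal.comap hZn _
  have hKM : K ≤ M := by
    intro a ha
    rw [hM, Subgroup.mem_comap]
    have : (QuotientGroup.mk' K) a = 1 := (QuotientGroup.eq_one_iff a).mpr ha
    rw [this]; exact Z.one_mem
  have hKneM : K ≠ M := by
    intro h
    apply hZne
    rw [eq_bot_iff]
    intro w hw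
    obtain ⟨g, rfl⟩ := QuotientGroup.mk_surjective w
    have hg : g ∈ M := hw
    rw [← h] at hg
    exact (Subgroup.mem_bot).mpr ((QuotientGroup.eq_one_iff g).mpr hg)
  have hMH : ¬ M ≤ H := fun h => hKneM (le_antisymm hKM (hcore M hMn h))
  have htop : M ⊔ H = ⊤ := by
    apply hmax.2
    exact lt_of_le_of_ne le_sup_right (fun h => hMH (h ▸ le_sup_left))
  have hMmap : M.map (QuotientGroup.mk' K) = Z :=
    Subgroup.map_comap_eq_self_of_surjective (QuotientGroup.mk'_surjective K) Z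
  -- the key: normal subgroups mapping into P₀ meet H inside K
  have hkey : ∀ N : Subgroup G, N.Normal → N.map (QuotientGroup.mk' K) ≤ P₀ → N ⊓ H ≤ K := by
    intro N hNn hNP
    haveI := hNn
    apply inf_le_core H K M N hcore htop
    intro m hm d hd
    have h1 : (QuotientGroup.mk' K) m ∈ Z := hm
    have h2 : (QuotientGroup.mk' K) d ∈ P₀ := hNP (Subgroup.mem_map_of_mem _ hd.1)
    have h3 := hZcomm _ h1 _ h2
    have h4 : m * d * m⁻¹ * d⁻¹ ∈ K := by
      apply (QuotientGroup.eq_one_iff _).mp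
      have : ((m * d * m⁻¹ * d⁻¹ : G) : G ⧸ K) =
          (QuotientGroup.mk' K) m * (QuotientGroup.mk' K) d * ((QuotientGroup.mk' K) m)⁻¹ *
            ((QuotientGroup.mk' K) d)⁻¹ := rfl
      rw [this, ← h3]
      group
    have e : m * d * m⁻¹ = (m * d * m⁻¹ * d⁻¹) * d := by group
    rw [e]
    exact H.mul_mem (hKH h4) hd.2
  have hinf : M ⊓ H = K := by
    apply le_antisymm
    · exact hkey M hMn (by rw [hMmap]; exact hZP)
    · exact le_inf hKM hKH
  refine ⟨K, M, p, k, hKn, hMn, hLK, hKH, hKM, hKneM, hcore, htop, hinf, hp, ?_, ?_⟩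
  · rw [relIndex_comap_mk, hMmap, hk]
  · intro N hNn hMN ⟨j, hj⟩
    haveI := hNn
    have hRn : (N.map (QuotientGroup.mk' K)).Normal :=
      Subgroup.Normal.map hNn _ (QuotientGroup.mk'_surjective K)
    have hRp : IsPGroup p (N.map (QuotientGroup.mk' K)) := by
      apply IsPGroup.of_card (n := j)
      rw [← relIndex_comap_mk, hj]
    exact le_of_inf_le H K M N hKM hMN htop (hkey N hNn (hmaxP _ hRn hRp))

end Fin

end Cfsg.Agent.Lib.Helper7.MaxInd
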