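import Mathlib
import Cfsg.Prelude
import Cfsg.Agent.Lib.Helper7.MaxInd
import Cfsg.Agent.Lib.Helper26.CharBasic
import Cfsg.Agent.Lib.Helper26.IndChar
import Cfsg.Agent.Lib.Helper2.CharConj
import Cfsg.Agent.Lib.Helper28.GlueA

/-!
# Character theory for characters induced from a maximal subgroup (helper7)
-/

set_option autoImplicit false

namespace Cfsg.Agent.Lib.Helper7.MaxInd

open Cfsg Cfsg.Agent.Lib.Helper26 Cfsg.Agent.Lib.Helper2
open scoped ComplexConjugate

section Card
variable {G : Type*} [Group G] [Finite G]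

theorem prod_card (H X : Subgroup G) [hX : X.Normal] (htop : X ⊔ H = ⊤) :
    Nat.card G * Nat.card (H.subgroupOf X) = Nat.card X * Nat.card H := by
  have h1 : X.index = X.relIndex H := by
    rw [← Subgroup.relIndex_top_right X, ← htop, Subgroup.relIndex_sup_left]
  have h2 : X.index * Nat.card X = Nat.card G := X.index_mul_card
  have h3 : X.relIndex H * Nat.card (X.subgroupOf H) = Nat.card H :=
    (X.subgroupOf H).index_mul_card
  have h4 : Nat.card (X.subgroupOf H) = Nat.card (H.subgroupOf X) := by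
    rw [← Subgroup.inf_subgroupOf_right X H, ← Subgroup.inf_subgroupOf_right H X]
    rw [Nat.card_congr (Subgroup.subgroupOfEquivOfLe (inf_le_right : X ⊓ H ≤ H)).toEquiv,
      Nat.card_congr (Subgroup.subgroupOfEquivOfLe (inf_le_right : H ⊓ X ≤ X)).toEquiv, inf_comm]
  rw [← h2, ← h3, h1, h4]; ring

theorem relIndex_eq_index (H X : Subgroup G) [hX : X.Normal] (htop : X ⊔ H = ⊤) :
    H.relIndex X = H.index := by
  have h1 := prod_card H X htop
  have h2 : H.index * Nat.card H = Nat.card G := H.index_mul_card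
  have h3 : H.relIndex X * Nat.card (H.subgroupOf X) = Nat.card X :=
    (H.subgroupOf X).index_mul_card
  have h4 : 0 < Nat.card H := Nat.card_pos
  have h5 : 0 < Nat.card (H.subgroupOf X) := Nat.card_pos
  have h6 : H.relIndex X * (Nat.card (H.subgroupOf X) * Nat.card H) =
      H.index * (Nat.card (H.subgroupOf X) * Nat.card H) := by
    calc H.relIndex X * (Nat.card (H.subgroupOf X) * Nat.card H)
        = (H.relIndex X * Nat.card (H.subgroupOf X)) * Nat.card H := by ring
      _ = Nat.card X * Nat.card H := by rw [h3]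
      _ = Nat.card G * Nat.card (H.subgroupOf X) := h1.symm
      _ = H.index * (Nat.card (H.subgroupOf X) * Nat.card H) := by rw [← h2]; ring
  exact Nat.eq_of_mul_eq_mul_right (Nat.mul_pos h5 h4) h6

end Card

section Mackey
variable {G : Type*} [Group G] [Fintype G]

/-- Mackey for a product `G = XH` with `X` normal -/
theorem mackey_prod (H X : Subgroup G) [hX : X.Normal] [Fintype X]
    (htop : X ⊔ H = ⊤) (ϑ : H → ℂ) (hϑ : IsClassFunction H ϑ) (x : X) :
    indFun H ϑ (x : G) =
      indFun (H.subgroupOf X) (fun d : H.subgroupOf X => ϑ ⟨((d : X) : G), d.2⟩) x := by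
  classical
  set F : G → ℂ := fun g => extendByZero H ϑ (g⁻¹ * (x : G) * g) with hF
  have hFH : ∀ (g : G) (h : G), h ∈ H → F (g * h) = F g := by
    intro g h hh
    show extendByZero H ϑ ((g * h)⁻¹ * x * (g * h)) = extendByZero H ϑ (g⁻¹ * x * g)
    have e : (g * h)⁻¹ * (x : G) * (g * h) = h⁻¹ * (g⁻¹ * x * g) * h := by group
    rw [e]
    by_cases hz : g⁻¹ * (x : G) * g ∈ H
    · have hz' : h⁻¹ * (g⁻¹ * x * g) * h ∈ H := H.mul_mem (H.mul_mem (H.inv_mem hh) hz) hh
      rw [extendByZero_apply_mem H ϑ _ hz, extendByZero_apply_mem H ϑ _ hz']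
      have := hϑ ⟨_, hz⟩ (⟨h, hh⟩⁻¹ : H)
      rw [← this]
      congr 1
      apply Subtype.ext
      simp
    · have hz' : h⁻¹ * (g⁻¹ * x * g) * h ∉ H := by
        intro h'
        apply hz
        have := H.mul_mem (H.mul_mem hh h') (H.inv_mem hh)
        have e2 : h * (h⁻¹ * (g⁻¹ * ↑x * g) * h) * h⁻¹ = g⁻¹ * x * g := by group
        rwa [e2] at this
      rw [extendByZero_apply_not_mem H ϑ _ hz, extendByZero_apply_not_mem H ϑ _ hz']
  have hsumX : ∀ g : G, ∑ y : X, F ((y : G) * g) = ∑ y : X, F (y : G) := by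
    intro g
    obtain ⟨y₀, hy₀, h₀, hh₀, rfl⟩ := dec_of_sup_top H X htop g
    have h1 : ∀ y : X, F ((y : G) * (y₀ * h₀)) = F (((y * ⟨y₀, hy₀⟩ : X) : G)) := by
      intro y
      rw [← mul_assoc, hFH _ _ hh₀]
      rfl
    rw [Finset.sum_congr rfl fun y _ => h1 y]
    exact Fintype.sum_equiv (Equiv.mulRight (⟨y₀, hy₀⟩ : X)) _ _ (fun y => rfl)
  have havg : (Nat.card X : ℂ) * ∑ g : G, F g = (Nat.card G : ℂ) * ∑ y : X, F (y : G) := by
    have h1 : ∀ y : X, ∑ g : G, F ((y : G) * g) = ∑ g : G, F g := by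
      intro y
      exact Fintype.sum_equiv (Equiv.mulLeft (y : G)) _ _ (fun g => rfl)
    have h2 : (Nat.card X : ℂ) * ∑ g : G, F g = ∑ y : X, ∑ g : G, F ((y : G) * g) := by
      rw [Finset.sum_congr rfl fun y _ => h1 y, Finset.sum_const, Finset.card_univ, nsmul_eq_mul,
        Nat.card_eq_fintype_card]
    rw [h2, Finset.sum_comm, Finset.sum_congr rfl fun g _ => hsumX g, Finset.sum_const,
      Finset.card_univ, nsmul_eq_mul, Nat.card_eq_fintype_card]
  have hterm : ∀ y : X, extendByZero (H.subgroupOf X)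
      (fun d : H.subgroupOf X => ϑ ⟨((d : X) : G), d.2⟩) (y⁻¹ * x * y) = F (y : G) := by
    intro y
    show _ = extendByZero H ϑ ((y : G)⁻¹ * x * y)
    by_cases hz : (y : G)⁻¹ * (x : G) * y ∈ H
    · have hz' : y⁻¹ * x * y ∈ H.subgroupOf X := by
        rw [Subgroup.mem_subgroupOf]
        simpa using hz
      rw [extendByZero_apply_mem _ _ _ hz', extendByZero_apply_mem H ϑ _ hz]
      rfl
    · have hz' : y⁻¹ * x * y ∉ H.subgroupOf X := by
        intro h'
        apply hz
        rw [Subgroup.mem_subgroupOf] at h'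
        simpa using h'
      rw [extendByZero_apply_not_mem _ _ _ hz', extendByZero_apply_not_mem H ϑ _ hz]
  unfold indFun
  rw [Finset.sum_congr rfl fun y _ => hterm y]
  show (Nat.card H : ℂ)⁻¹ * ∑ g : G, F g = _
  have hc := prod_card H X htop
  have hcC : (Nat.card G : ℂ) * (Nat.card (H.subgroupOf X) : ℂ) =
      (Nat.card X : ℂ) * (Nat.card H : ℂ) := by exact_mod_cast hc
  have hX0 : (Nat.card X : ℂ) ≠ 0 := Nat.cast_ne_zero.mpr Nat.card_pos.ne'
  have hH0 : (Nat.card H : ℂ) ≠ 0 := Nat.cast_ne_zero.mpr Nat.card_pos.ne'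
  have hD0 : (Nat.card (H.subgroupOf X) : ℂ) ≠ 0 := Nat.cast_ne_zero.mpr Nat.card_pos.ne'
  have h3 : ∑ g : G, F g = (Nat.card X : ℂ)⁻¹ * ((Nat.card G : ℂ) * ∑ y : X, F (y : G)) := by
    rw [← havg, ← mul_assoc, inv_mul_cancel₀ hX0, one_mul]
  rw [h3]
  field_simp
  linear_combination (∑ y : X, F (y : G)) * hcC

end Mackey

section Res
variable {G : Type*} [Group G] [Finite G]

/-- restrictions to subgroups containing `L` stay irreducible -/
theorem res_irr (L H X : Subgroup G) (hLH : L ≤ H) (hLX : L ≤ X) (ϑ : H → ℂ)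
    (hϑ : IsCharacter H ϑ) (hϑL : IsIrrCharacter L (fun x : L => ϑ ⟨(x : G), hLH x.2⟩)) :
    IsIrrCharacter (H.subgroupOf X) (fun d : H.subgroupOf X => ϑ ⟨((d : X) : G), d.2⟩) := by
  let j : H.subgroupOf X →* H :=
    { toFun := fun d => ⟨((d : X) : G), d.2⟩
      map_one' := rfl
      map_mul' := fun _ _ => rfl }
  have hchar : IsCharacter (H.subgroupOf X) (fun d : H.subgroupOf X => ϑ ⟨((d : X) : G), d.2⟩) :=
    isCharacter_comp_hom hϑ j
  let j' : H.subgroupOf X →* G := X.subtype.comp (H.subgroupOf X).subtype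
  let f : L.comap j' →* L := j'.subgroupComap L
  have hf : Function.Surjective f := by
    intro l
    exact ⟨⟨⟨⟨(l : G), hLX l.2⟩, hLH l.2⟩, l.2⟩, Subtype.ext rfl⟩
  apply Cfsg.Agent.Lib.Helper28.isIrrCharacter_of_restrict (L.comap j') hchar
  exact isIrrCharacter_comp_of_surjective hϑL f hf

end Res

end Cfsg.Agent.Lib.Helper7.MaxInd
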