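import Mathlib
import Cfsg.Agent.S1496
import Cfsg.Agent.S1499

set_option autoImplicit false

/-!
# Dade isometry and generalized characters, part A (helper7)

A counting lemma: if `a` normalises the subgroup `K`, with order coprime to `|K|`, and `f` is invariant
under conjugation by `K`, then the average of `f` over the coset `K a` equals the average of `f` over
`C_K(a) a`.
-/

namespace Cfsg.Agent.Lib.Helper7.DadeV

open Classical

section CosetSum
variable {G : Type*} [Group G] [Fintype G]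

/-- the centraliser of `a` in `K` -/
def cent (K : Subgroup G) (a : G) : Subgroup G := K ⊓ Subgroup.centralizer ({a} : Set G)

theorem mem_cent {K : Subgroup G} {a y : G} : y ∈ cent K a ↔ y ∈ K ∧ y * a = a * y := by
  unfold cent
  rw [Subgroup.mem_inf, Subgroup.mem_centralizer_iff]
  constructor
  · rintro ⟨h1, h2⟩
    exact ⟨h1, (h2 a rfl).symm⟩
  · rintro ⟨h1, h2⟩
    refine ⟨h1, ?_⟩
    intro h hh
    rw [Set.mem_singleton_iff] at hh
    rw [hh]
    exact h2.symm

theorem orderOf_dvd_card_of_mem {K : Subgroup G} {c : G} (hc : c ∈ K) : orderOf c ∣ Nat.card K := by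
  have := orderOf_dvd_natCard (⟨c, hc⟩ : K)
  rwa [Subgroup.orderOf_mk] at this

theorem card_fiber (K : Subgroup G) (a : G) (hnorm : a ∈ Subgroup.normalizer (K : Set G))
    (hcop : (orderOf a).Coprime (Nat.card K)) (h : G) (hh : h ∈ K) :
    (Finset.univ.filter (fun x : K => ∃ c ∈ cent K a, (x : G)⁻¹ * (h * a) * x = c * a)).card
      = Nat.card (cent K a) := by
  obtain ⟨x1, hx1, c0, hc0, hc0a, hx1c⟩ := Cfsg.Agent.S1496.result K a hnorm hcop h hh
  have hc0C : c0 ∈ cent K a := mem_cent.mpr ⟨hc0, hc0a⟩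
  have hcopc : ∀ c ∈ K, (orderOf c).Coprime (orderOf a) := by
    intro c hc
    exact (Nat.Coprime.coprime_dvd_right (orderOf_dvd_card_of_mem hc) hcop).symm
  rw [Nat.card_eq_fintype_card, ← Finset.card_univ]
  symm
  apply Finset.card_bij (fun (y : cent K a) _ =>
    (⟨x1⁻¹ * (y : G), K.mul_mem (K.inv_mem hx1) (mem_cent.mp y.2).1⟩ : K))
  · intro y _
    simp only [Finset.mem_filter, Finset.mem_univ, true_and]
    have hy := mem_cent.mp y.2
    refine ⟨(y : G)⁻¹ * c0 * y, ?_, ?_⟩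
    · exact (cent K a).mul_mem ((cent K a).mul_mem ((cent K a).inv_mem y.2) hc0C) y.2
    · have e1 : (x1⁻¹ * (y : G))⁻¹ * (h * a) * (x1⁻¹ * (y : G))
          = (y : G)⁻¹ * (x1 * (h * a) * x1⁻¹) * y := by group
      rw [e1, hx1c]
      calc (y : G)⁻¹ * (c0 * a) * y = (y : G)⁻¹ * c0 * (a * y) := by group
        _ = (y : G)⁻¹ * c0 * ((y : G) * a) := by rw [hy.2]
        _ = (y : G)⁻¹ * c0 * y * a := by group
  · intro y1 _ y2 _ heq
    have h1 : x1⁻¹ * (y1 : G) = x1⁻¹ * (y2 : G) := congrArg Subtype.val heq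
    exact Subtype.ext (mul_left_cancel h1)
  · intro x hx
    simp only [Finset.mem_filter, Finset.mem_univ, true_and] at hx
    obtain ⟨c, hcC, hxc⟩ := hx
    have hc := mem_cent.mp hcC
    -- y := x1 * x
    have hyK : x1 * (x : G) ∈ K := K.mul_mem hx1 x.2
    have hconj : (x1 * (x : G))⁻¹ * (a * c0) * (x1 * (x : G))⁻¹⁻¹ = a * c := by
      rw [← hc0a, ← hc.2, ← hx1c, ← hxc]
      group
    have hpart := Cfsg.Agent.S1499.conj_part a a c0 c (x1 * (x : G))⁻¹
      (show Commute a c0 from hc0a.symm) (show Commute a c from hc.2.symm)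
      (hcopc c0 hc0) (hcopc c0 hc0) (hcopc c hc.1) (hcopc c hc.1) hconj
    have hycomm : x1 * (x : G) * a = a * (x1 * (x : G)) := by
      calc x1 * (x : G) * a = x1 * (x : G) * ((x1 * (x : G))⁻¹ * a * (x1 * (x : G))⁻¹⁻¹) := by
            rw [hpart]
        _ = a * (x1 * (x : G)) := by group
    refine ⟨⟨x1 * (x : G), mem_cent.mpr ⟨hyK, hycomm⟩⟩, Finset.mem_univ _, ?_⟩
    apply Subtype.ext
    show x1⁻¹ * (x1 * (x : G)) = x
    group

theorem coset_sum (K : Subgroup G) (a : G) (hnorm : a ∈ Subgroup.normalizer (K : Set G))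
    (hcop : (orderOf a).Coprime (Nat.card K)) (f : G → ℂ)
    (hf : ∀ g : G, ∀ x ∈ K, f (x⁻¹ * g * x) = f g) :
    (Nat.card (cent K a) : ℂ) * ∑ h : K, f ((h : G) * a)
      = (Nat.card K : ℂ) * ∑ c : cent K a, f ((c : G) * a) := by
  have hT1 : ∑ x : K, ∑ h : K,
      (if ∃ c ∈ cent K a, (x : G)⁻¹ * ((h : G) * a) * x = c * a then f ((h : G) * a) else 0)
        = (Nat.card (cent K a) : ℂ) * ∑ h : K, f ((h : G) * a) := by
    rw [Finset.sum_comm, Finset.mul_sum]
    refine Finset.sum_congr rfl fun h _ => ?_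
    rw [← Finset.sum_filter, Finset.sum_const, card_fiber K a hnorm hcop h h.2, nsmul_eq_mul]
  have hT2 : ∀ x : K, ∑ h : K,
      (if ∃ c ∈ cent K a, (x : G)⁻¹ * ((h : G) * a) * x = c * a then f ((h : G) * a) else 0)
        = ∑ c : cent K a, f ((c : G) * a) := by
    intro x
    rw [← Finset.sum_filter]
    symm
    have hmemK : ∀ c : cent K a, (x : G) * c * a * (x : G)⁻¹ * a⁻¹ ∈ K := by
      intro c
      have h1 : a * (x : G)⁻¹ * a⁻¹ ∈ K :=
        (Subgroup.mem_normalizer_iff.mp hnorm _).mp (K.inv_mem x.2)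
      have h2 : (x : G) * c * a * (x : G)⁻¹ * a⁻¹ = (x : G) * c * (a * (x : G)⁻¹ * a⁻¹) := by group
      rw [h2]
      exact K.mul_mem (K.mul_mem x.2 (mem_cent.mp c.2).1) h1
    apply Finset.sum_bij (fun (c : cent K a) _ => (⟨(x : G) * c * a * (x : G)⁻¹ * a⁻¹, hmemK c⟩ : K))
    · intro c _
      simp only [Finset.mem_filter, Finset.mem_univ, true_and]
      exact ⟨c, c.2, by group⟩
    · intro c1 _ c2 _ heq
      have h1 : (x : G) * c1 * a * (x : G)⁻¹ * a⁻¹ = (x : G) * c2 * a * (x : G)⁻¹ * a⁻¹ :=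
        congrArg Subtype.val heq
      apply Subtype.ext
      have h2 := mul_right_cancel (mul_right_cancel (mul_right_cancel h1))
      exact mul_left_cancel h2
    · intro h hh
      simp only [Finset.mem_filter, Finset.mem_univ, true_and] at hh
      obtain ⟨c, hcC, hxc⟩ := hh
      refine ⟨⟨c, hcC⟩, Finset.mem_univ _, ?_⟩
      apply Subtype.ext
      show (x : G) * c * a * (x : G)⁻¹ * a⁻¹ = h
      have : (x : G) * c * a * (x : G)⁻¹ * a⁻¹ = (x : G) * (c * a) * (x : G)⁻¹ * a⁻¹ := by group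
      rw [this, ← hxc]
      group
    · intro c _
      show f ((c : G) * a) = f ((x : G) * c * a * (x : G)⁻¹ * a⁻¹ * a)
      have h1 : (c : G) * a = (x : G)⁻¹ * ((x : G) * c * a * (x : G)⁻¹ * a⁻¹ * a) * x := by group
      rw [h1, hf _ x x.2]
  rw [← hT1, Finset.sum_congr rfl (fun x _ => hT2 x), Finset.sum_const, Finset.card_univ,
    nsmul_eq_mul, Nat.card_eq_fintype_card]

end CosetSum

end Cfsg.Agent.Lib.Helper7.DadeV
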