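import Mathlib

set_option autoImplicit false

/-!
# Dade isometry and generalized characters, part B (helper7)

An orbit-counting integrality lemma.
-/

namespace Cfsg.Agent.Lib.Helper7.DadeV

open Classical

theorem orbit_sum_int {L X : Type*} [Group L] [Fintype L] [MulAction L X] [Fintype X]
    (t : X → ℂ) (ht : ∀ (y : L) (x : X), t (y • x) = t x)
    (hint : ∀ x : X, ∃ k : ℤ, t x = (Nat.card (MulAction.stabilizer L x) : ℂ) * k) :
    ∃ n : ℤ, ∑ x : X, t x = (Nat.card L : ℂ) * n := by
  choose k hk using hint
  refine ⟨∑ ω : MulAction.orbitRel.Quotient L X, k ω.out, ?_⟩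
  rw [← Finset.sum_fiberwise Finset.univ
    (fun x : X => (Quotient.mk'' x : MulAction.orbitRel.Quotient L X)) t]
  push_cast
  rw [Finset.mul_sum]
  refine Finset.sum_congr rfl fun ω _ => ?_
  have hiff : ∀ x : X, (Quotient.mk'' x : MulAction.orbitRel.Quotient L X) = ω ↔
      x ∈ MulAction.orbit L ω.out := by
    intro x
    conv_lhs => rw [← Quotient.out_eq' ω]
    rw [Quotient.eq'']
    exact MulAction.orbitRel_apply
  have hconst : ∀ x ∈ Finset.univ.filter
      (fun x : X => (Quotient.mk'' x : MulAction.orbitRel.Quotient L X) = ω), t x = t ω.out := by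
    intro x hx
    rw [Finset.mem_filter] at hx
    obtain ⟨y, hy⟩ := (hiff x).mp hx.2
    rw [← hy]
    exact ht y _
  rw [Finset.sum_congr rfl hconst, Finset.sum_const, nsmul_eq_mul]
  have hc : (Finset.univ.filter
      (fun x : X => (Quotient.mk'' x : MulAction.orbitRel.Quotient L X) = ω)).card
        = Nat.card (MulAction.orbit L ω.out) := by
    rw [Nat.card_eq_fintype_card]
    symm
    apply Fintype.card_of_subtype
    intro x
    rw [Finset.mem_filter]
    simp only [Finset.mem_univ, true_and]
    exact hiff x
  have hos : Nat.card (MulAction.orbit L ω.out) * Nat.card (MulAction.stabilizer L ω.out)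
      = Nat.card L := by
    have := MulAction.card_orbit_mul_card_stabilizer_eq_card_group L ω.out
    rw [Nat.card_eq_fintype_card, Nat.card_eq_fintype_card, Nat.card_eq_fintype_card]
    exact this
  rw [hc, hk ω.out, ← hos]
  push_cast
  ring

end Cfsg.Agent.Lib.Helper7.DadeV
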