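import Mathlib
import Cfsg.Prelude.Def_OddOrderChar
import Cfsg.Agent.S1500
import Cfsg.Agent.Lib.Helper7.DadeVA
import Cfsg.Agent.Lib.Helper7.DadeVB

set_option autoImplicit false

/-!
# Dade isometry and generalized characters, part C (helper7)

The inclusion-exclusion identity for the adjoint of the Dade map.
-/

namespace Cfsg.Agent.Lib.Helper7.DadeV

open Cfsg Classical
open scoped ComplexConjugate

section Conj
variable {G : Type*} [Group G]

/-- conjugation of a finite set -/
noncomputable def cj (y : G) (B : Finset G) : Finset G := B.image (fun b => y * b * y⁻¹)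

theorem mem_cj {y : G} {B : Finset G} {x : G} : x ∈ cj y B ↔ y⁻¹ * x * y ∈ B := by
  unfold cj
  rw [Finset.mem_image]
  constructor
  · rintro ⟨b, hb, rfl⟩
    have : y⁻¹ * (y * b * y⁻¹) * y = b := by group
    rw [this]; exact hb
  · intro h
    exact ⟨_, h, by group⟩

theorem cj_one (B : Finset G) : cj 1 B = B := by
  ext x
  rw [mem_cj]
  simp

theorem cj_mul (y z : G) (B : Finset G) : cj (y * z) B = cj y (cj z B) := by
  ext x
  rw [mem_cj, mem_cj, mem_cj]
  have : (y * z)⁻¹ * x * (y * z) = z⁻¹ * (y⁻¹ * x * y) * z := by group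
  rw [this]

theorem card_cj (y : G) (B : Finset G) : (cj y B).card = B.card := by
  unfold cj
  apply Finset.card_image_of_injective
  intro a b h
  simpa using h

theorem cj_inj {y : G} {B C : Finset G} (h : cj y B = cj y C) : B = C := by
  have := congrArg (cj y⁻¹) h
  rwa [← cj_mul, ← cj_mul, inv_mul_cancel, cj_one, cj_one] at this

theorem cj_inv_of_fixed {y : G} {B : Finset G} (h : cj y B = B) : cj y⁻¹ B = B := by
  apply cj_inj (y := y)
  rw [← cj_mul, mul_inv_cancel, cj_one, h]

theorem cj_insert (y a : G) (B : Finset G) : cj y (insert a B) = insert (y * a * y⁻¹) (cj y B) := by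
  unfold cj
  rw [Finset.image_insert]

theorem cj_erase (y a : G) (B : Finset G) : cj y (B.erase a) = (cj y B).erase (y * a * y⁻¹) := by
  ext x
  rw [mem_cj, Finset.mem_erase, Finset.mem_erase, mem_cj]
  constructor
  · rintro ⟨h1, h2⟩
    refine ⟨?_, h2⟩
    intro hx
    apply h1
    rw [hx]; group
  · rintro ⟨h1, h2⟩
    refine ⟨?_, h2⟩
    intro hx
    apply h1
    rw [← hx]; group

/-- the conjugation action of `L` on finite subsets of `G` -/
noncomputable def conjAction (L : Subgroup G) : MulAction L (Finset G) where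
  smul y B := cj (y : G) B
  one_smul B := cj_one B
  mul_smul y z B := cj_mul (y : G) (z : G) B

end Conj

section KB
variable {G : Type*} [Group G] {A : Set G} {L : Subgroup G} {H : G → Subgroup G}

/-- intersection of the `H b`, `b ∈ B` -/
def KB (H : G → Subgroup G) (B : Finset G) : Subgroup G := ⨅ b ∈ B, H b

theorem mem_KB {B : Finset G} {x : G} : x ∈ KB H B ↔ ∀ b ∈ B, x ∈ H b := by
  unfold KB
  simp only [Subgroup.mem_iInf]

theorem KB_singleton (a : G) : KB H {a} = H a := by
  ext x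
  rw [mem_KB]
  simp

/-- the nonempty subsets of `A` -/
noncomputable def PP (A : Set G) [Fintype G] : Finset (Finset G) :=
  Finset.univ.filter (fun B => B.Nonempty ∧ ∀ b ∈ B, b ∈ A)

theorem mem_PP [Fintype G] {B : Finset G} : B ∈ PP A ↔ B.Nonempty ∧ ∀ b ∈ B, b ∈ A := by
  unfold PP
  simp

theorem mem_H_conj [Finite G] (hD : DadeHypothesis A L H) {a : G} (ha : a ∈ A) {x : G} (hx : x ∈ L)
    {u : G} : u ∈ H (x * a * x⁻¹) ↔ x⁻¹ * u * x ∈ H a := by
  rw [Cfsg.Agent.S1498.result A L H hD a ha x hx, Subgroup.mem_map]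
  constructor
  · rintro ⟨v, hv, rfl⟩
    simp only [MulEquiv.coe_toMonoidHom, MulAut.conj_apply]
    have : x⁻¹ * (x * v * x⁻¹) * x = v := by group
    rw [this]; exact hv
  · intro h
    refine ⟨_, h, ?_⟩
    simp only [MulEquiv.coe_toMonoidHom, MulAut.conj_apply]
    group

theorem mem_KB_cj [Finite G] (hD : DadeHypothesis A L H) {B : Finset G} (hB : ∀ b ∈ B, b ∈ A)
    {y : G} (hy : y ∈ L) {u : G} : u ∈ KB H (cj y B) ↔ y⁻¹ * u * y ∈ KB H B := by
  rw [mem_KB, mem_KB]
  constructor
  · intro h b hb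
    have h1 : y * b * y⁻¹ ∈ cj y B := by
      rw [mem_cj]
      have : y⁻¹ * (y * b * y⁻¹) * y = b := by group
      rw [this]; exact hb
    exact (mem_H_conj hD (hB b hb) hy).mp (h _ h1)
  · intro h b' hb'
    rw [mem_cj] at hb'
    have h1 := h _ hb'
    have h2 := (mem_H_conj hD (hB _ hb') hy (u := u)).mpr h1
    have : y * (y⁻¹ * b' * y) * y⁻¹ = b' := by group
    rwa [this] at h2

theorem PP_cj [Fintype G] (hD : DadeHypothesis A L H) {B : Finset G} (hB : B ∈ PP A) {y : G}
    (hy : y ∈ L) : cj y B ∈ PP A := by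
  rw [mem_PP] at hB ⊢
  refine ⟨?_, ?_⟩
  · unfold cj
    exact hB.1.image _
  · intro b hb
    rw [mem_cj] at hb
    have := hD.conj_mem y hy _ (hB.2 _ hb)
    have e : y * (y⁻¹ * b * y) * y⁻¹ = b := by group
    rwa [e] at this

/-- a `π'`-element of the centraliser of `a ∈ A` lies in `H a` -/
theorem mem_H_of_coprime (hD : DadeHypothesis A L H) {a : G} (ha : a ∈ A) {x : G}
    (hx : x ∈ Subgroup.centralizer ({a} : Set G))
    (hcop : (orderOf x).Coprime (Nat.card ↥(L ⊓ Subgroup.centralizer ({a} : Set G)))) :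
    x ∈ H a := by
  have hLE : L ⊓ Subgroup.centralizer ({a} : Set G) ≤ Subgroup.normalizer (H a : Set G) := by
    intro m hm
    rw [Subgroup.mem_normalizer_iff]
    intro n
    constructor
    · intro hn; exact hD.conj_mem_H a ha m hm.2 n hn
    · intro hn
      have := hD.conj_mem_H a ha m⁻¹ (Subgroup.inv_mem _ hm.2) _ hn
      simpa [mul_assoc] using this
  have hx' := hx
  rw [← hD.sup_eq a ha, sup_comm] at hx'
  have hcoe := Subgroup.coe_mul_of_left_le_normalizer_right _ _ hLE
  rw [← SetLike.mem_coe, hcoe] at hx'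
  obtain ⟨m, hm, h, hh, hmh⟩ := hx'
  have hmh' : m * h = x := hmh
  have hmn : m ∈ Subgroup.normalizer (H a : Set G) := hLE hm
  have h1 : m * h * m⁻¹ ∈ H a := (Subgroup.mem_normalizer_iff.mp hmn h).mp hh
  have hx2 : x = (m * h * m⁻¹) * m := by rw [← hmh']; group
  obtain ⟨h', hh', e⟩ := Cfsg.Agent.S1496.pow_mul_mem (H a) m (m * h * m⁻¹) hmn h1
    (Nat.card ↥(L ⊓ Subgroup.centralizer ({a} : Set G)))
  have hm1 : m ^ Nat.card ↥(L ⊓ Subgroup.centralizer ({a} : Set G)) = 1 := by
    have := pow_card_eq_one' (G := ↥(L ⊓ Subgroup.centralizer ({a} : Set G))) (x := ⟨m, hm⟩)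
    exact congrArg Subtype.val this
  rw [← hx2, hm1, mul_one] at e
  obtain ⟨j, hj⟩ := exists_pow_eq_self_of_coprime hcop.symm
  rw [← hj, e]
  exact (H a).pow_mem hh' j

end KB

end Cfsg.Agent.Lib.Helper7.DadeV
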