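import Mathlib
import Cfsg.Prelude.Def_OddOrderChar
import Cfsg.Agent.S1500
import Cfsg.Agent.Lib.Helper7.DadeVC

set_option autoImplicit false

/-!
# Dade isometry and generalized characters, part D (helper7)

The averaged functions `Psi` and the inclusion-exclusion identity `star`.
-/

namespace Cfsg.Agent.Lib.Helper7.DadeV

open Cfsg Classical
open scoped ComplexConjugate

section Psi
variable {G : Type*} [Group G] [Fintype G] {A : Set G} {L : Subgroup G} {H : G → Subgroup G}

/-- the average of `χ` over the coset `K_B x` -/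
noncomputable def Psi (H : G → Subgroup G) (χ : G → ℂ) (B : Finset G) (x : G) : ℂ :=
  (Nat.card (KB H B) : ℂ)⁻¹ * ∑ h : KB H B, χ ((h : G) * x)

/-- the sign `(-1)^(|B|+1)` -/
noncomputable def eps (B : Finset G) : ℂ := (-1) ^ (B.card + 1)

theorem orderOf_dvd_A (hD : DadeHypothesis A L H) {a : G} (ha : a ∈ A) :
    orderOf a ∣ Nat.card ↥(L ⊓ Subgroup.centralizer ({a} : Set G)) := by
  have hmem : a ∈ L ⊓ Subgroup.centralizer ({a} : Set G) := by
    refine Subgroup.mem_inf.mpr ⟨hD.subset ha, ?_⟩
    rw [Subgroup.mem_centralizer_iff]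
    intro y hy
    rw [Set.mem_singleton_iff] at hy
    rw [hy]
  exact orderOf_dvd_card_of_mem hmem

theorem KB_insert (hD : DadeHypothesis A L H) {B : Finset G} (hB : B ∈ PP A) {a : G} (ha : a ∈ A) :
    KB H (insert a B) = cent (KB H B) a := by
  ext x
  rw [mem_KB, mem_cent, mem_KB]
  constructor
  · intro h
    refine ⟨fun b hb => h b (Finset.mem_insert_of_mem hb), ?_⟩
    have := h a (Finset.mem_insert_self a B)
    exact Cfsg.Agent.S1500.comm_of_mem hD ha this
  · rintro ⟨h1, h2⟩ b hb
    rw [Finset.mem_insert] at hb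
    rcases hb with hb | hb
    · rw [hb]
      obtain ⟨b0, hb0⟩ := (mem_PP.mp hB).1
      have hb0A := (mem_PP.mp hB).2 b0 hb0
      apply mem_H_of_coprime hD ha
      · rw [Subgroup.mem_centralizer_iff]
        intro z hz
        rw [Set.mem_singleton_iff] at hz
        rw [hz]
        exact h2.symm
      · have : orderOf x ∣ Nat.card (H b0) := orderOf_dvd_card_of_mem (h1 b0 hb0)
        exact Nat.Coprime.coprime_dvd_left this (hD.coprime b0 hb0A a ha)
    · exact h1 b hb

theorem normalizer_KB (hD : DadeHypothesis A L H) {B : Finset G} (hB : ∀ b ∈ B, b ∈ A) {a : G}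
    (haL : a ∈ L) (hcj : cj a B = B) : a ∈ Subgroup.normalizer (KB H B : Set G) := by
  rw [Subgroup.mem_normalizer_iff]
  intro h
  have h1 := mem_KB_cj hD hB haL (u := a * h * a⁻¹)
  rw [hcj] at h1
  have e : a⁻¹ * (a * h * a⁻¹) * a = h := by group
  rw [e] at h1
  exact h1.symm

theorem coprime_KB (hD : DadeHypothesis A L H) {B : Finset G} (hB : B ∈ PP A) {a : G} (ha : a ∈ A) :
    (orderOf a).Coprime (Nat.card (KB H B)) := by
  obtain ⟨b0, hb0⟩ := (mem_PP.mp hB).1
  have hb0A := (mem_PP.mp hB).2 b0 hb0
  have hle : KB H B ≤ H b0 := fun x hx => mem_KB.mp hx b0 hb0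
  have h1 : Nat.card (KB H B) ∣ Nat.card (H b0) := Subgroup.card_dvd_of_le hle
  have h2 := hD.coprime b0 hb0A a ha
  exact (Nat.Coprime.coprime_dvd_left h1 (Nat.Coprime.coprime_dvd_right (orderOf_dvd_A hD ha) h2)).symm

theorem Psi_insert (hD : DadeHypothesis A L H) (χ : G → ℂ) (hχ : IsClassFunction G χ)
    {B : Finset G} (hB : B ∈ PP A) {a : G} (ha : a ∈ A) (hcj : cj a B = B) :
    Psi H χ (insert a B) a = Psi H χ B a := by
  unfold Psi
  rw [KB_insert hD hB ha]
  have hcs := coset_sum (KB H B) a (normalizer_KB hD (mem_PP.mp hB).2 (hD.subset ha) hcj)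
    (coprime_KB hD hB ha) χ (fun g x _ => by
      have := hχ g x⁻¹
      rwa [inv_inv] at this)
  have h1 : (Nat.card (cent (KB H B) a) : ℂ) ≠ 0 := Nat.cast_ne_zero.mpr Nat.card_pos.ne'
  have h2 : (Nat.card (KB H B) : ℂ) ≠ 0 := Nat.cast_ne_zero.mpr Nat.card_pos.ne'
  calc (Nat.card (cent (KB H B) a) : ℂ)⁻¹ * ∑ c : cent (KB H B) a, χ ((c : G) * a)
      = (Nat.card (cent (KB H B) a) : ℂ)⁻¹ * ((Nat.card (KB H B) : ℂ)⁻¹ *
          ((Nat.card (KB H B) : ℂ) * ∑ c : cent (KB H B) a, χ ((c : G) * a))) := by
        field_simp
    _ = (Nat.card (cent (KB H B) a) : ℂ)⁻¹ * ((Nat.card (KB H B) : ℂ)⁻¹ *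
          ((Nat.card (cent (KB H B) a) : ℂ) * ∑ h : KB H B, χ ((h : G) * a))) := by rw [hcs]
    _ = (Nat.card (KB H B) : ℂ)⁻¹ * ∑ h : KB H B, χ ((h : G) * a) := by
        field_simp

theorem eps_insert {B : Finset G} {a : G} (haB : a ∉ B) : eps (insert a B) = - eps B := by
  unfold eps
  rw [Finset.card_insert_of_notMem haB, pow_succ]
  ring

theorem cj_singleton (a : G) : cj a {a} = {a} := by
  unfold cj
  rw [Finset.image_singleton]
  congr 1
  group

theorem star (hD : DadeHypothesis A L H) (χ : G → ℂ) (hχ : IsClassFunction G χ) {a : G}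
    (ha : a ∈ A) :
    ∑ B ∈ PP A, (if cj a B = B then eps B * Psi H χ B a else 0) = Psi H χ {a} a := by
  rw [← Finset.sum_filter]
  have hmem : ({a} : Finset G) ∈ (PP A).filter (fun B => cj a B = B) := by
    rw [Finset.mem_filter, mem_PP]
    refine ⟨⟨Finset.singleton_nonempty a, ?_⟩, cj_singleton a⟩
    intro b hb
    rw [Finset.mem_singleton] at hb
    rw [hb]; exact ha
  rw [← Finset.add_sum_erase _ _ hmem]
  have key : ∀ B : Finset G, B ∈ PP A → cj a B = B → a ∉ B →
      eps B * Psi H χ B a + eps (insert a B) * Psi H χ (insert a B) a = 0 := by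
    intro B hB hcj haB
    rw [eps_insert haB, Psi_insert hD χ hχ hB ha hcj]
    ring
  have h0 : ∑ B ∈ ((PP A).filter (fun B => cj a B = B)).erase {a}, eps B * Psi H χ B a = 0 := by
    refine Finset.sum_involution (fun B _ => if a ∈ B then B.erase a else insert a B) ?_ ?_ ?_ ?_
    · intro B hB
      rw [Finset.mem_erase, Finset.mem_filter] at hB
      obtain ⟨hne, hBP, hcj⟩ := hB
      by_cases haB : a ∈ B
      · rw [if_pos haB]
        have hne' : (B.erase a).Nonempty := by
          rw [Finset.nonempty_iff_ne_empty]
          intro he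
          rcases (Finset.erase_eq_empty_iff B a).mp he with h | h
          · rw [h] at haB; exact absurd haB (Finset.notMem_empty a)
          · exact hne h
        have hP' : B.erase a ∈ PP A := by
          rw [mem_PP]
          exact ⟨hne', fun b hb => (mem_PP.mp hBP).2 b (Finset.mem_of_mem_erase hb)⟩
        have hcj' : cj a (B.erase a) = B.erase a := by
          rw [cj_erase, hcj]
          congr 1
          group
        have hins : insert a (B.erase a) = B := Finset.insert_erase haB
        have := key (B.erase a) hP' hcj' (Finset.notMem_erase a B)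
        rw [hins] at this
        rw [add_comm]; exact this
      · rw [if_neg haB]
        exact key B hBP hcj haB
    · intro B hB _
      by_cases haB : a ∈ B
      · rw [if_pos haB]
        intro h
        have := Finset.notMem_erase a B
        rw [h] at this
        exact this haB
      · rw [if_neg haB]
        intro h
        apply haB
        rw [← h]
        exact Finset.mem_insert_self a B
    · intro B hB
      rw [Finset.mem_erase, Finset.mem_filter] at hB ⊢
      obtain ⟨hne, hBP, hcj⟩ := hB
      by_cases haB : a ∈ B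
      · rw [if_pos haB]
        have hne' : (B.erase a).Nonempty := by
          rw [Finset.nonempty_iff_ne_empty]
          intro he
          rcases (Finset.erase_eq_empty_iff B a).mp he with h | h
          · rw [h] at haB; exact absurd haB (Finset.notMem_empty a)
          · exact hne h
        refine ⟨?_, ?_, ?_⟩
        · intro h
          have := Finset.notMem_erase a B
          rw [h] at this
          exact this (Finset.mem_singleton_self a)
        · rw [mem_PP]
          exact ⟨hne', fun b hb => (mem_PP.mp hBP).2 b (Finset.mem_of_mem_erase hb)⟩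
        · rw [cj_erase, hcj]
          congr 1
          group
      · rw [if_neg haB]
        refine ⟨?_, ?_, ?_⟩
        · intro h
          obtain ⟨b, hb⟩ := (mem_PP.mp hBP).1
          have hb' : b ∈ insert a B := Finset.mem_insert_of_mem hb
          rw [h, Finset.mem_singleton] at hb'
          rw [hb'] at hb
          exact haB hb
        · rw [mem_PP]
          refine ⟨Finset.insert_nonempty a B, ?_⟩
          intro b hb
          rw [Finset.mem_insert] at hb
          rcases hb with hb | hb
          · rw [hb]; exact ha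
          · exact (mem_PP.mp hBP).2 b hb
        · rw [cj_insert, hcj]
          congr 1
          group
    · intro B hB
      by_cases haB : a ∈ B
      · simp only [if_pos haB, Finset.notMem_erase, if_false]
        exact Finset.insert_erase haB
      · simp only [if_neg haB, Finset.mem_insert_self, if_true]
        exact Finset.erase_insert haB
  rw [h0, add_zero]
  unfold eps
  rw [Finset.card_singleton]
  norm_num

end Psi

end Cfsg.Agent.Lib.Helper7.DadeV
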