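import Mathlib
import Cfsg.Prelude.Def_OddOrderChar
import Cfsg.Agent.S1500
import Cfsg.Agent.Lib.Helper7.DadeVD
import Cfsg.Agent.Lib.Helper26.CharInt
import Cfsg.Agent.Lib.Helper26.IndChar
import Cfsg.Agent.Lib.Helper26.GenChar
import Cfsg.Agent.Lib.Helper4.PermLemma

set_option autoImplicit false

/-!
# Dade isometry and generalized characters, part E (helper7)

Conjugation invariance and integrality of the terms `TT`, and the main theorem
`dade_virtual`.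
-/

namespace Cfsg.Agent.Lib.Helper7.DadeV

open Cfsg Classical
open scoped ComplexConjugate

section TT
variable {G : Type*} [Group G] [Fintype G] {A : Set G} {L : Subgroup G} {H : G → Subgroup G}

/-- the contribution of `B` -/
noncomputable def TT (H : G → Subgroup G) (α : L → ℂ) (χ : G → ℂ) (B : Finset G) : ℂ :=
  ∑ a : L, if cj (a : G) B = B then α a * conj (Psi H χ B a) else 0

/-- conjugation `K_B ≃ K_{yBy⁻¹}` -/
noncomputable def KBequiv (hD : DadeHypothesis A L H) {B : Finset G} (hB : ∀ b ∈ B, b ∈ A) {y : G}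
    (hy : y ∈ L) : KB H B ≃ KB H (cj y B) where
  toFun h := ⟨y * h * y⁻¹, (mem_KB_cj hD hB hy).mpr (by
    have e : y⁻¹ * (y * (h : G) * y⁻¹) * y = h := by group
    rw [e]; exact h.2)⟩
  invFun h := ⟨y⁻¹ * h * y, (mem_KB_cj hD hB hy).mp h.2⟩
  left_inv h := by
    apply Subtype.ext
    show y⁻¹ * (y * (h : G) * y⁻¹) * y = h
    group
  right_inv h := by
    apply Subtype.ext
    show y * (y⁻¹ * (h : G) * y) * y⁻¹ = h
    group

theorem Psi_conj (hD : DadeHypothesis A L H) (χ : G → ℂ) (hχ : IsClassFunction G χ)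
    {B : Finset G} (hB : ∀ b ∈ B, b ∈ A) {y : G} (hy : y ∈ L) (x : G) :
    Psi H χ (cj y B) (y * x * y⁻¹) = Psi H χ B x := by
  unfold Psi
  have hcard : Nat.card (KB H (cj y B)) = Nat.card (KB H B) :=
    (Nat.card_congr (KBequiv hD hB hy)).symm
  rw [hcard]
  congr 1
  symm
  apply Fintype.sum_equiv (KBequiv hD hB hy)
  intro h
  show χ ((h : G) * x) = χ (y * (h : G) * y⁻¹ * (y * x * y⁻¹))
  have e : y * (h : G) * y⁻¹ * (y * x * y⁻¹) = y * ((h : G) * x) * y⁻¹ := by group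
  rw [e, hχ]

theorem TT_conj (hD : DadeHypothesis A L H) (α : L → ℂ) (hα : IsClassFunction L α)
    (χ : G → ℂ) (hχ : IsClassFunction G χ)
    {B : Finset G} (hB : ∀ b ∈ B, b ∈ A) {y : G} (hy : y ∈ L) :
    TT H α χ (cj y B) = TT H α χ B := by
  unfold TT
  symm
  apply Fintype.sum_equiv (MulAut.conj (⟨y, hy⟩ : L)).toEquiv
  intro a
  have hco : (((MulAut.conj (⟨y, hy⟩ : L)).toEquiv a : L) : G) = y * a * y⁻¹ := by
    simp [MulAut.conj_apply]
  have hval : α ((MulAut.conj (⟨y, hy⟩ : L)).toEquiv a) = α a := by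
    have := hα a ⟨y, hy⟩
    simpa [MulAut.conj_apply] using this
  rw [hco, hval]
  have e1 : cj (y * (a : G) * y⁻¹) (cj y B) = cj y (cj (a : G) B) := by
    rw [← cj_mul, ← cj_mul]
    congr 1
    group
  by_cases h : cj (a : G) B = B
  · rw [if_pos h, if_pos (by rw [e1, h]), Psi_conj hD χ hχ hB hy]
  · rw [if_neg h, if_neg]
    intro h'
    rw [e1] at h'
    exact h (cj_inj h')

/-- the subgroup `{(k n, n)}` of `G × L` -/
def MM (H : G → Subgroup G) (L : Subgroup G) (B : Finset G)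
    (hnorm : ∀ n ∈ L, cj n B = B → ∀ k ∈ KB H B, n * k * n⁻¹ ∈ KB H B) : Subgroup (G × L) where
  carrier := {p | cj (p.2 : G) B = B ∧ p.1 * (p.2 : G)⁻¹ ∈ KB H B}
  one_mem' := by
    refine ⟨?_, ?_⟩
    · show cj ((1 : L) : G) B = B
      rw [Subgroup.coe_one, cj_one]
    · show (1 : G) * ((1 : L) : G)⁻¹ ∈ KB H B
      rw [Subgroup.coe_one, inv_one, mul_one]
      exact (KB H B).one_mem
  mul_mem' := by
    rintro p q ⟨hp1, hp2⟩ ⟨hq1, hq2⟩
    refine ⟨?_, ?_⟩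
    · show cj ((p.2 * q.2 : L) : G) B = B
      rw [Subgroup.coe_mul, cj_mul, hq1, hp1]
    · show p.1 * q.1 * ((p.2 * q.2 : L) : G)⁻¹ ∈ KB H B
      have e : p.1 * q.1 * ((p.2 * q.2 : L) : G)⁻¹
          = (p.1 * (p.2 : G)⁻¹) * ((p.2 : G) * (q.1 * (q.2 : G)⁻¹) * (p.2 : G)⁻¹) := by
        rw [Subgroup.coe_mul]; group
      rw [e]
      exact (KB H B).mul_mem hp2 (hnorm _ p.2.2 hp1 _ hq2)
  inv_mem' := by
    rintro p ⟨hp1, hp2⟩
    refine ⟨?_, ?_⟩
    · show cj ((p.2⁻¹ : L) : G) B = B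
      rw [Subgroup.coe_inv]
      exact cj_inv_of_fixed hp1
    · show p.1⁻¹ * ((p.2⁻¹ : L) : G)⁻¹ ∈ KB H B
      have e : p.1⁻¹ * ((p.2⁻¹ : L) : G)⁻¹
          = (p.2 : G)⁻¹ * (p.1 * (p.2 : G)⁻¹)⁻¹ * ((p.2 : G)⁻¹)⁻¹ := by
        rw [Subgroup.coe_inv]; group
      rw [e]
      exact hnorm _ (L.inv_mem p.2.2) (cj_inv_of_fixed hp1) _ ((KB H B).inv_mem hp2)

theorem mem_MM {B : Finset G}
    {hnorm : ∀ n ∈ L, cj n B = B → ∀ k ∈ KB H B, n * k * n⁻¹ ∈ KB H B} {p : G × L} :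
    p ∈ MM H L B hnorm ↔ cj (p.2 : G) B = B ∧ p.1 * (p.2 : G)⁻¹ ∈ KB H B := Iff.rfl

/-- `MM ≃ K_B × N_L(B)` -/
noncomputable def MMequiv {B : Finset G}
    (hnorm : ∀ n ∈ L, cj n B = B → ∀ k ∈ KB H B, n * k * n⁻¹ ∈ KB H B) :
    MM H L B hnorm ≃ KB H B × {a : L // cj (a : G) B = B} where
  toFun p := (⟨p.1.1 * (p.1.2 : G)⁻¹, p.2.2⟩, ⟨p.1.2, p.2.1⟩)
  invFun q := ⟨((q.1 : G) * (q.2.1 : G), q.2.1), by
    rw [mem_MM]
    refine ⟨q.2.2, ?_⟩
    show (q.1 : G) * (q.2.1 : G) * (q.2.1 : G)⁻¹ ∈ KB H B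
    rw [mul_inv_cancel_right]
    exact q.1.2⟩
  left_inv p := by
    apply Subtype.ext
    apply Prod.ext
    · show p.1.1 * (p.1.2 : G)⁻¹ * (p.1.2 : G) = p.1.1
      group
    · rfl
  right_inv q := by
    apply Prod.ext
    · apply Subtype.ext
      show (q.1 : G) * (q.2.1 : G) * (q.2.1 : G)⁻¹ = q.1
      group
    · rfl

theorem TT_int (hD : DadeHypothesis A L H) (α : L → ℂ) (hα : IsGeneralizedCharacter L α)
    (χ : G → ℂ) (hχ : IsCharacter G χ) {B : Finset G} (hB : ∀ b ∈ B, b ∈ A) :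
    ∃ k : ℤ, TT H α χ B = (Nat.card {a : L // cj (a : G) B = B} : ℂ) * k := by
  have hnorm : ∀ n ∈ L, cj n B = B → ∀ k ∈ KB H B, n * k * n⁻¹ ∈ KB H B := by
    intro n hn hcj k hk
    have h1 := mem_KB_cj hD hB hn (u := n * k * n⁻¹)
    rw [hcj] at h1
    rw [h1]
    have e : n⁻¹ * (n * k * n⁻¹) * n = k := by group
    rw [e]; exact hk
  have hc1 : IsCharacter (MM H L B hnorm)
      (χ ∘ ((MonoidHom.fst G L).comp (MM H L B hnorm).subtype)) :=
    Cfsg.Agent.Lib.Helper4.isCharacter_comp hχ _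
  have hc2 : IsGeneralizedCharacter (MM H L B hnorm)
      (α ∘ ((MonoidHom.snd G L).comp (MM H L B hnorm).subtype)) := by
    obtain ⟨χ1, χ2, h1, h2, rfl⟩ := hα
    exact ⟨χ1 ∘ ((MonoidHom.snd G L).comp (MM H L B hnorm).subtype),
      χ2 ∘ ((MonoidHom.snd G L).comp (MM H L B hnorm).subtype),
      Cfsg.Agent.Lib.Helper4.isCharacter_comp h1 _, Cfsg.Agent.Lib.Helper4.isCharacter_comp h2 _, rfl⟩
  obtain ⟨z, hz⟩ := Cfsg.Agent.Lib.Helper26.classInner_generalized_int hc2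
    (Cfsg.Agent.Lib.Helper26.isGeneralizedCharacter_of_isCharacter hc1)
  refine ⟨z, ?_⟩
  unfold classInner at hz
  have hsum : ∑ p : MM H L B hnorm,
      (α ∘ ((MonoidHom.snd G L).comp (MM H L B hnorm).subtype)) p *
        conj ((χ ∘ ((MonoidHom.fst G L).comp (MM H L B hnorm).subtype)) p)
      = ∑ n : {a : L // cj (a : G) B = B}, ∑ k : KB H B,
          α n * conj (χ ((k : G) * ((n : L) : G))) := by
    rw [Finset.sum_comm, ← Fintype.sum_prod_type (f := fun q : KB H B × {a : L // cj (a : G) B = B} =>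
      α q.2 * conj (χ ((q.1 : G) * ((q.2 : L) : G))))]
    apply Fintype.sum_equiv (MMequiv hnorm)
    intro p
    show α p.1.2 * conj (χ p.1.1) = α p.1.2 * conj (χ (p.1.1 * (p.1.2 : G)⁻¹ * (p.1.2 : G)))
    rw [inv_mul_cancel_right]
  have hcardM : Nat.card (MM H L B hnorm)
      = Nat.card (KB H B) * Nat.card {a : L // cj (a : G) B = B} := by
    rw [Nat.card_congr (MMequiv hnorm), Nat.card_prod]
  have hTT : TT H α χ B = (Nat.card (KB H B) : ℂ)⁻¹ *
      ∑ n : {a : L // cj (a : G) B = B}, ∑ k : KB H B,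
        α n * conj (χ ((k : G) * ((n : L) : G))) := by
    unfold TT
    rw [← Finset.sum_filter, Finset.sum_subtype (Finset.univ.filter fun a : L => cj (a : G) B = B)
      (p := fun a : L => cj (a : G) B = B) (by simp), Finset.mul_sum]
    refine Finset.sum_congr rfl fun n _ => ?_
    unfold Psi
    have h1 : conj ((Nat.card (KB H B) : ℂ)⁻¹ * ∑ k : KB H B, χ ((k : G) * ((n : L) : G)))
        = (Nat.card (KB H B) : ℂ)⁻¹ * ∑ k : KB H B, conj (χ ((k : G) * ((n : L) : G))) := by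
      rw [map_mul, map_inv₀, Complex.conj_natCast, map_sum]
    rw [h1, ← Finset.mul_sum]
    ring
  rw [hsum] at hz
  rw [hTT]
  have hK : (Nat.card (KB H B) : ℂ) ≠ 0 := Nat.cast_ne_zero.mpr Nat.card_pos.ne'
  have hM : (Nat.card (MM H L B hnorm) : ℂ) ≠ 0 := Nat.cast_ne_zero.mpr Nat.card_pos.ne'
  have hS : ∑ n : {a : L // cj (a : G) B = B}, ∑ k : KB H B,
        α n * conj (χ ((k : G) * ((n : L) : G))) = (Nat.card (MM H L B hnorm) : ℂ) * z := by
    rw [← hz]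
    field_simp
  rw [hS, hcardM]
  push_cast
  field_simp

end TT

end Cfsg.Agent.Lib.Helper7.DadeV
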