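import Mathlib
import Cfsg.Prelude.Def_OddOrderChar
import Cfsg.Agent.S1500
import Cfsg.Agent.Lib.Helper7.DadeVE

set_option autoImplicit false

/-!
# Dade isometry and generalized characters, part F (helper7)

`dade_virtual`: the Dade map sends generalized characters supported on `A` to generalized characters.
-/

namespace Cfsg.Agent.Lib.Helper7.DadeV

open Cfsg Classical
open scoped ComplexConjugate

section Main
variable {G : Type*} [Group G] [Fintype G] {A : Set G} {L : Subgroup G} {H : G → Subgroup G}

theorem eps_conj (B : Finset G) : conj (eps B) = eps B := by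
  unfold eps
  rw [map_pow, map_neg, map_one]

theorem eps_cj (y : G) (B : Finset G) : eps (cj y B) = eps B := by
  unfold eps
  rw [card_cj]

theorem eps_int (B : Finset G) : eps B = (((-1 : ℤ) ^ (B.card + 1) : ℤ) : ℂ) := by
  unfold eps
  push_cast
  rfl

theorem psi_spec (hD : DadeHypothesis A L H) (μ : G → ℂ) (a : G) (ha : a ∈ A) :
    Psi H μ {a} a = (Nat.card (H a) : ℂ)⁻¹ * ∑ᶠ u ∈ (H a : Set G), μ (a * u) := by
  unfold Psi
  rw [KB_singleton]
  congr 1
  rw [Cfsg.Agent.S1500.finsum_mem_eq_sum_ite, ← Finset.sum_filter,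
    Finset.sum_subtype (Finset.univ.filter (· ∈ (H a : Set G))) (p := (· ∈ (H a : Set G))) (by simp)]
  apply Fintype.sum_equiv (Equiv.subtypeEquivRight (fun x => (SetLike.mem_coe (p := H a) (x := x)).symm))
  intro h
  show μ ((h : G) * a) = μ (a * (h : G))
  rw [Cfsg.Agent.S1500.comm_of_mem hD ha h.2]

theorem dade_inner_int (hD : DadeHypothesis A L H) (α : L → ℂ)
    (hα : IsGeneralizedCharacter L α) (hαA : ∀ x : L, (x : G) ∉ A → α x = 0)
    (μ : G → ℂ) (hμ : IsCharacter G μ) :
    ∃ n : ℤ, classInner α (fun a : L => Psi H μ {(a : G)} a) = n := by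
  have hαcf : IsClassFunction L α :=
    Cfsg.Agent.Lib.Helper26.isClassFunction_of_isGeneralizedCharacter hα
  have hμcf : IsClassFunction G μ := Cfsg.Agent.Lib.Helper26.isClassFunction_of_isCharacter hμ
  unfold classInner
  have hpt : ∀ a : L, α a * conj (Psi H μ {(a : G)} a)
      = ∑ B ∈ PP A, (if cj (a : G) B = B then eps B * (α a * conj (Psi H μ B a)) else 0) := by
    intro a
    by_cases ha : (a : G) ∈ A
    · rw [← star hD μ hμcf ha, map_sum, Finset.mul_sum]
      refine Finset.sum_congr rfl fun B _ => ?_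
      by_cases h : cj (a : G) B = B
      · rw [if_pos h, if_pos h, map_mul, eps_conj]; ring
      · rw [if_neg h, if_neg h, map_zero, mul_zero]
    · rw [hαA a ha, zero_mul]
      symm
      apply Finset.sum_eq_zero
      intro B _
      split_ifs <;> simp
  rw [Finset.sum_congr rfl (fun a _ => hpt a), Finset.sum_comm]
  have h2 : ∀ B : Finset G,
      ∑ a : L, (if cj (a : G) B = B then eps B * (α a * conj (Psi H μ B a)) else 0)
        = eps B * TT H α μ B := by
    intro B
    unfold TT
    rw [Finset.mul_sum]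
    refine Finset.sum_congr rfl fun a _ => ?_
    split_ifs <;> simp
  rw [Finset.sum_congr rfl (fun B _ => h2 B)]
  have h3 : ∑ B ∈ PP A, eps B * TT H α μ B
      = ∑ B : Finset G, (if B ∈ PP A then eps B * TT H α μ B else 0) := by
    rw [← Finset.sum_filter]
    congr 1
    ext B
    simp
  rw [h3]
  letI : MulAction L (Finset G) := conjAction L
  obtain ⟨n, hn⟩ := orbit_sum_int (L := L) (X := Finset G)
    (fun B => if B ∈ PP A then eps B * TT H α μ B else 0)
    (by
      intro y B
      show (if cj (y : G) B ∈ PP A then eps (cj (y : G) B) * TT H α μ (cj (y : G) B) else 0)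
        = (if B ∈ PP A then eps B * TT H α μ B else 0)
      by_cases hB : B ∈ PP A
      · rw [if_pos hB, if_pos (PP_cj hD hB y.2), eps_cj,
          TT_conj hD α hαcf μ hμcf (mem_PP.mp hB).2 y.2]
      · rw [if_neg hB, if_neg]
        intro h
        apply hB
        have := PP_cj hD h (L.inv_mem y.2)
        rwa [← cj_mul, inv_mul_cancel, cj_one] at this)
    (by
      intro B
      have hcard : Nat.card (MulAction.stabilizer L B)
          = Nat.card {a : L // cj (a : G) B = B} :=
        Nat.card_congr (Equiv.subtypeEquivRight (fun a => MulAction.mem_stabilizer_iff))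
      by_cases hB : B ∈ PP A
      · obtain ⟨k, hk⟩ := TT_int hD α hα μ hμ (mem_PP.mp hB).2
        refine ⟨(-1 : ℤ) ^ (B.card + 1) * k, ?_⟩
        show (if B ∈ PP A then eps B * TT H α μ B else 0) = _
        rw [if_pos hB, hk, hcard, eps_int]
        push_cast
        ring
      · refine ⟨0, ?_⟩
        show (if B ∈ PP A then eps B * TT H α μ B else 0) = _
        rw [if_neg hB]
        simp)
  refine ⟨n, ?_⟩
  rw [hn]
  have hL : (Nat.card L : ℂ) ≠ 0 := Nat.cast_ne_zero.mpr Nat.card_pos.ne'
  field_simp

theorem dade_virtual (hD : DadeHypothesis A L H) (α : L → ℂ)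
    (hα : IsGeneralizedCharacter L α) (hαA : ∀ x : L, (x : G) ∉ A → α x = 0) :
    IsGeneralizedCharacter G (dadeIsometry A L H α) := by
  have hαcf : IsClassFunction L α :=
    Cfsg.Agent.Lib.Helper26.isClassFunction_of_isGeneralizedCharacter hα
  apply Cfsg.Agent.Lib.Helper26.isGeneralizedCharacter_of_int_coeff
    (Cfsg.Agent.S1500.dade_classFunction hD hαcf)
  intro μ
  have hμc : IsCharacter G (μ : G → ℂ) :=
    Cfsg.Agent.Lib.Helper26.isCharacter_of_isIrrCharacter μ.2
  have hμcf : IsClassFunction G (μ : G → ℂ) :=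
    Cfsg.Agent.Lib.Helper26.isClassFunction_of_isCharacter hμc
  have hrec := (Cfsg.Agent.S1500.result A L H hD α hαcf hαA).2 (μ : G → ℂ)
    (fun a : L => Psi H (μ : G → ℂ) {(a : G)} a) hμcf
    (fun a ha => psi_spec hD (μ : G → ℂ) a ha)
  rw [hrec]
  exact dade_inner_int hD α hα hαA μ hμc

end Main

end Cfsg.Agent.Lib.Helper7.DadeV
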