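import Mathlib
import Cfsg.Prelude
import Cfsg.Agent.Lib.Helper26.TIInd
import Cfsg.Agent.Lib.Helper26.CohExt

/-!
# Tools for fully ramified sections under a cyclic Frobenius action (helper7)
-/

set_option autoImplicit false

namespace Cfsg.Agent.Lib.Helper7.FrobRam

open Cfsg Cfsg.Agent.Lib.Helper26
open scoped ComplexConjugate

/-- the arithmetic at the end -/
theorem arith {ι : Type*} [Fintype ι] (n e P : ℕ) (hn : 2 ≤ n) (hι : Fintype.card ι = n)
    (c : ι → ℕ) (hsum : ∑ i, c i = e) (hsq : ∑ i, c i ^ 2 ≤ P) (hP : n * P + 1 = n + e ^ 2) :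
    (n : ℤ) ∣ (e : ℤ) - 1 ∨ (n : ℤ) ∣ (e : ℤ) + 1 := by
  obtain ⟨k, r, he, hrn⟩ : ∃ k r, e = n * k + r ∧ r < n :=
    ⟨e / n, e % n, (Nat.div_add_mod e n).symm, Nat.mod_lt _ (by omega)⟩
  have hsumZ : ∑ i, (c i : ℤ) = (e : ℤ) := by exact_mod_cast hsum
  have hsqZ : ∑ i, (c i : ℤ) ^ 2 ≤ (P : ℤ) := by exact_mod_cast hsq
  have hPZ : (n : ℤ) * P + 1 = n + (e : ℤ) ^ 2 := by exact_mod_cast hP
  have heZ : (e : ℤ) = n * k + r := by exact_mod_cast he
  have h1 : ∑ i, ((c i : ℤ) - k) = r := by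
    rw [Finset.sum_sub_distrib, hsumZ, Finset.sum_const, Finset.card_univ, hι, nsmul_eq_mul, heZ]
    ring
  have h2 : ∑ i, ((c i : ℤ) - k) ^ 2 = ∑ i, (c i : ℤ) ^ 2 - 2 * k * e + n * k ^ 2 := by
    have : ∀ i, ((c i : ℤ) - k) ^ 2 = (c i : ℤ) ^ 2 - 2 * k * (c i : ℤ) + k ^ 2 := fun i => by ring
    rw [Finset.sum_congr rfl fun i _ => this i, Finset.sum_add_distrib, Finset.sum_sub_distrib,
      ← Finset.mul_sum, hsumZ, Finset.sum_const, Finset.card_univ, hι, nsmul_eq_mul]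
  have h3 : (r : ℤ) ≤ ∑ i, ((c i : ℤ) - k) ^ 2 := by
    rw [← h1]
    exact Finset.sum_le_sum fun i _ => Int.le_self_sq _
  have h4 : (n : ℤ) * r ≤ n - 1 + (r : ℤ) ^ 2 := by
    have h5 : (r : ℤ) ≤ P - 2 * k * e + n * k ^ 2 := by linarith
    have hn0 : (0 : ℤ) ≤ n := Int.natCast_nonneg n
    have h6 := mul_le_mul_of_nonneg_left h5 hn0
    have h7 : (n : ℤ) * (P - 2 * k * e + n * k ^ 2) = n - 1 + (r : ℤ) ^ 2 := by
      have h8 : (n : ℤ) * P = n - 1 + (e : ℤ) ^ 2 := by linarith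
      calc (n : ℤ) * (P - 2 * k * e + n * k ^ 2)
          = n * P - 2 * n * k * e + n ^ 2 * k ^ 2 := by ring
        _ = n - 1 + (e : ℤ) ^ 2 - 2 * n * k * e + n ^ 2 * k ^ 2 := by rw [h8]
        _ = n - 1 + ((e : ℤ) - n * k) ^ 2 := by ring
        _ = n - 1 + (r : ℤ) ^ 2 := by rw [heZ]; ring
    linarith
  have hn2 : (2 : ℤ) ≤ n := by exact_mod_cast hn
  have h5 : r ≤ 1 ∨ n ≤ r + 1 := by
    by_contra hcon
    push Not at hcon
    obtain ⟨h6, h7⟩ := hcon
    have h8 : (2 : ℤ) ≤ r := by exact_mod_cast h6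
    have h9 : (r : ℤ) + 2 ≤ n := by exact_mod_cast h7
    nlinarith
  rcases h5 with h5 | h5
  · have h6 : r = 0 ∨ r = 1 := by omega
    rcases h6 with h6 | h6
    · exfalso
      subst h6
      have h10 : (n : ℤ) * ((P : ℤ) - n * k ^ 2) = n - 1 := by
        have := hPZ
        rw [heZ] at this
        push_cast at this
        linear_combination this
      rcases le_or_gt ((P : ℤ) - n * k ^ 2) 0 with hm | hm
      · nlinarith
      · have : (1 : ℤ) ≤ (P : ℤ) - n * k ^ 2 := hm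
        nlinarith
    · left
      subst h6
      exact ⟨k, by rw [heZ]; push_cast; ring⟩
  · right
    have h6 : r + 1 = n := by omega
    have h7 : (r : ℤ) + 1 = n := by exact_mod_cast h6
    exact ⟨k + 1, by rw [heZ]; linear_combination h7⟩

section Sums
variable {K : Type*} [Group K] [Fintype K]

theorem sum_subtype_ite (M : Subgroup K) [Fintype M] [DecidablePred (· ∈ M)] (F : K → ℂ) :
    ∑ m : M, F m = ∑ k : K, if k ∈ M then F k else 0 := by
  rw [← Finset.sum_filter]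
  exact (Finset.sum_subtype (Finset.univ.filter (fun g : K => g ∈ M)) (by simp) F).symm

theorem sum_ite_sub (N H : Subgroup K) [Fintype N] [Fintype H] [DecidablePred (· ∈ N)]
    (hNH : N ≤ H) (F : K → ℂ) :
    ∑ h : H, (if (h : K) ∈ N then F h else 0) = ∑ m : N, F m := by
  classical
  rw [sum_subtype_ite N F, sum_subtype_ite H (fun k => if k ∈ N then F k else 0)]
  refine Finset.sum_congr rfl fun k _ => ?_
  by_cases hk : k ∈ N
  · rw [if_pos (hNH hk)]
  · rw [if_neg hk]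
    simp

theorem norm_off (p : K → Prop) [DecidablePred p] (f : K → ℂ) :
    ∑ k : K, (if p k then 0 else f k) * conj (if p k then 0 else f k) =
      ∑ k : K, f k * conj (f k) - ∑ k : K, (if p k then f k * conj (f k) else 0) := by
  rw [← Finset.sum_sub_distrib]
  refine Finset.sum_congr rfl fun k _ => ?_
  by_cases hk : p k
  · simp [hk]
  · simp [hk]

end Sums

section TI
variable {Γ : Type*} [Group Γ] [Fintype Γ]

/-- the norm of a class function off a normal subgroup, computed on a TI subgroup covering the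
complement -/
theorem ti_norm (G N H : Subgroup Γ) [hG : G.Normal] [Fintype H] [DecidablePred (· ∈ G)]
    [DecidablePred (· ∈ N)] (hNG : N ≤ G)
    (hHG : ∀ h ∈ H, h ∈ G → h ∈ N)
    (hTI : ∀ t ∈ H, t ∉ N → ∀ u : Γ, u * t * u⁻¹ ∈ H → u ∈ H)
    (hcov : ∀ γ : Γ, γ ∉ G → ∃ u : Γ, u * γ * u⁻¹ ∈ H)
    (X : Γ → ℂ) (hX : IsClassFunction Γ X) :
    classInner (fun γ : Γ => if γ ∈ G then 0 else X γ) (fun γ : Γ => if γ ∈ G then 0 else X γ) =
    classInner (fun h : H => if (h : Γ) ∈ N then 0 else X h)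
      (fun h : H => if (h : Γ) ∈ N then 0 else X h) := by
  classical
  set ψ : H → ℂ := fun h : H => if (h : Γ) ∈ N then 0 else X h with hψ
  set T : Set Γ := {t | t ∈ H ∧ t ∉ N} with hT
  have hTI' : ∀ g : Γ, g ∉ H → ∀ t ∈ T, g * t * g⁻¹ ∈ T → t = 1 := by
    intro g hg t ht hgt
    exact absurd (hTI t ht.1 ht.2 g hgt.1) hg
  have hψcf : IsClassFunction H ψ := by
    intro h k
    show (if ((k * h * k⁻¹ : H) : Γ) ∈ N then 0 else X ((k * h * k⁻¹ : H) : Γ)) =
      if (h : Γ) ∈ N then 0 else X h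
    have h1 : ((k * h * k⁻¹ : H) : Γ) = (k : Γ) * h * (k : Γ)⁻¹ := by simp
    have h2 : (k : Γ) * h * (k : Γ)⁻¹ ∈ N ↔ (h : Γ) ∈ N := by
      constructor
      · intro hmem
        apply hHG _ h.2
        have h3 : (k : Γ) * h * (k : Γ)⁻¹ ∈ G := hNG hmem
        have h4 := hG.conj_mem _ h3 (k : Γ)⁻¹
        have h5 : (k : Γ)⁻¹ * ((k : Γ) * h * (k : Γ)⁻¹) * ((k : Γ)⁻¹)⁻¹ = h := by group
        rwa [h5] at h4
      · intro hmem
        apply hHG _ (H.mul_mem (H.mul_mem k.2 h.2) (H.inv_mem k.2))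
        exact hG.conj_mem _ (hNG hmem) _
    rw [h1]
    by_cases hh : (h : Γ) ∈ N
    · rw [if_pos hh, if_pos (h2.mpr hh)]
    · rw [if_neg hh, if_neg (fun h' => hh (h2.mp h')), hX]
  have hψT : ∀ x : H, (x : Γ) ∉ T → ψ x = 0 := by
    intro x hx
    have : (x : Γ) ∈ N := by
      by_contra h
      exact hx ⟨x.2, h⟩
    show (if (x : Γ) ∈ N then 0 else X x) = 0
    rw [if_pos this]
  have hψ1 : ψ 1 = 0 := by
    show (if ((1 : H) : Γ) ∈ N then 0 else X ((1 : H) : Γ)) = 0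
    rw [if_pos (by rw [Subgroup.coe_one]; exact N.one_mem)]
  have hkey := classInner_indFun_indFun_ti T H hTI' ψ ψ hψcf hψT hψT hψ1
  rw [← hkey]
  have hind : indFun H ψ = fun γ : Γ => if γ ∈ G then 0 else X γ := by
    funext γ
    by_cases hγ : γ ∈ G
    · rw [if_pos hγ]
      unfold indFun
      rw [Finset.sum_eq_zero, mul_zero]
      intro y _
      by_cases hy : y⁻¹ * γ * y ∈ H
      · rw [extendByZero_apply_mem H ψ _ hy]
        have h1 : y⁻¹ * γ * y ∈ G := by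
          have := hG.conj_mem γ hγ y⁻¹
          simpa using this
        show (if y⁻¹ * γ * y ∈ N then 0 else X (y⁻¹ * γ * y)) = 0
        rw [if_pos (hHG _ hy h1)]
      · exact extendByZero_apply_not_mem H ψ _ hy
    · rw [if_neg hγ]
      obtain ⟨u, hu⟩ := hcov γ hγ
      have huG : u * γ * u⁻¹ ∉ G := by
        intro h
        apply hγ
        have := hG.conj_mem _ h u⁻¹
        have h5 : u⁻¹ * (u * γ * u⁻¹) * (u⁻¹)⁻¹ = γ := by group
        rwa [h5] at this
      have huN : u * γ * u⁻¹ ∉ N := fun h => huG (hNG h)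
      have h1 := isClassFunction_indFun H ψ γ u
      rw [← h1]
      have h2 := indFun_eq_on_ti T H hTI' ψ hψcf hψT ⟨u * γ * u⁻¹, hu⟩ ⟨hu, huN⟩ (by
        intro h
        apply huN
        have := congrArg Subtype.val h
        simp only [Subgroup.coe_one] at this
        rw [this]
        exact N.one_mem)
      rw [h2]
      show (if u * γ * u⁻¹ ∈ N then 0 else X (u * γ * u⁻¹)) = X γ
      rw [if_neg huN, hX]
  rw [hind]

end TI

end Cfsg.Agent.Lib.Helper7.FrobRam
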