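import Mathlib
import Cfsg.Prelude
import Cfsg.Agent.Lib.Helper4.CharOrtho
import Cfsg.Agent.Lib.Helper4.BurnsideClass
import Cfsg.Agent.Lib.Helper9.ClassSize
import Cfsg.Agent.Lib.Helper26.CharBasic
import Cfsg.Agent.Lib.Helper26.CharInt
import Cfsg.Agent.Lib.Helper26.BrauerSuzuki
import Cfsg.Agent.Lib.Helper26.CohDescent
import Cfsg.Agent.Lib.Helper7.CliffordCorr
import Cfsg.Agent.Lib.Helper7.PResChar
import Cfsg.Agent.Lib.Helper2.CharConj
import Cfsg.Agent.S0169
import Cfsg.Agent.S0854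

/-!
# Characters vanishing off two conjugacy classes (Gagola), part A (helper7)
-/

set_option autoImplicit false

namespace Cfsg.Agent.Lib.Helper7.Gagola
open Cfsg Cfsg.Agent.Lib.Helper26 Cfsg.Agent.Lib.Helper7
open scoped ComplexConjugate

theorem conj_of_card {G : Type*} [Group G] (χ : G → ℂ) (N : Subgroup G)
    (hχ : Nat.card {C : ConjClasses G // ∃ g ∈ C.carrier, χ g ≠ 0} = 2)
    (hN : ∀ g : G, g ∈ N ↔ χ g ≠ 0) :
    ∀ x ∈ N, ∀ y ∈ N, x ≠ 1 → y ≠ 1 → IsConj x y := by
  intro x hx y hy hx1 hy1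
  obtain ⟨a, b, hab, huniv⟩ := Nat.card_eq_two_iff.mp hχ
  have hall : ∀ s : {C : ConjClasses G // ∃ g ∈ C.carrier, χ g ≠ 0}, s = a ∨ s = b := by
    intro s
    have : s ∈ ({a, b} : Set _) := by
      rw [huniv]
      exact Set.mem_univ s
    simpa using this
  let s1 : {C : ConjClasses G // ∃ g ∈ C.carrier, χ g ≠ 0} :=
    ⟨ConjClasses.mk 1, 1, ConjClasses.mem_carrier_mk, (hN 1).mp N.one_mem⟩
  let sx : {C : ConjClasses G // ∃ g ∈ C.carrier, χ g ≠ 0} :=
    ⟨ConjClasses.mk x, x, ConjClasses.mem_carrier_mk, (hN x).mp hx⟩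
  let sy : {C : ConjClasses G // ∃ g ∈ C.carrier, χ g ≠ 0} :=
    ⟨ConjClasses.mk y, y, ConjClasses.mem_carrier_mk, (hN y).mp hy⟩
  have h1x : s1 ≠ sx := by
    intro h
    have h' : ConjClasses.mk (1 : G) = ConjClasses.mk x := congrArg Subtype.val h
    rw [ConjClasses.mk_eq_mk_iff_isConj] at h'
    exact hx1 (isConj_one_right.mp h')
  have h1y : s1 ≠ sy := by
    intro h
    have h' : ConjClasses.mk (1 : G) = ConjClasses.mk y := congrArg Subtype.val h
    rw [ConjClasses.mk_eq_mk_iff_isConj] at h'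
    exact hy1 (isConj_one_right.mp h')
  have hxy : sx = sy := by
    rcases hall s1 with h1 | h1 <;> rcases hall sx with h2 | h2 <;> rcases hall sy with h3 | h3
    all_goals first
      | exact h2.trans h3.symm
      | exact absurd (h1.trans h2.symm) h1x
      | exact absurd (h1.trans h3.symm) h1y
  exact ConjClasses.mk_eq_mk_iff_isConj.mp (congrArg Subtype.val hxy)

section
variable {G : Type*} [Group G] [Fintype G]

/-- the hypotheses: `χ` irreducible, nonzero exactly on the nontrivial normal subgroup `N`, whose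
nonidentity elements form a single class -/
structure Hyp (χ : G → ℂ) (N : Subgroup G) : Prop where
  irr : IsIrrCharacter G χ
  supp : ∀ g : G, g ∈ N ↔ χ g ≠ 0
  cls : ∀ x ∈ N, ∀ y ∈ N, x ≠ 1 → y ≠ 1 → IsConj x y
  nontriv : N ≠ ⊥
  big : 2 < Nat.card G

variable {χ : G → ℂ} {N : Subgroup G}

theorem Hyp.exists_ne_one (h : Hyp χ N) : ∃ x ∈ N, x ≠ 1 := by
  obtain ⟨a, ha⟩ := (Subgroup.ne_bot_iff_exists_ne_one (H := N)).mp h.nontriv
  exact ⟨(a : G), a.2, fun h1 => ha (Subtype.ext h1)⟩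

theorem Hyp.value (h : Hyp χ N) {x y : G} (hx : x ∈ N) (hy : y ∈ N) (hx1 : x ≠ 1) (hy1 : y ≠ 1) :
    χ x = χ y :=
  Cfsg.Agent.Lib.Helper4.char_eq_of_isConj
    (Cfsg.Agent.Lib.Helper4.isClassFunction_of_isIrrCharacter h.irr) (h.cls x hx y hy hx1 hy1)

/-- `χ` is not the trivial character -/
theorem Hyp.ne_one (h : Hyp χ N) {p : ℕ} [Fact p.Prime] (hNp : IsPGroup p N) :
    χ ≠ fun _ => 1 := by
  classical
  intro hχ1
  have htop : ∀ g : G, g ∈ N := by
    intro g
    rw [h.supp, hχ1]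
    exact one_ne_zero
  haveI : Nontrivial N := by
    obtain ⟨x, hx, hx1⟩ := h.exists_ne_one
    exact ⟨⟨⟨x, hx⟩, 1, fun h1 => hx1 (congrArg Subtype.val h1)⟩⟩
  haveI := hNp.center_nontrivial
  obtain ⟨z, hz⟩ := exists_ne (1 : Subgroup.center N)
  have hzc : ∀ n : N, n * (z : N) = (z : N) * n := fun n =>
    (Subgroup.mem_center_iff.mp z.2 n)
  have hz1 : ((z : N) : G) ≠ 1 := by
    intro h1
    apply hz
    apply Subtype.ext
    apply Subtype.ext
    exact h1
  have hall : ∀ g : G, g = 1 ∨ g = ((z : N) : G) := by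
    intro g
    by_cases hg : g = 1
    · exact Or.inl hg
    · right
      have hc := h.cls _ (z : N).2 g (htop g) hz1 hg
      obtain ⟨c, hc⟩ := isConj_iff.mp hc
      have h2 := hzc ⟨c, htop c⟩
      have h3 : c * ((z : N) : G) = ((z : N) : G) * c := congrArg Subtype.val h2
      rw [← hc, h3, mul_inv_cancel_right]
  have hcard : Nat.card G ≤ 2 := by
    rw [Nat.card_eq_fintype_card, ← Finset.card_univ]
    have hsub : (Finset.univ : Finset G) ⊆ {1, ((z : N) : G)} := by
      intro g _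
      rcases hall g with hg | hg
      · rw [hg]; exact Finset.mem_insert_self _ _
      · rw [hg]; exact Finset.mem_insert_of_mem (Finset.mem_singleton_self _)
    exact (Finset.card_le_card hsub).trans Finset.card_le_two
  have := h.big
  omega

theorem sum_indicator (N : Subgroup G) [DecidablePred (· ∈ N)] (c : ℂ) :
    ∑ g : G, (if g ∈ N then c else 0) = (Nat.card N : ℂ) * c := by
  classical
  rw [Finset.sum_ite, Finset.sum_const_zero, add_zero, Finset.sum_const, nsmul_eq_mul]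
  congr 2
  rw [Nat.card_eq_fintype_card]
  symm
  apply Fintype.card_of_subtype
  intro x
  simp

theorem Hyp.formula (h : Hyp χ N) (d : ℕ) (hd : χ 1 = d) (x₀ : G) (hx₀ : x₀ ∈ N) (hx₀1 : x₀ ≠ 1)
    [DecidablePred (· ∈ N)] [DecidableEq G] :
    ∀ g : G, χ g = (if g ∈ N then χ x₀ else 0) + (if g = 1 then (d : ℂ) - χ x₀ else 0) := by
  intro g
  by_cases hg : g ∈ N
  · by_cases hg1 : g = 1
    · rw [if_pos hg, if_pos hg1, hg1, hd]
      ring
    · rw [if_pos hg, if_neg hg1, add_zero]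
      exact h.value hg hx₀ hg1 hx₀1
  · have hg1 : g ≠ 1 := by
      rintro rfl
      exact hg N.one_mem
    rw [if_neg hg, if_neg hg1, add_zero]
    by_contra hne
    exact hg ((h.supp g).mpr hne)

theorem Hyp.two_le (h : Hyp χ N) : 2 ≤ Nat.card N :=
  (Subgroup.one_lt_card_iff_ne_bot N).mpr h.nontriv

theorem Hyp.numerics (h : Hyp χ N) {p : ℕ} [Fact p.Prime] (hNp : IsPGroup p N) (d : ℕ)
    (hd : χ 1 = d) (x₀ : G) (hx₀ : x₀ ∈ N) (hx₀1 : x₀ ≠ 1) :
    χ x₀ * ((Nat.card N : ℂ) - 1) = -(d : ℂ) ∧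
      d ^ 2 * Nat.card N = Nat.card G * (Nat.card N - 1) := by
  classical
  set c := χ x₀ with hc
  set n := Nat.card N with hn
  have hn2 : 2 ≤ n := h.two_le
  have hform := h.formula d hd x₀ hx₀ hx₀1
  have h1 : classInner χ (fun _ => (1 : ℂ)) = 0 := by
    rw [classInner_irr h.irr Cfsg.Agent.Lib.Helper4.isIrrCharacter_one, if_neg (h.ne_one hNp)]
  have h2 : classInner χ χ = 1 := by
    rw [classInner_irr h.irr h.irr, if_pos rfl]
  unfold classInner at h1 h2
  have hG0 : (Nat.card G : ℂ) ≠ 0 := Nat.cast_ne_zero.mpr Nat.card_pos.ne'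
  have hs1 : ∑ g : G, χ g * conj ((fun _ : G => (1 : ℂ)) g) = (n : ℂ) * c + ((d : ℂ) - c) := by
    simp only [map_one, mul_one]
    rw [Finset.sum_congr rfl (fun g _ => hform g), Finset.sum_add_distrib, sum_indicator,
      Finset.sum_ite_eq', if_pos (Finset.mem_univ _)]
  have hs2 : ∑ g : G, χ g * conj (χ g) =
      (n : ℂ) * (c * conj c) + ((d : ℂ) * d - c * conj c) := by
    have hpt : ∀ g : G, χ g * conj (χ g) = (if g ∈ N then c * conj c else 0) +
        (if g = 1 then (d : ℂ) * d - c * conj c else 0) := by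
      intro g
      rw [hform g]
      by_cases hg : g ∈ N
      · by_cases hg1 : g = 1
        · rw [if_pos hg, if_pos hg1, if_pos hg, if_pos hg1]
          have : c + ((d : ℂ) - c) = d := by ring
          rw [this, Complex.conj_natCast]
          ring
        · rw [if_pos hg, if_neg hg1, if_pos hg, if_neg hg1, add_zero, add_zero]
      · have hg1 : g ≠ 1 := by
          rintro rfl
          exact hg N.one_mem
        rw [if_neg hg, if_neg hg1, if_neg hg, if_neg hg1]
        simp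
    rw [Finset.sum_congr rfl (fun g _ => hpt g), Finset.sum_add_distrib, sum_indicator,
      Finset.sum_ite_eq', if_pos (Finset.mem_univ _)]
  rw [hs1] at h1
  rw [hs2] at h2
  have e1 : (n : ℂ) * c + ((d : ℂ) - c) = 0 := by
    rcases mul_eq_zero.mp h1 with h | h
    · exact absurd (inv_eq_zero.mp h) hG0
    · exact h
  have e2 : (n : ℂ) * (c * conj c) + ((d : ℂ) * d - c * conj c) = (Nat.card G : ℂ) := by
    have := congrArg (fun z => (Nat.card G : ℂ) * z) h2
    simp only [mul_one] at this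
    rw [← mul_assoc, mul_inv_cancel₀ hG0, one_mul] at this
    exact this
  have hc1 : c * ((n : ℂ) - 1) = -(d : ℂ) := by linear_combination e1
  refine ⟨hc1, ?_⟩
  have hcc : conj c * ((n : ℂ) - 1) = -(d : ℂ) := by
    have := congrArg conj hc1
    simpa using this
  have hn1 : ((n : ℂ) - 1) ≠ 0 := by
    have : (n : ℂ) ≠ 1 := by
      intro h'
      have : n = 1 := by exact_mod_cast h'
      omega
    exact sub_ne_zero.mpr this
  have key : ((d : ℂ)) ^ 2 * n = (Nat.card G : ℂ) * ((n : ℂ) - 1) := by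
    have h3 : (c * conj c) * ((n : ℂ) - 1) ^ 2 = (d : ℂ) ^ 2 := by
      have : (c * ((n : ℂ) - 1)) * (conj c * ((n : ℂ) - 1)) = (-(d : ℂ)) * (-(d : ℂ)) := by
        rw [hc1, hcc]
      linear_combination this
    have h4 : (c * conj c) * ((n : ℂ) - 1) = (d : ℂ) ^ 2 / ((n : ℂ) - 1) := by
      field_simp
      linear_combination h3
    have h5 : (c * conj c) * ((n : ℂ) - 1) + (d : ℂ) ^ 2 = (Nat.card G : ℂ) := by
      linear_combination e2
    rw [h4] at h5
    field_simp at h5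
    linear_combination h5
  have hcast : ((n - 1 : ℕ) : ℂ) = (n : ℂ) - 1 := by
    rw [Nat.cast_sub (by omega)]
    simp
  rw [← hcast] at key
  exact_mod_cast key

/-- the class of a nonidentity element of `N` has `|N| - 1` elements -/
theorem Hyp.card_class [hNn : N.Normal] (h : Hyp χ N) {x : G} (hx : x ∈ N) (hx1 : x ≠ 1) :
    (Nat.card N - 1) * Nat.card (Subgroup.centralizer ({x} : Set G)) = Nat.card G := by
  have h1 := Cfsg.Agent.Lib.Helper9.card_carrier_mul_card_centralizer x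
  have h2 : (ConjClasses.mk x).carrier = (N : Set G) \ {1} := by
    ext y
    rw [ConjClasses.mem_carrier_iff_mk_eq, ConjClasses.mk_eq_mk_iff_isConj]
    constructor
    · intro hyx
      obtain ⟨c, hc⟩ := isConj_iff.mp hyx
      have hy : y ∈ N := by
        have : y = c⁻¹ * x * c⁻¹⁻¹ := by
          rw [← hc]
          group
        rw [this]
        exact hNn.conj_mem x hx c⁻¹
      refine ⟨hy, ?_⟩
      intro hy1
      rw [Set.mem_singleton_iff] at hy1
      apply hx1
      rw [← hc, hy1]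
      group
    · rintro ⟨hy, hy1⟩
      exact h.cls y hy x hx hy1 hx1
  have h3 : Nat.card ↥((N : Set G) \ {1}) = Nat.card N - 1 := by
    rw [Nat.card_coe_set_eq, Set.ncard_diff_singleton_of_mem (show (1 : G) ∈ (N : Set G) from N.one_mem)]
    congr 1
  rw [h2, h3] at h1
  exact h1

theorem Hyp.sylow_dvd (h : Hyp χ N) {p : ℕ} [Fact p.Prime] (hNp : IsPGroup p N) (d : ℕ)
    (hd : χ 1 = d) (q : ℕ) [Fact q.Prime] (hqp : q ≠ p) (Q : Sylow q G) :
    Nat.card (Q : Subgroup G) ∣ d := by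
  classical
  haveI : Fintype (Q : Subgroup G) := Fintype.ofFinite _
  have hQN : ∀ y ∈ (Q : Subgroup G), y ∈ N → y = 1 := by
    intro y hyQ hyN
    obtain ⟨k, hk⟩ := (Q.2 : IsPGroup q (Q : Subgroup G)) ⟨y, hyQ⟩
    obtain ⟨j, hj⟩ := hNp ⟨y, hyN⟩
    have h1 : y ^ q ^ k = 1 := congrArg Subtype.val hk
    have h2 : y ^ p ^ j = 1 := congrArg Subtype.val hj
    have h3 : orderOf y ∣ q ^ k := orderOf_dvd_of_pow_eq_one h1
    have h4 : orderOf y ∣ p ^ j := orderOf_dvd_of_pow_eq_one h2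
    have hcop : Nat.Coprime (q ^ k) (p ^ j) :=
      Nat.Coprime.pow _ _ ((Nat.coprime_primes Fact.out Fact.out).mpr hqp)
    have h5 : orderOf y = 1 := Nat.eq_one_of_dvd_coprimes hcop h3 h4
    exact orderOf_eq_one_iff.mp h5
  have hres : IsCharacter (Q : Subgroup G) (χ ∘ (Q : Subgroup G).subtype) :=
    Cfsg.Agent.Lib.Helper2.isCharacter_comp_hom (isCharacter_of_isIrrCharacter h.irr) _
  obtain ⟨k, hk⟩ := classInner_isCharacter_nat hres
    (isCharacter_of_isIrrCharacter (Cfsg.Agent.Lib.Helper4.isIrrCharacter_one (G := (Q : Subgroup G))))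
  unfold classInner at hk
  have hsum : ∑ y : (Q : Subgroup G), (χ ∘ (Q : Subgroup G).subtype) y *
      conj ((fun _ : (Q : Subgroup G) => (1 : ℂ)) y) = d := by
    rw [Finset.sum_eq_single (1 : (Q : Subgroup G))]
    · show χ ((1 : (Q : Subgroup G)) : G) * conj (1 : ℂ) = d
      rw [map_one, mul_one]
      exact hd
    · intro y _ hy1
      have hyN : (y : G) ∉ N := by
        intro hyN
        exact hy1 (Subtype.ext (hQN y y.2 hyN))
      have : χ (y : G) = 0 := by
        by_contra hne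
        exact hyN ((h.supp _).mpr hne)
      show χ (y : G) * _ = 0
      rw [this, zero_mul]
    · intro h1
      exact absurd (Finset.mem_univ _) h1
  rw [hsum] at hk
  have hQ0 : (Nat.card (Q : Subgroup G) : ℂ) ≠ 0 := Nat.cast_ne_zero.mpr Nat.card_pos.ne'
  have hk' : (d : ℂ) = (k : ℂ) * (Nat.card (Q : Subgroup G) : ℂ) := by
    rw [← hk]
    field_simp
  have : d = k * Nat.card (Q : Subgroup G) := by exact_mod_cast hk'
  exact Dvd.intro_left k this.symm

/-- the arithmetic core -/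
theorem arith_core {p g n d cx j : ℕ} (hp : p.Prime) (hg0 : g ≠ 0) (hd0 : d ≠ 0) (hj : j ≠ 0)
    (hn : n = p ^ j) (h1 : d ^ 2 * n = g * (n - 1)) (h2 : (n - 1) * cx = g)
    (h3 : ∀ q : ℕ, q.Prime → q ≠ p → q ^ g.factorization q ∣ d) :
    cx = p ^ g.factorization p := by
  set a := g.factorization p with ha
  set m := g / p ^ a with hm
  have hgm : p ^ a * m = g := Nat.ordProj_mul_ordCompl_eq_self g p
  have hpm : ¬ p ∣ m := Nat.not_dvd_ordCompl hp hg0
  have hm0 : m ≠ 0 := by
    rintro h0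
    rw [h0, mul_zero] at hgm
    exact hg0 hgm.symm
  have hn2 : 2 ≤ n := by
    rw [hn]
    calc 2 ≤ p := hp.two_le
      _ = p ^ 1 := (pow_one p).symm
      _ ≤ p ^ j := Nat.pow_le_pow_right hp.pos (by omega)
  have hmd : m ∣ d := by
    rw [← Nat.factorization_prime_le_iff_dvd hm0 hd0]
    intro q hq
    by_cases hqp : q = p
    · rw [hqp, hm, Nat.factorization_ordCompl, Finsupp.erase_same]
      exact Nat.zero_le _
    · rw [hm, Nat.factorization_ordCompl, Finsupp.erase_ne hqp]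
      exact (hq.pow_dvd_iff_le_factorization hd0).mp (h3 q hq hqp)
  have hcop1 : Nat.Coprime (n - 1) p := by
    rw [Nat.coprime_comm, Nat.Prime.coprime_iff_not_dvd hp]
    intro hdvd
    have hpn : p ∣ n := by
      rw [hn]
      exact dvd_pow_self p hj
    have : p ∣ n - (n - 1) := Nat.dvd_sub hpn hdvd
    have h' : n - (n - 1) = 1 := by omega
    rw [h'] at this
    exact hp.one_lt.ne' (Nat.dvd_one.mp this)
  have hn1m : (n - 1) ∣ m := by
    have : (n - 1) ∣ p ^ a * m := by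
      rw [hgm]
      exact Dvd.intro _ h2
    exact (Nat.Coprime.pow_right a hcop1).dvd_of_dvd_mul_left this
  obtain ⟨d₁, hd₁⟩ := hmd
  have hmn1 : m ∣ (n - 1) := by
    have e : m * (m * d₁ ^ 2 * n) = m * (p ^ a * (n - 1)) := by
      have : (m * d₁) ^ 2 * n = p ^ a * m * (n - 1) := by
        rw [← hd₁, hgm]
        exact h1
      nlinarith [this]
    have e' : m * d₁ ^ 2 * n = p ^ a * (n - 1) := Nat.eq_of_mul_eq_mul_left (Nat.pos_of_ne_zero hm0) e
    have hdv : m ∣ p ^ a * (n - 1) := ⟨d₁ ^ 2 * n, by rw [← e']; ring⟩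
    have hcop2 : Nat.Coprime m (p ^ a) :=
      Nat.Coprime.pow_right a ((Nat.Prime.coprime_iff_not_dvd hp).mpr hpm).symm
    exact hcop2.dvd_of_dvd_mul_left hdv
  have hmeq : m = n - 1 := Nat.dvd_antisymm hmn1 hn1m
  have hpos : 0 < n - 1 := by omega
  apply Nat.eq_of_mul_eq_mul_left hpos
  rw [h2, ← hgm, hmeq]
  ring

theorem Hyp.card_centralizer [N.Normal] (h : Hyp χ N) {p : ℕ} [Fact p.Prime]
    (hNp : IsPGroup p N) {x : G} (hx : x ∈ N) (hx1 : x ≠ 1) :
    Nat.card (Subgroup.centralizer ({x} : Set G)) = p ^ (Nat.card G).factorization p := by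
  have hp := (Fact.out : p.Prime)
  obtain ⟨d, hd0, hd⟩ := irr_degree h.irr
  obtain ⟨j, hj⟩ := (IsPGroup.iff_card).mp hNp
  have hj0 : j ≠ 0 := by
    rintro rfl
    have := h.two_le
    rw [hj] at this
    simp at this
  have hnum := (h.numerics hNp d hd x hx hx1).2
  exact arith_core hp Nat.card_pos.ne' hd0.ne' hj0 hj hnum (h.card_class hx hx1)
    (fun q hq hqp => by
      haveI : Fact q.Prime := ⟨hq⟩
      obtain ⟨Q⟩ : Nonempty (Sylow q G) := inferInstance
      have := h.sylow_dvd hNp d hd q hqp Q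
      rwa [Q.card_eq_multiplicity] at this)

/-- `(|N| - 1) * |G|_p = |G|` -/
theorem Hyp.card_eq [N.Normal] (h : Hyp χ N) {p : ℕ} [Fact p.Prime] (hNp : IsPGroup p N) :
    (Nat.card N - 1) * p ^ (Nat.card G).factorization p = Nat.card G := by
  obtain ⟨x, hx, hx1⟩ := h.exists_ne_one
  rw [← h.card_centralizer hNp hx hx1]
  exact h.card_class hx hx1

theorem Hyp.comm [hNn : N.Normal] (h : Hyp χ N) {p : ℕ} [Fact p.Prime] (hNp : IsPGroup p N) :
    ∀ a b : N, a * b = b * a := by
  haveI : Nontrivial N := by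
    obtain ⟨x, hx, hx1⟩ := h.exists_ne_one
    exact ⟨⟨⟨x, hx⟩, 1, fun h1 => hx1 (congrArg Subtype.val h1)⟩⟩
  haveI := hNp.center_nontrivial
  obtain ⟨z, hz⟩ := exists_ne (1 : Subgroup.center N)
  have hzc : ∀ n : N, n * (z : N) = (z : N) * n := fun n =>
    (Subgroup.mem_center_iff.mp z.2 n)
  have hz1 : ((z : N) : G) ≠ 1 := by
    intro h1
    apply hz
    apply Subtype.ext
    apply Subtype.ext
    exact h1
  have key : ∀ x ∈ N, ∀ n ∈ N, n * x = x * n := by
    intro x hx n hn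
    by_cases hx1 : x = 1
    · rw [hx1]
      simp
    · obtain ⟨c, hc⟩ := isConj_iff.mp (h.cls _ (z : N).2 x hx hz1 hx1)
      have hn' : c⁻¹ * n * c⁻¹⁻¹ ∈ N := hNn.conj_mem n hn c⁻¹
      have h2 := hzc ⟨_, hn'⟩
      have h3 : (c⁻¹ * n * c⁻¹⁻¹) * ((z : N) : G) = ((z : N) : G) * (c⁻¹ * n * c⁻¹⁻¹) :=
        congrArg Subtype.val h2
      rw [← hc]
      have h4 : n * (c * ((z : N) : G) * c⁻¹) =
          c * ((c⁻¹ * n * c⁻¹⁻¹) * ((z : N) : G)) * c⁻¹ := by group
      rw [h4, h3]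
      group
  intro a b
  exact Subtype.ext (key b b.2 a a.2)

theorem Hyp.card_inertia [hNn : N.Normal] [Fintype N] (h : Hyp χ N) {p : ℕ} [Fact p.Prime]
    (hNp : IsPGroup p N) (μ : N → ℂ) (hμ : IsIrrCharacter N μ) (hμ1 : μ ≠ fun _ => 1) :
    Nat.card (Cfsg.Agent.S0169.inertia N μ) = p ^ (Nat.card G).factorization p := by
  classical
  obtain ⟨d, hd0, hd⟩ := irr_degree h.irr
  obtain ⟨x₀, hx₀, hx₀1⟩ := h.exists_ne_one
  set c := χ x₀ with hc
  set n := Nat.card N with hn
  have hn2 : 2 ≤ n := h.two_le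
  have hc1 := (h.numerics hNp d hd x₀ hx₀ hx₀1).1
  have hform := h.formula d hd x₀ hx₀ hx₀1
  have hμdeg : μ 1 = 1 := irr_degree_one_of_comm (h.comm hNp) hμ
  have hn0 : (n : ℂ) ≠ 0 := by
    have : n ≠ 0 := by omega
    exact_mod_cast this
  -- the sum of the values of μ vanishes
  have hsumμ : ∑ x : N, conj (μ x) = 0 := by
    have h1 : classInner (fun _ : N => (1 : ℂ)) μ = 0 := by
      rw [classInner_irr Cfsg.Agent.Lib.Helper4.isIrrCharacter_one hμ, if_neg (fun h' => hμ1 h'.symm)]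
    unfold classInner at h1
    simp only [one_mul] at h1
    rcases mul_eq_zero.mp h1 with h' | h'
    · exact absurd (inv_eq_zero.mp h') hn0
    · exact h'
  -- the multiplicity
  have he : classInner (fun x : N => χ x) μ = ((d : ℂ) - c) / n := by
    unfold classInner
    have hpt : ∀ x : N, χ x * conj (μ x) = c * conj (μ x) +
        (if x = 1 then ((d : ℂ) - c) else 0) := by
      intro x
      rw [hform (x : G), if_pos x.2]
      by_cases hx1 : x = 1
      · have hx1' : (x : G) = 1 := by rw [hx1]; rfl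
        rw [if_pos hx1', if_pos hx1, hx1, hμdeg]
        simp
      · have hx1' : (x : G) ≠ 1 := fun h' => hx1 (Subtype.ext h')
        rw [if_neg hx1', if_neg hx1]
        ring
    rw [Finset.sum_congr rfl (fun x _ => hpt x), Finset.sum_add_distrib, ← Finset.mul_sum, hsumμ,
      Finset.sum_ite_eq', if_pos (Finset.mem_univ _)]
    rw [← hn]
    field_simp
    ring
  have hdc : ((d : ℂ) - c) * ((n : ℂ) - 1) = d * n := by linear_combination -hc1
  have hd0' : (d : ℂ) ≠ 0 := by
    have : d ≠ 0 := by omega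
    exact_mod_cast this
  have hdc0 : (d : ℂ) - c ≠ 0 := by
    intro h0
    rw [h0, zero_mul] at hdc
    exact mul_ne_zero hd0' hn0 hdc.symm
  have hcon : classInner (fun x : N => χ x) μ ≠ 0 := by
    rw [he]
    exact div_ne_zero hdc0 hn0
  set T := Cfsg.Agent.S0169.inertia N μ with hTdef
  haveI : Fintype T := Fintype.ofFinite T
  have hNT : N ≤ T := Cfsg.Agent.S0169.le_inertia N μ (isClassFunction_of_isIrrCharacter hμ)
  obtain ⟨ψ, hψ, hind, he'⟩ := Cfsg.Agent.S0854.result N μ hμ T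
    (Cfsg.Agent.S0169.mem_inertia N μ) hNT χ h.irr hcon
  have hinvT : ∀ t ∈ T, ∀ m : N, μ ⟨t * m * t⁻¹, hNn.conj_mem (m : G) m.2 t⟩ = μ m :=
    fun t ht => (Cfsg.Agent.S0169.mem_inertia N μ t).mp ht
  obtain ⟨f, hf0, hf⟩ := restrict_inertia N T hNT μ hμ hinvT ψ hψ (by rw [he']; exact hcon)
  have hfe : (f : ℂ) = ((d : ℂ) - c) / n := by
    rw [← he, ← he', hf, classInner_smul_left, classInner_irr hμ hμ, if_pos rfl, mul_one]
  have hψ1 : ψ 1 = f := by
    have := congrFun hf 1
    simp only [Pi.smul_apply, smul_eq_mul, hμdeg, mul_one] at this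
    exact this
  have hχ1 : (d : ℂ) = (T.index : ℂ) * f := by
    rw [← hd, ← hind, indFun_one_eq_index, hψ1]
  have hidx : T.index = n - 1 := by
    have h1 : (d : ℂ) * n * ((n : ℂ) - 1) = (T.index : ℂ) * ((d : ℂ) * n) := by
      have hfn : (f : ℂ) * n = (d : ℂ) - c := by
        rw [hfe]
        field_simp
      have : (d : ℂ) * n = (T.index : ℂ) * ((d : ℂ) - c) := by
        linear_combination (n : ℂ) * hχ1 + (T.index : ℂ) * hfn
      calc (d : ℂ) * n * ((n : ℂ) - 1) = (T.index : ℂ) * (((d : ℂ) - c) * ((n : ℂ) - 1)) := by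
            rw [this]; ring
        _ = (T.index : ℂ) * ((d : ℂ) * n) := by rw [hdc]
    have h2 : ((n : ℂ) - 1) = (T.index : ℂ) := by
      have hdn : (d : ℂ) * n ≠ 0 := mul_ne_zero hd0' hn0
      apply mul_left_cancel₀ hdn
      rw [h1]
      ring
    have hcast : ((n - 1 : ℕ) : ℂ) = (n : ℂ) - 1 := by
      rw [Nat.cast_sub (by omega)]
      simp
    rw [← hcast] at h2
    exact_mod_cast h2.symm
  have h3 := Subgroup.card_mul_index T
  have h4 := h.card_eq hNp
  rw [hidx] at h3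
  have hpos : 0 < n - 1 := by omega
  apply Nat.eq_of_mul_eq_mul_left hpos
  rw [h4, ← h3]
  ring

end

end Cfsg.Agent.Lib.Helper7.Gagola
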