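import Mathlib
import Cfsg.Prelude
import Cfsg.Agent.Lib.Helper7.GagolaA
import Cfsg.Agent.Lib.Helper7.CoprimeCount
import Cfsg.Agent.Lib.Helper4.Deflate

/-!
# Characters vanishing off two conjugacy classes (Gagola), part B (helper7)
-/

set_option autoImplicit false

namespace Cfsg.Agent.Lib.Helper7.Gagola
open Cfsg Cfsg.Agent.Lib.Helper26 Cfsg.Agent.Lib.Helper7
open scoped ComplexConjugate commutatorElement

section
variable {G : Type*} [Group G] [Fintype G]

open scoped Classical in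
/-- column orthogonality for the characters with `N` in the kernel -/
theorem sum_filter_ker (N : Subgroup G) [N.Normal] [Fintype (IrrCharacter G)] (g : G) :
    ∑ ψ ∈ Finset.univ.filter (fun ψ : IrrCharacter G =>
      ∀ n ∈ N, (ψ : G → ℂ) n = (ψ : G → ℂ) 1), (ψ : G → ℂ) g * conj ((ψ : G → ℂ) g) =
      (Nat.card (Subgroup.centralizer ({(g : G ⧸ N)} : Set (G ⧸ N))) : ℂ) := by
  have : Fintype (G ⧸ N) := Fintype.ofFinite _
  have : Fintype (IrrCharacter (G ⧸ N)) := Fintype.ofFinite _
  let π : G →* G ⧸ N := QuotientGroup.mk' N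
  have hπ : Function.Surjective π := QuotientGroup.mk'_surjective N
  let ι : IrrCharacter (G ⧸ N) → IrrCharacter G := fun ψ =>
    ⟨(ψ : G ⧸ N → ℂ) ∘ π, Cfsg.Agent.Lib.Helper2.isIrrCharacter_comp_of_surjective ψ.2 π hπ⟩
  have hι : Function.Injective ι := by
    intro χ ψ h
    apply Subtype.ext
    funext y
    obtain ⟨x, rfl⟩ := hπ y
    exact congrFun (congrArg Subtype.val h) x
  have himg : Finset.univ.filter (fun χ : IrrCharacter G =>
      ∀ n ∈ N, (χ : G → ℂ) n = (χ : G → ℂ) 1) = Finset.univ.image ι := by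
    ext χ
    simp only [Finset.mem_filter, Finset.mem_univ, true_and, Finset.mem_image]
    constructor
    · intro h
      obtain ⟨ψ, hψ⟩ := Cfsg.Agent.Lib.Helper4.exists_deflate_irr N χ h
      refine ⟨ψ, ?_⟩
      apply Subtype.ext
      funext g
      exact hψ g
    · rintro ⟨ψ, rfl⟩ n hn
      show (ψ : G ⧸ N → ℂ) (π n) = (ψ : G ⧸ N → ℂ) (π 1)
      have : π n = π 1 := by
        rw [map_one]
        exact (QuotientGroup.eq_one_iff n).mpr hn
      rw [this]
  rw [himg, Finset.sum_image (fun a _ b _ h => hι h)]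
  have h1 := Cfsg.Agent.Lib.Helper4.column_orthogonality (G := G ⧸ N) (π g) (π g)
  rw [if_pos (IsConj.refl _)] at h1
  exact h1

variable {χ : G → ℂ} {N : Subgroup G}

/-- every irreducible character other than `χ` has `N` in its kernel -/
theorem Hyp.ker_of_ne [hNn : N.Normal] (h : Hyp χ N) {p : ℕ} [Fact p.Prime] (hNp : IsPGroup p N)
    (ψ₀ : IrrCharacter G) (hne : (ψ₀ : G → ℂ) ≠ χ) :
    ∀ n ∈ N, (ψ₀ : G → ℂ) n = (ψ₀ : G → ℂ) 1 := by
  classical
  haveI : Fintype (IrrCharacter G) := Fintype.ofFinite _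
  by_contra hcon
  obtain ⟨d, hd0, hd⟩ := irr_degree h.irr
  obtain ⟨x₀, hx₀, hx₀1⟩ := h.exists_ne_one
  have hnum := h.numerics hNp d hd x₀ hx₀ hx₀1
  set n := Nat.card N with hn
  have hn2 : 2 ≤ n := h.two_le
  have hidx : n * N.index = Nat.card G := Subgroup.card_mul_index N
  -- d^2 + index = |G|
  have hd2 : d ^ 2 + N.index = Nat.card G := by
    have h1 : d ^ 2 * n = n * N.index * (n - 1) := by rw [hidx]; exact hnum.2
    have h2 : d ^ 2 = N.index * (n - 1) := by
      apply Nat.eq_of_mul_eq_mul_right (show 0 < n by omega)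
      rw [h1]
      ring
    rw [h2, ← hidx]
    have : n = (n - 1) + 1 := by omega
    nlinarith [this]
  -- χ is not in the filter
  have hχnot : ¬ (∀ m ∈ N, χ m = χ 1) := by
    intro hall
    have h1 := hall x₀ hx₀
    have h2 := hnum.1
    rw [h1, hd] at h2
    have hn1 : ((n : ℂ) - 1) = ((n - 1 : ℕ) : ℂ) := by
      rw [Nat.cast_sub (by omega)]
      simp
    rw [hn1] at h2
    have h3 : ((d * (n - 1) + d : ℕ) : ℂ) = 0 := by
      push_cast
      linear_combination h2
    have h4 : d * (n - 1) + d = 0 := by exact_mod_cast h3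
    omega
  set F := Finset.univ.filter (fun ψ : IrrCharacter G =>
      ∀ m ∈ N, (ψ : G → ℂ) m = (ψ : G → ℂ) 1) with hF
  have hsum := Cfsg.Agent.Lib.Helper4.sum_sq_degree (G := G)
  have hker := Cfsg.Agent.Lib.Helper4.sum_sq_degree_ker (G := G) N
  -- natural number versions
  have hnat : ∀ ψ : IrrCharacter G, (ψ : G → ℂ) 1 ^ 2 =
      ((charDegree (ψ : G → ℂ) ^ 2 : ℕ) : ℂ) := by
    intro ψ
    rw [Cfsg.Agent.Lib.Helper7.CoprimeCount.irr_one_eq_charDegree ψ]
    push_cast
    rfl
  have hsumN : ∑ ψ : IrrCharacter G, charDegree (ψ : G → ℂ) ^ 2 = Nat.card G := by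
    have : ((∑ ψ : IrrCharacter G, charDegree (ψ : G → ℂ) ^ 2 : ℕ) : ℂ) = (Nat.card G : ℂ) := by
      rw [← hsum]
      push_cast
      refine Finset.sum_congr rfl fun ψ _ => ?_
      rw [hnat ψ]
      push_cast
      rfl
    exact_mod_cast this
  have hkerN : ∑ ψ ∈ F, charDegree (ψ : G → ℂ) ^ 2 = N.index := by
    have : ((∑ ψ ∈ F, charDegree (ψ : G → ℂ) ^ 2 : ℕ) : ℂ) = (N.index : ℂ) := by
      rw [← hker]
      push_cast
      refine Finset.sum_congr rfl fun ψ _ => ?_
      rw [hnat ψ]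
      push_cast
      rfl
    exact_mod_cast this
  have hsplit : ∑ ψ ∈ F, charDegree (ψ : G → ℂ) ^ 2 +
      ∑ ψ ∈ Finset.univ.filter (fun ψ : IrrCharacter G =>
        ¬ ∀ m ∈ N, (ψ : G → ℂ) m = (ψ : G → ℂ) 1), charDegree (ψ : G → ℂ) ^ 2 =
      ∑ ψ : IrrCharacter G, charDegree (ψ : G → ℂ) ^ 2 :=
    Finset.sum_filter_add_sum_filter_not _ _ _
  set χ' : IrrCharacter G := ⟨χ, h.irr⟩ with hχ'
  have hne' : ψ₀ ≠ χ' := fun h' => hne (congrArg Subtype.val h')
  have hsub : ({χ', ψ₀} : Finset (IrrCharacter G)) ⊆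
      Finset.univ.filter (fun ψ : IrrCharacter G =>
        ¬ ∀ m ∈ N, (ψ : G → ℂ) m = (ψ : G → ℂ) 1) := by
    intro ψ hψ
    rw [Finset.mem_insert, Finset.mem_singleton] at hψ
    rw [Finset.mem_filter]
    refine ⟨Finset.mem_univ _, ?_⟩
    rcases hψ with rfl | rfl
    · exact hχnot
    · exact hcon
  have hle := Finset.sum_le_sum_of_subset (f := fun ψ : IrrCharacter G =>
    charDegree (ψ : G → ℂ) ^ 2) hsub
  rw [Finset.sum_pair hne'.symm] at hle
  have hdχ : charDegree (χ' : G → ℂ) = d := charDegree_eq_of hd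
  have hψ₀pos : 0 < charDegree (ψ₀ : G → ℂ) := by
    obtain ⟨e, he0, he⟩ := irr_degree ψ₀.2
    rw [charDegree_eq_of he]
    exact he0
  rw [hdχ] at hle
  have : 0 < charDegree (ψ₀ : G → ℂ) ^ 2 := by positivity
  omega

theorem Hyp.card_centralizer_out [hNn : N.Normal] (h : Hyp χ N) {p : ℕ} [Fact p.Prime]
    (hNp : IsPGroup p N) {x : G} (hx : x ∉ N) :
    Nat.card (Subgroup.centralizer ({x} : Set G)) =
      Nat.card (Subgroup.centralizer ({(x : G ⧸ N)} : Set (G ⧸ N))) := by
  classical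
  haveI : Fintype (IrrCharacter G) := Fintype.ofFinite _
  have hcol := Cfsg.Agent.Lib.Helper4.column_orthogonality (G := G) x x
  rw [if_pos (IsConj.refl _)] at hcol
  have hker := sum_filter_ker N x
  have hsub : ∑ ψ ∈ Finset.univ.filter (fun ψ : IrrCharacter G =>
      ∀ n ∈ N, (ψ : G → ℂ) n = (ψ : G → ℂ) 1), (ψ : G → ℂ) x * conj ((ψ : G → ℂ) x) =
      ∑ ψ : IrrCharacter G, (ψ : G → ℂ) x * conj ((ψ : G → ℂ) x) := by
    apply Finset.sum_subset (Finset.filter_subset _ _)
    intro ψ _ hψ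
    rw [Finset.mem_filter, not_and] at hψ
    have hψ' := hψ (Finset.mem_univ _)
    have hψχ : (ψ : G → ℂ) = χ := by
      by_contra hne
      exact hψ' (h.ker_of_ne hNp ψ hne)
    have hχx : χ x = 0 := by
      by_contra hne
      exact hx ((h.supp x).mpr hne)
    rw [hψχ, hχx, zero_mul]
  rw [← hsub, hker] at hcol
  exact_mod_cast hcol.symm

/-- a normal `p`-subgroup lies in every Sylow `p`-subgroup -/
theorem le_sylow_of_normal {p : ℕ} [Fact p.Prime] (N : Subgroup G) [hNn : N.Normal]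
    (hNp : IsPGroup p N) (P : Sylow p G) : N ≤ (P : Subgroup G) := by
  obtain ⟨Q, hQ⟩ := hNp.exists_le_sylow
  obtain ⟨g, rfl⟩ := MulAction.exists_smul_eq G Q P
  intro n hn
  rw [Sylow.coe_subgroup_smul, Subgroup.mem_pointwise_smul_iff_inv_smul_mem]
  have h1 : (MulAut.conj g)⁻¹ • n = g⁻¹ * n * g := by
    rw [MulAut.smul_def, MulAut.conj_inv_apply]
  rw [h1]
  apply hQ
  have := hNn.conj_mem n hn g⁻¹
  rwa [inv_inv] at this

/-- the `p`-part of the index of `N` -/
theorem Hyp.not_pow_dvd_index (h : Hyp χ N) {p : ℕ} [Fact p.Prime] (hNp : IsPGroup p N) :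
    ¬ p ^ (Nat.card G).factorization p ∣ N.index := by
  have hp := (Fact.out : p.Prime)
  intro hdvd
  obtain ⟨j, hj⟩ := (IsPGroup.iff_card).mp hNp
  have hj0 : j ≠ 0 := by
    rintro rfl
    have := h.two_le
    rw [hj] at this
    simp at this
  have h1 : p ^ j * p ^ (Nat.card G).factorization p ∣ Nat.card G := by
    have h0 : p ^ j * p ^ (Nat.card G).factorization p ∣ p ^ j * N.index :=
      Nat.mul_dvd_mul_left _ hdvd
    rw [← hj, Subgroup.card_mul_index N] at h0
    rw [← hj]
    exact h0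
  rw [← pow_add] at h1
  have h2 := (hp.pow_dvd_iff_le_factorization Nat.card_pos.ne').mp h1
  omega

/-- central elements of a Sylow `p`-subgroup lie in `N` -/
theorem Hyp.center_le [hNn : N.Normal] (h : Hyp χ N) {p : ℕ} [Fact p.Prime]
    (hNp : IsPGroup p N) (P : Sylow p G) {z : G}
    (hzc : ∀ y ∈ (P : Subgroup G), z * y = y * z) : z ∈ N := by
  by_contra hz
  have hout := h.card_centralizer_out hNp hz
  have hle : (P : Subgroup G) ≤ Subgroup.centralizer ({z} : Set G) := by
    intro y hy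
    rw [Subgroup.mem_centralizer_singleton_iff]
    exact (hzc y hy).symm
  have h1 : Nat.card (P : Subgroup G) ∣ Nat.card (Subgroup.centralizer ({z} : Set G)) :=
    Subgroup.card_dvd_of_le hle
  rw [hout, P.card_eq_multiplicity] at h1
  have h2 : Nat.card (Subgroup.centralizer ({(z : G ⧸ N)} : Set (G ⧸ N))) ∣ N.index := by
    rw [Subgroup.index_eq_card]
    exact Subgroup.card_subgroup_dvd_card _
  exact h.not_pow_dvd_index hNp (h1.trans h2)

theorem Hyp.center_map_le [hNn : N.Normal] (h : Hyp χ N) {p : ℕ} [Fact p.Prime]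
    (hNp : IsPGroup p N) (P : Sylow p G) :
    (Subgroup.center ↥(P : Subgroup G)).map (P : Subgroup G).subtype ≤ N := by
  rintro _ ⟨z, hz, rfl⟩
  apply h.center_le hNp P
  intro y hy
  have := Subgroup.mem_center_iff.mp hz ⟨y, hy⟩
  exact (congrArg Subtype.val this).symm

theorem Hyp.center_eq_of_normal [hNn : N.Normal] (h : Hyp χ N) {p : ℕ} [Fact p.Prime]
    (hNp : IsPGroup p N) (P : Sylow p G) (hPn : (P : Subgroup G).Normal) :
    (Subgroup.center ↥(P : Subgroup G)).map (P : Subgroup G).subtype = N := by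
  apply le_antisymm (h.center_map_le hNp P)
  have hNP : N ≤ (P : Subgroup G) := le_sylow_of_normal N hNp P
  haveI : Nontrivial (P : Subgroup G) := by
    obtain ⟨x, hx, hx1⟩ := h.exists_ne_one
    exact ⟨⟨⟨x, hNP hx⟩, 1, fun h1 => hx1 (congrArg Subtype.val h1)⟩⟩
  haveI := (P.2 : IsPGroup p (P : Subgroup G)).center_nontrivial
  obtain ⟨z', hz'⟩ := exists_ne (1 : Subgroup.center ↥(P : Subgroup G))
  have hzc : ∀ y : (P : Subgroup G), y * (z' : (P : Subgroup G)) = (z' : (P : Subgroup G)) * y :=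
    fun y => Subgroup.mem_center_iff.mp z'.2 y
  set z : G := ((z' : (P : Subgroup G)) : G) with hzdef
  have hz1 : z ≠ 1 := by
    intro h1
    apply hz'
    apply Subtype.ext
    apply Subtype.ext
    exact h1
  have hzN : z ∈ N := h.center_map_le hNp P ⟨(z' : (P : Subgroup G)), z'.2, rfl⟩
  intro x hx
  by_cases hx1 : x = 1
  · rw [hx1]
    exact Subgroup.one_mem _
  · obtain ⟨c, hc⟩ := isConj_iff.mp (h.cls z hzN x hx hz1 hx1)
    refine ⟨⟨x, hNP hx⟩, Subgroup.mem_center_iff.mpr ?_, rfl⟩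
    intro y
    apply Subtype.ext
    show (y : G) * x = x * (y : G)
    have hy' : c⁻¹ * (y : G) * c⁻¹⁻¹ ∈ (P : Subgroup G) := hPn.conj_mem _ y.2 c⁻¹
    have h2 := hzc ⟨_, hy'⟩
    have h3 : (c⁻¹ * (y : G) * c⁻¹⁻¹) * z = z * (c⁻¹ * (y : G) * c⁻¹⁻¹) := congrArg Subtype.val h2
    rw [← hc]
    have h4 : (y : G) * (c * z * c⁻¹) = c * ((c⁻¹ * (y : G) * c⁻¹⁻¹) * z) * c⁻¹ := by group
    rw [h4, h3]
    group

theorem Hyp.normal_of_center_eq [hNn : N.Normal] (h : Hyp χ N) {p : ℕ} [Fact p.Prime]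
    (hNp : IsPGroup p N) (P : Sylow p G)
    (hZ : (Subgroup.center ↥(P : Subgroup G)).map (P : Subgroup G).subtype = N) :
    (P : Subgroup G).Normal := by
  have hPC : ∀ x ∈ N, x ≠ 1 → (P : Subgroup G) = Subgroup.centralizer ({x} : Set G) := by
    intro x hx hx1
    have hle : (P : Subgroup G) ≤ Subgroup.centralizer ({x} : Set G) := by
      intro y hy
      rw [Subgroup.mem_centralizer_singleton_iff]
      rw [← hZ] at hx
      obtain ⟨w, hw, rfl⟩ := hx
      have := Subgroup.mem_center_iff.mp hw ⟨y, hy⟩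
      exact congrArg Subtype.val this
    apply Subgroup.eq_of_le_of_card_ge hle
    rw [h.card_centralizer hNp hx hx1, P.card_eq_multiplicity]
  obtain ⟨x₀, hx₀, hx₀1⟩ := h.exists_ne_one
  constructor
  intro y hy g
  have hgx : g * x₀ * g⁻¹ ∈ N := hNn.conj_mem x₀ hx₀ g
  have hgx1 : g * x₀ * g⁻¹ ≠ 1 := by
    intro h1
    apply hx₀1
    have : x₀ = g⁻¹ * (g * x₀ * g⁻¹) * g := by group
    rw [this, h1]
    group
  rw [hPC _ hgx hgx1, Subgroup.mem_centralizer_singleton_iff]
  rw [hPC x₀ hx₀ hx₀1, Subgroup.mem_centralizer_singleton_iff] at hy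
  calc g * y * g⁻¹ * (g * x₀ * g⁻¹) = g * (y * x₀) * g⁻¹ := by group
    _ = g * (x₀ * y) * g⁻¹ := by rw [hy]
    _ = g * x₀ * g⁻¹ * (g * y * g⁻¹) := by group

theorem Hyp.exists_upperCentralSeries [hNn : N.Normal] (h : Hyp χ N) {p : ℕ} [Fact p.Prime]
    (hNp : IsPGroup p N) (P : Sylow p G) :
    ∃ i : ℕ, Subgroup.upperCentralSeries ↥(P : Subgroup G) i = N.subgroupOf (P : Subgroup G) := by
  classical
  have hp := (Fact.out : p.Prime)
  have hNP : N ≤ (P : Subgroup G) := le_sylow_of_normal N hNp P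
  set NP := N.subgroupOf (P : Subgroup G) with hNPdef
  have hNPcard : Nat.card NP = Nat.card N :=
    Nat.card_congr (Subgroup.subgroupOfEquivOfLe hNP).toEquiv
  obtain ⟨j, hj⟩ := (IsPGroup.iff_card).mp hNp
  have step : ∀ i, Subgroup.upperCentralSeries ↥(P : Subgroup G) i ≤ NP →
      Subgroup.upperCentralSeries ↥(P : Subgroup G) i ≠ NP →
      Subgroup.upperCentralSeries ↥(P : Subgroup G) (i + 1) ≤ NP := by
    intro i hle hne z hz
    rw [hNPdef, Subgroup.mem_subgroupOf]
    by_contra hzN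
    set Zi := Subgroup.upperCentralSeries ↥(P : Subgroup G) i with hZi
    have hcomm : ∀ y : (P : Subgroup G), ⁅z, y⁆ ∈ Zi :=
      Subgroup.mem_upperCentralSeries_succ_iff.mp hz
    -- the class of z in P
    have hcls : Nat.card (ConjClasses.mk z).carrier ≤ Nat.card Zi := by
      have hmem : ∀ w : (ConjClasses.mk z).carrier, (w : (P : Subgroup G)) * z⁻¹ ∈ Zi := by
        intro w
        have hw := w.2
        rw [ConjClasses.mem_carrier_iff_mk_eq, ConjClasses.mk_eq_mk_iff_isConj] at hw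
        obtain ⟨c, hc⟩ := isConj_iff.mp hw
        have h1 : (w : (P : Subgroup G)) = c⁻¹ * (c * (w : (P : Subgroup G)) * c⁻¹) * c := by
          group
        rw [hc] at h1
        have h2 : (w : (P : Subgroup G)) * z⁻¹ = (⁅z, c⁻¹⁆)⁻¹ := by
          rw [h1, commutatorElement_def]
          group
        rw [h2]
        exact inv_mem (hcomm c⁻¹)
      apply Nat.card_le_card_of_injective
        (fun w : (ConjClasses.mk z).carrier => (⟨(w : (P : Subgroup G)) * z⁻¹, hmem w⟩ : Zi))
      intro w₁ w₂ h12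
      have := congrArg Subtype.val h12
      simp only [mul_left_inj] at this
      exact Subtype.ext this
    have horb := Cfsg.Agent.Lib.Helper9.card_carrier_mul_card_centralizer z
    set CP := Subgroup.centralizer ({z} : Set (P : Subgroup G)) with hCP
    -- |C_P(z)| divides the index of N
    have hdvd1 : Nat.card CP ∣ Nat.card (Subgroup.centralizer ({(z : G)} : Set G)) := by
      have hle' : CP.map (P : Subgroup G).subtype ≤ Subgroup.centralizer ({(z : G)} : Set G) := by
        rintro _ ⟨w, hw, rfl⟩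
        rw [Subgroup.mem_centralizer_singleton_iff]
        have := Subgroup.mem_centralizer_singleton_iff.mp hw
        exact congrArg Subtype.val this
      have := Subgroup.card_dvd_of_le hle'
      rwa [Subgroup.card_map_of_injective (P : Subgroup G).subtype_injective] at this
    have hdvd2 : Nat.card CP ∣ N.index := by
      refine hdvd1.trans ?_
      rw [h.card_centralizer_out hNp hzN, Subgroup.index_eq_card]
      exact Subgroup.card_subgroup_dvd_card _
    obtain ⟨t, ht⟩ := (IsPGroup.iff_card).mp ((P.2 : IsPGroup p (P : Subgroup G)).to_subgroup CP)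
    have hbound : Nat.card CP * Nat.card N ≤ Nat.card (P : Subgroup G) := by
      have h1 : p ^ t * p ^ j ∣ Nat.card G := by
        have h0 : p ^ t * p ^ j ∣ N.index * p ^ j := Nat.mul_dvd_mul_right (ht ▸ hdvd2) _
        rw [← hj, mul_comm N.index, Subgroup.card_mul_index N] at h0
        rw [← hj]
        exact h0
      rw [← pow_add] at h1
      have h2 := (hp.pow_dvd_iff_le_factorization Nat.card_pos.ne').mp h1
      rw [ht, hj, P.card_eq_multiplicity, ← pow_add]
      exact Nat.pow_le_pow_right hp.pos h2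
    have hge : Nat.card N ≤ Nat.card Zi := by
      have hCPpos : 0 < Nat.card CP := Nat.card_pos
      have h3 : Nat.card CP * Nat.card N ≤ Nat.card CP * Nat.card Zi := by
        calc Nat.card CP * Nat.card N ≤ Nat.card (P : Subgroup G) := hbound
          _ = Nat.card (ConjClasses.mk z).carrier * Nat.card CP := horb.symm
          _ ≤ Nat.card Zi * Nat.card CP := Nat.mul_le_mul_right _ hcls
          _ = Nat.card CP * Nat.card Zi := mul_comm _ _
      exact Nat.le_of_mul_le_mul_left h3 hCPpos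
    apply hne
    apply Subgroup.eq_of_le_of_card_ge hle
    rw [hNPcard]
    exact hge
  by_contra hcon
  push Not at hcon
  have hall : ∀ i, Subgroup.upperCentralSeries ↥(P : Subgroup G) i ≤ NP := by
    intro i
    induction i with
    | zero =>
      rw [Subgroup.upperCentralSeries_zero]
      exact bot_le
    | succ i ih => exact step i ih (hcon i)
  haveI : Group.IsNilpotent (P : Subgroup G) := (P.2 : IsPGroup p (P : Subgroup G)).isNilpotent
  obtain ⟨c, hc⟩ := Group.IsNilpotent.nilpotent (P : Subgroup G)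
  have h1 := hall c
  rw [hc] at h1
  exact hcon c (hc.trans (top_le_iff.mp h1).symm)

end

end Cfsg.Agent.Lib.Helper7.Gagola
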