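import Mathlib
import Cfsg.Prelude
import Cfsg.Agent.S0857

/-!
# Action of a group on the dual of an abelian normal subgroup (helper7)

`cj N g lam` is the conjugate `n ↦ lam (g n g⁻¹)` of a linear character of the normal subgroup
`N`; `stab N lam` its stabilizer.  Main lemma `fixed_of_central`: if all non-invariant linear
characters have stabilizers of the same index, `z` is central modulo `C_G(N)` but not in it, and
some power `z ^ k` with `k` coprime to `|N|` centralizes `N`, then every `z`-fixed linear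
character of `N` is `G`-invariant.
-/

set_option autoImplicit false

namespace Cfsg.Agent.Lib.Helper7.TwoDeg

section Abstract

variable {G V : Type*} [Group G] [CommGroup V] (φ : G → V →* V)
  (hφ1 : ∀ v, φ 1 v = v) (hφm : ∀ g h v, φ (g * h) v = φ h (φ g v))

/-- the stabilizer of a point under a right action by automorphisms -/
def astab (v : V) : Subgroup G where
  carrier := {g | φ g v = v}
  mul_mem' := by
    intro a b ha hb
    show φ (a * b) v = v
    rw [hφm, show φ a v = v from ha]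
    exact hb
  one_mem' := hφ1 v
  inv_mem' := by
    intro a ha
    show φ a⁻¹ v = v
    have h1 : φ a⁻¹ (φ a v) = v := by
      rw [← hφm, mul_inv_cancel, hφ1]
    rwa [show φ a v = v from ha] at h1

theorem mem_astab (v : V) (g : G) : g ∈ astab φ hφ1 hφm v ↔ φ g v = v := Iff.rfl

variable (C : Subgroup G) (hC : ∀ c ∈ C, ∀ v, φ c v = v) (e : ℕ) (he : ∀ v : V, v ^ e = 1)

include hφ1 hφm hC he in
theorem a_eq_one_of_twist (z : G) (k : ℕ) (hk : Nat.Coprime k e)
    (hzk : z ^ k ∈ C) (ν x : V) (h1 : φ z ν = ν * x) (h2 : φ z x = x) : x = 1 := by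
  have hj : ∀ j : ℕ, φ (z ^ j) ν = ν * x ^ j := by
    intro j
    induction j with
    | zero => rw [pow_zero, pow_zero, mul_one, hφ1]
    | succ j ih =>
      rw [pow_succ, hφm, ih, map_mul, map_pow, h1, h2, pow_succ, mul_assoc, mul_comm x]
  have h3 : x ^ k = 1 := by
    have h := hj k
    rw [hC _ hzk] at h
    exact mul_eq_left.mp h.symm
  have h5 : orderOf x ∣ Nat.gcd k e :=
    Nat.dvd_gcd (orderOf_dvd_of_pow_eq_one h3) (orderOf_dvd_of_pow_eq_one (he x))
  rw [hk.gcd_eq_one, Nat.dvd_one, orderOf_eq_one_iff] at h5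
  exact h5

include hφm hC in
theorem a_comm_of_central (z : G) (hzc : ∀ g : G, g * z * g⁻¹ * z⁻¹ ∈ C) (g : G) (μ : V) :
    φ z (φ g μ) = φ g (φ z μ) := by
  rw [← hφm]
  have h : g * z = (g * z * g⁻¹ * z⁻¹) * z * g := by group
  rw [h, hφm, hφm, hC _ (hzc g)]

include hC he in
theorem a_fixed_of_central [Finite G] (m : ℕ)
    (hidx : ∀ v : V, astab φ hφ1 hφm v ≠ ⊤ → (astab φ hφ1 hφm v).index = m)
    (z : G) (k : ℕ) (hk : Nat.Coprime k e) (hzk : z ^ k ∈ C)
    (hzc : ∀ g : G, g * z * g⁻¹ * z⁻¹ ∈ C) (lam0 : V)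
    (hl : z ∉ astab φ hφ1 hφm (φ z lam0 * lam0⁻¹)) (w : V) (hw : φ z w = w) :
    astab φ hφ1 hφm w = ⊤ := by
  by_contra hwtop
  set u := φ z lam0 * lam0⁻¹ with hu
  have hutop : astab φ hφ1 hφm u ≠ ⊤ := fun h => hl (h ▸ Subgroup.mem_top z)
  have hkey : ∀ g ∈ astab φ hφ1 hφm (u * w),
      g ∈ astab φ hφ1 hφm u ∧ g ∈ astab φ hφ1 hφm w := by
    intro g hg
    have hg' : φ g u * φ g w = u * w := by
      have : φ g (u * w) = u * w := hg
      rwa [map_mul] at this
    set x := φ g u * u⁻¹ with hx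
    have hx2 : x = w * (φ g w)⁻¹ := by
      rw [hx, mul_inv_eq_iff_eq_mul, mul_assoc, mul_comm _ u, ← mul_assoc,
        eq_mul_inv_iff_mul_eq, hg', mul_comm]
    have hxz : φ z x = x := by
      rw [hx2, map_mul, map_inv, a_comm_of_central φ hφm C hC z hzc, hw]
    set ν := φ g lam0 * lam0⁻¹ with hν
    have hνz : φ z ν = ν * x := by
      rw [hν, hx, hu]
      simp only [map_mul, map_inv]
      rw [a_comm_of_central φ hφm C hC z hzc g lam0]
      apply Additive.ofMul.injective
      simp only [ofMul_mul, ofMul_inv]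
      abel
    have hx1 := a_eq_one_of_twist φ hφ1 hφm C hC e he z k hk hzk ν x hνz hxz
    have hgu : φ g u = u := by
      rw [hx, mul_inv_eq_one] at hx1
      exact hx1
    refine ⟨hgu, ?_⟩
    rw [hgu] at hg'
    exact mul_left_cancel hg'
  have hle1 : astab φ hφ1 hφm (u * w) ≤ astab φ hφ1 hφm u := fun g hg => (hkey g hg).1
  have hle2 : astab φ hφ1 hφm (u * w) ≤ astab φ hφ1 hφm w := fun g hg => (hkey g hg).2
  have huwtop : astab φ hφ1 hφm (u * w) ≠ ⊤ := by
    intro h
    apply hutop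
    rw [eq_top_iff, ← h]
    exact hle1
  have hi1 := hidx u hutop
  have hi2 := hidx w hwtop
  have hi3 := hidx (u * w) huwtop
  have hcard : ∀ A B : Subgroup G, A.index = B.index → Nat.card A = Nat.card B := by
    intro A B h
    have h1 := Subgroup.card_mul_index A
    have h2 := Subgroup.card_mul_index B
    rw [h] at h1
    have hpos : 0 < B.index := Nat.pos_of_ne_zero Subgroup.index_ne_zero_of_finite
    exact Nat.eq_of_mul_eq_mul_right hpos (h1.trans h2.symm)
  have he1 : astab φ hφ1 hφm (u * w) = astab φ hφ1 hφm u :=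
    Subgroup.eq_of_le_of_card_ge hle1 (hcard _ _ (hi1.trans hi3.symm)).le
  have he2 : astab φ hφ1 hφm (u * w) = astab φ hφ1 hφm w :=
    Subgroup.eq_of_le_of_card_ge hle2 (hcard _ _ (hi2.trans hi3.symm)).le
  apply hl
  rw [← he1, he2]
  exact hw

end Abstract

variable {G : Type*} [Group G] (N : Subgroup G) [hN : N.Normal]

/-- conjugation of a linear character of `N` by `g`, as a homomorphism of the dual group -/
noncomputable def cj (g : G) : (N →* ℂˣ) →* (N →* ℂˣ) where
  toFun lam := lam.comp (MulAut.conjNormal g : N ≃* N).toMonoidHom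
  map_one' := by ext n; rfl
  map_mul' a b := by ext n; rfl

theorem cj_apply (g : G) (lam : N →* ℂˣ) (n : N) :
    cj N g lam n = lam ⟨g * n * g⁻¹, hN.conj_mem (n : G) n.2 g⟩ := by
  show lam (MulAut.conjNormal g n) = _
  congr 1

theorem cj_mul_elt (g h : G) (lam : N →* ℂˣ) : cj N (g * h) lam = cj N h (cj N g lam) := by
  ext n
  rw [cj_apply, cj_apply, cj_apply]
  congr 3
  simp only [mul_inv_rev, mul_assoc]

theorem cj_one_elt (lam : N →* ℂˣ) : cj N 1 lam = lam := by
  ext n
  rw [cj_apply]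
  congr 3
  simp

theorem cj_centralizer {c : G} (hc : c ∈ Subgroup.centralizer (N : Set G)) (lam : N →* ℂˣ) :
    cj N c lam = lam := by
  ext n
  rw [cj_apply]
  congr 3
  have h := hc (n : G) n.2
  rw [← h, mul_inv_cancel_right]

/-- the stabilizer (inertia group) of a linear character -/
noncomputable def stab (lam : N →* ℂˣ) : Subgroup G :=
  astab (fun g => cj N g) (cj_one_elt N) (cj_mul_elt N) lam

theorem mem_stab (lam : N →* ℂˣ) (g : G) : g ∈ stab N lam ↔ cj N g lam = lam := Iff.rfl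

theorem mem_stab' (lam : N →* ℂˣ) (g : G) : g ∈ stab N lam ↔
    ∀ n : N, lam ⟨g * n * g⁻¹, hN.conj_mem (n : G) n.2 g⟩ = lam n := by
  rw [mem_stab]
  constructor
  · intro h n
    rw [← cj_apply, h]
  · intro h
    ext n
    rw [cj_apply, h]

theorem centralizer_le_stab (lam : N →* ℂˣ) : Subgroup.centralizer (N : Set G) ≤ stab N lam :=
  fun _ hc => cj_centralizer N hc lam

theorem le_stab (lam : N →* ℂˣ) : N ≤ stab N lam := by
  intro x hx
  rw [mem_stab']
  intro n
  have : (⟨x * n * x⁻¹, hN.conj_mem (n : G) n.2 x⟩ : N) = ⟨x, hx⟩ * n * ⟨x, hx⟩⁻¹ := rfl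
  rw [this, map_mul, map_mul, map_inv, mul_comm, inv_mul_cancel_left]

section Main
variable [Finite G]

theorem dual_pow_card (v : N →* ℂˣ) : v ^ Nat.card N = 1 := by
  ext n
  rw [MonoidHom.pow_apply, ← map_pow, pow_card_eq_one', map_one]
  rfl

variable (hcomm : ∀ a b : N, a * b = b * a)

include hcomm in
theorem exists_moved (z : G) (k : ℕ) (hk : Nat.Coprime k (Nat.card N))
    (hzk : z ^ k ∈ Subgroup.centralizer (N : Set G))
    (hz : z ∉ Subgroup.centralizer (N : Set G)) :
    ∃ lam0 : N →* ℂˣ, z ∉ stab N (cj N z lam0 * lam0⁻¹) := by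
  classical
  haveI : Fintype (N →* ℂˣ) := Fintype.ofFinite _
  -- an element moved by z
  have h1 : ∃ n : N, (⟨z * n * z⁻¹, hN.conj_mem (n : G) n.2 z⟩ : N) ≠ n := by
    by_contra hcon
    push Not at hcon
    apply hz
    intro x hx
    have := hcon ⟨x, hx⟩
    have h2 : z * x * z⁻¹ = x := congrArg Subtype.val this
    calc x * z = (z * x * z⁻¹) * z := by rw [h2]
      _ = z * x := by group
  obtain ⟨n, hn⟩ := h1
  set y : N := ⟨z * n * z⁻¹, hN.conj_mem (n : G) n.2 z⟩ * n⁻¹ with hy
  have hy1 : y ≠ 1 := by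
    intro h
    apply hn
    rw [hy, mul_inv_eq_one] at h
    exact h
  have h2 := Cfsg.Agent.S0857.sum_monoidHom_apply' hcomm y
  rw [if_neg hy1] at h2
  have h3 : ∃ lam0 : N →* ℂˣ, lam0 y ≠ 1 := by
    by_contra hcon
    push Not at hcon
    rw [Finset.sum_congr rfl (fun lam _ => by rw [hcon lam])] at h2
    simp at h2
  obtain ⟨lam0, hl⟩ := h3
  refine ⟨lam0, ?_⟩
  intro hzs
  have h4 : cj N z (cj N z lam0 * lam0⁻¹) = cj N z lam0 * lam0⁻¹ := hzs
  have h5 : cj N z lam0 = lam0 * (cj N z lam0 * lam0⁻¹) := by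
    rw [mul_comm (cj N z lam0) lam0⁻¹]
    exact (mul_inv_cancel_left lam0 (cj N z lam0)).symm
  have h6 := a_eq_one_of_twist (fun g => cj N g) (cj_one_elt N) (cj_mul_elt N)
    (Subgroup.centralizer (N : Set G)) (fun c hc v => cj_centralizer N hc v) (Nat.card N)
    (dual_pow_card N) z k hk hzk lam0 _ h5 h4
  apply hl
  have h7 : (cj N z lam0 * lam0⁻¹) n = 1 := by rw [h6]; rfl
  rw [MonoidHom.mul_apply, cj_apply, MonoidHom.inv_apply, ← map_inv, ← map_mul] at h7
  exact h7

include hcomm in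
/-- every `z`-fixed linear character is `G`-invariant -/
theorem fixed_of_central (m : ℕ)
    (hidx : ∀ lam : N →* ℂˣ, stab N lam ≠ ⊤ → (stab N lam).index = m)
    (z : G) (k : ℕ) (hk : Nat.Coprime k (Nat.card N))
    (hzk : z ^ k ∈ Subgroup.centralizer (N : Set G))
    (hzc : ∀ g : G, g * z * g⁻¹ * z⁻¹ ∈ Subgroup.centralizer (N : Set G))
    (hz : z ∉ Subgroup.centralizer (N : Set G)) (w : N →* ℂˣ) (hw : cj N z w = w) :
    stab N w = ⊤ := by
  obtain ⟨lam0, hl⟩ := exists_moved N hcomm z k hk hzk hz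
  exact a_fixed_of_central (fun g => cj N g) (cj_one_elt N) (cj_mul_elt N)
    (Subgroup.centralizer (N : Set G)) (fun c hc v => cj_centralizer N hc v) (Nat.card N)
    (dual_pow_card N) m hidx z k hk hzk hzc lam0 hl w hw

end Main

end Cfsg.Agent.Lib.Helper7.TwoDeg
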