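import Mathlib
import Cfsg.Prelude
import Cfsg.Agent.Lib.Helper7.TwoDegA
import Cfsg.Agent.Lib.Helper7.ExtDet
import Cfsg.Agent.Lib.Helper7.CliffordCorr
import Cfsg.Agent.Lib.Helper4.LinConst
import Cfsg.Agent.Lib.Helper4.BurnsideClass
import Cfsg.Agent.Lib.Helper26.FrobeniusKernel
import Cfsg.Agent.S0857

/-!
# Inertia groups of linear characters of a normal Hall subgroup when there are two degrees
(helper7)
-/

set_option autoImplicit false

namespace Cfsg.Agent.Lib.Helper7.TwoDeg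
open Cfsg Cfsg.Agent.Lib.Helper26 Cfsg.Agent.Lib.Helper2 Cfsg.Agent.Lib.Helper7
open scoped ComplexConjugate

/-- a finite group all of whose irreducible characters are linear is abelian -/
theorem comm_of_all_linear {K : Type*} [Group K] [Fintype K]
    (h : ∀ θ : K → ℂ, IsIrrCharacter K θ → θ 1 = 1) (a b : K) : a * b = b * a := by
  by_contra hab
  have hc : a * b * a⁻¹ * b⁻¹ ≠ 1 := by
    intro h1
    apply hab
    have : a * b * a⁻¹ * b⁻¹ * (b * a) = b * a := by rw [h1, one_mul]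
    rw [← this]
    group
  obtain ⟨θ, hθ⟩ := exists_irr_ne_of_ne_one _ hc
  apply hθ
  rw [Cfsg.Agent.Lib.Helper4.irrChar_commutator_of_degree_one θ.2 (h _ θ.2), h _ θ.2]

universe u

theorem inertia_facts {G : Type u} [Group G] [Fintype G] (N : Subgroup G) [hN : N.Normal]
    (hcop : Nat.Coprime (Nat.card N) N.index) (m : ℕ) (hm : 2 ≤ m)
    (hdeg : ∀ χ : G → ℂ, IsIrrCharacter G χ → χ 1 = 1 ∨ χ 1 = (m : ℂ))
    (lam : N →* ℂˣ) :
    ((stab N lam).index = 1 ∨ (stab N lam).index = m) ∧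
    ((stab N lam).index ≠ 1 →
      ∀ a ∈ stab N lam, ∀ b ∈ stab N lam, a * b * a⁻¹ * b⁻¹ ∈ N) := by
  classical
  set T := stab N lam with hTdef
  have hNT : N ≤ T := le_stab N lam
  haveI : Fintype T := Fintype.ofFinite _
  haveI : Fintype N := Fintype.ofFinite _
  -- the subgroup N inside T
  set NT : Subgroup T := N.subgroupOf T with hNTdef
  haveI : NT.Normal := Subgroup.normal_subgroupOf
  let eNT : NT ≃* N := Subgroup.subgroupOfEquivOfLe hNT
  let lamT : NT →* ℂˣ := lam.comp eNT.toMonoidHom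
  have hlamT : ∀ x : NT, lamT x = lam ⟨((x : T) : G), x.2⟩ := fun x => rfl
  have hinvT : ∀ (t : T) (x : NT),
      lamT ⟨t * x * t⁻¹, (inferInstance : NT.Normal).conj_mem (x : T) x.2 t⟩ = lamT x := by
    intro t x
    rw [hlamT, hlamT]
    have := (mem_stab' N lam (t : G)).mp t.2 ⟨((x : T) : G), x.2⟩
    exact this
  have hord : orderOf lamT ∣ Nat.card N := by
    apply orderOf_dvd_of_pow_eq_one
    ext x
    rw [MonoidHom.pow_apply, hlamT, ← map_pow, pow_card_eq_one', map_one]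
    rfl
  have hidx : NT.index ∣ N.index := Subgroup.relIndex_dvd_index_of_normal N T
  have hcopT : Nat.Coprime NT.index (orderOf lamT) :=
    Nat.Coprime.coprime_dvd_left hidx (Nat.Coprime.coprime_dvd_right hord hcop.symm)
  obtain ⟨μ, hμ, -⟩ := lin_ext NT lamT hinvT hcopT
  have hμN : ∀ n : N, μ ⟨(n : G), hNT n.2⟩ = lam n := by
    intro n
    have := hμ ⟨⟨(n : G), hNT n.2⟩, n.2⟩
    rw [hlamT] at this
    exact this
  have hlamirr : IsIrrCharacter N (fun n => ((lam n : ℂˣ) : ℂ)) := isIrr_of_hom' lam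
  have hTmem : ∀ g : G, g ∈ T ↔ ∀ n : N,
      (fun n : N => ((lam n : ℂˣ) : ℂ)) ⟨g * n * g⁻¹, hN.conj_mem (n : G) n.2 g⟩ =
        (fun n : N => ((lam n : ℂˣ) : ℂ)) n := by
    intro g
    rw [hTdef, mem_stab']
    constructor
    · intro h n
      show ((lam _ : ℂˣ) : ℂ) = ((lam n : ℂˣ) : ℂ)
      rw [h n]
    · intro h n
      exact Units.ext (h n)
  -- degrees of induced characters
  have hkey : ∀ β : T → ℂ, IsIrrCharacter T β → (∀ t : T, (t : G) ∈ N → β t = β 1) →
      ∀ b : ℕ, β 1 = b → T.index * b = 1 ∨ T.index * b = m := by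
    intro β hβ hβN b hb
    set ψ : T → ℂ := fun t => ((μ t : ℂˣ) : ℂ) * β t with hψdef
    have hψ : IsIrrCharacter T ψ := Cfsg.Agent.S0857.isIrr_twist μ β hβ
    have hψN : (fun n : N => ψ ⟨(n : G), hNT n.2⟩) = fun n : N => (b : ℂ) * ((lam n : ℂˣ) : ℂ) := by
      funext n
      show ((μ ⟨(n : G), hNT n.2⟩ : ℂˣ) : ℂ) * β ⟨(n : G), hNT n.2⟩ = _
      rw [hμN, hβN ⟨(n : G), hNT n.2⟩ n.2, hb, mul_comm]
    have hb0 : b ≠ 0 := by
      obtain ⟨d, hd0, hd⟩ := irr_degree hβ
      rw [hb] at hd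
      have : b = d := by exact_mod_cast hd
      omega
    have hcon : classInner (fun n : N => ψ ⟨(n : G), hNT n.2⟩) (fun n => ((lam n : ℂˣ) : ℂ)) ≠ 0 := by
      rw [hψN]
      have h1 := classInner_irr hlamirr hlamirr
      rw [if_pos rfl] at h1
      have h2 : classInner (fun n : N => (b : ℂ) * ((lam n : ℂˣ) : ℂ))
          (fun n => ((lam n : ℂˣ) : ℂ)) = (b : ℂ) * classInner (fun n : N => ((lam n : ℂˣ) : ℂ))
          (fun n => ((lam n : ℂˣ) : ℂ)) := by
        unfold classInner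
        rw [Finset.mul_sum, Finset.mul_sum, Finset.mul_sum]
        refine Finset.sum_congr rfl fun n _ => ?_
        ring
      rw [h2, h1, mul_one]
      exact_mod_cast hb0
    have hψ1 : ψ 1 = b := by
      show ((μ 1 : ℂˣ) : ℂ) * β 1 = b
      rw [map_one, hb]
      simp
    have hIc : IsCharacter G (indFun T ψ) := isCharacter_indFun T (isCharacter_of_isIrrCharacter hψ)
    have hTne : (Nat.card T : ℂ) ≠ 0 := Nat.cast_ne_zero.mpr Nat.card_pos.ne'
    have hI1 : indFun T ψ 1 = ((T.index * b : ℕ) : ℂ) := by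
      rw [indFun_one, hψ1, ← Nat.card_eq_fintype_card, ← Subgroup.card_mul_index T]
      push_cast
      field_simp
    have hI1ne : indFun T ψ 1 ≠ 0 := by
      rw [hI1]
      have : T.index ≠ 0 := Subgroup.index_ne_zero_of_finite
      exact_mod_cast Nat.mul_ne_zero this hb0
    obtain ⟨χ, hχ⟩ := exists_constituent hIc hI1ne
    obtain ⟨hχe, -, -⟩ := corr_main N T hNT (fun n => ((lam n : ℂˣ) : ℂ)) hlamirr hTmem ψ hψ hcon
      (χ : G → ℂ) χ.2 hχ
    rcases hdeg _ χ.2 with h1 | h1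
    · left
      rw [hχe, hI1] at h1
      exact_mod_cast h1
    · right
      rw [hχe, hI1] at h1
      exact_mod_cast h1
  have hone : IsIrrCharacter T (fun _ => (1 : ℂ)) := Cfsg.Agent.Lib.Helper4.isIrrCharacter_one
  have hidx1 : T.index = 1 ∨ T.index = m := by
    have := hkey _ hone (fun _ _ => rfl) 1 (by simp)
    simpa using this
  refine ⟨hidx1, ?_⟩
  intro hne a ha b hb
  have hTm : T.index = m := hidx1.resolve_left hne
  -- all irreducible characters of T/N are linear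
  haveI : Fintype (T ⧸ NT) := Fintype.ofFinite _
  have hlin : ∀ θ : T ⧸ NT → ℂ, IsIrrCharacter (T ⧸ NT) θ → θ 1 = 1 := by
    intro θ hθ
    have hβ : IsIrrCharacter T (θ ∘ (QuotientGroup.mk' NT)) :=
      isIrrCharacter_comp_of_surjective hθ _ (QuotientGroup.mk'_surjective NT)
    obtain ⟨d, hd0, hd⟩ := irr_degree hθ
    have hβN : ∀ t : T, (t : G) ∈ N → (θ ∘ (QuotientGroup.mk' NT)) t =
        (θ ∘ (QuotientGroup.mk' NT)) 1 := by
      intro t ht
      show θ (QuotientGroup.mk t) = θ (QuotientGroup.mk 1)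
      have h1 : (QuotientGroup.mk t : T ⧸ NT) = 1 := (QuotientGroup.eq_one_iff t).mpr ht
      rw [h1]
      rfl
    have hβ1 : (θ ∘ (QuotientGroup.mk' NT)) 1 = d := by
      show θ (QuotientGroup.mk 1) = d
      rw [← hd]
      rfl
    have := hkey _ hβ hβN d hβ1
    rw [hTm] at this
    have hd1 : d = 1 := by
      rcases this with h1 | h1
      · have : m ∣ 1 := ⟨d, h1.symm⟩
        have := Nat.le_of_dvd Nat.one_pos this
        omega
      · have h2 : m * d = m * 1 := by rw [h1, mul_one]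
        exact Nat.eq_of_mul_eq_mul_left (by omega) h2
    rw [hd, hd1]
    simp
  have hcomm := comm_of_all_linear hlin
  have h1 : (QuotientGroup.mk (⟨a, ha⟩ * ⟨b, hb⟩ * ⟨a, ha⟩⁻¹ * ⟨b, hb⟩⁻¹ : T) : T ⧸ NT) = 1 := by
    rw [QuotientGroup.mk_mul, QuotientGroup.mk_mul, QuotientGroup.mk_mul, QuotientGroup.mk_inv,
      QuotientGroup.mk_inv, hcomm (QuotientGroup.mk ⟨a, ha⟩) (QuotientGroup.mk ⟨b, hb⟩)]
    group
  have h2 := (QuotientGroup.eq_one_iff _).mp h1
  exact h2

end Cfsg.Agent.Lib.Helper7.TwoDeg
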