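import Mathlib
import Cfsg.Prelude
import Cfsg.Agent.Lib.Helper4.FaithfulIrr
import Cfsg.Agent.Lib.Helper4.Monomial
import Cfsg.Agent.Lib.Helper26.CharBasic
import Cfsg.Agent.S0138

/-!
# Irreducible characters of groups of class two with cyclic derived subgroup of prime order
(helper7)

`vanish_off_center`: if `Q'` lies in `⟨u⟩` with `u` central of prime order, then a nonlinear
irreducible character of `Q` vanishes off the centre, has absolute value equal to its degree on
the centre, and the centre has index the square of the degree.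
-/

set_option autoImplicit false

namespace Cfsg.Agent.Lib.Helper7.TwoDeg
open Cfsg Cfsg.Agent.Lib.Helper26
open scoped ComplexConjugate

theorem vanish_off_center {Q : Type*} [Group Q] [Fintype Q] {n : ℕ}
    (ρ : Representation ℂ Q (Fin n → ℂ)) (hρ : ρ.IsIrreducible) (hn : n ≠ 1)
    (u : Q) (hu : u ∈ Subgroup.center Q) (p : ℕ) (hp : p.Prime) (hup : orderOf u = p)
    (hcomm : ∀ a b : Q, a * b * a⁻¹ * b⁻¹ ∈ Subgroup.zpowers u) :
    (∀ x : Q, x ∉ Subgroup.center Q → ρ.character x = 0) ∧
    (∀ z ∈ Subgroup.center Q, ‖ρ.character z‖ = n) ∧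
    (Subgroup.center Q).index = n ^ 2 := by
  classical
  haveI : Fact p.Prime := ⟨hp⟩
  -- u does not act trivially
  have hu1 : ρ u ≠ 1 := by
    intro h
    apply hn
    have hker : ∀ w ∈ Subgroup.zpowers u, ρ w = 1 := by
      intro w hw
      rw [← mem_powers_iff_mem_zpowers] at hw
      obtain ⟨j, rfl⟩ := hw
      rw [map_pow, h, one_pow]
    have h2 := Cfsg.Agent.Lib.Helper4.finrank_eq_one_of_commute ρ hρ (by
      intro g k
      have h3 := hker _ (hcomm g k)
      calc ρ g * ρ k = ρ (g * k) := (map_mul ρ g k).symm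
        _ = ρ ((g * k * g⁻¹ * k⁻¹) * (k * g)) := by congr 1; group
        _ = ρ (k * g) := by rw [map_mul, h3, one_mul]
        _ = ρ k * ρ g := map_mul ρ k g)
    rw [Module.finrank_fin_fun] at h2
    exact h2
  have hpart1 : ∀ x : Q, x ∉ Subgroup.center Q → ρ.character x = 0 := by
    intro x hx
    rw [Subgroup.mem_center_iff] at hx
    push Not at hx
    obtain ⟨y, hy⟩ := hx
    set w := y * x * y⁻¹ * x⁻¹ with hw
    have hw1 : w ≠ 1 := by
      intro h
      apply hy
      have : w * (x * y) = x * y := by rw [h, one_mul]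
      rw [← this, hw]
      group
    have hwz : w ∈ Subgroup.zpowers u := hcomm y x
    have hwc : w ∈ Subgroup.center Q := by
      have h1 : Subgroup.zpowers u ≤ Subgroup.center Q := by
        rw [Subgroup.zpowers_le]; exact hu
      exact h1 hwz
    obtain ⟨c, hc⟩ := Cfsg.Agent.Lib.Helper4.exists_scalar_of_mem_center ρ hρ w hwc
    have hc1 : c ≠ 1 := by
      intro h
      rw [h, one_smul] at hc
      -- then u acts trivially
      apply hu1
      have hcard : Nat.card (Subgroup.zpowers u) = p := by rw [Nat.card_zpowers, hup]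
      have huw : u ∈ Subgroup.zpowers w := by
        have h1 : Subgroup.zpowers w ≤ Subgroup.zpowers u := by
          rw [Subgroup.zpowers_le]; exact hwz
        have h2 : Nat.card (Subgroup.zpowers w) ∣ p := by
          rw [← hcard]; exact Subgroup.card_dvd_of_le h1
        rcases (Nat.dvd_prime hp).mp h2 with h3 | h3
        · exfalso
          apply hw1
          rw [Nat.card_zpowers, orderOf_eq_one_iff] at h3
          exact h3
        · have h4 : Subgroup.zpowers w = Subgroup.zpowers u :=
            Subgroup.eq_of_le_of_card_ge h1 (by rw [h3, hcard])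
          rw [h4]
          exact Subgroup.mem_zpowers u
      rw [← mem_powers_iff_mem_zpowers] at huw
      obtain ⟨j, hj⟩ := huw
      rw [← hj, map_pow, hc]
      exact one_pow j
    have h1 : y * x * y⁻¹ = w * x := by rw [hw]; group
    have h2 : ρ.character (y * x * y⁻¹) = ρ.character x := Representation.char_conj ρ x y
    have h3 : ρ.character (w * x) = c * ρ.character x := by
      unfold Representation.character
      rw [map_mul, hc]
      rw [show (c • (LinearMap.id : (Fin n → ℂ) →ₗ[ℂ] (Fin n → ℂ))) * ρ x = c • ρ x by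
        ext v; simp]
      rw [map_smul, smul_eq_mul]
    rw [h1, h3] at h2
    have h4 : (c - 1) * ρ.character x = 0 := by rw [sub_mul, h2, one_mul, sub_self]
    rcases mul_eq_zero.mp h4 with h5 | h5
    · exact absurd (sub_eq_zero.mp h5) hc1
    · exact h5
  have hpart2 : ∀ z ∈ Subgroup.center Q, ‖ρ.character z‖ = n := by
    intro z hz
    have h1 := (Cfsg.Agent.S0138.result ρ z).mpr
      (Cfsg.Agent.Lib.Helper4.exists_scalar_of_mem_center ρ hρ z hz)
    rw [h1, Module.finrank_fin_fun]
  refine ⟨hpart1, hpart2, ?_⟩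
  -- the norm
  have hirr : IsIrrCharacter Q ρ.character := ⟨n, ρ, hρ, rfl⟩
  have h1 := classInner_irr hirr hirr
  rw [if_pos rfl] at h1
  unfold classInner at h1
  have hQne : (Nat.card Q : ℂ) ≠ 0 := Nat.cast_ne_zero.mpr Nat.card_pos.ne'
  have h2 : ∑ g : Q, ρ.character g * conj (ρ.character g) = (Nat.card Q : ℂ) := by
    have := (inv_mul_eq_iff_eq_mul₀ hQne).mp h1
    rw [this, mul_one]
  have h3 : ∀ g : Q, ρ.character g * conj (ρ.character g) =
      if g ∈ Subgroup.center Q then ((n : ℂ)) ^ 2 else 0 := by
    intro g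
    by_cases hg : g ∈ Subgroup.center Q
    · rw [if_pos hg, Complex.mul_conj, Complex.normSq_eq_norm_sq, hpart2 g hg]
      push_cast
      rfl
    · rw [if_neg hg, hpart1 g hg, zero_mul]
  rw [Finset.sum_congr rfl (fun g _ => h3 g), Finset.sum_ite, Finset.sum_const_zero, add_zero,
    Finset.sum_const, nsmul_eq_mul] at h2
  have h4 : (Finset.univ.filter (fun g : Q => g ∈ Subgroup.center Q)).card =
      Nat.card (Subgroup.center Q) := by
    rw [Nat.card_eq_fintype_card, Fintype.card_subtype]
  rw [h4] at h2
  have h5 : Nat.card (Subgroup.center Q) * n ^ 2 = Nat.card Q := by exact_mod_cast h2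
  have h6 := Subgroup.card_mul_index (Subgroup.center Q)
  rw [← h5] at h6
  have hpos : 0 < Nat.card (Subgroup.center Q) := Nat.card_pos
  exact Nat.eq_of_mul_eq_mul_left hpos h6

end Cfsg.Agent.Lib.Helper7.TwoDeg
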