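import Mathlib
import Cfsg.Prelude
import Cfsg.Agent.Lib.Helper7.TwoDegD
import Cfsg.Agent.Lib.Helper7.TwoDegB

/-!
# Finite p-groups: central elements in normal subgroups (helper7)

Group-theoretic preliminaries for the theorem on `p`-groups whose nonlinear irreducible characters
of equal degree are Galois conjugate.
-/

set_option autoImplicit false

namespace Cfsg.Agent.Lib.Helper7.GalConj
open Cfsg

section PGroup
variable {P : Type*} [Group P] [Finite P] (p : ℕ) [hp : Fact p.Prime] (hP : IsPGroup p P)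

include hP in
/-- a nontrivial normal subgroup of a finite `p`-group meets the centre nontrivially -/
theorem exists_central_ne_one (H : Subgroup P) [H.Normal] (hH : H ≠ ⊥) :
    ∃ b ∈ H, b ∈ Subgroup.center P ∧ b ≠ 1 := by
  classical
  have hPc : IsPGroup p (ConjAct P) := hP.of_equiv ConjAct.toConjAct
  have hcard : p ∣ Nat.card H := by
    obtain ⟨n, hn⟩ := IsPGroup.iff_card.mp (hP.to_subgroup H)
    have hn0 : n ≠ 0 := by
      intro h
      rw [h, pow_zero] at hn
      exact hH (Subgroup.card_eq_one.mp hn)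
    rw [hn]
    exact dvd_pow_self p hn0
  have h1 : (1 : H) ∈ MulAction.fixedPoints (ConjAct P) H := by
    intro g
    exact smul_one g
  obtain ⟨b, hb, hne⟩ := hPc.exists_fixed_point_of_prime_dvd_card_of_fixed_point H hcard h1
  refine ⟨b, b.2, ?_, ?_⟩
  · rw [Subgroup.mem_center_iff]
    intro g
    have h2 := congrArg Subtype.val (hb (ConjAct.toConjAct g))
    rw [ConjAct.Subgroup.val_conj_smul, ConjAct.smul_def, ConjAct.ofConjAct_toConjAct] at h2
    calc g * (b : P) = (g * b * g⁻¹) * g := by group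
      _ = b * g := by rw [h2]
  · intro h
    exact hne (Subtype.ext h.symm)

include hP in
theorem exists_central_order_p (H : Subgroup P) [H.Normal] (hH : H ≠ ⊥) :
    ∃ z ∈ H, z ∈ Subgroup.center P ∧ orderOf z = p := by
  obtain ⟨b, hbH, hbZ, hb1⟩ := exists_central_ne_one p hP H hH
  obtain ⟨k, hk⟩ := (IsPGroup.iff_orderOf.mp hP) b
  have hk0 : k ≠ 0 := by
    intro h
    rw [h, pow_zero, orderOf_eq_one_iff] at hk
    exact hb1 hk
  refine ⟨b ^ (p ^ (k - 1)), H.pow_mem hbH _, (Subgroup.center P).pow_mem hbZ _, ?_⟩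
  have hpos : p ^ (k - 1) ≠ 0 := pow_ne_zero _ hp.out.pos.ne'
  have hdvd : p ^ (k - 1) ∣ orderOf b := by
    rw [hk]
    exact pow_dvd_pow p (Nat.sub_le k 1)
  rw [orderOf_pow_of_dvd hpos hdvd, hk, Nat.pow_div (Nat.sub_le k 1) hp.out.pos]
  have : k - (k - 1) = 1 := by omega
  rw [this, pow_one]

include hP in
theorem normal_card_prime_eq_zpowers (N : Subgroup P) [N.Normal] (hN : Nat.card N = p) :
    ∃ z ∈ Subgroup.center P, orderOf z = p ∧ N = Subgroup.zpowers z := by
  have hNb : N ≠ ⊥ := by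
    intro h
    rw [h, Subgroup.card_bot] at hN
    exact hp.out.one_lt.ne hN
  obtain ⟨z, hzN, hzZ, hzo⟩ := exists_central_order_p p hP N hNb
  have hle : Subgroup.zpowers z ≤ N := (Subgroup.zpowers_le).mpr hzN
  have hcard : Nat.card (Subgroup.zpowers z) = p := by rw [Nat.card_zpowers, hzo]
  have heq : Subgroup.zpowers z = N := Subgroup.eq_of_le_of_card_ge hle (by rw [hcard, hN])
  exact ⟨z, hzZ, hzo, heq.symm⟩

include hP in
theorem lemmaA (hc : Nat.card (commutator P) = p) :
    ∃ u : P, u ∈ Subgroup.center P ∧ orderOf u = p ∧ commutator P = Subgroup.zpowers u ∧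
      ∀ a b : P, a * b * a⁻¹ * b⁻¹ ∈ Subgroup.zpowers u := by
  obtain ⟨u, huZ, huo, hu⟩ := normal_card_prime_eq_zpowers p hP (commutator P) hc
  refine ⟨u, huZ, huo, hu, ?_⟩
  intro a b
  rw [← hu, commutator_def, ← commutatorElement_def]
  exact Subgroup.commutator_mem_commutator (Subgroup.mem_top a) (Subgroup.mem_top b)

end PGroup

end Cfsg.Agent.Lib.Helper7.GalConj
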