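import Mathlib
import Cfsg.Prelude
import Cfsg.Agent.Lib.Helper7.GalConjA
import Cfsg.Agent.Lib.Helper4.FaithfulIrr

/-!
# p-groups with cyclic centre and derived subgroup of order p (helper7)

All nonlinear irreducible characters of such a group are Galois conjugate.
-/

set_option autoImplicit false

namespace Cfsg.Agent.Lib.Helper7.GalConj
open Cfsg Cfsg.Agent.Lib.Helper4 Cfsg.Agent.Lib.Helper7.TwoDeg

section Central
variable {G : Type*} [Group G]
variable {V : Type*} [AddCommGroup V] [Module ℂ V] [FiniteDimensional ℂ V]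

/-- the central character of an irreducible representation -/
theorem central_hom (ρ : Representation ℂ G V) (hρ : ρ.IsIrreducible) :
    ∃ f : Subgroup.center G →* ℂ, ∀ z : Subgroup.center G, ρ (z : G) = f z • LinearMap.id := by
  classical
  have hnt := nontrivial_of_irreducible ρ hρ
  have hid : (LinearMap.id : V →ₗ[ℂ] V) ≠ 0 := by
    intro h
    obtain ⟨v, hv⟩ := exists_ne (0 : V)
    apply hv
    have := LinearMap.congr_fun h v
    simpa using this
  have hex : ∀ z : Subgroup.center G, ∃ c : ℂ, ρ (z : G) = c • LinearMap.id :=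
    fun z => exists_scalar_of_mem_center ρ hρ z z.2
  choose lam hlam using hex
  have hsmul_inj : ∀ a b : ℂ, a • (LinearMap.id : V →ₗ[ℂ] V) = b • LinearMap.id → a = b := by
    intro a b h
    have h2 : (a - b) • (LinearMap.id : V →ₗ[ℂ] V) = 0 := by rw [sub_smul, h, sub_self]
    rcases smul_eq_zero.mp h2 with h3 | h3
    · exact sub_eq_zero.mp h3
    · exact absurd h3 hid
  let f : Subgroup.center G →* ℂ :=
    { toFun := lam
      map_one' := by
        apply hsmul_inj
        rw [← hlam, one_smul]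
        show ρ (1 : G) = LinearMap.id
        rw [map_one]
        rfl
      map_mul' := by
        intro a b
        apply hsmul_inj
        rw [← hlam]
        show ρ ((a : G) * (b : G)) = _
        rw [map_mul, hlam a, hlam b]
        apply LinearMap.ext
        intro v
        simp only [Module.End.mul_apply, LinearMap.smul_apply, LinearMap.id_apply, mul_smul] }
  exact ⟨f, hlam⟩

theorem character_of_scalar (ρ : Representation ℂ G V) (g : G) (c : ℂ)
    (h : ρ g = c • LinearMap.id) : ρ.character g = c * (Module.finrank ℂ V : ℂ) := by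
  show LinearMap.trace ℂ V (ρ g) = _
  rw [h, map_smul, LinearMap.trace_id, smul_eq_mul]

theorem rho_ne_one_of_nonlinear [Fintype G] (ρ : Representation ℂ G V) (hρ : ρ.IsIrreducible)
    (hn : Module.finrank ℂ V ≠ 1) (u : G)
    (hcomm : ∀ a b : G, a * b * a⁻¹ * b⁻¹ ∈ Subgroup.zpowers u) :
    ρ u ≠ 1 := by
  have hfin : IsOfFinOrder u := isOfFinOrder_of_finite u
  intro h
  apply hn
  have hker : ∀ w ∈ Subgroup.zpowers u, ρ w = 1 := by
    intro w hw
    rw [← hfin.mem_powers_iff_mem_zpowers] at hw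
    obtain ⟨j, rfl⟩ := hw
    rw [map_pow, h, one_pow]
  exact finrank_eq_one_of_commute ρ hρ (by
    intro g k
    have h3 := hker _ (hcomm g k)
    calc ρ g * ρ k = ρ (g * k) := (map_mul ρ g k).symm
      _ = ρ ((g * k * g⁻¹ * k⁻¹) * (k * g)) := by congr 1; group
      _ = ρ (k * g) := by rw [map_mul, h3, one_mul]
      _ = ρ k * ρ g := map_mul ρ k g)

end Central

section Main
variable {P : Type*} [Group P] [Fintype P] (p : ℕ) [hp : Fact p.Prime]

theorem galois_of_cyclic (hP : IsPGroup p P) (hcyc : IsCyclic (Subgroup.center P))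
    (hc : Nat.card (commutator P) = p) {n₁ n₂ : ℕ}
    (ρ₁ : Representation ℂ P (Fin n₁ → ℂ)) (ρ₂ : Representation ℂ P (Fin n₂ → ℂ))
    (h₁ : ρ₁.IsIrreducible) (h₂ : ρ₂.IsIrreducible) (hn₁ : n₁ ≠ 1) (hn₂ : n₂ ≠ 1) :
    ∃ k : ℕ, Nat.Coprime k (Nat.card P) ∧ ∀ g : P, ρ₂.character g = ρ₁.character (g ^ k) := by
  classical
  obtain ⟨u, huZ, huo, -, hcomm⟩ := lemmaA p hP hc
  obtain ⟨hv₁, -, hi₁⟩ := vanish_off_center ρ₁ h₁ hn₁ u huZ p hp.out huo hcomm
  obtain ⟨hv₂, -, hi₂⟩ := vanish_off_center ρ₂ h₂ hn₂ u huZ p hp.out huo hcomm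
  have hnn : n₁ = n₂ := by
    have h : n₁ ^ 2 = n₂ ^ 2 := hi₁.symm.trans hi₂
    exact Nat.pow_left_injective (by norm_num : 2 ≠ 0) h
  obtain ⟨f₁, hf₁⟩ := central_hom ρ₁ h₁
  obtain ⟨f₂, hf₂⟩ := central_hom ρ₂ h₂
  haveI := hcyc
  obtain ⟨z₀, hz₀⟩ := IsCyclic.exists_generator (α := Subgroup.center P)
  obtain ⟨c, hcard⟩ := IsPGroup.iff_card.mp (hP.to_subgroup (Subgroup.center P))
  have hoz : orderOf z₀ = p ^ c := by rw [orderOf_eq_card_of_forall_mem_zpowers hz₀, hcard]
  have hu1 : u ≠ 1 := by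
    intro h
    rw [h, orderOf_one] at huo
    exact hp.out.one_lt.ne huo
  have hc0 : c ≠ 0 := by
    intro h
    rw [h, pow_zero] at hcard
    have h2 : (⟨u, huZ⟩ : Subgroup.center P) = 1 := by
      haveI : Subsingleton (Subgroup.center P) := (Nat.card_eq_one_iff_unique.mp hcard).1
      exact Subsingleton.elim _ _
    exact hu1 (congrArg Subtype.val h2)
  obtain ⟨c', rfl⟩ : ∃ c', c = c' + 1 := ⟨c - 1, by omega⟩
  set w : Subgroup.center P := z₀ ^ (p ^ c') with hw
  have how : orderOf w = p := by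
    rw [hw, orderOf_pow_of_dvd (pow_ne_zero _ hp.out.pos.ne')
      (by rw [hoz]; exact pow_dvd_pow p (Nat.le_succ c')), hoz,
      Nat.pow_div (Nat.le_succ c') hp.out.pos]
    have h : c' + 1 - c' = 1 := by omega
    rw [h, pow_one]
  have hou : orderOf (⟨u, huZ⟩ : Subgroup.center P) = p := by
    rw [← huo]
    exact Subgroup.orderOf_mk u huZ
  have huw : (⟨u, huZ⟩ : Subgroup.center P) ∈ Subgroup.zpowers w :=
    mem_of_orderOf_eq_prime_of_isCyclic p _ _ hou how
  have key : ∀ {n : ℕ} (ρ : Representation ℂ P (Fin n → ℂ)) (_ : ρ.IsIrreducible) (_ : n ≠ 1)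
      (f : Subgroup.center P →* ℂ)
      (_ : ∀ z : Subgroup.center P, ρ (z : P) = f z • LinearMap.id),
      orderOf (f z₀) = p ^ (c' + 1) := by
    intro n ρ hρ hn f hf
    apply orderOf_eq_prime_pow
    · intro h
      have h1 : f w = 1 := by rw [hw, map_pow, h]
      have h2 : f ⟨u, huZ⟩ = 1 := by
        rw [← mem_powers_iff_mem_zpowers] at huw
        obtain ⟨j, hj⟩ := huw
        rw [← hj, map_pow, h1, one_pow]
      have h3 : ρ u = 1 := by
        have h4 := hf ⟨u, huZ⟩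
        rw [h2, one_smul] at h4
        exact h4
      exact rho_ne_one_of_nonlinear ρ hρ (by rw [Module.finrank_fin_fun]; exact hn) u hcomm h3
    · rw [← map_pow, ← hoz, pow_orderOf_eq_one, map_one]
  have ho₁ := key ρ₁ h₁ hn₁ f₁ hf₁
  have ho₂ := key ρ₂ h₂ hn₂ f₂ hf₂
  have hprim₁ : IsPrimitiveRoot (f₁ z₀) (p ^ (c' + 1)) := IsPrimitiveRoot.iff_orderOf.mpr ho₁
  have hprim₂ : IsPrimitiveRoot (f₂ z₀) (p ^ (c' + 1)) := IsPrimitiveRoot.iff_orderOf.mpr ho₂
  haveI : NeZero (p ^ (c' + 1)) := ⟨pow_ne_zero _ hp.out.pos.ne'⟩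
  obtain ⟨k, -, hk⟩ := hprim₁.eq_pow_of_pow_eq_one hprim₂.pow_eq_one
  have hkc : k.Coprime (p ^ (c' + 1)) := by
    rw [← hprim₁.pow_iff_coprime (pow_pos hp.out.pos _) k, hk]
    exact hprim₂
  have hkp : k.Coprime p := (Nat.coprime_pow_right_iff (Nat.succ_pos c') k p).mp hkc
  obtain ⟨N, hN⟩ := IsPGroup.iff_card.mp hP
  have hkP : k.Coprime (Nat.card P) := by
    rw [hN]
    exact Nat.Coprime.pow_right N hkp
  refine ⟨k, hkP, ?_⟩
  intro g
  by_cases hg : g ∈ Subgroup.center P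
  · have hgz := hz₀ ⟨g, hg⟩
    rw [← mem_powers_iff_mem_zpowers] at hgz
    obtain ⟨j, hj⟩ := hgz
    have hj' : z₀ ^ j = ⟨g, hg⟩ := hj
    have hg' : g = ((z₀ ^ j : Subgroup.center P) : P) := by rw [hj']
    have e2 : ρ₂.character g = f₂ (z₀ ^ j) * (n₂ : ℂ) := by
      rw [hg']
      have h := character_of_scalar ρ₂ _ _ (hf₂ (z₀ ^ j))
      rw [Module.finrank_fin_fun] at h
      exact h
    have e1 : ρ₁.character (g ^ k) = f₁ ((z₀ ^ j) ^ k) * (n₁ : ℂ) := by
      rw [hg']
      have h := character_of_scalar ρ₁ _ _ (hf₁ ((z₀ ^ j) ^ k))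
      rw [Module.finrank_fin_fun] at h
      exact h
    rw [e1, e2, map_pow f₂, map_pow f₁, map_pow f₁, ← hk, hnn]
    ring
  · rw [hv₂ g hg]
    have hgk : g ^ k ∉ Subgroup.center P := by
      intro h
      apply hg
      have hco : k.Coprime (orderOf g) :=
        Nat.Coprime.coprime_dvd_right (orderOf_dvd_natCard g) hkP
      obtain ⟨m, hm⟩ := exists_pow_eq_self_of_coprime hco
      rw [← hm]
      exact (Subgroup.center P).pow_mem h m
    rw [hv₁ _ hgk]

end Main

end Cfsg.Agent.Lib.Helper7.GalConj
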