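import Mathlib
import Cfsg.Prelude
import Cfsg.Agent.Lib.Helper7.GalConjB
import Cfsg.Agent.Lib.Helper4.Deflate
import Cfsg.Agent.Lib.Helper2.CharConj
import Cfsg.Agent.S0857

/-!
# Galois conjugate characters of equal degree: first consequences (helper7)
-/

set_option autoImplicit false

namespace Cfsg.Agent.Lib.Helper7.GalConj
open Cfsg Cfsg.Agent.Lib.Helper4 Cfsg.Agent.Lib.Helper2 Cfsg.Agent.Lib.Helper7.TwoDeg

/-- nonlinear irreducible characters of equal degree are Galois conjugate -/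
def GalH (P : Type*) [Group P] : Prop :=
  ∀ χ ψ : P → ℂ, IsIrrCharacter P χ → IsIrrCharacter P ψ → χ 1 ≠ 1 → χ 1 = ψ 1 →
    ∃ k : ℕ, Nat.Coprime k (Nat.card P) ∧ ∀ g : P, ψ g = χ (g ^ k)

theorem exists_hom_ne_one {P : Type*} [Group P] [Finite P] (g : P) (hg : g ∉ commutator P) :
    ∃ lam : P →* ℂˣ, lam g ≠ 1 := by
  classical
  have hy : Abelianization.of g ≠ 1 := by
    intro h
    apply hg
    rw [← Abelianization.ker_of P]
    exact h
  haveI : Fintype (Abelianization P →* ℂˣ) := Fintype.ofFinite _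
  by_contra hcon
  push Not at hcon
  have h1 := Cfsg.Agent.S0857.sum_monoidHom_apply' (A := Abelianization P)
    (fun a b => mul_comm a b) (Abelianization.of g)
  rw [if_neg hy] at h1
  have h2 : ∀ ξ : Abelianization P →* ℂˣ, ξ (Abelianization.of g) = 1 := by
    intro ξ
    exact hcon (ξ.comp Abelianization.of)
  rw [Finset.sum_congr rfl (fun ξ _ => by rw [h2 ξ])] at h1
  simp at h1

theorem galH_quotient {P : Type*} [Group P] [Finite P] (h : GalH P) (N : Subgroup P) [N.Normal] :
    GalH (P ⧸ N) := by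
  intro χ ψ hχ hψ hχ1 hdeg
  have hχ' := Cfsg.Agent.Lib.Helper2.isIrrCharacter_comp_of_surjective hχ (QuotientGroup.mk' N)
    (QuotientGroup.mk'_surjective N)
  have hψ' := Cfsg.Agent.Lib.Helper2.isIrrCharacter_comp_of_surjective hψ (QuotientGroup.mk' N)
    (QuotientGroup.mk'_surjective N)
  obtain ⟨k, hk, hkg⟩ := h _ _ hχ' hψ' hχ1 hdeg
  refine ⟨k, ?_, ?_⟩
  · apply Nat.Coprime.coprime_dvd_right _ hk
    rw [← Subgroup.index_eq_card]
    exact Subgroup.index_dvd_card N
  · intro x
    obtain ⟨g, rfl⟩ := QuotientGroup.mk_surjective x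
    exact hkg g

theorem ker_le_commutator {P : Type*} [Group P] [Finite P] (h : GalH P) (χ : P → ℂ)
    (hχ : IsIrrCharacter P χ) (hχ1 : χ 1 ≠ 1) (g : P) (hg : χ g = χ 1) : g ∈ commutator P := by
  haveI : Fintype P := Fintype.ofFinite P
  by_contra hgc
  obtain ⟨lam, hlam⟩ := exists_hom_ne_one g hgc
  have htw := Cfsg.Agent.S0857.isIrr_twist lam χ hχ
  have hdeg : χ 1 = (fun k => ((lam k : ℂˣ) : ℂ) * χ k) 1 := by
    show χ 1 = ((lam 1 : ℂˣ) : ℂ) * χ 1
    rw [map_one, Units.val_one, one_mul]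
  obtain ⟨k, -, hk⟩ := h _ _ hχ htw hχ1 hdeg
  have h1 := hk g
  obtain ⟨n, ρ, hρ, rfl⟩ := hχ
  have hgker : g ∈ MonoidHom.ker ρ := (character_eq_one_iff_mem_ker ρ g).mp hg
  have hgk : ρ.character (g ^ k) = ρ.character 1 :=
    (character_eq_one_iff_mem_ker ρ (g ^ k)).mpr ((MonoidHom.ker ρ).pow_mem hgker k)
  have h2 : ((lam g : ℂˣ) : ℂ) * ρ.character g = ρ.character (g ^ k) := h1
  rw [hgk, hg] at h2
  have h0 : ρ.character 1 ≠ 0 := by
    rw [Representation.char_one, Module.finrank_fin_fun]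
    intro h0
    have hn0 : n = 0 := by exact_mod_cast h0
    have := nontrivial_of_irreducible ρ hρ
    rw [hn0] at this
    exact not_subsingleton _ (inferInstance : Subsingleton (Fin 0 → ℂ))
  have h3 : ((lam g : ℂˣ) : ℂ) = 1 := by
    have h4 : (((lam g : ℂˣ) : ℂ) - 1) * ρ.character 1 = 0 := by rw [sub_mul, h2, one_mul, sub_self]
    rcases mul_eq_zero.mp h4 with h5 | h5
    · exact sub_eq_zero.mp h5
    · exact absurd h5 h0
  exact hlam (Units.ext h3)

theorem cyclic_center_of_galH {P : Type*} [Group P] [Fintype P] (p : ℕ) [hp : Fact p.Prime]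
    (hP : IsPGroup p P) (h : GalH P) (hc : Nat.card (commutator P) = p) :
    IsCyclic (Subgroup.center P) := by
  classical
  obtain ⟨u, huZ, huo, hcu, hcomm⟩ := lemmaA p hP hc
  have hu1 : u ≠ 1 := by
    intro h
    rw [h, orderOf_one] at huo
    exact hp.out.one_lt.ne huo
  -- a nonlinear irreducible character
  have hex : ∃ θ : P → ℂ, IsIrrCharacter P θ ∧ θ 1 ≠ 1 := by
    by_contra hno
    push Not at hno
    -- then P is abelian, so u = 1
    have hab := comm_of_all_linear hno
    apply hu1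
    have h1 : commutator P = ⊥ := by
      rw [commutator_def, Subgroup.commutator_eq_bot_iff_le_centralizer]
      intro a _
      rw [Subgroup.mem_centralizer_iff]
      intro b _
      exact hab b a
    have h2 : u ∈ commutator P := by rw [hcu]; exact Subgroup.mem_zpowers u
    rw [h1] at h2
    exact Subgroup.mem_bot.mp h2
  obtain ⟨θ, hθ, hθ1⟩ := hex
  have hker := ker_le_commutator h θ hθ hθ1
  obtain ⟨n, ρ, hρ, rfl⟩ := hθ
  have hn1 : n ≠ 1 := by
    intro hn
    apply hθ1
    rw [Representation.char_one, Module.finrank_fin_fun, hn]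
    simp
  have hρu : ρ u ≠ 1 :=
    rho_ne_one_of_nonlinear ρ hρ (by rw [Module.finrank_fin_fun]; exact hn1) u hcomm
  have hinj : Function.Injective ρ := by
    rw [injective_iff_map_eq_one]
    intro g hg
    have hgk : g ∈ MonoidHom.ker ρ := hg
    have h1 := hker g ((character_eq_one_iff_mem_ker ρ g).mpr hgk)
    rw [hcu, ← mem_powers_iff_mem_zpowers] at h1
    obtain ⟨j, hj⟩ := h1
    have hj' : u ^ j = g := hj
    by_cases hpj : p ∣ j
    · obtain ⟨t, rfl⟩ := hpj
      rw [← hj', pow_mul, ← huo, pow_orderOf_eq_one, one_pow]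
    · exfalso
      have hco : j.Coprime (orderOf u) := by
        rw [huo]
        exact ((Nat.Prime.coprime_iff_not_dvd hp.out).mpr hpj).symm
      obtain ⟨m, hm⟩ := exists_pow_eq_self_of_coprime hco
      apply hρu
      rw [← hm, hj', map_pow, hg, one_pow]
  exact isCyclic_center_of_faithful_irreducible ρ hρ hinj

end Cfsg.Agent.Lib.Helper7.GalConj
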