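import Mathlib
import Cfsg.Prelude
import Cfsg.Agent.Lib.Helper7.GalConjC

/-!
# Galois conjugate characters of equal degree: counting lemmas (helper7)
-/

set_option autoImplicit false

namespace Cfsg.Agent.Lib.Helper7.GalConj
open Cfsg Cfsg.Agent.Lib.Helper4 Cfsg.Agent.Lib.Helper2 Cfsg.Agent.Lib.Helper7.TwoDeg

theorem conj_pow_central {G : Type*} [Group G] (y g c : G) (hc : ∀ x : G, c * x = x * c)
    (h : y * g * y⁻¹ = c * g) (j : ℕ) : y ^ j * g * (y ^ j)⁻¹ = c ^ j * g := by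
  induction j with
  | zero => simp
  | succ j ih =>
    have hcj : ∀ x : G, c ^ j * x = x * c ^ j := fun x => ((show Commute c x from hc x).pow_left j)
    calc y ^ (j + 1) * g * (y ^ (j + 1))⁻¹ = y * (y ^ j * g * (y ^ j)⁻¹) * y⁻¹ := by
          rw [pow_succ']; group
      _ = y * (c ^ j * g) * y⁻¹ := by rw [ih]
      _ = (y * c ^ j) * g * y⁻¹ := by group
      _ = (c ^ j * y) * g * y⁻¹ := by rw [hcj y]
      _ = c ^ j * (y * g * y⁻¹) := by group
      _ = c ^ j * (c * g) := by rw [h]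
      _ = c ^ (j + 1) * g := by rw [pow_succ]; group

/-- if all commutators `[y, g]` lie in a central subgroup of exponent `p`, then `y ^ p` is central -/
theorem pow_mem_center {G : Type*} [Group G] (W : Subgroup G) (hW : W ≤ Subgroup.center G)
    (p : ℕ) (hWp : ∀ w ∈ W, w ^ p = 1) (y : G) (hy : ∀ g : G, y * g * y⁻¹ * g⁻¹ ∈ W) :
    y ^ p ∈ Subgroup.center G := by
  rw [Subgroup.mem_center_iff]
  intro g
  set c := y * g * y⁻¹ * g⁻¹ with hc
  have hcW : c ∈ W := hy g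
  have hcc : ∀ x : G, c * x = x * c := fun x => ((Subgroup.mem_center_iff.mp (hW hcW)) x).symm
  have h1 : y * g * y⁻¹ = c * g := by rw [hc]; group
  have h2 := conj_pow_central y g c hcc h1 p
  rw [hWp c hcW, one_mul] at h2
  calc g * y ^ p = (y ^ p * g * (y ^ p)⁻¹) * y ^ p := by rw [h2]
    _ = y ^ p * g := by group

section Quot
variable {P : Type*} [Group P] [Finite P] (p : ℕ) [hp : Fact p.Prime] (N : Subgroup P) [N.Normal]

include hp in
theorem center_card_ge (hNZ : N ≤ Subgroup.center P) (hNp : Nat.card N = p)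
    (hcyc : IsCyclic (Subgroup.center (P ⧸ N))) :
    Nat.card (Subgroup.center (P ⧸ N)) ≤ Nat.card (Subgroup.center P) := by
  classical
  haveI := hcyc
  obtain ⟨y0, hy0⟩ := IsCyclic.exists_generator (α := Subgroup.center (P ⧸ N))
  set m := Nat.card (Subgroup.center (P ⧸ N)) with hm
  have hoy : orderOf (y0 : P ⧸ N) = m := by
    rw [Subgroup.orderOf_coe, orderOf_eq_card_of_forall_mem_zpowers hy0]
  obtain ⟨y, hy⟩ := QuotientGroup.mk_surjective (y0 : P ⧸ N)
  have hNpow : ∀ w ∈ N, w ^ p = 1 := by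
    intro w hw
    have h1 : (⟨w, hw⟩ : N) ^ Nat.card N = 1 := pow_card_eq_one'
    rw [hNp] at h1
    exact congrArg Subtype.val h1
  have hyp : y ^ p ∈ Subgroup.center P := by
    apply pow_mem_center N hNZ p hNpow y
    intro g
    rw [← QuotientGroup.eq_one_iff]
    rw [QuotientGroup.mk_mul, QuotientGroup.mk_mul, QuotientGroup.mk_mul, QuotientGroup.mk_inv,
      QuotientGroup.mk_inv, hy]
    have h1 := Subgroup.mem_center_iff.mp y0.2 (QuotientGroup.mk g)
    rw [← h1]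
    group
  let f : ↥(Subgroup.center P) →* P ⧸ N := (QuotientGroup.mk' N).comp (Subgroup.center P).subtype
  have hker : f.ker = N.subgroupOf (Subgroup.center P) := by
    ext z
    rw [MonoidHom.mem_ker, Subgroup.mem_subgroupOf]
    show (QuotientGroup.mk (z : P) : P ⧸ N) = 1 ↔ _
    exact QuotientGroup.eq_one_iff _
  have hkcard : Nat.card f.ker = p := by
    rw [hker, ← hNp]
    exact Nat.card_congr (Subgroup.subgroupOfEquivOfLe hNZ).toEquiv
  have h1 := Subgroup.card_mul_index f.ker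
  rw [Subgroup.index_ker, hkcard] at h1
  have hmem : (y0 : P ⧸ N) ^ p ∈ f.range := by
    refine ⟨⟨y ^ p, hyp⟩, ?_⟩
    show (QuotientGroup.mk (y ^ p) : P ⧸ N) = _
    rw [QuotientGroup.mk_pow, hy]
  have h2 : orderOf ((y0 : P ⧸ N) ^ p) ∣ Nat.card f.range := Subgroup.orderOf_dvd_natCard _ hmem
  rw [orderOf_pow' _ hp.out.pos.ne', hoy] at h2
  have h3 : m / Nat.gcd m p ≤ Nat.card f.range := Nat.le_of_dvd Nat.card_pos h2
  have h4 : m / Nat.gcd m p * Nat.gcd m p = m := Nat.div_mul_cancel (Nat.gcd_dvd_left m p)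
  have h5 : Nat.gcd m p ≤ p := Nat.le_of_dvd hp.out.pos (Nat.gcd_dvd_right m p)
  calc m = m / Nat.gcd m p * Nat.gcd m p := h4.symm
    _ ≤ Nat.card f.range * p := Nat.mul_le_mul h3 h5
    _ = p * Nat.card f.range := Nat.mul_comm _ _
    _ = Nat.card (Subgroup.center P) := h1

include hp in
theorem exponent_bound (hNp : Nat.card N = p) (u' : P ⧸ N)
    (hu'Z : u' ∈ Subgroup.center (P ⧸ N)) (hu'o : orderOf u' = p)
    (hcommQ : ∀ a b : P ⧸ N, a * b * a⁻¹ * b⁻¹ ∈ Subgroup.zpowers u') (g : P) :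
    g ^ (p * Nat.card (Subgroup.center (P ⧸ N)) * p) = 1 := by
  have hWp : ∀ w ∈ Subgroup.zpowers u', w ^ p = 1 := by
    intro w hw
    rw [← mem_powers_iff_mem_zpowers] at hw
    obtain ⟨j, rfl⟩ := hw
    rw [← pow_mul, mul_comm, pow_mul, ← hu'o, pow_orderOf_eq_one, one_pow]
  have h1 : (QuotientGroup.mk g : P ⧸ N) ^ p ∈ Subgroup.center (P ⧸ N) :=
    pow_mem_center (Subgroup.zpowers u') ((Subgroup.zpowers_le).mpr hu'Z) p hWp _
      (fun b => hcommQ _ b)
  have h2 : ((QuotientGroup.mk g : P ⧸ N) ^ p) ^ Nat.card (Subgroup.center (P ⧸ N)) = 1 := by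
    have h3 : (⟨_, h1⟩ : Subgroup.center (P ⧸ N)) ^ Nat.card (Subgroup.center (P ⧸ N)) = 1 :=
      pow_card_eq_one'
    exact congrArg Subtype.val h3
  rw [← pow_mul, ← QuotientGroup.mk_pow, QuotientGroup.eq_one_iff] at h2
  have h4 : (⟨_, h2⟩ : N) ^ Nat.card N = 1 := pow_card_eq_one'
  rw [hNp] at h4
  have h5 := congrArg Subtype.val h4
  rw [pow_mul]
  exact h5

end Quot

theorem count_le_totient {P : Type*} [Group P] [Finite P] (hH : GalH P) (E : ℕ) [NeZero E]
    (hE : ∀ g : P, g ^ E = 1) (hEc : ∀ k : ℕ, Nat.Coprime k (Nat.card P) → Nat.Coprime k E)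
    (f : ℂ) (hf : f ≠ 1) :
    Nat.card {ψ : IrrCharacter P // (ψ : P → ℂ) 1 = f} ≤ Nat.totient E := by
  classical
  by_cases hne : Nonempty {ψ : IrrCharacter P // (ψ : P → ℂ) 1 = f}
  · obtain ⟨⟨ψ₀, hψ₀⟩⟩ := hne
    have hex : ∀ ψ : {ψ : IrrCharacter P // (ψ : P → ℂ) 1 = f},
        ∃ k : ℕ, Nat.Coprime k (Nat.card P) ∧ ∀ g : P, ((ψ : IrrCharacter P) : P → ℂ) g =
          (ψ₀ : P → ℂ) (g ^ k) := by
      intro ψ
      exact hH _ _ ψ₀.2 ψ.1.2 (by rw [hψ₀]; exact hf) (by rw [hψ₀, ψ.2])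
    choose kf hkf1 hkf2 using hex
    haveI : Fintype (ZMod E)ˣ := Fintype.ofFinite _
    let F : {ψ : IrrCharacter P // (ψ : P → ℂ) 1 = f} → (ZMod E)ˣ :=
      fun ψ => ZMod.unitOfCoprime (kf ψ) (hEc _ (hkf1 ψ))
    have hF : Function.Injective F := by
      intro ψ ψ' h
      have h1 : ((F ψ : (ZMod E)ˣ) : ZMod E) = ((F ψ' : (ZMod E)ˣ) : ZMod E) := by rw [h]
      rw [ZMod.coe_unitOfCoprime, ZMod.coe_unitOfCoprime, ZMod.natCast_eq_natCast_iff] at h1
      apply Subtype.ext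
      apply Subtype.ext
      funext g
      rw [hkf2 ψ g, hkf2 ψ' g]
      have h3 : g ^ kf ψ = g ^ kf ψ' := by
        rw [pow_eq_pow_iff_modEq]
        exact h1.of_dvd (orderOf_dvd_of_pow_eq_one (hE g))
      rw [h3]
    have h2 := Nat.card_le_card_of_injective F hF
    rw [Nat.card_eq_fintype_card (α := (ZMod E)ˣ), ZMod.card_units_eq_totient] at h2
    exact h2
  · rw [not_nonempty_iff] at hne
    rw [Nat.card_of_isEmpty]
    exact Nat.zero_le _

theorem geom_bound (p : ℕ) (hp : 2 ≤ p) (r : ℕ) :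
    ∑ j ∈ Finset.Ico 1 r, p ^ (2 * j + 1) < p ^ (2 * r) := by
  induction r with
  | zero => simp
  | succ r ih =>
    rcases Nat.eq_zero_or_pos r with h0 | h0
    · subst h0
      simp only [Finset.Ico_self, Finset.sum_empty]
      exact pow_pos (by omega) _
    · have h0' : 1 ≤ r := h0
      rw [Finset.sum_Ico_succ_top h0']
      have h1 : p ^ (2 * r) + p ^ (2 * r + 1) ≤ p ^ (2 * (r + 1)) := by
        have e1 : p ^ (2 * r + 1) = p ^ (2 * r) * p := pow_succ _ _
        have e2 : p ^ (2 * (r + 1)) = p ^ (2 * r) * (p * p) := by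
          rw [show 2 * (r + 1) = 2 * r + 2 from by ring, pow_add]; ring
        rw [e1, e2]
        have h3 : 1 + p ≤ p * p := by nlinarith
        calc p ^ (2 * r) + p ^ (2 * r) * p = p ^ (2 * r) * (1 + p) := by ring
          _ ≤ p ^ (2 * r) * (p * p) := Nat.mul_le_mul_left _ h3
      omega

end Cfsg.Agent.Lib.Helper7.GalConj
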