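import Mathlib
import Cfsg.Prelude
import Cfsg.Agent.Lib.Helper7.GalConjD
import Cfsg.Agent.Lib.Helper7.CoprimeCount
import Cfsg.Agent.Lib.Helper7.ExtDet
import Cfsg.Agent.Lib.Helper26.UniquePSing
import Cfsg.Agent.Lib.Helper4.CharOrtho
import Cfsg.Agent.S1492

/-!
# Galois conjugate characters of equal degree: the inductive step (helper7)
-/

set_option autoImplicit false

namespace Cfsg.Agent.Lib.Helper7.GalConj
open Cfsg Cfsg.Agent.Lib.Helper4 Cfsg.Agent.Lib.Helper7.TwoDeg Cfsg.Agent.Lib.Helper26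
open Cfsg.Agent.Lib.Helper7

theorem exists_nonlinear {Q : Type*} [Group Q] [Fintype Q] (x : Q) (hx : x ∈ commutator Q)
    (hx1 : x ≠ 1) : ∃ (d : ℕ) (ρ : Representation ℂ Q (Fin d → ℂ)), ρ.IsIrreducible ∧ d ≠ 1 := by
  by_contra hno
  push Not at hno
  have hlin : ∀ θ : Q → ℂ, IsIrrCharacter Q θ → θ 1 = 1 := by
    intro θ hθ
    obtain ⟨n, ρ, hρ, rfl⟩ := hθ
    rw [Representation.char_one, Module.finrank_fin_fun, hno n ρ hρ]
    simp
  have hab := comm_of_all_linear hlin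
  apply hx1
  have h1 : commutator Q = ⊥ := by
    rw [commutator_def, Subgroup.commutator_eq_bot_iff_le_centralizer]
    intro a _
    rw [Subgroup.mem_centralizer_iff]
    intro b _
    exact hab b a
  rw [h1] at hx
  exact Subgroup.mem_bot.mp hx

universe u

set_option maxHeartbeats 800000 in
theorem step {P : Type u} [Group P] [Fintype P] (p : ℕ) [hp : Fact p.Prime]
    (hP : IsPGroup p P) (hH : GalH P) (N : Subgroup P) [N.Normal]
    (hNZ : N ≤ Subgroup.center P) (hNc : N ≤ commutator P) (hNp : Nat.card N = p)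
    (hQc : Nat.card (commutator (P ⧸ N)) = p) : False := by
  classical
  haveI : Fintype (P ⧸ N) := Fintype.ofFinite _
  have hQ : IsPGroup p (P ⧸ N) := hP.to_quotient N
  have hHQ : GalH (P ⧸ N) := galH_quotient hH N
  have hcycQ : IsCyclic (Subgroup.center (P ⧸ N)) := cyclic_center_of_galH p hQ hHQ hQc
  obtain ⟨u', hu'Z, hu'o, hcu', hcommQ⟩ := lemmaA p hQ hQc
  have hu'1 : u' ≠ 1 := by
    intro h
    rw [h, orderOf_one] at hu'o
    exact hp.out.one_lt.ne hu'o
  obtain ⟨d, ρ', hρ', hd1⟩ := exists_nonlinear u' (by rw [hcu']; exact Subgroup.mem_zpowers u') hu'1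
  obtain ⟨-, -, hiQ⟩ := vanish_off_center ρ' hρ' hd1 u' hu'Z p hp.out hu'o hcommQ
  set m := Nat.card (Subgroup.center (P ⧸ N)) with hm
  have hmpos : 0 < m := Nat.card_pos
  have hQcard : Nat.card (P ⧸ N) = m * d ^ 2 := by
    rw [← hiQ, hm]
    exact (Subgroup.card_mul_index _).symm
  have hPcard : Nat.card P = m * d ^ 2 * p := by
    rw [Subgroup.card_eq_card_quotient_mul_card_subgroup N, hQcard, hNp]
  have hmZ : m ≤ Nat.card (Subgroup.center P) := center_card_ge p N hNZ hNp hcycQ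
  have hexp : ∀ g : P, g ^ (p * m * p) = 1 := exponent_bound p N hNp u' hu'Z hu'o hcommQ
  obtain ⟨nP, hnP⟩ := IsPGroup.iff_card.mp hP
  obtain ⟨c, hc⟩ := IsPGroup.iff_card.mp (hQ.to_subgroup (Subgroup.center (P ⧸ N)))
  have hmc : m = p ^ c := hc
  have hnP0 : nP ≠ 0 := by
    intro h
    rw [h, pow_zero] at hnP
    have h1 : p ∣ Nat.card P := by rw [hPcard]; exact Dvd.intro_left _ rfl
    rw [hnP] at h1
    exact hp.out.one_lt.ne' (Nat.dvd_one.mp h1)
  have hdvd : d ∣ p ^ nP := by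
    rw [← hnP, hPcard]
    exact Dvd.intro (d * m * p) (by ring)
  obtain ⟨r, -, hr⟩ := (Nat.dvd_prime_pow hp.out).mp hdvd
  set E := p * m * p with hE
  have hEpow : E = p ^ (c + 2) := by rw [hE, hmc]; ring
  haveI : NeZero E := ⟨by rw [hEpow]; exact pow_ne_zero _ hp.out.pos.ne'⟩
  obtain ⟨q, hq⟩ : ∃ q, p = q + 1 := ⟨p - 1, by have := hp.out.pos; omega⟩
  have hq1 : 1 ≤ q := by have := hp.out.two_le; omega
  have hEtot : Nat.totient E = q * (p * m) := by
    rw [hEpow, Nat.totient_prime_pow hp.out (by omega)]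
    have h1 : c + 2 - 1 = c + 1 := by omega
    have h2 : p - 1 = q := by omega
    rw [h1, h2, hmc]
    ring
  have hEc : ∀ k : ℕ, Nat.Coprime k (Nat.card P) → Nat.Coprime k E := by
    intro k hk
    rw [hnP] at hk
    have hkp : k.Coprime p := (Nat.coprime_pow_right_iff (Nat.pos_of_ne_zero hnP0) k p).mp hk
    rw [hEpow]
    exact Nat.Coprime.pow_right _ hkp
  -- the inflated character
  set χ : P → ℂ := ρ'.character ∘ (QuotientGroup.mk' N) with hχ
  have hχirr : IsIrrCharacter P χ :=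
    Cfsg.Agent.Lib.Helper2.isIrrCharacter_comp_of_surjective ⟨d, ρ', hρ', rfl⟩ _
      (QuotientGroup.mk'_surjective N)
  have hχ1 : χ 1 = (d : ℂ) := by
    show ρ'.character (QuotientGroup.mk' N 1) = _
    rw [map_one, Representation.char_one, Module.finrank_fin_fun]
  have hdC : (d : ℂ) ≠ 1 := by exact_mod_cast hd1
  have claim1 : ∀ ψ : IrrCharacter P, (ψ : P → ℂ) 1 = (d : ℂ) →
      ∀ n ∈ N, (ψ : P → ℂ) n = (ψ : P → ℂ) 1 := by
    intro ψ hψd n hn
    obtain ⟨k, -, hk⟩ := hH χ ψ hχirr ψ.2 (by rw [hχ1]; exact hdC) (by rw [hχ1, hψd])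
    rw [hk n, hψd, ← hχ1]
    show ρ'.character (QuotientGroup.mk' N (n ^ k)) = ρ'.character (QuotientGroup.mk' N 1)
    have h1 : (QuotientGroup.mk' N (n ^ k)) = 1 :=
      (QuotientGroup.eq_one_iff _).mpr (N.pow_mem hn k)
    rw [h1, map_one]
  haveI : Fintype (IrrCharacter P) := Fintype.ofFinite _
  have hdeg : ∀ ψ : IrrCharacter P, (ψ : P → ℂ) 1 = (charDegree (ψ : P → ℂ) : ℂ) :=
    fun ψ => CoprimeCount.irr_one_eq_charDegree ψ
  have claim3 : ∀ ψ : IrrCharacter P, (¬ ∀ n ∈ N, (ψ : P → ℂ) n = (ψ : P → ℂ) 1) →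
      ∃ j ∈ Finset.Ico 1 r, charDegree (ψ : P → ℂ) = p ^ j := by
    intro ψ hψ
    set f := charDegree (ψ : P → ℂ) with hf
    have hf1 : (ψ : P → ℂ) 1 = (f : ℂ) := hdeg ψ
    have hfdvd : f ∣ p ^ nP := by
      rw [← hnP]
      exact irr_degree_dvd_card ψ.2 f hf1
    obtain ⟨j, -, hj⟩ := (Nat.dvd_prime_pow hp.out).mp hfdvd
    have hfne1 : f ≠ 1 := by
      intro h1
      apply hψ
      intro n hn
      have h2 : (ψ : P → ℂ) 1 = 1 := by rw [hf1, h1]; simp
      rw [linear_trivial_on_commutator ψ.2 h2 n (hNc hn), h2]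
    have hfned : f ≠ d := by
      intro h
      apply hψ
      exact claim1 ψ (by rw [hf1, h])
    have hbound : f ^ 2 ≤ p * d ^ 2 := by
      have h2 := Cfsg.Agent.S1492.result (ψ : P → ℂ) ψ.2 ⊥ ⊤ (Subgroup.center P) bot_le le_top
        (fun c _ b hb => by rw [Subgroup.mem_bot] at hb ⊢; rw [hb]; group)
        (fun d hd c _ => by
          rw [Subgroup.mem_bot]; rw [Subgroup.mem_center_iff] at hd; rw [← hd c]; group)
        (fun b hb => by rw [Subgroup.mem_bot.mp hb])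
      rw [hf1, Complex.norm_natCast, Subgroup.card_top] at h2
      have h3 : f ^ 2 * Nat.card P * Nat.card (Subgroup.center P) ≤ Nat.card P ^ 2 := by
        exact_mod_cast h2
      have hPpos : 0 < Nat.card P := Nat.card_pos
      have h4 : f ^ 2 * Nat.card (Subgroup.center P) ≤ Nat.card P := by
        have h5 : (f ^ 2 * Nat.card (Subgroup.center P)) * Nat.card P ≤
            Nat.card P * Nat.card P := by
          calc (f ^ 2 * Nat.card (Subgroup.center P)) * Nat.card P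
              = f ^ 2 * Nat.card P * Nat.card (Subgroup.center P) := by ring
            _ ≤ Nat.card P ^ 2 := h3
            _ = Nat.card P * Nat.card P := by ring
        exact Nat.le_of_mul_le_mul_right h5 hPpos
      have h5 : f ^ 2 * m ≤ (p * d ^ 2) * m := by
        calc f ^ 2 * m ≤ f ^ 2 * Nat.card (Subgroup.center P) := Nat.mul_le_mul_left _ hmZ
          _ ≤ Nat.card P := h4
          _ = (p * d ^ 2) * m := by rw [hPcard]; ring
      exact Nat.le_of_mul_le_mul_right h5 hmpos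
    rw [hj, hr] at hbound
    have h6 : p ^ (2 * j) ≤ p ^ (2 * r + 1) := by
      calc p ^ (2 * j) = (p ^ j) ^ 2 := by rw [← pow_mul, mul_comm]
        _ ≤ p * (p ^ r) ^ 2 := hbound
        _ = p ^ (2 * r + 1) := by rw [← pow_mul, pow_succ, mul_comm r 2]; ring
    have h7 : 2 * j ≤ 2 * r + 1 := (Nat.pow_le_pow_iff_right hp.out.one_lt).mp h6
    have hj0 : j ≠ 0 := by
      intro h
      apply hfne1
      rw [hj, h, pow_zero]
    have hjr : j ≠ r := by
      intro h
      apply hfned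
      rw [hj, hr, h]
    exact ⟨j, Finset.mem_Ico.mpr ⟨by omega, by omega⟩, hj⟩
  -- the counting
  set S := Finset.univ.filter
    (fun ψ : IrrCharacter P => ¬ ∀ n ∈ N, (ψ : P → ℂ) n = (ψ : P → ℂ) 1) with hS
  have hsumC : ∑ ψ ∈ S, (ψ : P → ℂ) 1 ^ 2 = (Nat.card P : ℂ) - (N.index : ℂ) := by
    have h1 := sum_sq_degree (G := P)
    have h2 := sum_sq_degree_ker N
    rw [← Finset.sum_filter_add_sum_filter_not Finset.univ
      (fun ψ : IrrCharacter P => ∀ n ∈ N, (ψ : P → ℂ) n = (ψ : P → ℂ) 1), h2] at h1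
    rw [hS]
    linear_combination h1
  have hsumN : ∑ ψ ∈ S, (charDegree (ψ : P → ℂ)) ^ 2 + m * d ^ 2 = m * d ^ 2 * p := by
    have h0 : (N.index : ℂ) = ((m * d ^ 2 : ℕ) : ℂ) := by rw [Subgroup.index_eq_card, hQcard]
    have h3 : ((∑ ψ ∈ S, (charDegree (ψ : P → ℂ)) ^ 2 : ℕ) : ℂ) =
        ∑ ψ ∈ S, (ψ : P → ℂ) 1 ^ 2 := by
      push_cast
      apply Finset.sum_congr rfl
      intro ψ _
      rw [hdeg ψ]
    have h4 : ((∑ ψ ∈ S, (charDegree (ψ : P → ℂ)) ^ 2 + m * d ^ 2 : ℕ) : ℂ) =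
        ((m * d ^ 2 * p : ℕ) : ℂ) := by
      rw [Nat.cast_add, h3, hsumC, h0, ← hPcard]
      ring
    exact_mod_cast h4
  set t := (Finset.Ico 1 r).image (fun j => p ^ j) with ht
  have hmaps : ∀ ψ ∈ S, charDegree (ψ : P → ℂ) ∈ t := by
    intro ψ hψ
    obtain ⟨j, hj, hjd⟩ := claim3 ψ (Finset.mem_filter.mp hψ).2
    rw [ht, Finset.mem_image]
    exact ⟨j, hj, hjd.symm⟩
  have hfib := Finset.sum_fiberwise_of_maps_to hmaps (fun ψ => (charDegree (ψ : P → ℂ)) ^ 2)
  have hle : ∑ ψ ∈ S, (charDegree (ψ : P → ℂ)) ^ 2 ≤ ∑ y ∈ t, Nat.totient E * y ^ 2 := by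
    rw [← hfib]
    apply Finset.sum_le_sum
    intro y hy
    have h1 : ∑ ψ ∈ S.filter (fun ψ : IrrCharacter P => charDegree (ψ : P → ℂ) = y),
        (charDegree (ψ : P → ℂ)) ^ 2 =
        (S.filter (fun ψ : IrrCharacter P => charDegree (ψ : P → ℂ) = y)).card * y ^ 2 := by
      rw [Finset.sum_congr rfl (fun ψ hψ => by rw [(Finset.mem_filter.mp hψ).2]),
        Finset.sum_const, smul_eq_mul]
    rw [h1]
    apply Nat.mul_le_mul_right
    obtain ⟨j, hj, rfl⟩ := Finset.mem_image.mp hy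
    have hj1 : 1 ≤ j := (Finset.mem_Ico.mp hj).1
    have hy1 : ((p ^ j : ℕ) : ℂ) ≠ 1 := by
      have h2 : p ^ j ≠ 1 := by
        have h3 : 1 < p ^ j := Nat.one_lt_pow (by omega) hp.out.one_lt
        omega
      exact_mod_cast h2
    have h2 := count_le_totient hH E hexp hEc ((p ^ j : ℕ) : ℂ) hy1
    refine le_trans ?_ h2
    rw [Nat.card_eq_fintype_card, Fintype.card_subtype]
    apply Finset.card_le_card
    intro ψ hψ
    rw [Finset.mem_filter] at hψ ⊢
    refine ⟨Finset.mem_univ _, ?_⟩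
    rw [hdeg ψ, hψ.2]
  have hsumt : ∑ y ∈ t, Nat.totient E * y ^ 2 =
      q * m * ∑ j ∈ Finset.Ico 1 r, p ^ (2 * j + 1) := by
    rw [ht, Finset.sum_image (by
      intro a _ b _ hab
      exact Nat.pow_right_injective hp.out.two_le hab)]
    rw [Finset.mul_sum]
    apply Finset.sum_congr rfl
    intro j _
    rw [hEtot, ← pow_mul, mul_comm j 2, pow_succ]
    ring
  have hgeo := geom_bound p hp.out.two_le r
  have hd2 : d ^ 2 = p ^ (2 * r) := by rw [hr, ← pow_mul, mul_comm]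
  -- final arithmetic
  have hS1 : ∑ ψ ∈ S, (charDegree (ψ : P → ℂ)) ^ 2 = m * d ^ 2 * q := by
    rw [hq] at hsumN
    have h1 : m * d ^ 2 * (q + 1) = m * d ^ 2 * q + m * d ^ 2 := by ring
    rw [h1] at hsumN
    exact Nat.add_right_cancel hsumN
  have h8 : m * d ^ 2 * q ≤ q * m * ∑ j ∈ Finset.Ico 1 r, p ^ (2 * j + 1) := by
    rw [← hS1, ← hsumt]
    exact hle
  have h9 : q * m * ∑ j ∈ Finset.Ico 1 r, p ^ (2 * j + 1) < q * m * d ^ 2 := by
    rw [hd2]
    exact Nat.mul_lt_mul_of_pos_left hgeo (Nat.mul_pos hq1 hmpos)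
  have h10 : m * d ^ 2 * q = q * m * d ^ 2 := by ring
  omega

end Cfsg.Agent.Lib.Helper7.GalConj
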