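import Mathlib
import Cfsg.Prelude
import Cfsg.Agent.Lib.Helper7.GalConjE

/-!
# Galois conjugate characters of equal degree: the derived subgroup has order p (helper7)
-/

set_option autoImplicit false

namespace Cfsg.Agent.Lib.Helper7.GalConj
open Cfsg

universe u

theorem normal_of_le_center {G : Type*} [Group G] (N : Subgroup G)
    (h : N ≤ Subgroup.center G) : N.Normal := by
  constructor
  intro n hn g
  have h1 := Subgroup.mem_center_iff.mp (h hn) g
  have h2 : g * n * g⁻¹ = n := by rw [h1]; group
  rw [h2]
  exact hn

theorem card_commutator_of_galH (p : ℕ) [hp : Fact p.Prime] :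
    ∀ (n : ℕ) (P : Type u) [Group P] [Fintype P], Nat.card P = n → IsPGroup p P → GalH P →
      (∃ a b : P, a * b ≠ b * a) → Nat.card (commutator P) = p := by
  intro n
  induction n using Nat.strong_induction_on with
  | _ n ih =>
    intro P _ _ hn hP hH hna
    by_contra hne
    have hcb : commutator P ≠ ⊥ := by
      intro h
      obtain ⟨a, b, hab⟩ := hna
      apply hab
      have h1 : a * b * a⁻¹ * b⁻¹ ∈ commutator P := by
        rw [commutator_def, ← commutatorElement_def]
        exact Subgroup.commutator_mem_commutator (Subgroup.mem_top a) (Subgroup.mem_top b)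
      rw [h, Subgroup.mem_bot] at h1
      calc a * b = (a * b * a⁻¹ * b⁻¹) * (b * a) := by group
        _ = b * a := by rw [h1, one_mul]
    obtain ⟨z, hzc, hzZ, hzo⟩ := exists_central_order_p p hP (commutator P) hcb
    set N := Subgroup.zpowers z with hNdef
    have hNZ : N ≤ Subgroup.center P := (Subgroup.zpowers_le).mpr hzZ
    haveI : N.Normal := normal_of_le_center N hNZ
    have hNc : N ≤ commutator P := (Subgroup.zpowers_le).mpr hzc
    have hNp : Nat.card N = p := by rw [hNdef, Nat.card_zpowers, hzo]
    have hQna : ∃ a b : P ⧸ N, a * b ≠ b * a := by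
      by_contra hab
      push Not at hab
      apply hne
      have hle : commutator P ≤ N := by
        rw [commutator_def, Subgroup.commutator_le]
        intro a _ b _
        rw [← QuotientGroup.eq_one_iff, commutatorElement_def]
        simp only [QuotientGroup.mk_mul, QuotientGroup.mk_inv]
        rw [hab (QuotientGroup.mk a) (QuotientGroup.mk b)]
        group
      have h1 : commutator P = N := le_antisymm hle hNc
      rw [h1, hNp]
    have hcardQ : Nat.card (P ⧸ N) < n := by
      rw [← hn, Subgroup.card_eq_card_quotient_mul_card_subgroup N, hNp]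
      have h1 : 0 < Nat.card (P ⧸ N) := Nat.card_pos
      have h2 := hp.out.one_lt
      nlinarith
    haveI : Fintype (P ⧸ N) := Fintype.ofFinite _
    have hQc := ih _ hcardQ (P ⧸ N) rfl (hP.to_quotient N) (galH_quotient hH N) hQna
    exact step p hP hH N hNZ hNc hNp hQc

end Cfsg.Agent.Lib.Helper7.GalConj
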