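import Mathlib
import Cfsg.Prelude.Def_Characters
import Cfsg.Prelude.Def_CharExt
import Cfsg.Agent.Lib.Helper7.GlaubCyc
import Cfsg.Agent.Lib.Helper7.CoprimeCount

/-!
# Cyclic coprime action with uniform centralisers (helper7)
-/

set_option autoImplicit false
set_option linter.style.haveILetI false

namespace Cfsg.Agent.Lib.Helper7.GlaubFpf

open Cfsg Cfsg.Agent.Lib.Helper26 Cfsg.Agent.Lib.Helper2 Cfsg.Agent.Lib.Helper7.GlaubSetup
  Cfsg.Agent.Lib.Helper7.GlaubPrime Cfsg.Agent.Lib.Helper4 Cfsg.Agent.Lib.Helper7.GlaubCyc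
open scoped ComplexConjugate
open SemidirectProduct

section Arith2

variable {T : Type*} [Group T] [Fintype T] [Fintype (T →* ℂˣ)]

theorem orth_T (lam lam' : T →* ℂˣ) :
    ∑ t : T, ((lam t : ℂˣ) : ℂ) * conj ((lam' t : ℂˣ) : ℂ) =
      if lam = lam' then (Nat.card T : ℂ) else 0 := by
  have h := classInner_irr (Cfsg.Agent.Lib.Helper7.isIrr_of_hom' lam)
    (Cfsg.Agent.Lib.Helper7.isIrr_of_hom' lam')
  have hT0 : (Nat.card T : ℂ) ≠ 0 := Nat.cast_ne_zero.mpr Nat.card_pos.ne'
  unfold classInner at h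
  have h2 : ∑ t : T, ((lam t : ℂˣ) : ℂ) * conj ((lam' t : ℂˣ) : ℂ) =
      (Nat.card T : ℂ) * (if (fun w => ((lam w : ℂˣ) : ℂ)) = (fun w => ((lam' w : ℂˣ) : ℂ))
        then 1 else 0) := by
    rw [← h, ← mul_assoc, mul_inv_cancel₀ hT0, one_mul]
  rw [h2]
  by_cases hl : lam = lam'
  · rw [if_pos hl, if_pos (by rw [hl]), mul_one]
  · rw [if_neg hl, if_neg, mul_zero]
    intro hf
    apply hl
    apply MonoidHom.ext
    intro t
    apply Units.ext
    exact congrFun hf t

variable (hcomm : ∀ a b : T, a * b = b * a)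

include hcomm in
theorem card_dual : Fintype.card (T →* ℂˣ) = Nat.card T := by
  classical
  have h1 := Cfsg.Agent.S0857.sum_monoidHom_apply' hcomm (1 : T)
  rw [if_pos rfl] at h1
  simp only [map_one, Units.val_one, Finset.sum_const, Finset.card_univ, nsmul_eq_mul,
    mul_one] at h1
  exact_mod_cast h1

/-- Fourier inversion -/
theorem inversion (b : (T →* ℂˣ) → ℕ) (lam' : T →* ℂˣ) :
    ∑ t : T, (∑ lam : T →* ℂˣ, (b lam : ℂ) * ((lam t : ℂˣ) : ℂ)) * conj ((lam' t : ℂˣ) : ℂ) =
      (Nat.card T : ℂ) * (b lam' : ℂ) := by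
  classical
  have h1 : ∀ t : T, (∑ lam : T →* ℂˣ, (b lam : ℂ) * ((lam t : ℂˣ) : ℂ)) *
      conj ((lam' t : ℂˣ) : ℂ) =
      ∑ lam : T →* ℂˣ, (b lam : ℂ) * (((lam t : ℂˣ) : ℂ) * conj ((lam' t : ℂˣ) : ℂ)) := by
    intro t
    rw [Finset.sum_mul]
    refine Finset.sum_congr rfl fun lam _ => ?_
    ring
  rw [Finset.sum_congr rfl fun t _ => h1 t, Finset.sum_comm]
  have h2 : ∀ lam : T →* ℂˣ, ∑ t : T, (b lam : ℂ) *
      (((lam t : ℂˣ) : ℂ) * conj ((lam' t : ℂˣ) : ℂ)) =
      if lam = lam' then (Nat.card T : ℂ) * (b lam' : ℂ) else 0 := by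
    intro lam
    rw [← Finset.mul_sum, orth_T]
    by_cases hl : lam = lam'
    · rw [if_pos hl, if_pos hl, hl, mul_comm]
    · rw [if_neg hl, if_neg hl, mul_zero]
  rw [Finset.sum_congr rfl fun lam _ => h2 lam, Finset.sum_ite_eq' Finset.univ lam']
  simp

/-- Parseval -/
theorem parseval (b : (T →* ℂˣ) → ℕ) :
    ∑ t : T, (∑ lam : T →* ℂˣ, (b lam : ℂ) * ((lam t : ℂˣ) : ℂ)) *
      conj (∑ lam : T →* ℂˣ, (b lam : ℂ) * ((lam t : ℂˣ) : ℂ)) =
      (Nat.card T : ℂ) * ∑ lam : T →* ℂˣ, (b lam : ℂ) ^ 2 := by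
  have h1 : ∀ t : T, (∑ lam : T →* ℂˣ, (b lam : ℂ) * ((lam t : ℂˣ) : ℂ)) *
      conj (∑ lam : T →* ℂˣ, (b lam : ℂ) * ((lam t : ℂˣ) : ℂ)) =
      ∑ lam' : T →* ℂˣ, (b lam' : ℂ) *
        ((∑ lam : T →* ℂˣ, (b lam : ℂ) * ((lam t : ℂˣ) : ℂ)) * conj ((lam' t : ℂˣ) : ℂ)) := by
    intro t
    rw [map_sum, Finset.mul_sum]
    refine Finset.sum_congr rfl fun lam' _ => ?_
    rw [map_mul, Complex.conj_natCast]
    ring
  rw [Finset.sum_congr rfl fun t _ => h1 t, Finset.sum_comm, Finset.mul_sum]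
  refine Finset.sum_congr rfl fun lam' _ => ?_
  rw [← Finset.mul_sum, inversion]
  ring

include hcomm in
/-- a character of a finite abelian group whose values off the identity are `0` or `±1` is a
multiple of the regular character, or such a multiple plus or minus a character of order two -/
theorem dichotomy (a : (T →* ℂˣ) → ℕ)
    (hval : ∀ t : T, t ≠ 1 →
      (∑ lam : T →* ℂˣ, (a lam : ℂ) * ((lam t : ℂˣ) : ℂ) = 0 ∨
       ∑ lam : T →* ℂˣ, (a lam : ℂ) * ((lam t : ℂˣ) : ℂ) = 1 ∨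
       ∑ lam : T →* ℂˣ, (a lam : ℂ) * ((lam t : ℂˣ) : ℂ) = -1)) :
    (∃ k : ℕ, ∀ lam, a lam = k) ∨
    (∃ (k : ℕ) (μ : T →* ℂˣ), (∀ t, ((μ t : ℂˣ) : ℂ) ^ 2 = 1) ∧
      ∀ lam, a lam = k + (if lam = μ then 1 else 0)) ∨
    (∃ (k : ℕ) (μ : T →* ℂˣ), (∀ t, ((μ t : ℂˣ) : ℂ) ^ 2 = 1) ∧
      ∀ lam, a lam + (if lam = μ then 1 else 0) = k + 1) := by
  classical
  set n : ℕ := Nat.card T with hn
  have hnpos : 0 < n := Nat.card_pos
  have hΛ : Fintype.card (T →* ℂˣ) = n := card_dual hcomm
  obtain ⟨lam₀, -, hmin⟩ := Finset.exists_min_image (Finset.univ : Finset (T →* ℂˣ)) a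
    ⟨1, Finset.mem_univ _⟩
  set k : ℕ := a lam₀ with hk
  set b : (T →* ℂˣ) → ℕ := fun lam => a lam - k with hb
  have hab : ∀ lam, a lam = b lam + k := fun lam =>
    (Nat.sub_add_cancel (hmin lam (Finset.mem_univ _))).symm
  have hb0 : b lam₀ = 0 := by simp [hb, hk]
  set f : T → ℂ := fun t => ∑ lam : T →* ℂˣ, (a lam : ℂ) * ((lam t : ℂˣ) : ℂ) with hf
  set f' : T → ℂ := fun t => ∑ lam : T →* ℂˣ, (b lam : ℂ) * ((lam t : ℂˣ) : ℂ) with hf'
  have hsumlam : ∀ t : T, ∑ lam : T →* ℂˣ, ((lam t : ℂˣ) : ℂ) = if t = 1 then (n : ℂ) else 0 :=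
    fun t => Cfsg.Agent.S0857.sum_monoidHom_apply' hcomm t
  have hff' : ∀ t : T, f t = f' t + (k : ℂ) * (if t = 1 then (n : ℂ) else 0) := by
    intro t
    rw [← hsumlam t, Finset.mul_sum, ← Finset.sum_add_distrib]
    refine Finset.sum_congr rfl fun lam _ => ?_
    rw [hab lam]
    push_cast
    ring
  have hff'ne : ∀ t : T, t ≠ 1 → f' t = f t := by
    intro t ht
    rw [hff' t, if_neg ht, mul_zero, add_zero]
  set m' : ℕ := ∑ lam : T →* ℂˣ, b lam with hm'
  have hf'1 : f' 1 = (m' : ℂ) := by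
    rw [hf', hm']
    push_cast
    refine Finset.sum_congr rfl fun lam _ => ?_
    rw [map_one, Units.val_one, mul_one]
  set R : Finset T := Finset.univ.filter (fun t => t ≠ 1 ∧ f t ≠ 0) with hR
  set r : ℕ := R.card with hr
  set Q : ℕ := ∑ lam : T →* ℂˣ, b lam ^ 2 with hQ
  -- Parseval
  have hP : m' ^ 2 + r = n * Q := by
    have h1 := parseval b
    have h2 : ∑ t : T, f' t * conj (f' t) = (m' : ℂ) ^ 2 + (r : ℂ) := by
      rw [← Finset.add_sum_erase Finset.univ _ (Finset.mem_univ (1 : T)), hf'1,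
        Complex.conj_natCast, sq]
      congr 1
      have h3 : ∀ t ∈ Finset.univ.erase (1 : T), f' t * conj (f' t) =
          if (t ≠ 1 ∧ f t ≠ 0) then 1 else 0 := by
        intro t ht
        have ht1 : t ≠ 1 := Finset.ne_of_mem_erase ht
        rw [hff'ne t ht1]
        rcases hval t ht1 with h | h | h
        · have h' : f t = 0 := h
          rw [h', zero_mul, if_neg]
          intro hh; exact hh.2 rfl
        · have h' : f t = 1 := h
          rw [h', if_pos ⟨ht1, one_ne_zero⟩]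
          simp
        · have h' : f t = -1 := h
          rw [h', if_pos ⟨ht1, by norm_num⟩]
          simp
      rw [Finset.sum_congr rfl h3, Finset.sum_ite, Finset.sum_const_zero, add_zero,
        Finset.sum_const, nsmul_eq_mul, mul_one, hr, hR]
      congr 2
      ext t
      simp only [Finset.mem_filter, Finset.mem_erase, Finset.mem_univ, true_and, and_true]
      constructor
      · rintro ⟨_, h⟩; exact h
      · intro h; exact ⟨h.1, h⟩
    have h4 : ((m' ^ 2 + r : ℕ) : ℂ) = ((n * Q : ℕ) : ℂ) := by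
      rw [hQ]
      push_cast
      rw [← h2]
      exact h1
    exact_mod_cast h4
  -- the number of nonidentity elements
  have hRle : R ⊆ Finset.univ.erase (1 : T) := by
    intro t ht
    rw [hR, Finset.mem_filter] at ht
    exact Finset.mem_erase.mpr ⟨ht.2.1, Finset.mem_univ _⟩
  have hcardE : (Finset.univ.erase (1 : T)).card = n - 1 := by
    rw [Finset.card_erase_of_mem (Finset.mem_univ _), Finset.card_univ, hn,
      Nat.card_eq_fintype_card]
  have hrle : r ≤ n - 1 := by
    rw [← hcardE]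
    exact Finset.card_le_card hRle
  -- Cauchy-Schwarz
  have hCS : m' ^ 2 ≤ (n - 1) * Q := by
    have h1 := sq_sum_le_card_mul_sum_sq (s := Finset.univ.erase lam₀) (f := fun lam => b lam)
    have h2 : ∑ lam ∈ Finset.univ.erase lam₀, b lam = m' := by
      rw [hm', ← Finset.add_sum_erase Finset.univ _ (Finset.mem_univ lam₀), hb0, zero_add]
    have h3 : ∑ lam ∈ Finset.univ.erase lam₀, b lam ^ 2 = Q := by
      rw [hQ, ← Finset.add_sum_erase Finset.univ (fun lam => b lam ^ 2) (Finset.mem_univ lam₀),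
        hb0]
      simp
    have h4 : (Finset.univ.erase lam₀).card = n - 1 := by
      rw [Finset.card_erase_of_mem (Finset.mem_univ _), Finset.card_univ, hΛ]
    rw [h2, h3, h4] at h1
    exact h1
  have hQge : m' ≤ Q := by
    rw [hm', hQ]
    refine Finset.sum_le_sum fun lam _ => ?_
    nlinarith [Nat.zero_le (b lam)]
  have hallzero : Q = 0 → ∀ lam, a lam = k := by
    intro hQ0 lam
    have h1 := (Finset.sum_eq_zero_iff.mp hQ0) lam (Finset.mem_univ _)
    have h2 : b lam = 0 := by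
      have : b lam ^ 2 = 0 := h1
      exact pow_eq_zero_iff (two_ne_zero) |>.mp this
    rw [hab lam, h2, zero_add]
  by_cases hr0 : r = 0
  · left
    refine ⟨k, hallzero ?_⟩
    rw [hr0, add_zero] at hP
    have h1 : n * Q ≤ (n - 1) * Q := hP ▸ hCS
    by_contra hQ0
    have hQpos : 0 < Q := Nat.pos_of_ne_zero hQ0
    have : n ≤ n - 1 := Nat.le_of_mul_le_mul_right h1 hQpos
    omega
  · right
    have hr1 : 1 ≤ r := Nat.one_le_iff_ne_zero.mpr hr0
    have hn2 : 2 ≤ n := by omega
    -- bounds on m'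
    have hm'le : m' ≤ n - 1 := by
      have h1 : n * m' ^ 2 ≤ (n - 1) * (m' ^ 2 + r) := by
        calc n * m' ^ 2 ≤ n * ((n - 1) * Q) := Nat.mul_le_mul_left _ hCS
          _ = (n - 1) * (n * Q) := by ring
          _ = (n - 1) * (m' ^ 2 + r) := by rw [hP]
      have h2 : m' ^ 2 ≤ (n - 1) * r := by
        obtain ⟨j, hj⟩ : ∃ j, n = j + 1 := ⟨n - 1, by omega⟩
        have e : n - 1 = j := by omega
        rw [e] at h1 ⊢
        rw [hj] at h1
        nlinarith
      have h3 : m' ^ 2 ≤ (n - 1) ^ 2 := by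
        calc m' ^ 2 ≤ (n - 1) * r := h2
          _ ≤ (n - 1) * (n - 1) := Nat.mul_le_mul_left _ hrle
          _ = (n - 1) ^ 2 := by ring
      exact (Nat.pow_le_pow_iff_left (two_ne_zero)).mp h3
    have hm'pos : 1 ≤ m' := by
      by_contra h
      have hm0 : m' = 0 := by omega
      rw [hm0] at hP
      simp only [ne_eq, OfNat.ofNat_ne_zero, not_false_eq_true, zero_pow, zero_add] at hP
      have hQ0 : Q = 0 := by
        by_contra hQ0
        have hQpos : 1 ≤ Q := Nat.one_le_iff_ne_zero.mpr hQ0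
        have : n ≤ n * Q := Nat.le_mul_of_pos_right _ hQpos
        omega
      rw [hQ0, mul_zero] at hP
      exact hr0 hP
    -- the key equalities
    obtain ⟨n', hn'⟩ : ∃ n', n = n' + 2 := ⟨n - 2, by omega⟩
    have hkey : r = n - 1 ∧ (m' = 1 ∨ m' = n - 1) ∧ Q = m' := by
      rw [hn'] at hP hrle hm'le hCS ⊢
      simp only [Nat.add_sub_cancel, show n' + 2 - 1 = n' + 1 from rfl] at hrle hm'le hCS ⊢
      have h1 : (n' + 2) * m' ≤ m' ^ 2 + r := by
        calc (n' + 2) * m' ≤ (n' + 2) * Q := Nat.mul_le_mul_left _ hQge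
          _ = m' ^ 2 + r := hP.symm
      have h2 : (m' - 1) * (n' + 1 - m') + (n' + 1) = m' * (n' + 2 - m') := by
        obtain ⟨m'', hm''⟩ : ∃ m'', m' = m'' + 1 := ⟨m' - 1, by omega⟩
        obtain ⟨j, hj⟩ : ∃ j, n' + 1 = m' + j := ⟨n' + 1 - m', by omega⟩
        have e1 : n' + 1 - m' = j := by omega
        have e2 : n' + 2 - m' = j + 1 := by omega
        have e3 : m' - 1 = m'' := by omega
        rw [e1, e2, e3, hj, hm'']
        ring
      have h3 : m' * (n' + 2 - m') ≤ r := by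
        obtain ⟨j, hj⟩ : ∃ j, n' + 2 = m' + j := ⟨n' + 2 - m', by omega⟩
        have e2 : n' + 2 - m' = j := by omega
        rw [e2]
        rw [hj] at h1
        nlinarith
      have h4 : r = n' + 1 := by omega
      have h5 : (m' - 1) * (n' + 1 - m') = 0 := by omega
      have h6 : m' = 1 ∨ m' = n' + 1 := by
        rcases Nat.mul_eq_zero.mp h5 with h | h
        · left; omega
        · right; omega
      refine ⟨h4, h6, ?_⟩
      rw [h4] at hP
      rcases h6 with h | h
      · rw [h] at hP ⊢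
        have : (n' + 2) * Q = (n' + 2) * 1 := by rw [← hP]; ring
        exact Nat.eq_of_mul_eq_mul_left (by omega) this
      · rw [h] at hP ⊢
        have : (n' + 2) * Q = (n' + 2) * (n' + 1) := by rw [← hP]; ring
        exact Nat.eq_of_mul_eq_mul_left (by omega) this
    obtain ⟨hrn, hm'cases, hQm⟩ := hkey
    -- each b is 0 or 1
    have hb01 : ∀ lam, b lam = 0 ∨ b lam = 1 := by
      intro lam
      have h1 : ∀ lam' ∈ (Finset.univ : Finset (T →* ℂˣ)), b lam' ≤ b lam' ^ 2 := by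
        intro lam' _
        nlinarith [Nat.zero_le (b lam')]
      have h2 : ∑ lam' : T →* ℂˣ, b lam' = ∑ lam' : T →* ℂˣ, b lam' ^ 2 := hQm.symm
      have h3 := (Finset.sum_eq_sum_iff_of_le h1).mp h2 lam (Finset.mem_univ _)
      have h4 : b lam * (b lam - 1) = 0 := by
        rcases Nat.eq_zero_or_pos (b lam) with h | h
        · simp [h]
        · have : b lam = 1 := by nlinarith
          simp [this]
      rcases Nat.mul_eq_zero.mp h4 with h | h
      · left; exact h
      · rcases Nat.eq_zero_or_pos (b lam) with h' | h'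
        · left; exact h'
        · right; omega
    -- every nonidentity element has nonzero value
    have hRall : ∀ t : T, t ≠ 1 → f t ≠ 0 := by
      intro t ht
      have hReq : R = Finset.univ.erase (1 : T) := by
        apply Finset.eq_of_subset_of_card_le hRle
        rw [hcardE, ← hrn]
      have : t ∈ R := by rw [hReq]; exact Finset.mem_erase.mpr ⟨ht, Finset.mem_univ _⟩
      rw [hR, Finset.mem_filter] at this
      exact this.2.2
    have hpm : ∀ t : T, t ≠ 1 → f t = 1 ∨ f t = -1 := by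
      intro t ht
      rcases hval t ht with h | h | h
      · exact absurd h (hRall t ht)
      · left; exact h
      · right; exact h
    by_cases hm1 : m' = 1
    · -- f' is a linear character
      left
      have hex : ∃ μ, b μ = 1 := by
        by_contra hall
        push Not at hall
        have : m' = 0 := by
          rw [hm']
          apply Finset.sum_eq_zero
          intro lam _
          rcases hb01 lam with h | h
          · exact h
          · exact absurd h (hall lam)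
        omega
      obtain ⟨μ, hμ⟩ := hex
      have hoth : ∀ lam, lam ≠ μ → b lam = 0 := by
        intro lam hlam
        have h1 : m' = b μ + ∑ lam ∈ Finset.univ.erase μ, b lam := by
          rw [hm', Finset.add_sum_erase Finset.univ _ (Finset.mem_univ μ)]
        rw [hm1, hμ] at h1
        have h2 : ∑ lam ∈ Finset.univ.erase μ, b lam = 0 := by omega
        exact (Finset.sum_eq_zero_iff.mp h2) lam (Finset.mem_erase.mpr ⟨hlam, Finset.mem_univ _⟩)
      have hf'μ : ∀ t, f' t = ((μ t : ℂˣ) : ℂ) := by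
        intro t
        rw [hf']
        show ∑ lam : T →* ℂˣ, (b lam : ℂ) * ((lam t : ℂˣ) : ℂ) = _
        rw [Finset.sum_eq_single μ]
        · rw [hμ, Nat.cast_one, one_mul]
        · intro lam _ hlam
          rw [hoth lam hlam, Nat.cast_zero, zero_mul]
        · intro h; exact absurd (Finset.mem_univ _) h
      refine ⟨k, μ, ?_, ?_⟩
      · intro t
        by_cases ht : t = 1
        · rw [ht, map_one, Units.val_one, one_pow]
        · rw [← hf'μ t, hff'ne t ht]
          rcases hpm t ht with h | h <;> rw [h] <;> norm_num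
      · intro lam
        rw [hab lam, add_comm]
        by_cases hlam : lam = μ
        · rw [if_pos hlam, hlam, hμ]
        · rw [if_neg hlam, hoth lam hlam]
    · -- f' is the regular character minus a linear character
      right
      have hm'n : m' = n - 1 := by
        rcases hm'cases with h | h
        · exact absurd h hm1
        · exact h
      have hoth : ∀ lam, lam ≠ lam₀ → b lam = 1 := by
        intro lam hlam
        have h1 : m' = ∑ lam ∈ Finset.univ.erase lam₀, b lam := by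
          rw [hm', ← Finset.add_sum_erase Finset.univ _ (Finset.mem_univ lam₀), hb0, zero_add]
        have h2 : (Finset.univ.erase lam₀).card = n - 1 := by
          rw [Finset.card_erase_of_mem (Finset.mem_univ _), Finset.card_univ, hΛ]
        have h3 : ∑ lam ∈ Finset.univ.erase lam₀, b lam = ∑ lam ∈ Finset.univ.erase lam₀, 1 := by
          rw [← h1, hm'n, Finset.sum_const, h2, smul_eq_mul, mul_one]
        have h4 : ∀ lam' ∈ Finset.univ.erase lam₀, b lam' ≤ 1 := by
          intro lam' _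
          rcases hb01 lam' with h | h <;> omega
        exact (Finset.sum_eq_sum_iff_of_le h4).mp h3 lam
          (Finset.mem_erase.mpr ⟨hlam, Finset.mem_univ _⟩)
      have hf'μ : ∀ t, t ≠ 1 → f' t = -((lam₀ t : ℂˣ) : ℂ) := by
        intro t ht
        rw [hf']
        show ∑ lam : T →* ℂˣ, (b lam : ℂ) * ((lam t : ℂˣ) : ℂ) = _
        have h1 := hsumlam t
        rw [if_neg ht, ← Finset.add_sum_erase Finset.univ _ (Finset.mem_univ lam₀)] at h1
        rw [← Finset.add_sum_erase Finset.univ _ (Finset.mem_univ lam₀), hb0, Nat.cast_zero,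
          zero_mul, zero_add]
        have h2 : ∑ lam ∈ Finset.univ.erase lam₀, (b lam : ℂ) * ((lam t : ℂˣ) : ℂ) =
            ∑ lam ∈ Finset.univ.erase lam₀, ((lam t : ℂˣ) : ℂ) := by
          refine Finset.sum_congr rfl fun lam hlam => ?_
          rw [hoth lam (Finset.ne_of_mem_erase hlam), Nat.cast_one, one_mul]
        rw [h2]
        linear_combination h1
      refine ⟨k, lam₀, ?_, ?_⟩
      · intro t
        by_cases ht : t = 1
        · rw [ht, map_one, Units.val_one, one_pow]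
        · have h1 : ((lam₀ t : ℂˣ) : ℂ) = -f t := by
            rw [← hff'ne t ht, hf'μ t ht, neg_neg]
          rw [h1]
          rcases hpm t ht with h | h <;> rw [h] <;> norm_num
      · intro lam
        rw [hab lam]
        by_cases hlam : lam = lam₀
        · rw [if_pos hlam, hlam, hb0]
          ring
        · rw [if_neg hlam, hoth lam hlam]
          ring

end Arith2

section Main2

open Cfsg.Agent.Lib.Helper7.GlaubP

variable {Γ : Type*} [Group Γ] [Fintype Γ] (G S : Subgroup Γ) [Fintype G]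
variable (hnorm : ∀ s ∈ S, ∀ g ∈ G, s * g * s⁻¹ ∈ G) (hcop : (Nat.card G).Coprime (Nat.card S))
  (htop : G ⊔ S = ⊤) (C : Subgroup Γ) [Fintype C]
  (hC : C = G ⊓ Subgroup.centralizer (S : Set Γ)) (hCG : C ≤ G)
  (hfpf : ∀ x ∈ S, x ≠ 1 → G ⊓ Subgroup.centralizer ({x} : Set Γ) = C)

include hnorm hcop hfpf in
omit [Fintype C] in
theorem fix_of_fpf (x : Γ) (hxS : x ∈ S) (hx1 : x ≠ 1) (e : G)
    (he : kap G S (norm_iff G S hnorm) ((⟨x, hxS⟩ : S) ^ Nat.card G) e = e) :
    e ∈ Set.range (Subgroup.inclusion hCG) := by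
  have h1 : (x ^ Nat.card G) * (e : Γ) * (x ^ Nat.card G)⁻¹ = e := by
    have := congrArg Subtype.val he
    exact this
  have hy1 : x ^ Nat.card G ≠ 1 := by
    intro h
    have h2 : orderOf x ∣ Nat.card G := orderOf_dvd_of_pow_eq_one h
    have h3 : orderOf x ∣ Nat.card S := Subgroup.orderOf_dvd_natCard S hxS
    have h4 := Nat.dvd_gcd h2 h3
    rw [hcop] at h4
    exact hx1 (orderOf_eq_one_iff.mp (Nat.dvd_one.mp h4))
  have hyS : x ^ Nat.card G ∈ S := S.pow_mem hxS _
  have hcent : (e : Γ) ∈ Subgroup.centralizer ({x ^ Nat.card G} : Set Γ) := by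
    rw [Subgroup.mem_centralizer_iff]
    intro h hh
    rw [Set.mem_singleton_iff] at hh
    rw [hh]
    calc x ^ Nat.card G * (e : Γ)
        = (x ^ Nat.card G * e * (x ^ Nat.card G)⁻¹) * x ^ Nat.card G := by group
      _ = e * x ^ Nat.card G := by rw [h1]
  have heC : (e : Γ) ∈ C := by
    rw [← hfpf _ hyS hy1]
    exact ⟨e.2, hcent⟩
  exact ⟨⟨e, heC⟩, Subtype.ext rfl⟩

include hnorm hcop htop hC hCG hfpf in
theorem coset_norm_x [Fintype (IrrCharacter C)] (s₀ : Γ) (hs₀ : Subgroup.zpowers s₀ = S)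
    (x : Γ) (hxS : x ∈ S) (hx1 : x ≠ 1)
    (χ : IrrCharacter G) (χh : IrrCharacter Γ)
    (hext : ∀ g : G, (χh : Γ → ℂ) g = (χ : G → ℂ) g) :
    ∑ β : IrrCharacter C,
      classInner (fun c : C => (χh : Γ → ℂ) ((c : Γ) * x)) (β : C → ℂ) *
        conj (classInner (fun c : C => (χh : Γ → ℂ) ((c : Γ) * x)) (β : C → ℂ)) = 1 := by
  haveI : Fintype S := Fintype.ofFinite S
  set hn := norm_iff G S hnorm
  have hdisj := Subgroup.inf_eq_bot_of_coprime hcop
  set X : ↥G ⋊[kap G S hn] ↥S → ℂ := (χh : Γ → ℂ) ∘ (thetaE G S hn hdisj htop) with hX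
  have hXirr : IsIrrCharacter _ X := isIrrCharacter_comp_mulEquiv χh.2 (thetaE G S hn hdisj htop)
  have hXcf := Cfsg.Agent.Lib.Helper26.isClassFunction_of_isIrrCharacter hXirr
  have hres : IsIrrCharacter G (fun h => X (inl h)) := by
    have : (fun h : G => X (inl h)) = (χ : G → ℂ) := by
      funext g
      show (χh : Γ → ℂ) (theta G S hn (inl g)) = _
      rw [theta_inl, hext]
    rw [this]
    exact χ.2
  have hjf := hjfix' G S hnorm C hC hCG
  have hcomm := comm_S S s₀ hs₀
  have hj : Function.Injective (Subgroup.inclusion hCG) := Subgroup.inclusion_injective hCG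
  have ht := fix_of_fpf G S hnorm hcop C hCG hfpf x hxS hx1
  have h1 := psi_inner (kap G S hn) (Subgroup.inclusion hCG) hjf X X hXcf (⟨x, hxS⟩ : S)
  have h2 := psi_inner_eq (kap G S hn) (Subgroup.inclusion hCG) hjf hj X X hXcf hXcf
    (⟨x, hxS⟩ : S) ht
  have h3 := coset_norm (kap G S hn) hcomm X hXirr hres (⟨x, hxS⟩ : S)
  rw [h3, inv_mul_cancel₀ (Nat.cast_ne_zero.mpr Nat.card_pos.ne')] at h2
  rw [h2] at h1
  exact h1.symm

include hnorm hcop htop hC hCG in
theorem coset_int_x [Fintype (↥S →* ℂˣ)] (s₀ : Γ) (hs₀ : Subgroup.zpowers s₀ = S)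
    (χ : IrrCharacter G) (χh : IrrCharacter Γ)
    (hext : ∀ g : G, (χh : Γ → ℂ) g = (χ : G → ℂ) g)
    (hdet : (detOrder (χh : Γ → ℂ)).Coprime (Nat.card S))
    (n : (↥S →* ℂˣ) → ℕ) (γ : IrrCharacter C)
    (hn : ∀ t : S, classInner (fun c : C => (χh : Γ → ℂ) ((c : Γ) * t)) (γ : C → ℂ) =
        ∑ lam : ↥S →* ℂˣ, (n lam : ℂ) * ((lam t : ℂˣ) : ℂ)) (x : S) :
    ∃ z : ℤ, classInner (fun c : C => (χh : Γ → ℂ) ((c : Γ) * x)) (γ : C → ℂ) = z := by
  have hgal := gal_inv G S hnorm hcop htop C hC hCG χ χh hext hdet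
  rw [hn x]
  apply int_of_pow_invariant (Nat.card S) Nat.card_pos n
  · intro lam
    rw [← Units.val_pow_eq_pow_val, ← map_pow, pow_card_eq_one', map_one, Units.val_one]
  · intro m hm
    have h1 : ∀ lam : ↥S →* ℂˣ, (n lam : ℂ) * ((lam x : ℂˣ) : ℂ) ^ m =
        (n lam : ℂ) * ((lam (x ^ m) : ℂˣ) : ℂ) := by
      intro lam
      rw [map_pow, Units.val_pow_eq_pow_val]
    rw [Finset.sum_congr rfl fun lam _ => h1 lam, ← hn, ← hn]
    have h2 : (fun c : C => (χh : Γ → ℂ) ((c : Γ) * ((x ^ m : S) : Γ))) =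
        fun c : C => (χh : Γ → ℂ) ((c : Γ) * x) := by
      funext c
      rw [Subgroup.coe_pow]
      exact hgal m hm c x x.2
    rw [h2]

include hnorm hcop htop hC hCG hfpf in
/-- Cyclic coprime action with uniform centralisers: the values of the canonical extension -/
theorem fpf_main (hcyc : IsCyclic S) (χ : IrrCharacter G) (χh : IrrCharacter Γ)
    (hext : ∀ g : G, (χh : Γ → ℂ) g = (χ : G → ℂ) g)
    (hdet : (detOrder (χh : Γ → ℂ)).Coprime (Nat.card S))
    (β : IrrCharacter C) (ε₀ : ℤ) (hε₀ : ε₀ = 1 ∨ ε₀ = -1)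
    (hβ : ∀ c : C, ∀ s : Γ, Subgroup.zpowers s = S →
      (χh : Γ → ℂ) ((c : Γ) * s) = (ε₀ : ℂ) * (β : C → ℂ) c) :
    ∃ ε : ℤ, (ε = 1 ∨ ε = -1) ∧
      (∃ μ : S → ℂ, IsCharacter S μ ∧ μ 1 = 1 ∧ (∀ x : S, μ x * μ x = 1) ∧
        ∀ c : C, ∀ x : S, x ≠ 1 →
          (χh : Γ → ℂ) ((c : Γ) * x) = (ε : ℂ) * (β : C → ℂ) c * μ x) ∧
      (∃ ϑ : C → ℂ, IsCharacter C ϑ ∧ (fun c : C => (χ : G → ℂ) ⟨c, hCG c.2⟩) =
        fun c => (Nat.card S : ℂ) * ϑ c + (ε : ℂ) * (β : C → ℂ) c) ∧
      (Nat.card S : ℤ) ∣ (charDegree (χ : G → ℂ) : ℤ) - ε * (charDegree (β : C → ℂ) : ℤ) := by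
  classical
  haveI : Fintype (IrrCharacter C) := Fintype.ofFinite _
  haveI : Fintype (↥S →* ℂˣ) := Fintype.ofFinite _
  haveI : Fintype S := Fintype.ofFinite S
  obtain ⟨s₀, hs₀⟩ := exists_gen S hcyc
  have hs₀S : s₀ ∈ S := hs₀ ▸ Subgroup.mem_zpowers s₀
  set n : ℕ := Nat.card S with hn
  have hn0 : (n : ℂ) ≠ 0 := Nat.cast_ne_zero.mpr Nat.card_pos.ne'
  have hcommS := comm_S S s₀ hs₀
  have hχ1 := Cfsg.Agent.Lib.Helper7.CoprimeCount.irr_one_eq_charDegree χ
  have hβ1 := Cfsg.Agent.Lib.Helper7.CoprimeCount.irr_one_eq_charDegree β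
  obtain ⟨dχ, hdχ0, hdχ⟩ := irr_degree χ.2
  obtain ⟨dβ, hdβ0, hdβ⟩ := irr_degree β.2
  set F : C → ℂ := fun c => (χ : G → ℂ) ⟨c, hCG c.2⟩ with hF
  have hFχh : ∀ c : C, (χh : Γ → ℂ) (c : Γ) = F c := fun c => hext ⟨c, hCG c.2⟩
  have hF1 : F 1 = (χ : G → ℂ) 1 := rfl
  by_cases hn1 : n = 1
  · -- the trivial case
    have hsub : ∀ x : S, x = 1 := by
      have := (Nat.card_eq_one_iff_unique.mp hn1).1
      intro x
      exact Subsingleton.elim _ _
    have hs₀1 : s₀ = 1 := by
      have := hsub ⟨s₀, hs₀S⟩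
      exact congrArg Subtype.val this
    have hval : ∀ c : C, F c = (ε₀ : ℂ) * (β : C → ℂ) c := by
      intro c
      have := hβ c s₀ hs₀
      rw [hs₀1, mul_one, hFχh] at this
      exact this
    have hε1 : ε₀ = 1 := by
      rcases hε₀ with h | h
      · exact h
      · exfalso
        have h1 := hval 1
        rw [hF1, hdχ, hdβ, h] at h1
        have : ((dχ + dβ : ℕ) : ℂ) = 0 := by
          push_cast at h1 ⊢
          linear_combination h1
        have : dχ + dβ = 0 := by exact_mod_cast this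
        omega
    refine ⟨1, Or.inl rfl, ⟨fun _ => 1, ?_, rfl, fun _ => by norm_num, ?_⟩, ⟨0, isCharacter_zero, ?_⟩,
      ?_⟩
    · have := Cfsg.Agent.Lib.Helper24.isCharacter_of_hom (1 : ↥S →* ℂˣ)
      simpa using this
    · intro c x hx
      exact absurd (hsub x) hx
    · funext c
      show F c = _
      rw [hval c, hε1]
      simp
    · rw [hn1]
      simp
  · -- the main case
    have hs₀1 : s₀ ≠ 1 := by
      intro h
      apply hn1
      rw [hn, ← hs₀, h, Subgroup.zpowers_one_eq_bot]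
      exact Subgroup.card_bot
    have hexp := fun γ : IrrCharacter C =>
      cyc_expand G S hnorm hcop htop C hC hCG s₀ hs₀ χh γ
    choose nn hnn using hexp
    set B : IrrCharacter C → S → ℂ := fun γ t =>
      classInner (fun c : C => (χh : Γ → ℂ) ((c : Γ) * t)) (γ : C → ℂ) with hB
    have hBint : ∀ (γ : IrrCharacter C) (t : S), ∃ z : ℤ, B γ t = z := fun γ t =>
      coset_int_x G S hnorm hcop htop C hC hCG s₀ hs₀ χ χh hext hdet (nn γ) γ (hnn γ) t
    have hBnorm : ∀ t : S, t ≠ 1 → ∑ γ : IrrCharacter C, B γ t * conj (B γ t) = 1 := by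
      intro t ht
      have ht' : (t : Γ) ≠ 1 := fun h => ht (Subtype.ext h)
      exact coset_norm_x G S hnorm hcop htop C hC hCG hfpf s₀ hs₀ (t : Γ) t.2 ht' χ χh hext
    have hBvals : ∀ t : S, t ≠ 1 → ∃ γ₀ : IrrCharacter C, (B γ₀ t = 1 ∨ B γ₀ t = -1) ∧
        ∀ γ, γ ≠ γ₀ → B γ t = 0 := by
      intro t ht
      choose z hz using fun γ => hBint γ t
      have hsum : ∑ γ : IrrCharacter C, z γ ^ 2 = 1 := by
        have h1 : ((∑ γ : IrrCharacter C, z γ ^ 2 : ℤ) : ℂ) = 1 := by
          rw [← hBnorm t ht]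
          push_cast
          refine Finset.sum_congr rfl fun γ _ => ?_
          rw [hz γ, map_intCast, sq]
        exact_mod_cast h1
      obtain ⟨γ₀, hγ₀, hoth⟩ := exists_unique_pm_one z hsum
      refine ⟨γ₀, ?_, fun γ hγ => by rw [hz γ, hoth γ hγ]; simp⟩
      rcases hγ₀ with h | h
      · left; rw [hz γ₀, h]; simp
      · right; rw [hz γ₀, h]; simp
    have h3vals : ∀ (γ : IrrCharacter C) (t : S), t ≠ 1 → B γ t = 0 ∨ B γ t = 1 ∨ B γ t = -1 := by
      intro γ t ht
      obtain ⟨γ₀, hγ₀, hoth⟩ := hBvals t ht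
      by_cases hγ : γ = γ₀
      · rw [hγ]; exact Or.inr hγ₀
      · exact Or.inl (hoth γ hγ)
    have hdich := fun γ : IrrCharacter C => dichotomy hcommS (nn γ) (by
      intro t ht
      rw [← hnn γ t]
      exact h3vals γ t ht)
    have hsumlam : ∀ t : S, ∑ lam : ↥S →* ℂˣ, ((lam t : ℂˣ) : ℂ) = if t = 1 then (n : ℂ) else 0 :=
      fun t => Cfsg.Agent.S0857.sum_monoidHom_apply' hcommS t
    have hΛ : Fintype.card (↥S →* ℂˣ) = n := card_dual hcommS
    set t₀ : S := ⟨s₀, hs₀S⟩ with ht₀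
    have ht₀1 : t₀ ≠ 1 := fun h => hs₀1 (congrArg Subtype.val h)
    have hββ : classInner (β : C → ℂ) (β : C → ℂ) = 1 := by
      rw [classInner_irr β.2 β.2, if_pos rfl]
    have hBβt₀ : B β t₀ = (ε₀ : ℂ) := by
      show classInner (fun c : C => (χh : Γ → ℂ) ((c : Γ) * s₀)) (β : C → ℂ) = _
      have : (fun c : C => (χh : Γ → ℂ) ((c : Γ) * s₀)) = (ε₀ : ℂ) • (β : C → ℂ) := by
        funext c
        rw [hβ c s₀ hs₀]
        rfl
      rw [this, classInner_smul_left, hββ, mul_one]
    have hε₀ne : (ε₀ : ℂ) ≠ 0 := by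
      rcases hε₀ with h | h <;> rw [h] <;> norm_num
    -- the shape of the row of `β`
    have hβcase : ∃ (ε : ℤ) (k : ℕ) (μ : ↥S →* ℂˣ), (ε = 1 ∨ ε = -1) ∧
        (∀ t, ((μ t : ℂˣ) : ℂ) ^ 2 = 1) ∧
        (∀ t : S, t ≠ 1 → B β t = (ε : ℂ) * ((μ t : ℂˣ) : ℂ)) ∧
        ∑ lam : ↥S →* ℂˣ, (nn β lam : ℂ) = (n : ℂ) * (k : ℂ) + (ε : ℂ) := by
      rcases hdich β with ⟨k, hk⟩ | ⟨k, μ, hμ, hk⟩ | ⟨k, μ, hμ, hk⟩
      · exfalso
        apply hε₀ne
        rw [← hBβt₀]
        show classInner (fun c : C => (χh : Γ → ℂ) ((c : Γ) * t₀)) (β : C → ℂ) = 0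
        rw [hnn β t₀, Finset.sum_congr rfl fun lam _ => by rw [hk lam], ← Finset.mul_sum,
          hsumlam, if_neg ht₀1, mul_zero]
      · refine ⟨1, k, μ, Or.inl rfl, hμ, ?_, ?_⟩
        · intro t ht
          show classInner (fun c : C => (χh : Γ → ℂ) ((c : Γ) * t)) (β : C → ℂ) = _
          rw [hnn β t]
          have h1 : ∀ lam : ↥S →* ℂˣ, (nn β lam : ℂ) * ((lam t : ℂˣ) : ℂ) =
              (k : ℂ) * ((lam t : ℂˣ) : ℂ) + (if lam = μ then ((lam t : ℂˣ) : ℂ) else 0) := by
            intro lam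
            rw [hk lam]
            by_cases h : lam = μ
            · rw [if_pos h, if_pos h]; push_cast; ring
            · rw [if_neg h, if_neg h]; push_cast; ring
          rw [Finset.sum_congr rfl fun lam _ => h1 lam, Finset.sum_add_distrib, ← Finset.mul_sum,
            hsumlam, if_neg ht, mul_zero, zero_add, Finset.sum_ite_eq' Finset.univ μ]
          simp
        · have h1 : ∀ lam : ↥S →* ℂˣ, (nn β lam : ℂ) = (k : ℂ) + (if lam = μ then 1 else 0) := by
            intro lam
            rw [hk lam]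
            by_cases h : lam = μ
            · rw [if_pos h, if_pos h]; push_cast; ring
            · rw [if_neg h, if_neg h]; push_cast; ring
          rw [Finset.sum_congr rfl fun lam _ => h1 lam, Finset.sum_add_distrib, Finset.sum_const,
            Finset.card_univ, hΛ, Finset.sum_ite_eq' Finset.univ μ]
          simp
      · refine ⟨-1, k + 1, μ, Or.inr rfl, hμ, ?_, ?_⟩
        · intro t ht
          show classInner (fun c : C => (χh : Γ → ℂ) ((c : Γ) * t)) (β : C → ℂ) = _
          rw [hnn β t]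
          have h1 : ∀ lam : ↥S →* ℂˣ, (nn β lam : ℂ) * ((lam t : ℂˣ) : ℂ) =
              ((k : ℂ) + 1) * ((lam t : ℂˣ) : ℂ) - (if lam = μ then ((lam t : ℂˣ) : ℂ) else 0) := by
            intro lam
            have h2 : (nn β lam : ℂ) = (k : ℂ) + 1 - (if lam = μ then 1 else 0) := by
              have := hk lam
              have h3 : ((nn β lam + (if lam = μ then 1 else 0) : ℕ) : ℂ) = ((k + 1 : ℕ) : ℂ) := by
                rw [this]
              push_cast at h3
              by_cases h : lam = μ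
              · rw [if_pos h] at h3 ⊢; linear_combination h3
              · rw [if_neg h] at h3 ⊢; linear_combination h3
            rw [h2]
            by_cases h : lam = μ
            · rw [if_pos h, if_pos h]; ring
            · rw [if_neg h, if_neg h]; ring
          rw [Finset.sum_congr rfl fun lam _ => h1 lam, Finset.sum_sub_distrib, ← Finset.mul_sum,
            hsumlam, if_neg ht, mul_zero, zero_sub, Finset.sum_ite_eq' Finset.univ μ]
          simp
        · have h1 : ∀ lam : ↥S →* ℂˣ, (nn β lam : ℂ) =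
              ((k : ℂ) + 1) - (if lam = μ then 1 else 0) := by
            intro lam
            have := hk lam
            have h3 : ((nn β lam + (if lam = μ then 1 else 0) : ℕ) : ℂ) = ((k + 1 : ℕ) : ℂ) := by
              rw [this]
            push_cast at h3
            by_cases h : lam = μ
            · rw [if_pos h] at h3 ⊢; linear_combination h3
            · rw [if_neg h] at h3 ⊢; linear_combination h3
          rw [Finset.sum_congr rfl fun lam _ => h1 lam, Finset.sum_sub_distrib, Finset.sum_const,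
            Finset.card_univ, hΛ, Finset.sum_ite_eq' Finset.univ μ]
          simp
          ring
    obtain ⟨ε, k, μ, hε, hμ, hBβ, hsumβ⟩ := hβcase
    have hεne : (ε : ℂ) ≠ 0 := by
      rcases hε with h | h <;> rw [h] <;> norm_num
    have hμne : ∀ t : S, ((μ t : ℂˣ) : ℂ) ≠ 0 := fun t => Units.ne_zero _
    have hBβne : ∀ t : S, t ≠ 1 → B β t ≠ 0 := by
      intro t ht
      rw [hBβ t ht]
      exact mul_ne_zero hεne (hμne t)
    have hBoth : ∀ γ : IrrCharacter C, γ ≠ β → ∀ t : S, t ≠ 1 → B γ t = 0 := by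
      intro γ hγ t ht
      obtain ⟨γ₀, -, hoth⟩ := hBvals t ht
      have hγ₀ : γ₀ = β := by
        by_contra h
        exact hBβne t ht (hoth β (fun h' => h h'.symm))
      rw [hγ₀] at hoth
      exact hoth γ hγ
    have hγconst : ∀ γ : IrrCharacter C, γ ≠ β → ∃ kγ : ℕ,
        ∑ lam : ↥S →* ℂˣ, (nn γ lam : ℂ) = (n : ℂ) * (kγ : ℂ) := by
      intro γ hγ
      have hzero := hBoth γ hγ t₀ ht₀1
      rcases hdich γ with ⟨k', hk'⟩ | ⟨k', μ', hμ', hk'⟩ | ⟨k', μ', hμ', hk'⟩
      · refine ⟨k', ?_⟩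
        rw [Finset.sum_congr rfl fun lam _ => by rw [hk' lam], Finset.sum_const, Finset.card_univ,
          hΛ, nsmul_eq_mul]
      · exfalso
        have h0 : classInner (fun c : C => (χh : Γ → ℂ) ((c : Γ) * t₀)) (γ : C → ℂ) = 0 := hzero
        rw [hnn γ t₀] at h0
        have h1 : ∀ lam : ↥S →* ℂˣ, (nn γ lam : ℂ) * ((lam t₀ : ℂˣ) : ℂ) =
            (k' : ℂ) * ((lam t₀ : ℂˣ) : ℂ) + (if lam = μ' then ((lam t₀ : ℂˣ) : ℂ) else 0) := by
          intro lam
          rw [hk' lam]
          by_cases h : lam = μ'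
          · rw [if_pos h, if_pos h]; push_cast; ring
          · rw [if_neg h, if_neg h]; push_cast; ring
        rw [Finset.sum_congr rfl fun lam _ => h1 lam, Finset.sum_add_distrib, ← Finset.mul_sum,
          hsumlam, if_neg ht₀1, mul_zero, zero_add, Finset.sum_ite_eq' Finset.univ μ'] at h0
        simp only [Finset.mem_univ, if_true] at h0
        exact Units.ne_zero _ h0
      · exfalso
        have h0 : classInner (fun c : C => (χh : Γ → ℂ) ((c : Γ) * t₀)) (γ : C → ℂ) = 0 := hzero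
        rw [hnn γ t₀] at h0
        have h1 : ∀ lam : ↥S →* ℂˣ, (nn γ lam : ℂ) * ((lam t₀ : ℂˣ) : ℂ) =
            ((k' : ℂ) + 1) * ((lam t₀ : ℂˣ) : ℂ) -
              (if lam = μ' then ((lam t₀ : ℂˣ) : ℂ) else 0) := by
          intro lam
          have h2 : (nn γ lam : ℂ) = (k' : ℂ) + 1 - (if lam = μ' then 1 else 0) := by
            have := hk' lam
            have h3 : ((nn γ lam + (if lam = μ' then 1 else 0) : ℕ) : ℂ) = ((k' + 1 : ℕ) : ℂ) := by
              rw [this]
            push_cast at h3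
            by_cases h : lam = μ'
            · rw [if_pos h] at h3 ⊢; linear_combination h3
            · rw [if_neg h] at h3 ⊢; linear_combination h3
          rw [h2]
          by_cases h : lam = μ'
          · rw [if_pos h, if_pos h]; ring
          · rw [if_neg h, if_neg h]; ring
        rw [Finset.sum_congr rfl fun lam _ => h1 lam, Finset.sum_sub_distrib, ← Finset.mul_sum,
          hsumlam, if_neg ht₀1, mul_zero, zero_sub, Finset.sum_ite_eq' Finset.univ μ'] at h0
        simp only [Finset.mem_univ, if_true, neg_eq_zero] at h0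
        exact Units.ne_zero _ h0
    -- inner products of the restriction
    have hFB : ∀ γ : IrrCharacter C, classInner F (γ : C → ℂ) =
        ∑ lam : ↥S →* ℂˣ, (nn γ lam : ℂ) := by
      intro γ
      have h1 := hnn γ 1
      have e1 : (fun c : C => (χh : Γ → ℂ) ((c : Γ) * ((1 : S) : Γ))) = F := by
        funext c
        rw [Subgroup.coe_one, mul_one]
        exact hFχh c
      rw [e1] at h1
      rw [h1]
      refine Finset.sum_congr rfl fun lam _ => ?_
      rw [map_one, Units.val_one, mul_one]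
    have hFcf : IsClassFunction C F := by
      intro d e
      have hcf := Cfsg.Agent.Lib.Helper26.isClassFunction_of_isIrrCharacter χ.2
      have := hcf ⟨d, hCG d.2⟩ ⟨e, hCG e.2⟩
      exact this
    have hβcf := Cfsg.Agent.Lib.Helper26.isClassFunction_of_isIrrCharacter β.2
    set ϑ : C → ℂ := (n : ℂ)⁻¹ • (F - (ε : ℂ) • (β : C → ℂ)) with hϑ
    have hϑcf : IsClassFunction C ϑ := by
      intro d e
      simp only [hϑ, Pi.smul_apply, Pi.sub_apply, smul_eq_mul]
      rw [hFcf d e, hβcf d e]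
    have hϑnat : ∀ γ : IrrCharacter C, ∃ k' : ℕ, classInner ϑ (γ : C → ℂ) = k' := by
      intro γ
      rw [hϑ, classInner_smul_left, classInner_sub_left, classInner_smul_left, hFB γ]
      by_cases hγ : γ = β
      · refine ⟨k, ?_⟩
        rw [hγ, hββ, hsumβ]
        field_simp
        ring
      · obtain ⟨kγ, hkγ⟩ := hγconst γ hγ
        refine ⟨kγ, ?_⟩
        have h0 : classInner (β : C → ℂ) (γ : C → ℂ) = 0 := by
          rw [classInner_irr β.2 γ.2, if_neg]
          intro h
          exact hγ (Subtype.ext h).symm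
        rw [hkγ, h0, mul_zero, sub_zero, ← mul_assoc, inv_mul_cancel₀ hn0, one_mul]
    have hϑchar : IsCharacter C ϑ := isCharacter_of_nat_coeff hϑcf hϑnat
    have heq : ∀ c : C, F c = (n : ℂ) * ϑ c + (ε : ℂ) * (β : C → ℂ) c := by
      intro c
      simp only [hϑ, Pi.smul_apply, Pi.sub_apply, smul_eq_mul]
      field_simp
      ring
    refine ⟨ε, hε, ⟨fun x => ((μ x : ℂˣ) : ℂ), Cfsg.Agent.Lib.Helper24.isCharacter_of_hom μ, ?_, ?_,
      ?_⟩, ⟨ϑ, hϑchar, funext heq⟩, ?_⟩
    · show ((μ 1 : ℂˣ) : ℂ) = 1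
      rw [map_one, Units.val_one]
    · intro x
      show ((μ x : ℂˣ) : ℂ) * ((μ x : ℂˣ) : ℂ) = 1
      rw [← sq]
      exact hμ x
    · intro c x hx
      have hcf := coset_class G S C hC (x : Γ) x.2 (χh : Γ → ℂ)
        (Cfsg.Agent.Lib.Helper26.isClassFunction_of_isIrrCharacter χh.2)
      have hexp' := Cfsg.Agent.Lib.Helper4.classFunction_expansion
        (fun c : C => (χh : Γ → ℂ) ((c : Γ) * x)) hcf
      have h1 := congrFun hexp' c
      simp only [Finset.sum_apply, Pi.smul_apply, smul_eq_mul] at h1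
      rw [h1, Finset.sum_eq_single β]
      · have : classInner (fun c : C => (χh : Γ → ℂ) ((c : Γ) * x)) (β : C → ℂ) =
            (ε : ℂ) * ((μ x : ℂˣ) : ℂ) := hBβ x hx
        rw [this]
        ring
      · intro γ _ hγ
        have : classInner (fun c : C => (χh : Γ → ℂ) ((c : Γ) * x)) (γ : C → ℂ) = 0 :=
          hBoth γ hγ x hx
        rw [this, zero_mul]
      · intro h
        exact absurd (Finset.mem_univ _) h
    · obtain ⟨d, ρ, hρ⟩ := hϑchar
      have hϑ1 : ϑ 1 = (d : ℂ) := by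
        rw [← hρ]
        exact Cfsg.Agent.Lib.Helper7.character_one_eq ρ
      have h1 := heq 1
      rw [hF1, hχ1, hβ1, hϑ1] at h1
      refine ⟨(d : ℤ), ?_⟩
      have h2 : (((charDegree (χ : G → ℂ) : ℤ) - ε * (charDegree (β : C → ℂ) : ℤ) : ℤ) : ℂ) =
          (((n : ℤ) * (d : ℤ) : ℤ) : ℂ) := by
        push_cast
        rw [h1]
        ring
      exact_mod_cast h2

end Main2

end Cfsg.Agent.Lib.Helper7.GlaubFpf
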