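import Mathlib
import Cfsg.Prelude.Def_Characters
import Cfsg.Agent.Lib.Helper7.GlaubCount
import Cfsg.Agent.Lib.Helper28.DualRep
import Cfsg.Agent.Lib.Helper4.CharOrtho

/-!
# Real characters and real classes under a coprime `p`-group action (helper7)
-/

set_option autoImplicit false
set_option linter.style.haveILetI false

namespace Cfsg.Agent.Lib.Helper7.GlaubReal

open Cfsg Cfsg.Agent.Lib.Helper26 Cfsg.Agent.Lib.Helper2 Cfsg.Agent.Lib.Helper7.GlaubP
  Cfsg.Agent.Lib.Helper7.GlaubCount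
open scoped ComplexConjugate

section RealCount

variable {H : Type*} [Group H]

/-- a class is real -/
def ClassReal (c : ConjClasses H) : Prop := ∀ k : H, ConjClasses.mk k = c → IsConj k k⁻¹

/-- a function is real valued -/
def FnReal {X : Type*} (f : X → ℂ) : Prop := ∀ k : X, (f k).im = 0

theorem fnReal_iff {X : Type*} (f : X → ℂ) : FnReal f ↔ (fun g => conj (f g)) = f := by
  constructor
  · intro h
    funext g
    exact Complex.conj_eq_iff_im.mpr (h g)
  · intro h k
    exact Complex.conj_eq_iff_im.mp (congrFun h k)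

theorem classReal_mk (g : H) : ClassReal (ConjClasses.mk g) ↔ IsConj g g⁻¹ := by
  constructor
  · intro h
    exact h g rfl
  · intro h k hk
    rw [ConjClasses.mk_eq_mk_iff_isConj, isConj_iff] at hk
    obtain ⟨u, hu⟩ := hk
    rw [isConj_iff] at h
    obtain ⟨v, hv⟩ := h
    rw [isConj_iff]
    refine ⟨u⁻¹ * v * u, ?_⟩
    rw [← hu] at hv
    calc u⁻¹ * v * u * k * (u⁻¹ * v * u)⁻¹ = u⁻¹ * (v * (u * k * u⁻¹) * v⁻¹) * u := by group
      _ = u⁻¹ * (u * k * u⁻¹)⁻¹ * u := by rw [hv]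
      _ = k⁻¹ := by group

variable [Fintype H]

open scoped Classical in
theorem sum_real_centralizer :
    ∑ g : H, (if IsConj g g⁻¹ then (Nat.card (Subgroup.centralizer ({g} : Set H)) : ℂ) else 0) =
      (Nat.card H : ℂ) * (Nat.card {c : ConjClasses H // ClassReal c} : ℂ) := by
  classical
  rw [← Finset.sum_fiberwise Finset.univ (ConjClasses.mk : H → ConjClasses H)]
  have hcl : ∀ c : ConjClasses H,
      ∑ g ∈ Finset.univ.filter (fun g : H => ConjClasses.mk g = c),
        (if IsConj g g⁻¹ then (Nat.card (Subgroup.centralizer ({g} : Set H)) : ℂ) else 0) =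
      if ClassReal c then (Nat.card H : ℂ) else 0 := by
    intro c
    obtain ⟨g0, rfl⟩ := ConjClasses.mk_surjective c
    set n : ℕ := (Finset.univ.filter (fun g : H => ConjClasses.mk g = ConjClasses.mk g0)).card
      with hn
    have hcent : ∀ g : H, ConjClasses.mk g = ConjClasses.mk g0 →
        (Nat.card (Subgroup.centralizer ({g} : Set H)) : ℂ) * n = Nat.card H := by
      intro g hg
      have h1 := Cfsg.Agent.Lib.Helper4.ncard_conj_eq_index g
      have h2 : {x : H | IsConj g x}.ncard = n := by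
        rw [hn, Set.ncard_eq_toFinset_card']
        congr 1
        ext x
        simp only [Set.mem_toFinset, Set.mem_setOf_eq, Finset.mem_filter, Finset.mem_univ,
          true_and]
        rw [← hg, ConjClasses.mk_eq_mk_iff_isConj]
        exact isConj_comm
      rw [h2] at h1
      have h3 := Subgroup.card_mul_index (Subgroup.centralizer ({g} : Set H))
      rw [← h1] at h3
      exact_mod_cast h3
    have hnpos : (n : ℂ) ≠ 0 := by
      have : 0 < n := by
        rw [hn]
        exact Finset.card_pos.mpr ⟨g0, by simp⟩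
      exact_mod_cast this.ne'
    by_cases hreal : ClassReal (ConjClasses.mk g0)
    · rw [if_pos hreal]
      have : ∀ g ∈ Finset.univ.filter (fun g : H => ConjClasses.mk g = ConjClasses.mk g0),
          (if IsConj g g⁻¹ then (Nat.card (Subgroup.centralizer ({g} : Set H)) : ℂ) else 0) =
            (Nat.card H : ℂ) / n := by
        intro g hg
        rw [Finset.mem_filter] at hg
        rw [if_pos (hreal g hg.2), eq_div_iff hnpos]
        exact hcent g hg.2
      rw [Finset.sum_congr rfl this, Finset.sum_const, nsmul_eq_mul, ← hn]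
      field_simp
    · rw [if_neg hreal]
      apply Finset.sum_eq_zero
      intro g hg
      rw [Finset.mem_filter] at hg
      rw [if_neg]
      intro h
      apply hreal
      rw [← hg.2]
      exact (classReal_mk g).mpr h
  rw [Finset.sum_congr rfl (fun c _ => hcl c)]
  rw [Finset.sum_ite, Finset.sum_const_zero, add_zero, Finset.sum_const, nsmul_eq_mul, mul_comm]
  congr 2
  rw [Nat.card_eq_fintype_card, Fintype.card_subtype]

/-- Brauer's permutation lemma for complex conjugation: the number of real valued irreducible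
characters equals the number of real classes. -/
theorem card_real_irr :
    Nat.card {θ : IrrCharacter H // FnReal (θ : H → ℂ)} =
      Nat.card {c : ConjClasses H // ClassReal c} := by
  classical
  haveI : Fintype (IrrCharacter H) := Fintype.ofFinite _
  have hne : (Nat.card H : ℂ) ≠ 0 := Cfsg.Agent.Lib.Helper4.card_ne_zero_complex
  have h1 : ∀ χ : IrrCharacter H,
      classInner (χ : H → ℂ) (fun g => conj ((χ : H → ℂ) g)) =
        if FnReal (χ : H → ℂ) then 1 else 0 := by
    intro χ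
    rw [classInner_irr χ.2 (Cfsg.Agent.Lib.Helper28.isIrrCharacter_conj χ.2)]
    by_cases h : FnReal (χ : H → ℂ)
    · rw [if_pos h, if_pos ((fnReal_iff _).mp h).symm]
    · rw [if_neg h, if_neg]
      intro h'
      exact h ((fnReal_iff _).mpr h'.symm)
  have h2 : (Nat.card {θ : IrrCharacter H // FnReal (θ : H → ℂ)} : ℂ) =
      ∑ χ : IrrCharacter H, classInner (χ : H → ℂ) (fun g => conj ((χ : H → ℂ) g)) := by
    rw [Finset.sum_congr rfl (fun χ _ => h1 χ), Finset.sum_ite, Finset.sum_const_zero, add_zero,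
      Finset.sum_const, nsmul_eq_mul, mul_one, Nat.card_eq_fintype_card, Fintype.card_subtype]
  have h3 : ∑ χ : IrrCharacter H, classInner (χ : H → ℂ) (fun g => conj ((χ : H → ℂ) g)) =
      (Nat.card H : ℂ)⁻¹ * ∑ g : H,
        (if IsConj g g⁻¹ then (Nat.card (Subgroup.centralizer ({g} : Set H)) : ℂ) else 0) := by
    unfold classInner
    rw [← Finset.mul_sum, Finset.sum_comm]
    congr 1
    refine Finset.sum_congr rfl fun g _ => ?_
    rw [← Cfsg.Agent.Lib.Helper4.column_orthogonality g g⁻¹]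
    refine Finset.sum_congr rfl fun χ _ => ?_
    rw [Complex.conj_conj, isCharacter_conj_eq_inv (isCharacter_of_isIrrCharacter χ.2), inv_inv]
  rw [h3, sum_real_centralizer, ← mul_assoc, inv_mul_cancel₀ hne, one_mul] at h2
  exact_mod_cast h2

end RealCount

section Classes

variable {Γ : Type*} [Group Γ]

/-- the bijection between classes of the fixed-point subgroup and invariant classes -/
theorem classes_bij [Finite Γ] (G S C : Subgroup Γ)
    (hnorm : ∀ s ∈ S, ∀ g ∈ G, s * g * s⁻¹ ∈ G) (hcop : (Nat.card G).Coprime (Nat.card S))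
    (hsolv : Group.IsSolvable S) (hC : C = G ⊓ Subgroup.centralizer (S : Set Γ)) (hCG : C ≤ G) :
    ∃ e : ConjClasses C ≃ {K : ConjClasses G // ClassInv G S K},
      ∀ c, (e c).1 = ConjClasses.map (Subgroup.inclusion hCG) c := by
  classical
  have hSN : S ≤ Subgroup.normalizer (G : Set Γ) := by
    intro s hs
    rw [Subgroup.mem_normalizer_iff]
    exact norm_iff G S hnorm s hs
  have hCmem : ∀ x : Γ, x ∈ C ↔ x ∈ G ∧ ∀ s ∈ S, s * x * s⁻¹ = x := by
    intro x
    rw [hC]
    exact mem_fixedSub G S x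
  -- the map on classes
  let f : ConjClasses C → {K : ConjClasses G // ClassInv G S K} := fun K =>
    ⟨ConjClasses.map (Subgroup.inclusion hCG) K, by
      obtain ⟨c, rfl⟩ := ConjClasses.mk_surjective K
      intro s hs g g' hgg' hg
      rw [map_mk'] at hg ⊢
      rw [ConjClasses.mk_eq_mk_iff_isConj, isConj_iff] at hg ⊢
      obtain ⟨u, hu⟩ := hg
      have hus : s * u * s⁻¹ ∈ G := hnorm s hs u u.2
      refine ⟨⟨s * u * s⁻¹, hus⟩, ?_⟩
      apply Subtype.ext
      have hu' : (u : Γ) * g * (u : Γ)⁻¹ = c := congrArg Subtype.val hu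
      have hc := ((hCmem c).mp c.2).2 s hs
      show (s * u * s⁻¹) * (g' : Γ) * (s * u * s⁻¹)⁻¹ = c
      rw [hgg']
      calc (s * u * s⁻¹) * (s * g * s⁻¹) * (s * u * s⁻¹)⁻¹
          = s * ((u : Γ) * g * (u : Γ)⁻¹) * s⁻¹ := by group
        _ = c := by rw [hu', hc]⟩
  have hf : Function.Bijective f := by
    constructor
    · intro K K' hKK'
      obtain ⟨c, rfl⟩ := ConjClasses.mk_surjective K
      obtain ⟨c', rfl⟩ := ConjClasses.mk_surjective K'
      have h1 : ConjClasses.map (Subgroup.inclusion hCG) (ConjClasses.mk c) =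
          ConjClasses.map (Subgroup.inclusion hCG) (ConjClasses.mk c') :=
        congrArg Subtype.val hKK'
      rw [map_mk', map_mk', ConjClasses.mk_eq_mk_iff_isConj,
        isConj_iff] at h1
      obtain ⟨u, hu⟩ := h1
      have hu' : (u : Γ) * c * (u : Γ)⁻¹ = c' := congrArg Subtype.val hu
      have hcfix := ((hCmem c).mp c.2).2
      have hcfix' := ((hCmem c').mp c'.2).2
      obtain ⟨v, hv, hvc⟩ := @Cfsg.Agent.Lib.Helper13.glauberman_conj Γ _ _ Γ cjAct S G hSN
        hcop.symm (Or.inl hsolv) (c : Γ) (c' : Γ) hcfix hcfix' ⟨u, u.2, hu'⟩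
      rw [← hC] at hv
      rw [ConjClasses.mk_eq_mk_iff_isConj, isConj_iff]
      exact ⟨⟨v, hv⟩, Subtype.ext hvc⟩
    · rintro ⟨K, hK⟩
      obtain ⟨g, rfl⟩ := ConjClasses.mk_surjective K
      set X : Set Γ := {x : Γ | ∃ h : x ∈ G, ConjClasses.mk (⟨x, h⟩ : G) = ConjClasses.mk g}
        with hX
      have hXne : X.Nonempty := ⟨g, g.2, rfl⟩
      have htrans : ∀ x ∈ X, ∀ y ∈ X, ∃ k ∈ G, k * x * k⁻¹ = y := by
        rintro x ⟨hx, hxg⟩ y ⟨hy, hyg⟩
        have h1 : ConjClasses.mk (⟨x, hx⟩ : G) = ConjClasses.mk ⟨y, hy⟩ := hxg.trans hyg.symm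
        rw [ConjClasses.mk_eq_mk_iff_isConj, isConj_iff] at h1
        obtain ⟨u, hu⟩ := h1
        exact ⟨u, u.2, congrArg Subtype.val hu⟩
      have hKX : ∀ k ∈ G, ∀ x ∈ X, k * x * k⁻¹ ∈ X := by
        rintro k hk x ⟨hx, hxg⟩
        refine ⟨G.mul_mem (G.mul_mem hk hx) (G.inv_mem hk), ?_⟩
        rw [← hxg, ConjClasses.mk_eq_mk_iff_isConj, isConj_iff]
        exact ⟨⟨k, hk⟩⁻¹, Subtype.ext (by
          show (k : Γ)⁻¹ * (k * x * k⁻¹) * (k : Γ)⁻¹⁻¹ = x
          group)⟩
      have hSX : ∀ a ∈ S, ∀ x ∈ X, a * x * a⁻¹ ∈ X := by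
        rintro a ha x ⟨hx, hxg⟩
        exact ⟨hnorm a ha x hx, hK a ha ⟨x, hx⟩ ⟨a * x * a⁻¹, hnorm a ha x hx⟩ rfl hxg⟩
      obtain ⟨x, ⟨hxG, hxg⟩, hxfix⟩ := @Cfsg.Agent.Lib.Helper13.glauberman_exists Γ _ _ Γ cjAct
        S G hSN hcop.symm (Or.inl hsolv) X hXne htrans hKX hSX
      have hxC : x ∈ C := (hCmem x).mpr ⟨hxG, hxfix⟩
      refine ⟨ConjClasses.mk ⟨x, hxC⟩, ?_⟩
      apply Subtype.ext
      show ConjClasses.map (Subgroup.inclusion hCG) (ConjClasses.mk ⟨x, hxC⟩) = ConjClasses.mk g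
      rw [map_mk']
      exact hxg
  exact ⟨Equiv.ofBijective f hf, fun c => rfl⟩

/-- realness of a class of the fixed-point subgroup can be tested in the big group -/
theorem classReal_map_iff [Finite Γ] (G S C : Subgroup Γ)
    (hnorm : ∀ s ∈ S, ∀ g ∈ G, s * g * s⁻¹ ∈ G) (hcop : (Nat.card G).Coprime (Nat.card S))
    (hsolv : Group.IsSolvable S) (hC : C = G ⊓ Subgroup.centralizer (S : Set Γ)) (hCG : C ≤ G)
    (c : ConjClasses C) :
    ClassReal c ↔ ClassReal (ConjClasses.map (Subgroup.inclusion hCG) c) := by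
  have hSN : S ≤ Subgroup.normalizer (G : Set Γ) := by
    intro s hs
    rw [Subgroup.mem_normalizer_iff]
    exact norm_iff G S hnorm s hs
  have hCmem : ∀ x : Γ, x ∈ C ↔ x ∈ G ∧ ∀ s ∈ S, s * x * s⁻¹ = x := by
    intro x
    rw [hC]
    exact mem_fixedSub G S x
  obtain ⟨k, rfl⟩ := ConjClasses.mk_surjective c
  rw [map_mk', classReal_mk, classReal_mk]
  constructor
  · intro h
    rw [isConj_iff] at h ⊢
    obtain ⟨u, hu⟩ := h
    refine ⟨Subgroup.inclusion hCG u, ?_⟩
    have := congrArg (Subgroup.inclusion hCG) hu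
    rw [map_mul, map_mul, map_inv, map_inv] at this
    exact this
  · intro h
    rw [isConj_iff] at h
    obtain ⟨u, hu⟩ := h
    have hu' : (u : Γ) * k * (u : Γ)⁻¹ = (k : Γ)⁻¹ := congrArg Subtype.val hu
    have hkfix := ((hCmem k).mp k.2).2
    have hkfix' : ∀ s ∈ S, s * (k : Γ)⁻¹ * s⁻¹ = (k : Γ)⁻¹ := by
      intro s hs
      have := ((hCmem (k⁻¹ : C)).mp (k⁻¹ : C).2).2 s hs
      simpa using this
    obtain ⟨v, hv, hvc⟩ := @Cfsg.Agent.Lib.Helper13.glauberman_conj Γ _ _ Γ cjAct S G hSN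
      hcop.symm (Or.inl hsolv) (k : Γ) ((k : Γ)⁻¹) hkfix hkfix' ⟨u, u.2, hu'⟩
    rw [← hC] at hv
    rw [isConj_iff]
    exact ⟨⟨v, hv⟩, Subtype.ext hvc⟩

theorem card_classes_real [Finite Γ] (G S C : Subgroup Γ)
    (hnorm : ∀ s ∈ S, ∀ g ∈ G, s * g * s⁻¹ ∈ G) (hcop : (Nat.card G).Coprime (Nat.card S))
    (hsolv : Group.IsSolvable S) (hC : C = G ⊓ Subgroup.centralizer (S : Set Γ)) (hCG : C ≤ G) :
    Nat.card {c : ConjClasses C // ClassReal c} =
      Nat.card {K : ConjClasses G // ClassReal K ∧ ClassInv G S K} := by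
  obtain ⟨e, he⟩ := classes_bij G S C hnorm hcop hsolv hC hCG
  have h1 : Nat.card {c : ConjClasses C // ClassReal c} =
      Nat.card {K : {K : ConjClasses G // ClassInv G S K} // ClassReal K.1} := by
    refine Nat.card_congr (e.subtypeEquiv ?_)
    intro c
    rw [he c]
    exact classReal_map_iff G S C hnorm hcop hsolv hC hCG c
  rw [h1]
  refine Nat.card_congr ?_
  exact
    { toFun := fun K => ⟨K.1.1, K.2, K.1.2⟩
      invFun := fun K => ⟨⟨K.1, K.2.2⟩, K.2.1⟩
      left_inv := fun K => rfl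
      right_inv := fun K => rfl }

end Classes

section Chars

variable {Γ : Type*} [Group Γ]

/-- the `p`-group correspondence preserves real valued characters -/
theorem card_real_inv_eq {p : ℕ} (hp : p.Prime) (G T D : Subgroup Γ) [Fintype G] [Fintype D]
    (hDG : D ≤ G) (hgc : GCProp p G T D hDG) :
    Nat.card {χ : IrrCharacter G // FnReal (χ : G → ℂ) ∧ SInv G T (χ : G → ℂ)} =
      Nat.card {β : IrrCharacter D // FnReal (β : D → ℂ)} := by
  classical
  obtain ⟨hA, hB, hCc⟩ := hgc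
  have hconj : ∀ (χ : IrrCharacter G) (β : IrrCharacter D) (m : ℕ),
      classInner (fun d : D => (χ : G → ℂ) ⟨d, hDG d.2⟩) (β : D → ℂ) = m →
      classInner (fun d : D => conj ((χ : G → ℂ) ⟨d, hDG d.2⟩))
        (fun d : D => conj ((β : D → ℂ) d)) = m := by
    intro χ β m hm
    have := classInner_conjFun_conjFun (fun d : D => (χ : G → ℂ) ⟨d, hDG d.2⟩) (β : D → ℂ)
    unfold conjFun at this
    rw [this, hm, Complex.conj_natCast]
  have hex : ∀ χ : {χ : IrrCharacter G // FnReal (χ : G → ℂ) ∧ SInv G T (χ : G → ℂ)},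
      ∃ β : IrrCharacter D,
      ∃ m : ℕ, classInner (fun d : D => (χ.1 : G → ℂ) ⟨d, hDG d.2⟩) (β : D → ℂ) = m ∧ ¬ p ∣ m := by
    intro χ
    obtain ⟨β₀, ⟨m, hm, hm1⟩, -⟩ := hA χ.1 χ.2.2
    exact ⟨β₀, m, hm, not_dvd_of_pm_one hp m hm1⟩
  choose f hf using hex
  have huniq : ∀ (χ : IrrCharacter G), SInv G T (χ : G → ℂ) → ∀ (β β' : IrrCharacter D)
      (m m' : ℕ), classInner (fun d : D => (χ : G → ℂ) ⟨d, hDG d.2⟩) (β : D → ℂ) = m → ¬ p ∣ m →
      classInner (fun d : D => (χ : G → ℂ) ⟨d, hDG d.2⟩) (β' : D → ℂ) = m' → ¬ p ∣ m' →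
      β = β' := by
    intro χ hχ β β' m m' hm hpm hm' hpm'
    obtain ⟨β₀, -, hoth⟩ := hA χ hχ
    have h1 : β = β₀ := by
      by_contra hne
      obtain ⟨m'', hm'', hpm''⟩ := hoth _ hne
      rw [hm] at hm''
      have : m = m'' := by exact_mod_cast hm''
      exact hpm (this ▸ hpm'')
    have h2 : β' = β₀ := by
      by_contra hne
      obtain ⟨m'', hm'', hpm''⟩ := hoth _ hne
      rw [hm'] at hm''
      have : m' = m'' := by exact_mod_cast hm''
      exact hpm' (this ▸ hpm'')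
    rw [h1, h2]
  have hfreal : ∀ χ, FnReal (f χ : D → ℂ) := by
    intro χ
    obtain ⟨m, hm, hpm⟩ := hf χ
    rw [fnReal_iff]
    have h1 := hconj χ.1 (f χ) m hm
    have hχr : (fun d : D => conj ((χ.1 : G → ℂ) ⟨d, hDG d.2⟩)) =
        fun d : D => (χ.1 : G → ℂ) ⟨d, hDG d.2⟩ := by
      funext d
      exact congrFun ((fnReal_iff _).mp χ.2.1) _
    rw [hχr] at h1
    have h2 := huniq χ.1 χ.2.2 (Cfsg.Agent.Lib.Helper28.irrConj (f χ)) (f χ) m m h1 hpm hm hpm
    exact congrArg Subtype.val h2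
  let F : {χ : IrrCharacter G // FnReal (χ : G → ℂ) ∧ SInv G T (χ : G → ℂ)} →
      {β : IrrCharacter D // FnReal (β : D → ℂ)} := fun χ => ⟨f χ, hfreal χ⟩
  have hF : Function.Bijective F := by
    constructor
    · intro χ χ' h
      have h1 : f χ = f χ' := congrArg Subtype.val h
      obtain ⟨m, hm, hpm⟩ := hf χ
      obtain ⟨m', hm', hpm'⟩ := hf χ'
      rw [← h1] at hm'
      exact Subtype.ext (hB χ.1 χ'.1 χ.2.2 χ'.2.2 (f χ) m m' hm hpm hm' hpm')
    · rintro ⟨β, hβ⟩
      obtain ⟨χ, hχT, m, hm, hpm⟩ := hCc β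
      have hχ'T : SInv G T (Cfsg.Agent.Lib.Helper28.irrConj χ : G → ℂ) := by
        intro t ht g g' hgg'
        show conj ((χ : G → ℂ) g') = conj ((χ : G → ℂ) g)
        rw [hχT t ht g g' hgg']
      have hχr : FnReal (χ : G → ℂ) := by
        rw [fnReal_iff]
        have h1 := hconj χ β m hm
        have hβr : (fun d : D => conj ((β : D → ℂ) d)) = (β : D → ℂ) := (fnReal_iff _).mp hβ
        rw [hβr] at h1
        have h2 := hB (Cfsg.Agent.Lib.Helper28.irrConj χ) χ hχ'T hχT β m m h1 hpm hm hpm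
        exact congrArg Subtype.val h2
      refine ⟨⟨χ, hχr, hχT⟩, ?_⟩
      apply Subtype.ext
      show f ⟨χ, hχr, hχT⟩ = β
      obtain ⟨m', hm', hpm'⟩ := hf ⟨χ, hχr, hχT⟩
      exact huniq χ hχT _ _ m' m hm' hpm' hm hpm
  exact Nat.card_congr (Equiv.ofBijective F hF)

end Chars

end Cfsg.Agent.Lib.Helper7.GlaubReal
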