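import Mathlib
import Cfsg.Prelude
import Cfsg.Agent.Lib.Helper4.AbelianAbove

/-!
# Going up over a solvable quotient under a relatively coprime action (helper7)

A variant of helper4's `exists_invariant_above_of_abelian` / `S4448.main` in which the acting
subgroup `S` contains a subgroup `N₀ ≤ N` and only `|S : N₀|` is assumed coprime to `|G : N|`.
-/

set_option autoImplicit false

namespace Cfsg.Agent.Lib.Helper7.RelAbove

open Cfsg Cfsg.Agent.Lib.Helper26 Cfsg.Agent.Lib.Helper7 Cfsg.Agent.Lib.Helper4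
open scoped ComplexConjugate

section AB

variable {Γ : Type*} [Group Γ] (G S N N₀ : Subgroup Γ) [Fintype G] [Fintype N]

/-- going up over an abelian quotient: an `S`-invariant irreducible character of `N` lies under an
`S`-invariant irreducible character of `G` when `G/N` is abelian of order coprime to `|S|` -/
theorem exists_invariant_above_of_abelian'
    (hnorm : ∀ s ∈ S, ∀ g ∈ G, s * g * s⁻¹ ∈ G) (hNG : N ≤ G) [hNn : (N.subgroupOf G).Normal]
    (hNS : ∀ s ∈ S, ∀ n ∈ N, s * n * s⁻¹ ∈ N) (hN₀S : N₀ ≤ S) (hN₀N : N₀ ≤ N)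
    (hcop : (N.relIndex G).Coprime (N₀.relIndex S))
    (hab : ∀ a b : ↥G, a * b * a⁻¹ * b⁻¹ ∈ N.subgroupOf G)
    (θ : IrrCharacter N)
    (hinv : ∀ s ∈ S, ∀ g g' : N, (g' : Γ) = s * g * s⁻¹ → (θ : N → ℂ) g' = (θ : N → ℂ) g) :
    ∃ χ : IrrCharacter G, classInner (fun n : N => (χ : G → ℂ) ⟨n, hNG n.2⟩) (θ : N → ℂ) ≠ 0 ∧
      ∀ s ∈ S, ∀ g g' : G, (g' : Γ) = s * g * s⁻¹ → (χ : G → ℂ) g' = (χ : G → ℂ) g := by
  classical
  have hfinN' : Fintype (N.subgroupOf G) := Fintype.ofFinite _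
  have hSG : S ≤ Subgroup.normalizer (G : Set Γ) := le_normalizer_of_conj_mem S G hnorm
  have hSN : S ≤ Subgroup.normalizer (N : Set Γ) := le_normalizer_of_conj_mem S N hNS
  have hcommQ : ∀ a b : ↥G ⧸ N.subgroupOf G, a * b = b * a := by
    intro a b
    induction a using QuotientGroup.induction_on with
    | H x =>
      induction b using QuotientGroup.induction_on with
      | H y =>
        rw [← QuotientGroup.mk_mul, ← QuotientGroup.mk_mul, QuotientGroup.eq]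
        have h1 := hab y⁻¹ x⁻¹
        have h2 : (x * y)⁻¹ * (y * x) = y⁻¹ * x⁻¹ * y⁻¹⁻¹ * x⁻¹⁻¹ := by group
        rw [h2]
        exact h1
  have hfinΛ : Finite ((↥G ⧸ N.subgroupOf G) →* ℂˣ) := finite_monoidHom_units' hcommQ
  let π : ↥G →* ↥G ⧸ N.subgroupOf G := QuotientGroup.mk' _
  letI actΛ := twistAction π
  letI actN := normalizerIrrAction G
  let ψΛ : ((↥G ⧸ N.subgroupOf G) →* ℂˣ) →* Equiv.Perm (IrrCharacter G) :=
    MulAction.toPermHom _ _
  let φ : ↥(Subgroup.normalizer (G : Set Γ)) →* Equiv.Perm (IrrCharacter G) :=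
    MulAction.toPermHom _ _
  let ψS : ↥S →* Equiv.Perm (IrrCharacter G) := φ.comp (Subgroup.inclusion hSG)
  have hψΛ : ∀ (lam : (↥G ⧸ N.subgroupOf G) →* ℂˣ) (χ : IrrCharacter G) (g : G),
      ((ψΛ lam χ : IrrCharacter G) : G → ℂ) g = ((lam (π g) : ℂˣ) : ℂ) * (χ : G → ℂ) g :=
    fun lam χ g => rfl
  have hψS : ∀ (s : ↥S) (χ : IrrCharacter G),
      ψS s χ = (⟨(s : Γ), hSG s.2⟩ : ↥(Subgroup.normalizer (G : Set Γ))) • χ := fun s χ => rfl
  -- conjugating a twist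
  have hconj : ∀ (s : ↥S) (lam : (↥G ⧸ N.subgroupOf G) →* ℂˣ),
      ∃ lam' : (↥G ⧸ N.subgroupOf G) →* ℂˣ, ψS s * ψΛ lam * (ψS s)⁻¹ = ψΛ lam' := by
    intro s lam
    have hle : N.subgroupOf G ≤ (N.subgroupOf G).comap
        ((conjNorm G ⟨(s : Γ), hSG s.2⟩).symm.toMonoidHom) := by
      intro x hx
      rw [Subgroup.mem_comap, Subgroup.mem_subgroupOf]
      have h1 := hNS (s : Γ)⁻¹ (S.inv_mem s.2) x (Subgroup.mem_subgroupOf.mp hx)
      rw [inv_inv] at h1
      exact h1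
    refine ⟨lam.comp (QuotientGroup.map (N.subgroupOf G) (N.subgroupOf G)
      ((conjNorm G ⟨(s : Γ), hSG s.2⟩).symm.toMonoidHom) hle), ?_⟩
    rw [mul_inv_eq_iff_eq_mul]
    ext χ : 1
    rw [Equiv.Perm.mul_apply, Equiv.Perm.mul_apply]
    apply Subtype.ext
    funext g
    rw [hψΛ, hψS, hψS, normalizerIrrAction_apply, normalizerIrrAction_apply, hψΛ]
    rfl
  have hAK : ψS.range ≤
      Subgroup.normalizer (ψΛ.range : Set (Equiv.Perm (IrrCharacter G))) := by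
    rintro a ⟨s, rfl⟩
    rw [Subgroup.mem_normalizer_iff]
    intro k
    constructor
    · rintro ⟨lam, rfl⟩
      obtain ⟨lam', h⟩ := hconj s lam
      rw [h]
      exact ⟨_, rfl⟩
    · intro hk
      obtain ⟨lam, hlam⟩ := hk
      have h1 : k = ψS s⁻¹ * ψΛ lam * (ψS s⁻¹)⁻¹ := by
        rw [hlam, map_inv]
        group
      obtain ⟨lam', h⟩ := hconj s⁻¹ lam
      rw [h1, h]
      exact ⟨_, rfl⟩
  have hcopAK : (Nat.card ψS.range).Coprime (Nat.card ψΛ.range) := by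
    have h1 : Nat.card ψS.range ∣ N₀.relIndex S := by
      rw [← Subgroup.index_ker ψS]
      apply Subgroup.index_dvd_of_le
      intro s hs
      rw [Subgroup.mem_subgroupOf] at hs
      rw [MonoidHom.mem_ker]
      ext χ : 1
      rw [hψS, Equiv.Perm.one_apply, normalizerIrrAction_eq_iff]
      intro n n' hn'
      have hsG : (s : Γ) ∈ G := hNG (hN₀N hs)
      have h2 : n' = (⟨(s : Γ), hsG⟩ : G) * n * (⟨(s : Γ), hsG⟩ : G)⁻¹ := Subtype.ext hn'
      rw [h2]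
      exact Cfsg.Agent.Lib.Helper26.isClassFunction_of_isIrrCharacter χ.2 n ⟨(s : Γ), hsG⟩
    have h2 : Nat.card ψΛ.range ∣ Nat.card ((↥G ⧸ N.subgroupOf G) →* ℂˣ) :=
      Subgroup.card_range_dvd ψΛ
    have h3 : (Nat.card ((↥G ⧸ N.subgroupOf G) →* ℂˣ)).Coprime (N₀.relIndex S) :=
      card_monoidHom_coprime hcommQ _ hcop
    exact (Nat.Coprime.coprime_dvd_left h2 (Nat.Coprime.coprime_dvd_right h1 h3)).symm
  have hsolvK : Group.IsSolvable ψΛ.range := by
    apply Group.isSolvable_of_comm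
    rintro ⟨a, x, rfl⟩ ⟨b, y, rfl⟩
    apply Subtype.ext
    show ψΛ x * ψΛ y = ψΛ y * ψΛ x
    rw [← map_mul, ← map_mul, mul_comm x y]
  -- the set of characters over θ
  let SΩ : Set (IrrCharacter G) :=
    {χ | classInner (fun n : N => (χ : G → ℂ) ⟨n, hNG n.2⟩) (θ : N → ℂ) ≠ 0}
  let e : (N.subgroupOf G) ≃* N := Subgroup.subgroupOfEquivOfLe hNG
  have hSne : SΩ.Nonempty := by
    have hθ' : IsIrrCharacter (N.subgroupOf G) ((θ : N → ℂ) ∘ e) :=
      Cfsg.Agent.Lib.Helper2.isIrrCharacter_comp_mulEquiv θ.2 e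
    have hX : IsCharacter G (indFun (N.subgroupOf G) ((θ : N → ℂ) ∘ e)) :=
      isCharacter_indFun _ (isCharacter_of_isIrrCharacter hθ')
    have hX1 : indFun (N.subgroupOf G) ((θ : N → ℂ) ∘ e) 1 ≠ 0 := by
      rw [indFun_one]
      obtain ⟨d, hd0, hd⟩ := irr_degree hθ'
      rw [hd]
      have h1 : (Nat.card (N.subgroupOf G) : ℂ) ≠ 0 := Nat.cast_ne_zero.mpr Nat.card_pos.ne'
      have h2 : (Fintype.card G : ℂ) ≠ 0 := Nat.cast_ne_zero.mpr Fintype.card_pos.ne'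
      have h3 : (d : ℂ) ≠ 0 := Nat.cast_ne_zero.mpr hd0.ne'
      exact mul_ne_zero (inv_ne_zero h1) (mul_ne_zero h2 h3)
    obtain ⟨χ, hχ⟩ := exists_constituent hX hX1
    refine ⟨χ, ?_⟩
    show classInner (fun n : N => (χ : G → ℂ) ⟨n, hNG n.2⟩) (θ : N → ℂ) ≠ 0
    rw [classInner_indFun_left' _ _ _ (Cfsg.Agent.Lib.Helper26.isClassFunction_of_isIrrCharacter χ.2),
      ← classInner_conj_symm, classInner_restrict_subgroupOf G N hNG] at hχ
    intro h0
    apply hχ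
    rw [h0, map_zero]
  have hK : ∀ k ∈ ψΛ.range, ∀ x ∈ SΩ, k • x ∈ SΩ := by
    rintro k ⟨lam, rfl⟩ x hx
    show classInner (fun n : N => ((ψΛ lam x : IrrCharacter G) : G → ℂ) ⟨n, hNG n.2⟩)
      (θ : N → ℂ) ≠ 0
    have h1 : (fun n : N => ((ψΛ lam x : IrrCharacter G) : G → ℂ) ⟨n, hNG n.2⟩) =
        (fun n : N => (x : G → ℂ) ⟨n, hNG n.2⟩) := by
      funext n
      rw [hψΛ]
      have h2 : π ⟨n, hNG n.2⟩ = 1 :=
        (QuotientGroup.eq_one_iff _).mpr (Subgroup.mem_subgroupOf.mpr n.2)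
      rw [h2, map_one, Units.val_one, one_mul]
    rw [h1]
    exact hx
  have hA : ∀ a ∈ ψS.range, ∀ x ∈ SΩ, a • x ∈ SΩ := by
    rintro a ⟨s, rfl⟩ x hx
    show classInner (fun n : N => ((ψS s x : IrrCharacter G) : G → ℂ) ⟨n, hNG n.2⟩)
      (θ : N → ℂ) ≠ 0
    have h1 : classInner (fun n : N => ((ψS s x : IrrCharacter G) : G → ℂ) ⟨n, hNG n.2⟩)
        (θ : N → ℂ) = classInner (fun n : N => (x : G → ℂ) ⟨n, hNG n.2⟩) (θ : N → ℂ) := by
      unfold classInner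
      congr 1
      refine Fintype.sum_equiv (conjNorm N ⟨(s : Γ), hSN s.2⟩).symm.toEquiv _ _ (fun n => ?_)
      have h2 : (θ : N → ℂ) n = (θ : N → ℂ) ((conjNorm N ⟨(s : Γ), hSN s.2⟩).symm n) := by
        apply hinv s s.2
        rw [conjNorm_symm_apply]
        show (n : Γ) = (s : Γ) * ((s : Γ)⁻¹ * n * (s : Γ)) * (s : Γ)⁻¹
        group
      show ((ψS s x : IrrCharacter G) : G → ℂ) ⟨n, hNG n.2⟩ * conj ((θ : N → ℂ) n) =
        (x : G → ℂ) ⟨((conjNorm N ⟨(s : Γ), hSN s.2⟩).symm n : N), _⟩ *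
        conj ((θ : N → ℂ) ((conjNorm N ⟨(s : Γ), hSN s.2⟩).symm n))
      rw [← h2, hψS, normalizerIrrAction_apply]
      rfl
    rw [h1]
    exact hx
  have htrans : ∀ x ∈ SΩ, ∀ y ∈ SΩ, ∃ k ∈ ψΛ.range, k • x = y := by
    intro x hx y hy
    have hxN : IsCharacter N (fun n : N => (x : G → ℂ) ⟨n, hNG n.2⟩) :=
      Cfsg.Agent.Lib.Helper2.isCharacter_comp_hom (isCharacter_of_isIrrCharacter x.2)
        (Subgroup.inclusion hNG)
    have hyN : IsCharacter N (fun n : N => (y : G → ℂ) ⟨n, hNG n.2⟩) :=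
      Cfsg.Agent.Lib.Helper2.isCharacter_comp_hom (isCharacter_of_isIrrCharacter y.2)
        (Subgroup.inclusion hNG)
    have h1 := classInner_ne_zero_of_common _ _ hxN hyN θ hx hy
    rw [← classInner_restrict_subgroupOf G N hNG] at h1
    obtain ⟨lam, hlam⟩ := exists_twist_eq (N.subgroupOf G) hcommQ (x : G → ℂ) (y : G → ℂ)
      x.2 y.2 h1
    refine ⟨ψΛ lam, ⟨_, rfl⟩, ?_⟩
    apply Subtype.ext
    funext g
    show ((ψΛ lam x : IrrCharacter G) : G → ℂ) g = (y : G → ℂ) g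
    rw [hψΛ]
    exact hlam g
  obtain ⟨χ, hχ, hfix⟩ := Cfsg.Agent.Lib.Helper13.glauberman_exists ψS.range ψΛ.range hAK hcopAK
    (Or.inr hsolvK) SΩ hSne htrans hK hA
  refine ⟨χ, hχ, ?_⟩
  intro s hs
  have h1 := hfix (ψS ⟨s, hs⟩) ⟨_, rfl⟩
  have h2 : (⟨s, hSG hs⟩ : ↥(Subgroup.normalizer (G : Set Γ))) • χ = χ := h1
  rw [normalizerIrrAction_eq_iff] at h2
  exact h2

end AB

theorem main' {Γ : Type*} [Group Γ] [Finite Γ] (S N₀ : Subgroup Γ) (hN₀S : N₀ ≤ S) (k : ℕ) :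
    ∀ (G N : Subgroup Γ) (_iG : Fintype G) (_iN : Fintype N)
      (_hnorm : ∀ s ∈ S, ∀ g ∈ G, s * g * s⁻¹ ∈ G) (hNG : N ≤ G)
      (_hNn : (N.subgroupOf G).Normal)
      (_hNS : ∀ s ∈ S, ∀ n ∈ N, s * n * s⁻¹ ∈ N) (_hN₀N : N₀ ≤ N)
      (_hcop : (N.relIndex G).Coprime (N₀.relIndex S))
      (_hder : derivedSeries ↥G k ≤ N.subgroupOf G) (θ : Cfsg.IrrCharacter N)
      (_hinv : ∀ s ∈ S, ∀ g g' : N, (g' : Γ) = s * g * s⁻¹ →
        (θ : N → ℂ) g' = (θ : N → ℂ) g),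
      ∃ χ : Cfsg.IrrCharacter G,
        Cfsg.classInner (fun n : N => (χ : G → ℂ) ⟨n, hNG n.2⟩) (θ : N → ℂ) ≠ 0 ∧
        (∀ s ∈ S, ∀ g g' : G, (g' : Γ) = s * g * s⁻¹ → (χ : G → ℂ) g' = (χ : G → ℂ) g) := by
  classical
  induction k with
  | zero =>
    intro G N iG iN hnorm hNG hNn hNS hN₀N hcop hder θ hinv
    have hGN : G ≤ N := by
      intro g hg
      have h1 : (⟨g, hg⟩ : G) ∈ derivedSeries ↥G 0 := by
        rw [derivedSeries_zero]
        exact Subgroup.mem_top _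
      exact Subgroup.mem_subgroupOf.mp (hder h1)
    obtain rfl : N = G := le_antisymm hNG hGN
    obtain rfl : iG = iN := Subsingleton.elim _ _
    refine ⟨θ, ?_, hinv⟩
    show Cfsg.classInner (θ : N → ℂ) (θ : N → ℂ) ≠ 0
    rw [Cfsg.Agent.Lib.Helper26.classInner_irr θ.2 θ.2, if_pos rfl]
    exact one_ne_zero
  | succ k ih =>
    intro G N iG iN hnorm hNG hNn hNS hN₀N hcop hder θ hinv
    have hSG : S ≤ Subgroup.normalizer (G : Set Γ) := le_normalizer_of_conj_mem S G hnorm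
    -- the intermediate subgroup
    let M' : Subgroup ↥G := N.subgroupOf G ⊔ derivedSeries ↥G k
    let M : Subgroup Γ := M'.map G.subtype
    have hMG : M ≤ G := Subgroup.map_subtype_le M'
    have hMsub : M.subgroupOf G = M' :=
      Subgroup.comap_map_eq_self_of_injective G.subtype_injective M'
    have hmemM : ∀ (x : Γ) (hx : x ∈ G), x ∈ M ↔ (⟨x, hx⟩ : G) ∈ M' := by
      intro x hx
      rw [← hMsub, Subgroup.mem_subgroupOf]
    have hNM : N ≤ M := by
      intro n hn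
      rw [hmemM n (hNG hn)]
      exact (le_sup_left : N.subgroupOf G ≤ M') (Subgroup.mem_subgroupOf.mpr hn)
    have hMn : (M.subgroupOf G).Normal := by
      rw [hMsub]
      infer_instance
    -- N is normal in M
    have hNMn : (N.subgroupOf M).Normal := by
      constructor
      intro x hx g
      rw [Subgroup.mem_subgroupOf] at hx ⊢
      have h1 := hNn.conj_mem ⟨(x : Γ), hMG x.2⟩ (Subgroup.mem_subgroupOf.mpr hx)
        ⟨(g : Γ), hMG g.2⟩
      exact Subgroup.mem_subgroupOf.mp h1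
    -- S normalizes M
    have hMS : ∀ s ∈ S, ∀ m ∈ M, s * m * s⁻¹ ∈ M := by
      intro s hs m hm
      have hmG : m ∈ G := hMG hm
      have hm' : (⟨m, hmG⟩ : G) ∈ M' := (hmemM m hmG).mp hm
      let c : ↥G ≃* ↥G := conjNorm G ⟨s, hSG hs⟩
      have hcm : c ⟨m, hmG⟩ ∈ M'.map c.toMonoidHom := Subgroup.mem_map_of_mem _ hm'
      have hle : M'.map c.toMonoidHom ≤ M' := by
        rw [Subgroup.map_sup]
        apply sup_le_sup
        · rintro _ ⟨x, hx, rfl⟩
          rw [Subgroup.mem_subgroupOf]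
          exact hNS s hs _ (Subgroup.mem_subgroupOf.mp hx)
        · exact (map_derivedSeries_eq (f := c.toMonoidHom) c.surjective k).le
      have h1 := hle hcm
      have h2 : s * m * s⁻¹ ∈ G := hnorm s hs m hmG
      rw [hmemM _ h2]
      exact h1
    -- commutators of M lie in N
    have hab : ∀ a b : ↥M, a * b * a⁻¹ * b⁻¹ ∈ N.subgroupOf M := by
      intro a b
      rw [Subgroup.mem_subgroupOf]
      have ha : (⟨(a : Γ), hMG a.2⟩ : G) ∈ M' := (hmemM _ _).mp a.2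
      have hb : (⟨(b : Γ), hMG b.2⟩ : G) ∈ M' := (hmemM _ _).mp b.2
      have h1 := comm_mem_of_derived (N.subgroupOf G) k hder _ _ ha hb
      exact Subgroup.mem_subgroupOf.mp h1
    -- indices
    have hidx : N.relIndex M * M.relIndex G = N.relIndex G :=
      Subgroup.relIndex_mul_relIndex N M G hNM hMG
    have hcop1 : (N.relIndex M).Coprime (N₀.relIndex S) :=
      Nat.Coprime.coprime_dvd_left (Dvd.intro _ hidx) hcop
    have hcop2 : (M.relIndex G).Coprime (N₀.relIndex S) :=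
      Nat.Coprime.coprime_dvd_left (Dvd.intro_left _ hidx) hcop
    have iM : Fintype M := Fintype.ofFinite _
    -- going up to M
    obtain ⟨φ, hφ, hφinv⟩ := exists_invariant_above_of_abelian' M S N N₀ hMS hNM hNS hN₀S hN₀N hcop1
      hab θ hinv
    -- going up to G
    have hder' : derivedSeries ↥G k ≤ M.subgroupOf G := by
      rw [hMsub]
      exact le_sup_right
    obtain ⟨χ, hχ, hχinv⟩ := ih G M iG iM hnorm hMG hMn hMS (hN₀N.trans hNM) hcop2 hder' φ hφinv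
    refine ⟨χ, ?_, hχinv⟩
    exact classInner_restrict_ne_zero_trans G M N hNM hMG (χ : G → ℂ)
      (isCharacter_of_isIrrCharacter χ.2) φ (θ : N → ℂ) (isCharacter_of_isIrrCharacter θ.2) hχ hφ


end Cfsg.Agent.Lib.Helper7.RelAbove
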