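import Mathlib
import Cfsg.Prelude
import Cfsg.Agent.Lib.Helper7.RelAbove

/-!
# Invariant constituents above an invariant character, coprime layers: solvable bottom layer
(helper7)
-/

set_option autoImplicit false

namespace Cfsg.Agent.Lib.Helper7.InvAbove

open Cfsg Cfsg.Agent.Lib.Helper26 Cfsg.Agent.Lib.Helper7 Cfsg.Agent.Lib.Helper4
open scoped ComplexConjugate Pointwise

/-- Schur–Zassenhaus in the form needed: a subgroup `S ≥ N` with `G S = Γ` and `|S : N| = |Γ : G|`,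
when `|Γ : G|` and `|G : N|` are coprime. -/
theorem exists_supplement {Γ : Type*} [Group Γ] [Finite Γ] (G N : Subgroup Γ) [hG : G.Normal]
    [hN : N.Normal] (hNG : N ≤ G) (hcop : (G.index).Coprime (N.relIndex G)) :
    ∃ S : Subgroup Γ, N ≤ S ∧ N.relIndex S = G.index ∧
      ∀ x : Γ, ∃ g ∈ G, ∃ s ∈ S, x = g * s := by
  classical
  let f : Γ →* Γ ⧸ N := QuotientGroup.mk' N
  have hf : Function.Surjective f := QuotientGroup.mk'_surjective N
  have hker : f.ker = N := QuotientGroup.ker_mk' N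
  set Gb : Subgroup (Γ ⧸ N) := G.map f with hGb
  haveI : Gb.Normal := Subgroup.Normal.map hG f hf
  have hidx : Gb.index = G.index := Subgroup.index_map_eq G hf (by rw [hker]; exact hNG)
  have hcard : Nat.card Gb = N.relIndex G := by
    have h1 : Nat.card Gb * Gb.index = N.index := by
      rw [Subgroup.card_mul_index, Subgroup.index_eq_card]
    have h2 : N.relIndex G * G.index = N.index := Subgroup.relIndex_mul_index hNG
    rw [hidx, ← h2] at h1
    exact Nat.eq_of_mul_eq_mul_right (Nat.pos_of_ne_zero Subgroup.index_ne_zero_of_finite) h1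
  have hcop' : Nat.Coprime (Nat.card Gb) Gb.index := by
    rw [hcard, hidx]
    exact hcop.symm
  obtain ⟨Ab, hAb⟩ := Subgroup.exists_right_complement'_of_coprime hcop'
  refine ⟨Ab.comap f, ?_, ?_, ?_⟩
  · intro n hn
    rw [Subgroup.mem_comap]
    have : f n = 1 := by
      rw [← MonoidHom.mem_ker, hker]
      exact hn
    rw [this]
    exact Ab.one_mem
  · have h2 : N.relIndex (Ab.comap f) = (⊥ : Subgroup (Γ ⧸ N)).relIndex ((Ab.comap f).map f) := by
      have h0 := Subgroup.relIndex_comap (⊥ : Subgroup (Γ ⧸ N)) f (Ab.comap f)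
      rw [MonoidHom.comap_bot, hker] at h0
      exact h0
    rw [h2, Subgroup.map_comap_eq_self_of_surjective hf, Subgroup.relIndex_bot_left, ← hidx]
    exact (hAb.symm.index_eq_card).symm
  · intro x
    have htop : f x ∈ (⊤ : Subgroup (Γ ⧸ N)) := Subgroup.mem_top _
    have hprod : (Gb : Set (Γ ⧸ N)) * (Ab : Set (Γ ⧸ N)) = Set.univ := hAb.mul_eq
    have hx : f x ∈ (Gb : Set (Γ ⧸ N)) * (Ab : Set (Γ ⧸ N)) := by
      rw [hprod]
      exact Set.mem_univ _
    obtain ⟨gb, hgb, ab, hab, hx'⟩ := Set.mem_mul.mp hx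
    obtain ⟨g, hg, rfl⟩ := hgb
    refine ⟨g, hg, g⁻¹ * x, ?_, by group⟩
    rw [Subgroup.mem_comap, map_mul, map_inv, ← hx']
    simpa using hab

theorem solvable_bottom {Γ : Type*} [Group Γ] [Fintype Γ] (G N : Subgroup Γ) [hG : G.Normal]
    [hN : N.Normal] [Fintype G] [Fintype N] (hNG : N ≤ G)
    (hcop : (G.index).Coprime (N.relIndex G))
    (hsolv : Group.IsSolvable (G ⧸ N.subgroupOf G)) (θ : IrrCharacter N)
    (hinv : ∀ (x : Γ) (n : N), (θ : N → ℂ) ⟨x * n * x⁻¹, hN.conj_mem n n.2 x⟩ = (θ : N → ℂ) n) :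
    ∃ χ : IrrCharacter G,
      classInner (fun n : N => (χ : G → ℂ) ⟨n, hNG n.2⟩) (θ : N → ℂ) ≠ 0 ∧
      ∀ (x : Γ) (g : G), (χ : G → ℂ) ⟨x * g * x⁻¹, hG.conj_mem g g.2 x⟩ = (χ : G → ℂ) g := by
  classical
  obtain ⟨S, hNS, hidx, hprod⟩ := exists_supplement G N hNG hcop
  have hsolv' := hsolv
  rw [Group.isSolvable_def] at hsolv'
  obtain ⟨k, hk⟩ := hsolv'
  have hder : derivedSeries ↥G k ≤ N.subgroupOf G := by
    have h1 := map_derivedSeries_eq (f := QuotientGroup.mk' (N.subgroupOf G))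
      (QuotientGroup.mk'_surjective _) k
    rw [hk] at h1
    intro x hx
    rw [← QuotientGroup.ker_mk' (N.subgroupOf G), MonoidHom.mem_ker]
    have h2 : QuotientGroup.mk' (N.subgroupOf G) x ∈
        (derivedSeries ↥G k).map (QuotientGroup.mk' (N.subgroupOf G)) :=
      Subgroup.mem_map_of_mem _ hx
    rw [h1] at h2
    exact Subgroup.mem_bot.mp h2
  have hinv' : ∀ s ∈ S, ∀ g g' : N, (g' : Γ) = s * g * s⁻¹ →
      (θ : N → ℂ) g' = (θ : N → ℂ) g := by
    intro s _ g g' hg'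
    have h1 := hinv s g
    have h2 : g' = ⟨s * g * s⁻¹, hN.conj_mem g g.2 s⟩ := Subtype.ext hg'
    rw [h2]
    exact h1
  obtain ⟨χ, hχ, hχinv⟩ := RelAbove.main' S N hNS k G N inferInstance inferInstance
    (fun s _ g hg => hG.conj_mem g hg s) hNG Subgroup.normal_subgroupOf
    (fun s _ n hn => hN.conj_mem n hn s) le_rfl (by rw [hidx]; exact hcop.symm) hder θ hinv'
  refine ⟨χ, hχ, ?_⟩
  intro x g
  obtain ⟨g₀, hg₀, s, hs, rfl⟩ := hprod x
  have h1 : s * (g : Γ) * s⁻¹ ∈ G := hG.conj_mem g g.2 s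
  have h2 := hχinv s hs g ⟨s * g * s⁻¹, h1⟩ rfl
  rw [← h2]
  have h3 : (⟨g₀ * s * (g : Γ) * (g₀ * s)⁻¹, hG.conj_mem g g.2 (g₀ * s)⟩ : G) =
      (⟨g₀, hg₀⟩ : G) * ⟨s * g * s⁻¹, h1⟩ * (⟨g₀, hg₀⟩ : G)⁻¹ := by
    apply Subtype.ext
    show g₀ * s * (g : Γ) * (g₀ * s)⁻¹ = g₀ * (s * g * s⁻¹) * g₀⁻¹
    group
  rw [h3]
  exact Cfsg.Agent.Lib.Helper26.isClassFunction_of_isIrrCharacter χ.2 _ _

end Cfsg.Agent.Lib.Helper7.InvAbove
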