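import Mathlib
import Cfsg.Prelude
import Cfsg.Agent.Lib.Helper7.KFD
import Cfsg.Agent.Lib.Helper24.KleinClasses
import Cfsg.Agent.Lib.Helper3.QuatSylow

set_option autoImplicit false
open Cfsg

/-! Groups of order `4 g₀`, `g₀` odd, without a normal `2`-complement: the Sylow `2`-subgroup
is a four-group and there is one class of involutions. -/

namespace Cfsg.Agent.Lib.Helper7.KG

variable {G : Type*} [Group G] [Finite G]

theorem card_sylow_four (g₀ : ℕ) (hg₀ : Odd g₀) (hG : Nat.card G = 4 * g₀) (P : Sylow 2 G) :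
    Nat.card (P : Subgroup G) = 4 := by
  haveI : Fact (Nat.Prime 2) := ⟨Nat.prime_two⟩
  have h1 := Sylow.card_eq_multiplicity P
  have h2 : (4 * g₀).factorization 2 = 2 := by
    have h4 : (4 : ℕ) = 2 ^ 2 := by norm_num
    rw [Nat.factorization_mul (by norm_num) hg₀.pos.ne', h4,
      Nat.Prime.factorization_pow Nat.prime_two]
    simp [Nat.factorization_eq_zero_of_not_dvd hg₀.not_two_dvd_nat]
  rw [hG, h2] at h1
  rw [h1]; norm_num

theorem klein_and_fusion (g₀ : ℕ) (hg₀ : Odd g₀) (hG : Nat.card G = 4 * g₀)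
    (hnc : ¬ ∃ N : Subgroup G, N.Normal ∧ Nat.card N = g₀) (P : Sylow 2 G) :
    IsKleinFour (P : Subgroup G) ∧
      ∀ s t : G, orderOf s = 2 → orderOf t = 2 → IsConj s t := by
  haveI : Fact (Nat.Prime 2) := ⟨Nat.prime_two⟩
  have hP4 := card_sylow_four g₀ hg₀ hG P
  -- a normal complement has order `g₀`
  have hcompl : ∀ K : Subgroup G, K.Normal → Subgroup.IsComplement' K (P : Subgroup G) → False := by
    intro K hKn hKc
    apply hnc
    refine ⟨K, hKn, ?_⟩
    have := hKc.card_mul_card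
    rw [hP4, hG] at this
    omega
  have hncyc : ¬ IsCyclic (P : Subgroup G) := by
    intro hcyc
    obtain ⟨K, hKn, hKc, -⟩ := Cfsg.Agent.Lib.Helper3.exists_normal_two_complement_of_isCyclic P hcyc
    exact hcompl K hKn hKc
  have hsq : ∀ x ∈ (P : Subgroup G), x * x = 1 := by
    intro x hx
    have hdvd : orderOf (⟨x, hx⟩ : (P : Subgroup G)) ∣ 4 := by
      rw [← hP4]; exact orderOf_dvd_natCard _
    have hne : orderOf (⟨x, hx⟩ : (P : Subgroup G)) ≠ 4 := by
      intro h
      apply hncyc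
      apply isCyclic_of_orderOf_eq_card (⟨x, hx⟩ : (P : Subgroup G))
      rw [h, hP4]
    have hle : orderOf (⟨x, hx⟩ : (P : Subgroup G)) ≤ 4 := Nat.le_of_dvd (by norm_num) hdvd
    have h2 : orderOf (⟨x, hx⟩ : (P : Subgroup G)) ∣ 2 := by
      interval_cases h : orderOf (⟨x, hx⟩ : (P : Subgroup G))
      · norm_num at hdvd
      · norm_num
      · norm_num
      · norm_num at hdvd
      · exact absurd rfl hne
    have h3 : (⟨x, hx⟩ : (P : Subgroup G)) ^ 2 = 1 := orderOf_dvd_iff_pow_eq_one.mp h2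
    have h4 := congrArg Subtype.val h3
    rw [Subgroup.coe_pow, pow_two] at h4
    exact h4
  have hK : IsKleinFour (P : Subgroup G) := Cfsg.Agent.Lib.Helper7.KF.isKleinFour_of _ hP4 hsq
  refine ⟨hK, ?_⟩
  rcases Cfsg.Agent.Lib.Helper24.klein_dichotomy P hK with ⟨hnf, -⟩ | ⟨hf, -⟩
  · exfalso
    have hNC : Subgroup.normalizer ((P : Subgroup G) : Set G) ≤
        Subgroup.centralizer ((P : Subgroup G) : Set G) := by
      intro g hg
      rw [Subgroup.mem_centralizer_iff]
      intro x hx
      have hx' : g * x * g⁻¹ ∈ (P : Subgroup G) := (Subgroup.mem_normalizer_iff.mp hg x).mp hx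
      have hconj : IsConj x (g * x * g⁻¹) := isConj_iff.mpr ⟨g, rfl⟩
      have := hnf x hx _ hx' hconj
      calc x * g = (g * x * g⁻¹) * g := by rw [← this]
        _ = g * x := by group
    exact hcompl _ inferInstance (MonoidHom.ker_transferSylow_isComplement' P hNC)
  · intro s t hs ht
    obtain ⟨g, hg⟩ := Cfsg.Agent.Lib.Helper24.exists_conj_mem_sylow_of_involution P s hs
    obtain ⟨k, hk⟩ := Cfsg.Agent.Lib.Helper24.exists_conj_mem_sylow_of_involution P t ht
    have hs1 : g⁻¹ * s * g ≠ 1 := by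
      intro h
      have : s = 1 := by
        calc s = g * (g⁻¹ * s * g) * g⁻¹ := by group
          _ = 1 := by rw [h]; group
      rw [this, orderOf_one] at hs
      omega
    have ht1 : k⁻¹ * t * k ≠ 1 := by
      intro h
      have : t = 1 := by
        calc t = k * (k⁻¹ * t * k) * k⁻¹ := by group
          _ = 1 := by rw [h]; group
      rw [this, orderOf_one] at ht
      omega
    exact ((Cfsg.Agent.Lib.Helper24.isConj_of_conj_eq rfl).trans (hf _ hg _ hk hs1 ht1)).trans
      (Cfsg.Agent.Lib.Helper24.isConj_of_conj_eq rfl).symm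

end Cfsg.Agent.Lib.Helper7.KG
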