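import Mathlib
import Cfsg.Prelude
import Cfsg.Agent.Lib.Helper24.KleinSylow
import Cfsg.Agent.Lib.Helper15.ZpOddB

set_option autoImplicit false
open Cfsg

/-! Counting pairs of involutions in a group `H = K ⋊ Q` with `Q` a four-group containing a
central involution `z` and `K` of odd order. -/

namespace Cfsg.Agent.Lib.Helper7.KG

open Cfsg.Agent.Lib.Helper24 Cfsg.Agent.Lib.Helper15.ZpOdd

section count

variable {H : Type*} [Group H]

/-- the number of `k ∈ K` with `x k` an involution -/
noncomputable def invCount (K : Subgroup H) (x : H) : ℕ :=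
  Nat.card {k : K // orderOf (x * (k : H)) = 2}

theorem invCount_mul (K : Subgroup H) (x k₀ : H) (hk₀ : k₀ ∈ K) :
    invCount K (x * k₀) = invCount K x := by
  unfold invCount
  apply Nat.card_congr
  exact (Equiv.mulLeft (⟨k₀, hk₀⟩ : K)).subtypeEquiv (fun k => by
    simp only [Equiv.coe_mulLeft, Subgroup.coe_mul, mul_assoc])

theorem invCount_one [Finite H] (K : Subgroup H) (hodd : Odd (Nat.card K)) : invCount K 1 = 0 := by
  unfold invCount
  rw [Nat.card_eq_zero]
  left
  constructor
  rintro ⟨k, hk⟩
  rw [one_mul, Subgroup.orderOf_coe] at hk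
  have : 2 ∣ Nat.card K := hk ▸ orderOf_dvd_natCard k
  exact hodd.not_two_dvd_nat this

theorem invCount_mul_card [Finite H] (Q K : Subgroup H) (hQ : IsKleinFour Q) [K.Normal]
    (hodd : Odd (Nat.card K)) (hdisj : Disjoint Q K) (z : H) (hzQ : z ∈ Q) (hz1 : z ≠ 1)
    (hzc : ∀ h : H, h * z = z * h) (q : H) (hq : q ∈ Q) (hq1 : q ≠ 1) (hqz : q ≠ z) :
    invCount K q * Nat.card ↥(K ⊓ Subgroup.centralizer (Q : Set H)) = Nat.card K := by
  have hqq : q * q = 1 := klein_sq Q hQ q hq
  have hqinv : q⁻¹ = q := inv_eq_of_mul_eq_one_left hqq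
  have hnorm : ∀ x ∈ K, q * x * q⁻¹ ∈ K := fun x hx =>
    Subgroup.Normal.conj_mem inferInstance x hx q
  have h1 := card_inverted K hqq hnorm hodd
  have hqK : q ∉ K := fun h => hq1 (Subgroup.disjoint_def.mp hdisj hq h)
  have h2 : invCount K q = Nat.card (Inverted K q) := by
    unfold invCount
    apply Nat.card_congr
    refine (Equiv.subtypeSubtypeEquivSubtypeInter (fun x : H => x ∈ K)
      (fun x => orderOf (q * x) = 2)).trans ?_
    apply Equiv.subtypeEquivRight
    intro x
    constructor
    · rintro ⟨hx, ho⟩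
      refine ⟨hx, ?_⟩
      have h3 : (q * x) ^ 2 = 1 := by rw [← ho]; exact pow_orderOf_eq_one _
      rw [pow_two] at h3
      rw [hqinv]
      apply eq_inv_of_mul_eq_one_left
      rw [← h3]; group
    · rintro ⟨hx, hinv⟩
      refine ⟨hx, ?_⟩
      apply orderOf_eq_prime
      · rw [pow_two]
        calc q * x * (q * x) = (q * x * q⁻¹) * x := by rw [hqinv]; group
          _ = 1 := by rw [hinv]; group
      · intro h
        apply hqK
        have : q = x⁻¹ := eq_inv_of_mul_eq_one_left h
        rw [this]; exact K.inv_mem hx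
  have h3 : K ⊓ Subgroup.centralizer ({q} : Set H) = K ⊓ Subgroup.centralizer (Q : Set H) := by
    ext x
    simp only [Subgroup.mem_inf, Subgroup.mem_centralizer_iff, Set.mem_singleton_iff, forall_eq,
      SetLike.mem_coe]
    constructor
    · rintro ⟨hx, hc⟩
      refine ⟨hx, ?_⟩
      intro h hh
      rcases klein_cases Q hQ z q h hzQ hq hh hz1 hq1 (Ne.symm hqz) with rfl | rfl | rfl | rfl
      · simp
      · exact (hzc x).symm
      · exact hc
      · rw [mul_assoc, hc, ← mul_assoc, ← hzc x, mul_assoc]
    · rintro ⟨hx, hc⟩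
      exact ⟨hx, hc q hq⟩
  rw [h2, ← h3]; exact h1

end count

section pairs

variable {H : Type*} [Group H] [Fintype H]

open scoped Classical in
/-- the number of pairs of involutions `(x, y)` with `x y ∈ z K` -/
noncomputable def pairCount (K : Subgroup H) (z : H) : ℕ :=
  ∑ x : H, if orderOf x = 2 then invCount K (x⁻¹ * z) else 0

open scoped Classical in
theorem pairCount_eq_sum (Q K : Subgroup H) (hc : Subgroup.IsComplement' Q K) (z : H)
    (hzc : ∀ h : H, h * z = z * h) :
    pairCount K z = ∑ q : Q, invCount K q * invCount K (q * z) := by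
  have hb : Function.Bijective (fun p : Q × K => (p.1 : H) * (p.2 : H)) := hc
  unfold pairCount
  rw [← hb.sum_comp, Fintype.sum_prod_type]
  refine Finset.sum_congr rfl fun q _ => ?_
  have h1 : ∀ k : K, (if orderOf ((q : H) * k) = 2 then
      invCount K (((q : H) * k)⁻¹ * z) else 0) =
      (if orderOf ((q : H) * k) = 2 then invCount K (q * z) else 0) := by
    intro k
    split_ifs with h
    · have hinv : ((q : H) * k)⁻¹ = q * k := by
        apply inv_eq_of_mul_eq_one_left
        rw [← pow_two, ← h]; exact pow_orderOf_eq_one _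
      rw [hinv, mul_assoc, hzc k, ← mul_assoc]
      exact invCount_mul K _ k k.2
    · rfl
  rw [Finset.sum_congr rfl fun k _ => h1 k, Finset.sum_ite, Finset.sum_const_zero, add_zero,
    Finset.sum_const, smul_eq_mul]
  congr 1
  unfold invCount
  rw [Nat.card_eq_fintype_card, Fintype.card_subtype]

open scoped Classical in
theorem pairCount_mul (Q K : Subgroup H) (hQ : IsKleinFour Q) [K.Normal]
    (hodd : Odd (Nat.card K)) (hc : Subgroup.IsComplement' Q K) (z : H) (hzQ : z ∈ Q)
    (hz1 : z ≠ 1) (hzc : ∀ h : H, h * z = z * h) :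
    pairCount K z * (Nat.card ↥(K ⊓ Subgroup.centralizer (Q : Set H))) ^ 2 =
      2 * (Nat.card K) ^ 2 := by
  have hdisj : Disjoint Q K := hc.disjoint
  rw [pairCount_eq_sum Q K hc z hzc, Finset.sum_mul]
  have hzz : z * z = 1 := klein_sq Q hQ z hzQ
  have hterm : ∀ q : Q, invCount K q * invCount K (q * z) *
      (Nat.card ↥(K ⊓ Subgroup.centralizer (Q : Set H))) ^ 2 =
      if (q = 1 ∨ q = ⟨z, hzQ⟩) then 0 else (Nat.card K) ^ 2 := by
    intro q
    by_cases h1 : q = 1
    · rw [if_pos (Or.inl h1), h1, Subgroup.coe_one, invCount_one K hodd]; ring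
    by_cases h2 : q = ⟨z, hzQ⟩
    · rw [if_pos (Or.inr h2), h2]
      show invCount K z * invCount K (z * z) * _ = 0
      rw [hzz, invCount_one K hodd]; ring
    · rw [if_neg (by tauto)]
      have hq1 : (q : H) ≠ 1 := fun h => h1 (Subtype.ext h)
      have hqz : (q : H) ≠ z := fun h => h2 (Subtype.ext h)
      have e1 := invCount_mul_card Q K hQ hodd hdisj z hzQ hz1 hzc q q.2 hq1 hqz
      have e2 := invCount_mul_card Q K hQ hodd hdisj z hzQ hz1 hzc (q * z) (mul_mem q.2 hzQ)
        (by
          intro h
          apply hqz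
          calc (q : H) = (q * z) * z := by rw [mul_assoc, hzz, mul_one]
            _ = z := by rw [h, one_mul])
        (by
          intro h
          apply hq1
          calc (q : H) = (q * z) * z := by rw [mul_assoc, hzz, mul_one]
            _ = 1 := by rw [h, hzz])
      calc invCount K q * invCount K (q * z) *
            (Nat.card ↥(K ⊓ Subgroup.centralizer (Q : Set H))) ^ 2
          = (invCount K q * Nat.card ↥(K ⊓ Subgroup.centralizer (Q : Set H))) *
            (invCount K (q * z) * Nat.card ↥(K ⊓ Subgroup.centralizer (Q : Set H))) := by ring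
        _ = (Nat.card K) ^ 2 := by rw [e1, e2]; ring
  rw [Finset.sum_congr rfl fun q _ => hterm q, Finset.sum_ite, Finset.sum_const_zero, zero_add,
    Finset.sum_const, smul_eq_mul]
  congr 1
  have hcard : (Finset.univ : Finset Q).card = 4 := by
    rw [Finset.card_univ, ← Nat.card_eq_fintype_card]; exact hQ.card_four
  have hfil : (Finset.univ.filter (fun q : Q => q = 1 ∨ q = ⟨z, hzQ⟩)).card = 2 := by
    have : Finset.univ.filter (fun q : Q => q = 1 ∨ q = ⟨z, hzQ⟩) = {1, ⟨z, hzQ⟩} := by
      ext q; simp
    rw [this, Finset.card_pair]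
    intro h
    exact hz1 (congrArg Subtype.val h).symm
  have := Finset.card_filter_add_card_filter_not (s := (Finset.univ : Finset Q))
    (fun q : Q => q = 1 ∨ q = ⟨z, hzQ⟩)
  rw [hcard, hfil] at this
  omega

end pairs

section centralizer

variable {H : Type*} [Group H] [Finite H]

theorem card_centralizer_four (Q K : Subgroup H) (hQ : IsKleinFour Q) [K.Normal]
    (hc : Subgroup.IsComplement' Q K) :
    Nat.card (Subgroup.centralizer (Q : Set H)) =
      4 * Nat.card ↥(K ⊓ Subgroup.centralizer (Q : Set H)) := by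
  have hQD : Q ≤ Subgroup.centralizer (Q : Set H) := by
    intro x hx
    rw [Subgroup.mem_centralizer_iff]
    intro h hh
    exact klein_comm Q hQ h x hh hx
  have h1 : K.relIndex (Subgroup.centralizer (Q : Set H)) = 4 := by
    rw [← Subgroup.relIndex_sup_right]
    have htop : Subgroup.centralizer (Q : Set H) ⊔ K = ⊤ := by
      rw [eq_top_iff, ← hc.sup_eq_top]
      exact sup_le_sup_right hQD K
    rw [htop, Subgroup.relIndex_top_right, hc.index_eq_card]
    exact hQ.card_four
  have h2 := Subgroup.card_mul_index (K.subgroupOf (Subgroup.centralizer (Q : Set H)))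
  have h3 : Nat.card (K.subgroupOf (Subgroup.centralizer (Q : Set H))) =
      Nat.card ↥(K ⊓ Subgroup.centralizer (Q : Set H)) := by
    rw [← Subgroup.inf_subgroupOf_right]
    exact Nat.card_congr (Subgroup.subgroupOfEquivOfLe inf_le_right).toEquiv
  rw [h3] at h2
  unfold Subgroup.relIndex at h1
  rw [h1] at h2
  omega

end centralizer

end Cfsg.Agent.Lib.Helper7.KG
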