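import Mathlib
import Cfsg.Prelude
import Cfsg.Agent.Lib.Helper7.KFB
import Cfsg.Agent.Lib.Helper28.SectionC
import Cfsg.Agent.Lib.Helper28.SectionD
import Cfsg.Agent.Lib.Helper28.GreenVanJ
import Cfsg.Agent.Lib.Helper4.KerPPrime

set_option autoImplicit false
open Cfsg

/-! Klein four Sylow 2-subgroups: the principal block of the centralizer of an involution and the
projection of a character to it. -/

namespace Cfsg.Agent.Lib.Helper7.KG

open scoped ComplexConjugate

variable {G : Type*} [Group G] [Fintype G] {M : Ideal AlgInt}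

open scoped Classical in
theorem mem_principalBlock_iff (hM : IsPModular 2 M) (J : G) (hJ2 : orderOf J = 2)
    [Fintype (IrrCharacter G)]
    (K : Subgroup (Subgroup.centralizer ({J} : Set G))) [K.Normal] (hKi : K.index = 4)
    (hKc : (Nat.card K).Coprime 2)
    (hcol : ∑ χ : IrrCharacter G, (if χ ∈ principalBlock M G then
        (χ : G → ℂ) J * conj ((χ : G → ℂ) J) else 0) = 4)
    (ψ : IrrCharacter (Subgroup.centralizer ({J} : Set G))) :
    ψ ∈ principalBlock M (Subgroup.centralizer ({J} : Set G)) ↔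
      ∀ n ∈ K, (ψ : Subgroup.centralizer ({J} : Set G) → ℂ) n =
        (ψ : Subgroup.centralizer ({J} : Set G) → ℂ) 1 := by
  haveI : Fact (Nat.Prime 2) := ⟨Nat.prime_two⟩
  haveI : Fintype (Subgroup.centralizer ({J} : Set G)) := Fintype.ofFinite _
  haveI : Fintype (IrrCharacter (Subgroup.centralizer ({J} : Set G))) := Fintype.ofFinite _
  have hdeg : ∀ ψ : IrrCharacter (Subgroup.centralizer ({J} : Set G)), ∃ n : ℕ, 0 < n ∧
      (ψ : Subgroup.centralizer ({J} : Set G) → ℂ) 1 = n := fun ψ =>
    Cfsg.Agent.Lib.Helper26.irr_degree ψ.2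
  choose d hdpos hd using hdeg
  have hle : ∀ ψ : IrrCharacter (Subgroup.centralizer ({J} : Set G)),
      ψ ∈ principalBlock M (Subgroup.centralizer ({J} : Set G)) →
      ∀ n ∈ K, (ψ : Subgroup.centralizer ({J} : Set G) → ℂ) n =
        (ψ : Subgroup.centralizer ({J} : Set G) → ℂ) 1 := by
    intro ψ hψ n hn
    exact Cfsg.Agent.Lib.Helper28.principalBlock_trivial_on_pPrimeCore hM ψ hψ n
      (Cfsg.Agent.Lib.Helper20.le_pPrimeCore' inferInstance hKc hn)
  have hcolC := Cfsg.Agent.Lib.Helper28.principal_column_norm hM J ⟨1, by rw [hJ2, pow_one]⟩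
  rw [hcol] at hcolC
  have h1 := Cfsg.Agent.Lib.Helper4.sum_sq_degree_ker K
  rw [hKi, Finset.sum_filter] at h1
  have ha : (∑ ψ : IrrCharacter (Subgroup.centralizer ({J} : Set G)),
      (if ψ ∈ principalBlock M (Subgroup.centralizer ({J} : Set G)) then d ψ ^ 2 else 0) : ℕ)
      = 4 := by
    have : ((∑ ψ : IrrCharacter (Subgroup.centralizer ({J} : Set G)),
        (if ψ ∈ principalBlock M (Subgroup.centralizer ({J} : Set G)) then d ψ ^ 2 else 0) : ℕ)
          : ℂ) = ((4 : ℕ) : ℂ) := by
      rw [Nat.cast_ofNat, hcolC]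
      push_cast
      refine Finset.sum_congr rfl fun ψ _ => ?_
      split_ifs
      · rw [hd, Complex.conj_natCast]; ring
      · rfl
    exact_mod_cast this
  have hb : (∑ ψ : IrrCharacter (Subgroup.centralizer ({J} : Set G)),
      (if (∀ n ∈ K, (ψ : Subgroup.centralizer ({J} : Set G) → ℂ) n =
        (ψ : Subgroup.centralizer ({J} : Set G) → ℂ) 1) then d ψ ^ 2 else 0) : ℕ) = 4 := by
    have : ((∑ ψ : IrrCharacter (Subgroup.centralizer ({J} : Set G)),
        (if (∀ n ∈ K, (ψ : Subgroup.centralizer ({J} : Set G) → ℂ) n =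
          (ψ : Subgroup.centralizer ({J} : Set G) → ℂ) 1) then d ψ ^ 2 else 0) : ℕ) : ℂ) =
        ((4 : ℕ) : ℂ) := by
      rw [← h1]
      push_cast
      refine Finset.sum_congr rfl fun ψ _ => ?_
      split_ifs
      · rw [hd]
      · rfl
    exact_mod_cast this
  have hab : ∀ ψ ∈ (Finset.univ : Finset (IrrCharacter (Subgroup.centralizer ({J} : Set G)))),
      (if ψ ∈ principalBlock M (Subgroup.centralizer ({J} : Set G)) then d ψ ^ 2 else 0) ≤
      (if (∀ n ∈ K, (ψ : Subgroup.centralizer ({J} : Set G) → ℂ) n =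
        (ψ : Subgroup.centralizer ({J} : Set G) → ℂ) 1) then d ψ ^ 2 else 0) := by
    intro ψ _
    by_cases hψ : ψ ∈ principalBlock M (Subgroup.centralizer ({J} : Set G))
    · rw [if_pos hψ, if_pos (hle ψ hψ)]
    · rw [if_neg hψ]; exact Nat.zero_le _
  have heq := (Finset.sum_eq_sum_iff_of_le hab).mp (ha.trans hb.symm)
  constructor
  · exact hle ψ
  · intro htriv
    by_contra hψ
    have h2 := heq ψ (Finset.mem_univ _)
    rw [if_neg hψ, if_pos htriv] at h2
    have h3 := hdpos ψ
    have h4 : 0 < d ψ ^ 2 := by positivity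
    omega

open scoped Classical in
theorem blockCoeff_principal (hM : IsPModular 2 M) (J : G) (hJ2 : orderOf J = 2)
    [Fintype (IrrCharacter G)]
    (K : Subgroup (Subgroup.centralizer ({J} : Set G))) [K.Normal] (hKi : K.index = 4)
    (hKc : (Nat.card K).Coprime 2)
    (hcol : ∑ χ : IrrCharacter G, (if χ ∈ principalBlock M G then
        (χ : G → ℂ) J * conj ((χ : G → ℂ) J) else 0) = 4)
    [Fintype (Subgroup.centralizer ({J} : Set G))] (k : Subgroup.centralizer ({J} : Set G)) :
    blockCoeff (principalBlock M (Subgroup.centralizer ({J} : Set G))) k =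
      if k ∈ K then 4 / (Nat.card (Subgroup.centralizer ({J} : Set G)) : ℂ) else 0 := by
  haveI : Fintype (IrrCharacter (Subgroup.centralizer ({J} : Set G))) := Fintype.ofFinite _
  rw [Cfsg.Agent.Lib.Helper28.blockCoeff_eq_sum]
  have h2 := Cfsg.Agent.Lib.Helper4.sum_degree_mul_ker K k
  rw [hKi, Finset.sum_filter] at h2
  have h3 : ∑ ψ : IrrCharacter (Subgroup.centralizer ({J} : Set G)),
      (if ψ ∈ principalBlock M (Subgroup.centralizer ({J} : Set G)) then
        (ψ : Subgroup.centralizer ({J} : Set G) → ℂ) 1 *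
          conj ((ψ : Subgroup.centralizer ({J} : Set G) → ℂ) k) else 0) =
      conj (∑ ψ : IrrCharacter (Subgroup.centralizer ({J} : Set G)),
        (if (∀ n ∈ K, (ψ : Subgroup.centralizer ({J} : Set G) → ℂ) n =
          (ψ : Subgroup.centralizer ({J} : Set G) → ℂ) 1) then
          (ψ : Subgroup.centralizer ({J} : Set G) → ℂ) 1 *
            (ψ : Subgroup.centralizer ({J} : Set G) → ℂ) k else 0)) := by
    rw [map_sum]
    refine Finset.sum_congr rfl fun ψ _ => ?_
    have hiff := mem_principalBlock_iff hM J hJ2 K hKi hKc hcol ψ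
    obtain ⟨n, -, hn⟩ := Cfsg.Agent.Lib.Helper26.irr_degree ψ.2
    by_cases hψ : ψ ∈ principalBlock M (Subgroup.centralizer ({J} : Set G))
    · rw [if_pos hψ, if_pos (hiff.mp hψ), map_mul, hn, Complex.conj_natCast]
    · rw [if_neg hψ, if_neg (fun h => hψ (hiff.mpr h)), map_zero]
  rw [h3, h2]
  by_cases hk : k ∈ K
  · rw [if_pos hk, if_pos hk, Complex.conj_natCast]
    push_cast
    ring
  · rw [if_neg hk, if_neg hk, map_zero, mul_zero]

open scoped Classical in
theorem proj_sum (hM : IsPModular 2 M) (J : G) (hJ2 : orderOf J = 2)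
    [Fintype (IrrCharacter G)]
    (K : Subgroup (Subgroup.centralizer ({J} : Set G))) [K.Normal] (hKi : K.index = 4)
    (hKc : (Nat.card K).Coprime 2)
    (hcol : ∑ χ : IrrCharacter G, (if χ ∈ principalBlock M G then
        (χ : G → ℂ) J * conj ((χ : G → ℂ) J) else 0) = 4)
    [Fintype (Subgroup.centralizer ({J} : Set G))] [Fintype K] (χ : IrrCharacter G) :
    (4 : ℂ) * ∑ k : K, (χ : G → ℂ) (J * ((k : Subgroup.centralizer ({J} : Set G)) : G)) =
      if χ ∈ principalBlock M G then
        (Nat.card (Subgroup.centralizer ({J} : Set G)) : ℂ) * (χ : G → ℂ) J else 0 := by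
  haveI : Fact (Nat.Prime 2) := ⟨Nat.prime_two⟩
  have hu : ∃ k : ℕ, orderOf J = 2 ^ k := ⟨1, by rw [hJ2, pow_one]⟩
  have hcomm : ∀ k : Subgroup.centralizer ({J} : Set G), (k : G) * J = J * k := fun k =>
    (Subgroup.mem_centralizer_iff.mp k.2 J rfl).symm
  have hC : ∀ g : G, g ∈ Subgroup.centralizer ({J} : Set G) ↔ g * J = J * g := by
    intro g
    rw [Subgroup.mem_centralizer_iff]
    constructor
    · intro h; exact (h J rfl).symm
    · intro h x hx; rw [Set.mem_singleton_iff.mp hx]; exact h.symm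
  have hcard0 : (Nat.card (Subgroup.centralizer ({J} : Set G)) : ℂ) ≠ 0 :=
    Nat.cast_ne_zero.mpr Nat.card_pos.ne'
  have hS : ∑ k : Subgroup.centralizer ({J} : Set G),
      blockCoeff (principalBlock M (Subgroup.centralizer ({J} : Set G))) k *
        (χ : G → ℂ) (J * (k : G)) =
      (Nat.card (Subgroup.centralizer ({J} : Set G)) : ℂ)⁻¹ *
        ((4 : ℂ) * ∑ k : K, (χ : G → ℂ) (J * ((k : Subgroup.centralizer ({J} : Set G)) : G))) := by
    rw [Finset.mul_sum, Finset.mul_sum,
      ← Finset.sum_subtype (Finset.univ.filter (fun k : Subgroup.centralizer ({J} : Set G) => k ∈ K))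
        (by simp) (fun k : Subgroup.centralizer ({J} : Set G) =>
          (Nat.card (Subgroup.centralizer ({J} : Set G)) : ℂ)⁻¹ *
            ((4 : ℂ) * (χ : G → ℂ) (J * (k : G)))), Finset.sum_filter]
    refine Finset.sum_congr rfl fun k _ => ?_
    rw [blockCoeff_principal hM J hJ2 K hKi hKc hcol k]
    by_cases hk : k ∈ K
    · rw [if_pos hk, if_pos hk]; field_simp
    · rw [if_neg hk, if_neg hk, zero_mul]
  have h1 : ¬ 2 ∣ orderOf (1 : Subgroup.centralizer ({J} : Set G)) := by
    rw [orderOf_one]; norm_num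
  by_cases hχ : χ ∈ principalBlock M G
  · rw [if_pos hχ]
    have h2 := Cfsg.Agent.Lib.Helper28.principal_section_formula hM J hu χ hχ
      (1 : Subgroup.centralizer ({J} : Set G)) h1
    rw [Subgroup.coe_one, mul_one] at h2
    have h3 : ∑ k : Subgroup.centralizer ({J} : Set G),
        blockCoeff (principalBlock M (Subgroup.centralizer ({J} : Set G))) k *
          (χ : G → ℂ) ((k : G) * J) = ∑ k : Subgroup.centralizer ({J} : Set G),
        blockCoeff (principalBlock M (Subgroup.centralizer ({J} : Set G))) k *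
          (χ : G → ℂ) (J * (k : G)) :=
      Finset.sum_congr rfl fun k _ => by rw [hcomm k]
    rw [h3, hS] at h2
    rw [h2]
    field_simp
  · rw [if_neg hχ]
    have h2 := Cfsg.Agent.Lib.Helper28.section_blockPart_eq_zero hM J hu
      (Subgroup.centralizer ({J} : Set G)) hC
      (Cfsg.Agent.Lib.Helper28.principal_induced_centralizer hM J hu) χ hχ 1 h1
    rw [Cfsg.Agent.Lib.Helper28.blockPart_eq_sum_blockCoeff _ _
      (Cfsg.Agent.Lib.Helper28.isClassFunction_shiftRes J _ hC
        (Cfsg.Agent.Lib.Helper4.isClassFunction_of_isIrrCharacter χ.2))] at h2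
    have h3 : ∑ k : Subgroup.centralizer ({J} : Set G),
        blockCoeff (principalBlock M (Subgroup.centralizer ({J} : Set G))) k *
          Cfsg.Agent.Lib.Helper28.shiftRes J (Subgroup.centralizer ({J} : Set G)) (χ : G → ℂ)
            (k * 1) = ∑ k : Subgroup.centralizer ({J} : Set G),
        blockCoeff (principalBlock M (Subgroup.centralizer ({J} : Set G))) k *
          (χ : G → ℂ) (J * (k : G)) :=
      Finset.sum_congr rfl fun k _ => by rw [mul_one]; rfl
    rw [h3, hS] at h2
    have h4 := (mul_eq_zero.mp h2).resolve_left (inv_ne_zero hcard0)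
    exact h4

end Cfsg.Agent.Lib.Helper7.KG
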