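import Mathlib
import Cfsg.Prelude
import Cfsg.Agent.Lib.Helper7.KGB
import Cfsg.Agent.Lib.Helper7.KGC
import Cfsg.Agent.Lib.Helper4.ClassMult

set_option autoImplicit false
open Cfsg

/-! Klein four Sylow 2-subgroups: counting pairs of involutions with product in `J K`. -/

namespace Cfsg.Agent.Lib.Helper7.KG

open scoped ComplexConjugate

section inversion

variable {G : Type*} [Group G]

/-- if the product of two involutions is `J k` with `k` of odd order commuting with the
involution `J`, then the first involution centralizes `J` -/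
theorem commute_of_prod (J p₁ p₂ k : G) (n : ℕ) (hn : Odd n) (hk : k ^ n = 1)
    (hJk : J * k = k * J) (hJJ : J * J = 1) (h1 : p₁ * p₁ = 1) (h2 : p₂ * p₂ = 1)
    (hprod : p₁ * p₂ = J * k) : p₁ * J = J * p₁ := by
  have hp1 : p₁⁻¹ = p₁ := inv_eq_of_mul_eq_one_left h1
  have hp2 : p₂⁻¹ = p₂ := inv_eq_of_mul_eq_one_left h2
  have hJinv : J⁻¹ = J := inv_eq_of_mul_eq_one_left hJJ
  have hc : p₁ * (J * k) * p₁⁻¹ = (J * k)⁻¹ := by
    rw [← hprod, mul_inv_rev, hp1, hp2, ← mul_assoc, h1, one_mul]
  have hJn : J ^ n = J := by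
    obtain ⟨j, rfl⟩ := hn
    rw [pow_succ, pow_mul, pow_two, hJJ, one_pow, one_mul]
  have hpow : (J * k) ^ n = J := by
    have hcm : Commute J k := hJk
    rw [hcm.mul_pow, hk, mul_one, hJn]
  have h3 : p₁ * J * p₁⁻¹ = J := by
    calc p₁ * J * p₁⁻¹ = p₁ * (J * k) ^ n * p₁⁻¹ := by rw [hpow]
      _ = (p₁ * (J * k) * p₁⁻¹) ^ n := (conj_pow).symm
      _ = ((J * k) ^ n)⁻¹ := by rw [hc, inv_pow]
      _ = J := by rw [hpow, hJinv]
  calc p₁ * J = (p₁ * J * p₁⁻¹) * p₁ := by group
    _ = J * p₁ := by rw [h3]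

end inversion

section count

variable {G : Type*} [Group G] [Fintype G]

open scoped Classical in
theorem sum_class_mult_eq_pairCount (J : G) (hJ2 : orderOf J = 2)
    (hone : ∀ s t : G, orderOf s = 2 → orderOf t = 2 → IsConj s t)
    (hJmem : J ∈ Subgroup.centralizer ({J} : Set G))
    [Fintype (Subgroup.centralizer ({J} : Set G))]
    (K : Subgroup (Subgroup.centralizer ({J} : Set G))) [Fintype K] (hodd : Odd (Nat.card K)) :
    ∑ k : K, (Finset.univ.filter (fun p : G × G => IsConj J p.1 ∧ IsConj J p.2 ∧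
      p.1 * p.2 = J * ((k : Subgroup.centralizer ({J} : Set G)) : G))).card =
      pairCount K (⟨J, hJmem⟩ : Subgroup.centralizer ({J} : Set G)) := by
  have hJJ : J * J = 1 := by rw [← pow_two, ← hJ2]; exact pow_orderOf_eq_one J
  have hsq : ∀ x : G, orderOf x = 2 → x * x = 1 := by
    intro x hx; rw [← pow_two, ← hx]; exact pow_orderOf_eq_one x
  have hord : ∀ x : G, IsConj J x → orderOf x = 2 := by
    rintro x ⟨c, hc⟩
    rw [← hc.orderOf_eq, hJ2]
  have hD2 : ∀ k : K, (Finset.univ.filter (fun p : G × G => IsConj J p.1 ∧ IsConj J p.2 ∧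
      p.1 * p.2 = J * ((k : Subgroup.centralizer ({J} : Set G)) : G))).card =
      (Finset.univ.filter (fun x : Subgroup.centralizer ({J} : Set G) => orderOf x = 2 ∧
        orderOf (x⁻¹ * (⟨J, hJmem⟩ : Subgroup.centralizer ({J} : Set G)) *
          (k : Subgroup.centralizer ({J} : Set G))) = 2)).card := by
    intro k
    symm
    apply Finset.card_bij (fun (x : Subgroup.centralizer ({J} : Set G)) _ =>
      ((x : G), (x : G)⁻¹ * J * ((k : Subgroup.centralizer ({J} : Set G)) : G)))
    · intro x hx
      rw [Finset.mem_filter] at hx ⊢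
      obtain ⟨-, hx1, hx2⟩ := hx
      refine ⟨Finset.mem_univ _, hone J x hJ2 (by rw [Subgroup.orderOf_coe]; exact hx1),
        hone J _ hJ2 ?_, by group⟩
      have : ((x⁻¹ * (⟨J, hJmem⟩ : Subgroup.centralizer ({J} : Set G)) *
          (k : Subgroup.centralizer ({J} : Set G)) : Subgroup.centralizer ({J} : Set G)) : G) =
          (x : G)⁻¹ * J * ((k : Subgroup.centralizer ({J} : Set G)) : G) := by
        rw [Subgroup.coe_mul, Subgroup.coe_mul, Subgroup.coe_inv]
      rw [← this, Subgroup.orderOf_coe]; exact hx2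
    · intro x _ y _ h
      exact Subtype.ext (congrArg Prod.fst h)
    · intro p hp
      rw [Finset.mem_filter] at hp
      obtain ⟨-, hp1, hp2, hprod⟩ := hp
      have ho1 : orderOf p.1 = 2 := hord _ hp1
      have ho2 : orderOf p.2 = 2 := hord _ hp2
      have hkn : (((k : Subgroup.centralizer ({J} : Set G)) : G)) ^ (Nat.card K) = 1 := by
        have h1 : (k : K) ^ (Nat.card K) = 1 := pow_card_eq_one'
        have h2 : (((k ^ Nat.card K : K) : Subgroup.centralizer ({J} : Set G)) : G) = 1 := by
          rw [h1]; rfl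
        rw [Subgroup.coe_pow, Subgroup.coe_pow] at h2
        exact h2
      have hJk : J * ((k : Subgroup.centralizer ({J} : Set G)) : G) =
          ((k : Subgroup.centralizer ({J} : Set G)) : G) * J :=
        Subgroup.mem_centralizer_iff.mp (k : Subgroup.centralizer ({J} : Set G)).2 J rfl
      have hcm := commute_of_prod J p.1 p.2 _ (Nat.card K) hodd hkn hJk hJJ (hsq _ ho1)
        (hsq _ ho2) hprod
      have hmem : p.1 ∈ Subgroup.centralizer ({J} : Set G) := by
        rw [Subgroup.mem_centralizer_iff]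
        intro h hh
        rw [Set.mem_singleton_iff.mp hh]
        exact hcm.symm
      have hp2eq : p.1⁻¹ * J * ((k : Subgroup.centralizer ({J} : Set G)) : G) = p.2 := by
        rw [mul_assoc, ← hprod]; group
      refine ⟨⟨p.1, hmem⟩, ?_, ?_⟩
      · rw [Finset.mem_filter]
        refine ⟨Finset.mem_univ _, ?_, ?_⟩
        · rw [← Subgroup.orderOf_coe]; exact ho1
        · rw [← Subgroup.orderOf_coe, Subgroup.coe_mul, Subgroup.coe_mul, Subgroup.coe_inv]
          show orderOf (p.1⁻¹ * J * ((k : Subgroup.centralizer ({J} : Set G)) : G)) = 2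
          rw [hp2eq]; exact ho2
      · exact Prod.ext rfl hp2eq
  rw [Finset.sum_congr rfl fun k _ => hD2 k]
  unfold pairCount
  simp only [Finset.card_filter]
  rw [Finset.sum_comm]
  refine Finset.sum_congr rfl fun x _ => ?_
  by_cases hx : orderOf x = 2
  · rw [if_pos hx]
    unfold invCount
    rw [Nat.card_eq_fintype_card, Fintype.card_subtype, Finset.card_filter]
    refine Finset.sum_congr rfl fun k _ => ?_
    simp only [hx, true_and]
  · rw [if_neg hx]
    apply Finset.sum_eq_zero
    intro k _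
    simp only [hx, false_and, if_false]

end count

end Cfsg.Agent.Lib.Helper7.KG
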