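import Mathlib
import Cfsg.Prelude
import Cfsg.Agent.Lib.Helper7.KGD

set_option autoImplicit false
open Cfsg

/-! Klein four Sylow 2-subgroups: Brauer's order identity. -/

namespace Cfsg.Agent.Lib.Helper7.KG

open scoped ComplexConjugate

variable {G : Type*} [Group G] [Fintype G] {M : Ideal AlgInt}

open scoped Classical in
theorem char_sum (hM : IsPModular 2 M) (J : G) (hJ2 : orderOf J = 2)
    [Fintype (IrrCharacter G)]
    (K : Subgroup (Subgroup.centralizer ({J} : Set G))) [K.Normal] (hKi : K.index = 4)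
    (hKc : (Nat.card K).Coprime 2)
    (hcol : ∑ χ : IrrCharacter G, (if χ ∈ principalBlock M G then
        (χ : G → ℂ) J * conj ((χ : G → ℂ) J) else 0) = 4)
    [Fintype (Subgroup.centralizer ({J} : Set G))] [Fintype K] :
    (4 : ℂ) * (∑ k : K, ((Finset.univ.filter (fun p : G × G => IsConj J p.1 ∧ IsConj J p.2 ∧
      p.1 * p.2 = J * ((k : Subgroup.centralizer ({J} : Set G)) : G))).card : ℂ)) *
        (Nat.card (Subgroup.centralizer ({J} : Set G)) : ℂ) =
      (Nat.card G : ℂ) * ∑ χ : IrrCharacter G, (if χ ∈ principalBlock M G then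
        (χ : G → ℂ) J * (χ : G → ℂ) J * conj ((χ : G → ℂ) J) / (χ : G → ℂ) 1 else 0) := by
  have hcJ : (Nat.card (Subgroup.centralizer ({J} : Set G)) : ℂ) ≠ 0 :=
    Nat.cast_ne_zero.mpr Nat.card_pos.ne'
  simp only [Cfsg.Agent.Lib.Helper4.card_class_mult J J]
  rw [← Finset.mul_sum, Finset.sum_comm]
  have h1 : ∀ χ : IrrCharacter G, ∑ k : K, (χ : G → ℂ) J * (χ : G → ℂ) J *
      conj ((χ : G → ℂ) (J * ((k : Subgroup.centralizer ({J} : Set G)) : G))) / (χ : G → ℂ) 1 =
      (χ : G → ℂ) J * (χ : G → ℂ) J / (χ : G → ℂ) 1 *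
        conj (∑ k : K, (χ : G → ℂ) (J * ((k : Subgroup.centralizer ({J} : Set G)) : G))) := by
    intro χ
    rw [map_sum, Finset.mul_sum]
    refine Finset.sum_congr rfl fun k _ => by ring
  have h2 : ∀ χ : IrrCharacter G, (4 : ℂ) *
      conj (∑ k : K, (χ : G → ℂ) (J * ((k : Subgroup.centralizer ({J} : Set G)) : G))) =
      if χ ∈ principalBlock M G then
        (Nat.card (Subgroup.centralizer ({J} : Set G)) : ℂ) * conj ((χ : G → ℂ) J) else 0 := by
    intro χ
    have h := congrArg conj (proj_sum hM J hJ2 K hKi hKc hcol χ)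
    rw [map_mul, Complex.conj_ofNat] at h
    rw [h]
    split_ifs
    · rw [map_mul, Complex.conj_natCast]
    · rw [map_zero]
  rw [Finset.sum_congr rfl fun χ _ => h1 χ]
  calc (4 : ℂ) * ((Nat.card G : ℂ) / ((Nat.card (Subgroup.centralizer ({J} : Set G)) : ℂ) *
          (Nat.card (Subgroup.centralizer ({J} : Set G)) : ℂ)) *
        ∑ χ : IrrCharacter G, (χ : G → ℂ) J * (χ : G → ℂ) J / (χ : G → ℂ) 1 *
          conj (∑ k : K, (χ : G → ℂ) (J * ((k : Subgroup.centralizer ({J} : Set G)) : G)))) *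
        (Nat.card (Subgroup.centralizer ({J} : Set G)) : ℂ)
      = (Nat.card G : ℂ) / (Nat.card (Subgroup.centralizer ({J} : Set G)) : ℂ) *
        ∑ χ : IrrCharacter G, (χ : G → ℂ) J * (χ : G → ℂ) J / (χ : G → ℂ) 1 *
          ((4 : ℂ) * conj (∑ k : K, (χ : G → ℂ)
            (J * ((k : Subgroup.centralizer ({J} : Set G)) : G)))) := by
        rw [Finset.mul_sum, Finset.mul_sum, Finset.mul_sum, Finset.sum_mul]
        refine Finset.sum_congr rfl fun χ _ => ?_
        field_simp
    _ = (Nat.card G : ℂ) * ∑ χ : IrrCharacter G, (if χ ∈ principalBlock M G then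
        (χ : G → ℂ) J * (χ : G → ℂ) J * conj ((χ : G → ℂ) J) / (χ : G → ℂ) 1 else 0) := by
        rw [Finset.mul_sum, Finset.mul_sum]
        refine Finset.sum_congr rfl fun χ _ => ?_
        rw [h2 χ]
        split_ifs
        · field_simp
        · ring

open scoped Classical in
/-- **Brauer's order identity** for a four-group Sylow `2`-subgroup with one class of
involutions. -/
theorem order_identity (hM : IsPModular 2 M) (P : Sylow 2 G)
    (hK4 : IsKleinFour (P : Subgroup G)) (J : G) (hJ : J ∈ (P : Subgroup G))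
    (hJ2 : orderOf J = 2)
    (hone : ∀ s t : G, orderOf s = 2 → orderOf t = 2 → IsConj s t)
    [Fintype (IrrCharacter G)]
    (hcol : ∑ χ : IrrCharacter G, (if χ ∈ principalBlock M G then
        (χ : G → ℂ) J * conj ((χ : G → ℂ) J) else 0) = 4) :
    (Nat.card G : ℂ) * (∑ χ : IrrCharacter G, (if χ ∈ principalBlock M G then
        (χ : G → ℂ) J * (χ : G → ℂ) J * conj ((χ : G → ℂ) J) / (χ : G → ℂ) 1 else 0)) *
      (Nat.card (Subgroup.centralizer ((P : Subgroup G) : Set G)) : ℂ) ^ 2 =
      8 * (Nat.card (Subgroup.centralizer ({J} : Set G)) : ℂ) ^ 3 := by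
  haveI : Fact (Nat.Prime 2) := ⟨Nat.prime_two⟩
  haveI := hK4
  have hJ1 : J ≠ 1 := by
    intro h; rw [h, orderOf_one] at hJ2; omega
  obtain ⟨K, hKn, hKi, hKc⟩ := Cfsg.Agent.Lib.Helper7.KF.centralizer_complement P J hJ hJ1
  haveI := hKn
  haveI : Fintype (Subgroup.centralizer ({J} : Set G)) := Fintype.ofFinite _
  haveI : Fintype K := Fintype.ofFinite _
  have hle : (P : Subgroup G) ≤ Subgroup.centralizer ({J} : Set G) := by
    intro x hx
    rw [Subgroup.mem_centralizer_iff]
    intro h hh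
    rw [Set.mem_singleton_iff.mp hh]
    exact Cfsg.Agent.Lib.Helper7.KF.klein_comm (P : Subgroup G) J x hJ hx
  obtain ⟨Q, hQdef⟩ : ∃ Q : Subgroup (Subgroup.centralizer ({J} : Set G)),
      Q = (P : Subgroup G).subgroupOf (Subgroup.centralizer ({J} : Set G)) := ⟨_, rfl⟩
  have e : Q ≃* (P : Subgroup G) :=
    (MulEquiv.subgroupCongr hQdef).trans (Subgroup.subgroupOfEquivOfLe hle)
  have hQ : IsKleinFour Q :=
    ⟨by rw [Nat.card_congr e.toEquiv]; exact IsKleinFour.card_four,
     by rw [Monoid.exponent_eq_of_mulEquiv e]; exact IsKleinFour.exponent_two⟩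
  have hoddK : Odd (Nat.card K) := Nat.coprime_two_right.mp hKc
  have hcardH : Nat.card (Subgroup.centralizer ({J} : Set G)) = 4 * Nat.card K := by
    rw [← hKi, mul_comm]; exact (Subgroup.card_mul_index K).symm
  have hc : Subgroup.IsComplement' Q K := by
    apply Subgroup.isComplement'_of_coprime
    · rw [hQ.card_four, hcardH]
    · rw [hQ.card_four]
      have : (4 : ℕ) = 2 ^ 2 := by norm_num
      rw [this]
      exact (Nat.Coprime.pow_left 2 hKc.symm)
  have hJmem : J ∈ Subgroup.centralizer ({J} : Set G) := hle hJ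
  have hzQ : (⟨J, hJmem⟩ : Subgroup.centralizer ({J} : Set G)) ∈ Q := by
    rw [hQdef, Subgroup.mem_subgroupOf]; exact hJ
  have hz1 : (⟨J, hJmem⟩ : Subgroup.centralizer ({J} : Set G)) ≠ 1 :=
    fun h => hJ1 (congrArg Subtype.val h)
  have hzc : ∀ h : Subgroup.centralizer ({J} : Set G),
      h * (⟨J, hJmem⟩ : Subgroup.centralizer ({J} : Set G)) = ⟨J, hJmem⟩ * h := by
    intro h
    apply Subtype.ext
    rw [Subgroup.coe_mul, Subgroup.coe_mul]
    exact (Subgroup.mem_centralizer_iff.mp h.2 J (Set.mem_singleton J)).symm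
  have hpc := pairCount_mul Q K hQ hoddK hc _ hzQ hz1 hzc
  have hcent := card_centralizer_four Q K hQ hc
  have hcP : Nat.card (Subgroup.centralizer (Q : Set (Subgroup.centralizer ({J} : Set G)))) =
      Nat.card (Subgroup.centralizer ((P : Subgroup G) : Set G)) := by
    have hle2 : Subgroup.centralizer ((P : Subgroup G) : Set G) ≤
        Subgroup.centralizer ({J} : Set G) :=
      Subgroup.centralizer_le (Set.singleton_subset_iff.mpr hJ)
    have heq : Subgroup.centralizer (Q : Set (Subgroup.centralizer ({J} : Set G))) =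
        (Subgroup.centralizer ((P : Subgroup G) : Set G)).subgroupOf
          (Subgroup.centralizer ({J} : Set G)) := by
      ext x
      rw [Subgroup.mem_subgroupOf, Subgroup.mem_centralizer_iff, Subgroup.mem_centralizer_iff]
      constructor
      · intro h p hp
        have := h ⟨p, hle hp⟩ (by
          rw [hQdef]; exact Subgroup.mem_subgroupOf.mpr hp)
        exact congrArg Subtype.val this
      · intro h q hq
        rw [hQdef] at hq
        apply Subtype.ext
        rw [Subgroup.coe_mul, Subgroup.coe_mul]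
        exact h q (Subgroup.mem_subgroupOf.mp hq)
    rw [heq]
    exact Nat.card_congr (Subgroup.subgroupOfEquivOfLe hle2).toEquiv
  have hT := char_sum hM J hJ2 K hKi hKc hcol
  have hcount := sum_class_mult_eq_pairCount J hJ2 hone hJmem K hoddK
  rw [← Nat.cast_sum, hcount] at hT
  rw [← hcP, hcent, hcardH]
  rw [hcardH] at hT
  have hpcC : ((pairCount K (⟨J, hJmem⟩ : Subgroup.centralizer ({J} : Set G)) : ℕ) : ℂ) *
      ((Nat.card ↥(K ⊓ Subgroup.centralizer (Q : Set (Subgroup.centralizer ({J} : Set G)))) : ℕ)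
        : ℂ) ^ 2 = 2 * ((Nat.card K : ℕ) : ℂ) ^ 2 := by
    exact_mod_cast hpc
  push_cast at hT ⊢
  rw [mul_assoc (Nat.card G : ℂ), mul_comm (Nat.card G : ℂ), mul_assoc] at *
  linear_combination (16 : ℂ) *
    ((Nat.card ↥(K ⊓ Subgroup.centralizer (Q : Set (Subgroup.centralizer ({J} : Set G)))) : ℕ)
      : ℂ) ^ 2 * hT.symm + 64 * 4 * (Nat.card K : ℂ) * hpcC
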