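import Mathlib
import Cfsg.Prelude
import Cfsg.Agent.Lib.Helper7.KGC
import Cfsg.Agent.Lib.Helper7.KFD
import Cfsg.Agent.Lib.Helper28.DualRep
import Cfsg.Agent.Lib.Helper4.CharOrtho

set_option autoImplicit false
open Cfsg

/-! Klein four Sylow 2-subgroups: complex conjugation on the principal block and the
block-projected count of square roots. -/

namespace Cfsg.Agent.Lib.Helper7.KG

open scoped ComplexConjugate

section conjugation

variable {G : Type*} [Group G] [Finite G] {M : Ideal AlgInt}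

/-- the principal block is closed under complex conjugation -/
theorem irrConj_mem_principalBlock (χ : IrrCharacter G) (hχ : χ ∈ principalBlock M G) :
    Cfsg.Agent.Lib.Helper28.irrConj χ ∈ principalBlock M G := by
  show ∀ g : G, MemLocalIdeal M (centralChar (fun _ : G => (1 : ℂ)) g -
    centralChar ((Cfsg.Agent.Lib.Helper28.irrConj χ : IrrCharacter G) : G → ℂ) g)
  intro g
  have h : MemLocalIdeal M (centralChar (fun _ : G => (1 : ℂ)) g⁻¹ -
    centralChar (χ : G → ℂ) g⁻¹) := hχ g⁻¹
  have hidx : Subgroup.centralizer ({g⁻¹} : Set G) = Subgroup.centralizer ({g} : Set G) := by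
    ext x
    simp only [Subgroup.mem_centralizer_iff, Set.mem_singleton_iff, forall_eq]
    constructor
    · intro hx
      calc g * x = g * (x * g⁻¹) * g := by group
        _ = g * (g⁻¹ * x) * g := by rw [hx]
        _ = x * g := by group
    · intro hx
      calc g⁻¹ * x = g⁻¹ * (x * g) * g⁻¹ := by group
        _ = g⁻¹ * (g * x) * g⁻¹ := by rw [hx]
        _ = x * g⁻¹ := by group
  obtain ⟨n, -, hn⟩ := Cfsg.Agent.Lib.Helper26.irr_degree χ.2
  have hχc := Cfsg.Agent.Lib.Helper26.isCharacter_of_isIrrCharacter χ.2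
  have h1 : centralChar (fun _ : G => (1 : ℂ)) g -
      centralChar ((Cfsg.Agent.Lib.Helper28.irrConj χ : IrrCharacter G) : G → ℂ) g =
      centralChar (fun _ : G => (1 : ℂ)) g⁻¹ - centralChar (χ : G → ℂ) g⁻¹ := by
    unfold centralChar
    rw [hidx, Cfsg.Agent.Lib.Helper28.irrConj_apply, Cfsg.Agent.Lib.Helper28.irrConj_apply,
      Cfsg.Agent.Lib.Helper26.isCharacter_conj_eq_inv hχc g, hn, Complex.conj_natCast]
  rw [h1]; exact h

end conjugation

section squareRoots

variable {G : Type*} [Group G] [Fintype G] {M : Ideal AlgInt}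

open scoped Classical in
/-- the principal block part of the square root counting function vanishes at `J`: there are
no elements of order four -/
theorem fs_block_sum (hM : IsPModular 2 M) (P : Sylow 2 G) (hK4 : IsKleinFour (P : Subgroup G))
    (J : G) (hJ : J ∈ (P : Subgroup G)) (hJ2 : orderOf J = 2) [Fintype (IrrCharacter G)]
    (hcol : ∑ χ : IrrCharacter G, (if χ ∈ principalBlock M G then
        (χ : G → ℂ) J * conj ((χ : G → ℂ) J) else 0) = 4) :
    ∑ χ : IrrCharacter G, (if χ ∈ principalBlock M G then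
      (∑ s : G, conj ((χ : G → ℂ) (s * s))) * (χ : G → ℂ) J else 0) = 0 := by
  haveI : Fact (Nat.Prime 2) := ⟨Nat.prime_two⟩
  haveI := hK4
  have hJ1 : J ≠ 1 := by
    intro h; rw [h, orderOf_one] at hJ2; omega
  obtain ⟨K, hKn, hKi, hKc⟩ := Cfsg.Agent.Lib.Helper7.KF.centralizer_complement P J hJ hJ1
  haveI := hKn
  haveI : Fintype (Subgroup.centralizer ({J} : Set G)) := Fintype.ofFinite _
  haveI : Fintype K := Fintype.ofFinite _
  have hoddK : Odd (Nat.card K) := Nat.coprime_two_right.mp hKc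
  have hsq : ∀ x ∈ (P : Subgroup G), x * x = 1 := fun x hx =>
    congrArg Subtype.val (IsKleinFour.mul_self (⟨x, hx⟩ : (P : Subgroup G)))
  have hJJ : J * J = 1 := hsq J hJ
  have key : ∀ (k : K) (s : G),
      ¬ IsConj (J * ((k : Subgroup.centralizer ({J} : Set G)) : G)) (s * s) := by
    intro k s hc
    obtain ⟨g, hg⟩ := isConj_iff.mp hc
    obtain ⟨s', hs'⟩ : ∃ s' : G, s' = g⁻¹ * s * g := ⟨_, rfl⟩
    have h1 : s' * s' = J * ((k : Subgroup.centralizer ({J} : Set G)) : G) := by
      rw [hs']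
      calc g⁻¹ * s * g * (g⁻¹ * s * g) = g⁻¹ * (s * s) * g := by group
        _ = J * ((k : Subgroup.centralizer ({J} : Set G)) : G) := by rw [← hg]; group
    have hkn : (((k : Subgroup.centralizer ({J} : Set G)) : G)) ^ (Nat.card K) = 1 := by
      have h1 : (k : K) ^ (Nat.card K) = 1 := pow_card_eq_one'
      have h2 : (((k ^ Nat.card K : K) : Subgroup.centralizer ({J} : Set G)) : G) = 1 := by
        rw [h1]; rfl
      rw [Subgroup.coe_pow, Subgroup.coe_pow] at h2
      exact h2
    have hJk : Commute J ((k : Subgroup.centralizer ({J} : Set G)) : G) :=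
      Subgroup.mem_centralizer_iff.mp (k : Subgroup.centralizer ({J} : Set G)).2 J rfl
    have hJn : J ^ (Nat.card K) = J := by
      obtain ⟨j, hj⟩ := hoddK
      rw [hj, pow_succ, pow_mul, pow_two, hJJ, one_pow, one_mul]
    obtain ⟨u, hu⟩ : ∃ u : G, u = s' ^ (Nat.card K) := ⟨_, rfl⟩
    have hu2 : u * u = J := by
      calc u * u = (s' * s') ^ (Nat.card K) := by
            rw [hu, ← pow_two, ← pow_mul, mul_comm, pow_mul, pow_two]
        _ = J := by rw [h1, hJk.mul_pow, hkn, mul_one, hJn]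
    have hu4 : u ^ 4 = 1 := by
      calc u ^ 4 = (u * u) * (u * u) := by
            rw [show (4 : ℕ) = 2 + 2 from rfl, pow_add, pow_two]
        _ = 1 := by rw [hu2, hJJ]
    have hord : ∃ m : ℕ, orderOf u = 2 ^ m := by
      have h2 : orderOf u ∣ 2 ^ 2 := by
        norm_num; exact orderOf_dvd_of_pow_eq_one hu4
      obtain ⟨m, -, hm⟩ := (Nat.dvd_prime_pow Nat.prime_two).mp h2
      exact ⟨m, hm⟩
    have h3 := Cfsg.Agent.Lib.Helper7.KF.two_element_sq P hsq u hord
    rw [hu2] at h3
    exact hJ1 h3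
  have hzero : ∀ (k : K) (s : G), ∑ χ : IrrCharacter G,
      (χ : G → ℂ) (J * ((k : Subgroup.centralizer ({J} : Set G)) : G)) *
        conj ((χ : G → ℂ) (s * s)) = 0 := by
    intro k s
    rw [Cfsg.Agent.Lib.Helper4.column_orthogonality, if_neg (key k s)]
  have h0 : ∑ χ : IrrCharacter G, (∑ s : G, conj ((χ : G → ℂ) (s * s))) *
      ((4 : ℂ) * ∑ k : K, (χ : G → ℂ) (J * ((k : Subgroup.centralizer ({J} : Set G)) : G)))
      = 0 := by
    have h1 : ∀ χ : IrrCharacter G, (∑ s : G, conj ((χ : G → ℂ) (s * s))) *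
        ((4 : ℂ) * ∑ k : K, (χ : G → ℂ) (J * ((k : Subgroup.centralizer ({J} : Set G)) : G))) =
        4 * ∑ k : K, ∑ s : G,
          (χ : G → ℂ) (J * ((k : Subgroup.centralizer ({J} : Set G)) : G)) *
            conj ((χ : G → ℂ) (s * s)) := by
      intro χ
      rw [← Finset.sum_mul_sum]
      ring
    rw [Finset.sum_congr rfl fun χ _ => h1 χ, ← Finset.mul_sum, Finset.sum_comm]
    rw [Finset.sum_congr rfl fun k _ => Finset.sum_comm]
    rw [Finset.sum_eq_zero, mul_zero]
    intro k _
    apply Finset.sum_eq_zero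
    intro s _
    exact hzero k s
  rw [Finset.sum_congr rfl fun χ _ => by rw [proj_sum hM J hJ2 K hKi hKc hcol χ]] at h0
  have hcard0 : (Nat.card (Subgroup.centralizer ({J} : Set G)) : ℂ) ≠ 0 :=
    Nat.cast_ne_zero.mpr Nat.card_pos.ne'
  have h2 : (Nat.card (Subgroup.centralizer ({J} : Set G)) : ℂ) *
      ∑ χ : IrrCharacter G, (if χ ∈ principalBlock M G then
        (∑ s : G, conj ((χ : G → ℂ) (s * s))) * (χ : G → ℂ) J else 0) = 0 := by
    refine Eq.trans ?_ h0
    rw [Finset.mul_sum]
    refine Finset.sum_congr rfl fun χ _ => ?_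
    by_cases hχ : χ ∈ principalBlock M G
    · rw [if_pos hχ, if_pos hχ]; ring
    · rw [if_neg hχ, if_neg hχ, mul_zero, mul_zero]
  exact (mul_eq_zero.mp h2).resolve_left hcard0

end squareRoots

end Cfsg.Agent.Lib.Helper7.KG
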