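import Mathlib
import Cfsg.Prelude
import Cfsg.Agent.Lib.Helper4.NonvanishCount
import Cfsg.Agent.Lib.Helper4.PElemNonvanish
import Cfsg.Agent.Lib.Helper7.GagolaB
import Cfsg.Agent.S0169

/-!
# The stabilizer bound for `k(GV)` (helper7)

For an abelian normal Sylow `p`-subgroup `V` of `X` and `v ∈ V`:
`k(X) + |X : V| ≤ |C_X(v)| + k(X/V)` (Galois averaging of second orthogonality on the
generators of `⟨v⟩`; the characters not containing `V` in their kernel have degree prime to `p` by
Itô and hence do not vanish on `p`-elements).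
-/

set_option autoImplicit false

namespace Cfsg.Agent.Lib.Helper7.KGV
open Cfsg Cfsg.Agent.Lib.Helper26 Cfsg.Agent.Lib.Helper7 Cfsg.Agent.Lib.Helper4
open scoped ComplexConjugate

section
variable {G : Type*} [Group G] [Fintype G]

open scoped Classical in
/-- the number of irreducible characters with `N` in the kernel -/
theorem card_filter_ker (N : Subgroup G) [N.Normal] [Fintype (IrrCharacter G)] :
    (Finset.univ.filter (fun ψ : IrrCharacter G =>
      ∀ n ∈ N, (ψ : G → ℂ) n = (ψ : G → ℂ) 1)).card = Nat.card (ConjClasses (G ⧸ N)) := by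
  have : Fintype (G ⧸ N) := Fintype.ofFinite _
  have : Fintype (IrrCharacter (G ⧸ N)) := Fintype.ofFinite _
  let π : G →* G ⧸ N := QuotientGroup.mk' N
  have hπ : Function.Surjective π := QuotientGroup.mk'_surjective N
  let ι : IrrCharacter (G ⧸ N) → IrrCharacter G := fun ψ =>
    ⟨(ψ : G ⧸ N → ℂ) ∘ π, Cfsg.Agent.Lib.Helper2.isIrrCharacter_comp_of_surjective ψ.2 π hπ⟩
  have hι : Function.Injective ι := by
    intro χ ψ h
    apply Subtype.ext
    funext y
    obtain ⟨x, rfl⟩ := hπ y
    exact congrFun (congrArg Subtype.val h) x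
  have himg : Finset.univ.filter (fun χ : IrrCharacter G =>
      ∀ n ∈ N, (χ : G → ℂ) n = (χ : G → ℂ) 1) = Finset.univ.image ι := by
    ext χ
    simp only [Finset.mem_filter, Finset.mem_univ, true_and, Finset.mem_image]
    constructor
    · intro h
      obtain ⟨ψ, hψ⟩ := Cfsg.Agent.Lib.Helper4.exists_deflate_irr N χ h
      refine ⟨ψ, ?_⟩
      apply Subtype.ext
      funext g
      exact hψ g
    · rintro ⟨ψ, rfl⟩ n hn
      show (ψ : G ⧸ N → ℂ) (π n) = (ψ : G ⧸ N → ℂ) (π 1)
      have : π n = π 1 := by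
        rw [map_one]
        exact (QuotientGroup.eq_one_iff n).mpr hn
      rw [this]
  rw [himg, Finset.card_image_of_injective _ hι, Finset.card_univ,
    ← Cfsg.Agent.Lib.Helper4.card_irr_eq_card_conjClasses, Nat.card_eq_fintype_card]

theorem zpowers_pow_coprime (a : G) (m : ℕ) (hm : m.Coprime (Nat.card G)) :
    Subgroup.zpowers (a ^ m) = Subgroup.zpowers a := by
  apply le_antisymm
  · rw [Subgroup.zpowers_le]
    exact Subgroup.pow_mem _ (Subgroup.mem_zpowers a) m
  · rw [Subgroup.zpowers_le]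
    have h1 : m.Coprime (orderOf a) := Nat.Coprime.coprime_dvd_right (orderOf_dvd_natCard a) hm
    obtain ⟨k, hk⟩ := exists_pow_eq_self_of_coprime h1
    have h2 : (a ^ m) ^ k ∈ Subgroup.zpowers (a ^ m) :=
      Subgroup.pow_mem _ (Subgroup.mem_zpowers (a ^ m)) k
    rwa [hk] at h2

theorem centralizer_eq_of_zpowers_eq (g v : G) (h : Subgroup.zpowers g = Subgroup.zpowers v) :
    Subgroup.centralizer ({g} : Set G) = Subgroup.centralizer ({v} : Set G) := by
  have key : ∀ a b : G, a ∈ Subgroup.zpowers b →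
      Subgroup.centralizer ({b} : Set G) ≤ Subgroup.centralizer ({a} : Set G) := by
    intro a b hab x hx
    rw [Subgroup.mem_centralizer_singleton_iff] at hx ⊢
    obtain ⟨k, rfl⟩ := Subgroup.mem_zpowers_iff.mp hab
    have hc : Commute x b := hx
    exact hc.zpow_right k
  apply le_antisymm
  · apply key
    rw [h]
    exact Subgroup.mem_zpowers v
  · apply key
    rw [← h]
    exact Subgroup.mem_zpowers g

theorem stabilizer_bound (p : ℕ) [hp : Fact p.Prime] (V : Subgroup G) [hVn : V.Normal]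
    (hVp : IsPGroup p V) (hidx : ¬ p ∣ V.index) (hab : ∀ a ∈ V, ∀ b ∈ V, a * b = b * a)
    (v : G) (hv : v ∈ V) :
    Nat.card (ConjClasses G) + V.index ≤
      Nat.card (Subgroup.centralizer ({v} : Set G)) + Nat.card (ConjClasses (G ⧸ V)) := by
  classical
  haveI : Fintype (IrrCharacter G) := Fintype.ofFinite _
  -- the generators of `⟨v⟩`
  let S : Finset G := Finset.univ.filter (fun g => Subgroup.zpowers g = Subgroup.zpowers v)
  have hmemS : ∀ g, g ∈ S ↔ Subgroup.zpowers g = Subgroup.zpowers v := by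
    intro g
    simp only [S, Finset.mem_filter, Finset.mem_univ, true_and]
  have hvS : v ∈ S := (hmemS v).mpr rfl
  have hSpos : (0 : ℝ) < S.card := by
    have : 0 < S.card := Finset.card_pos.mpr ⟨v, hvS⟩
    exact_mod_cast this
  have hSV : ∀ g ∈ S, g ∈ V := by
    intro g hg
    have h1 : g ∈ Subgroup.zpowers v := by
      rw [← (hmemS g).mp hg]
      exact Subgroup.mem_zpowers g
    exact (Subgroup.zpowers_le.mpr hv) h1
  have hScent : ∀ g ∈ S, Subgroup.centralizer ({g} : Set G) = Subgroup.centralizer ({v} : Set G) :=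
    fun g hg => centralizer_eq_of_zpowers_eq g v ((hmemS g).mp hg)
  have hSstable : ∀ m : ℕ, m.Coprime (Nat.card G) → ∀ a, a ^ m ∈ S ↔ a ∈ S := by
    intro m hm a
    rw [hmemS, hmemS, zpowers_pow_coprime a m hm]
  -- `p`-elements
  obtain ⟨a, ha⟩ := IsPGroup.iff_card.mp hVp
  have hpow : ∀ g ∈ V, g ^ (p ^ a) = 1 := by
    intro g hg
    have h1 : (⟨g, hg⟩ : V) ^ (p ^ a) = 1 := by
      rw [← ha]
      exact pow_card_eq_one'
    exact congrArg Subtype.val h1
  -- the two families of characters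
  let P : IrrCharacter G → Prop := fun ψ => ∀ n ∈ V, (ψ : G → ℂ) n = (ψ : G → ℂ) 1
  let A : Finset (IrrCharacter G) := Finset.univ.filter P
  let B : Finset (IrrCharacter G) := Finset.univ.filter (fun ψ => ¬ P ψ)
  have hAB : A.card + B.card = Fintype.card (IrrCharacter G) :=
    Finset.card_filter_add_card_filter_not P
  have hA : A.card = Nat.card (ConjClasses (G ⧸ V)) := card_filter_ker V
  -- each character in `B` is non-vanishing on `S`
  have hBlow : ∀ χ ∈ B, (S.card : ℝ) ≤ ∑ g ∈ S, Complex.normSq ((χ : G → ℂ) g) := by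
    intro χ hχ
    obtain ⟨n, ρ, hρ, hρχ⟩ := χ.2
    have hd : ¬ p ∣ Module.finrank ℂ (Fin n → ℂ) := by
      intro hdvd
      haveI := hρ
      have h1 := Cfsg.Agent.S0169.result ρ V hab
      exact hidx (dvd_trans hdvd h1)
    have hne : ∀ g ∈ S, ρ.character g ≠ 0 := fun g hg =>
      character_ne_zero_of_pElement ρ p a g (hpow g (hSV g hg)) hd
    have h1 := card_nonvanishing_le_sum_normSq ρ S hSstable
    have h2 : S.filter (fun g => ρ.character g ≠ 0) = S :=
      Finset.filter_true_of_mem hne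
    rw [h2, hρχ] at h1
    exact h1
  -- column sums
  have hcol : ∀ g ∈ S, ∑ χ ∈ B, Complex.normSq ((χ : G → ℂ) g) =
      (Nat.card (Subgroup.centralizer ({v} : Set G)) : ℝ) - (V.index : ℝ) := by
    intro g hg
    have h1 := Cfsg.Agent.Lib.Helper4.column_orthogonality (G := G) g g
    rw [if_pos (IsConj.refl _), hScent g hg] at h1
    have h2 := Cfsg.Agent.Lib.Helper7.Gagola.sum_filter_ker V g
    have h3 : ((g : G) : G ⧸ V) = 1 := (QuotientGroup.eq_one_iff g).mpr (hSV g hg)
    have h4 : Nat.card (Subgroup.centralizer ({((g : G) : G ⧸ V)} : Set (G ⧸ V))) = V.index := by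
      rw [h3]
      have : Subgroup.centralizer ({(1 : G ⧸ V)} : Set (G ⧸ V)) = ⊤ := by
        rw [eq_top_iff]
        intro x _
        rw [Subgroup.mem_centralizer_singleton_iff]
        simp
      rw [this, Subgroup.card_top]
      rfl
    rw [h4] at h2
    have hsplit : ∑ χ : IrrCharacter G, (χ : G → ℂ) g * conj ((χ : G → ℂ) g) =
        ∑ χ ∈ A, (χ : G → ℂ) g * conj ((χ : G → ℂ) g) +
          ∑ χ ∈ B, (χ : G → ℂ) g * conj ((χ : G → ℂ) g) :=
      (Finset.sum_filter_add_sum_filter_not Finset.univ P _).symm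
    rw [hsplit] at h1
    have h5 : ∑ χ ∈ A, (χ : G → ℂ) g * conj ((χ : G → ℂ) g) = (V.index : ℂ) := h2
    rw [h5] at h1
    have h6 : ∑ χ ∈ B, (χ : G → ℂ) g * conj ((χ : G → ℂ) g) =
        ((∑ χ ∈ B, Complex.normSq ((χ : G → ℂ) g) : ℝ) : ℂ) := by
      push_cast
      refine Finset.sum_congr rfl fun χ _ => ?_
      exact Complex.mul_conj _
    rw [h6] at h1
    have h7 : ((∑ χ ∈ B, Complex.normSq ((χ : G → ℂ) g) : ℝ) : ℂ) =
        (((Nat.card (Subgroup.centralizer ({v} : Set G)) : ℝ) - (V.index : ℝ) : ℝ) : ℂ) := by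
      rw [Complex.ofReal_sub, Complex.ofReal_natCast, Complex.ofReal_natCast, ← h1]
      ring
    exact Complex.ofReal_injective h7
  -- the double count
  have hdouble : (B.card : ℝ) * S.card ≤
      S.card * ((Nat.card (Subgroup.centralizer ({v} : Set G)) : ℝ) - (V.index : ℝ)) := by
    calc (B.card : ℝ) * S.card = ∑ _χ ∈ B, (S.card : ℝ) := by
          rw [Finset.sum_const, nsmul_eq_mul]
      _ ≤ ∑ χ ∈ B, ∑ g ∈ S, Complex.normSq ((χ : G → ℂ) g) := Finset.sum_le_sum hBlow
      _ = ∑ g ∈ S, ∑ χ ∈ B, Complex.normSq ((χ : G → ℂ) g) := Finset.sum_comm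
      _ = ∑ _g ∈ S, ((Nat.card (Subgroup.centralizer ({v} : Set G)) : ℝ) - (V.index : ℝ)) :=
          Finset.sum_congr rfl hcol
      _ = S.card * ((Nat.card (Subgroup.centralizer ({v} : Set G)) : ℝ) - (V.index : ℝ)) := by
          rw [Finset.sum_const, nsmul_eq_mul]
  have hB : (B.card : ℝ) ≤
      (Nat.card (Subgroup.centralizer ({v} : Set G)) : ℝ) - (V.index : ℝ) := by
    rw [mul_comm] at hdouble
    exact le_of_mul_le_mul_left hdouble hSpos
  have hB' : B.card + V.index ≤ Nat.card (Subgroup.centralizer ({v} : Set G)) := by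
    have : ((B.card + V.index : ℕ) : ℝ) ≤
        ((Nat.card (Subgroup.centralizer ({v} : Set G)) : ℕ) : ℝ) := by
      push_cast
      linarith
    exact_mod_cast this
  have hk : Nat.card (ConjClasses G) = A.card + B.card := by
    rw [hAB, ← Cfsg.Agent.Lib.Helper4.card_irr_eq_card_conjClasses, Nat.card_eq_fintype_card]
  rw [hk, hA]
  omega

end

end Cfsg.Agent.Lib.Helper7.KGV
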