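import Mathlib

set_option autoImplicit false

/-! Squaring is a bijection on the elements of odd order. -/

namespace Cfsg.Agent.Lib.Helper7.KH

variable {G : Type*} [Group G] [Fintype G]

open scoped Classical in
theorem sum_sq_odd {M : Type*} [AddCommMonoid M] (f : G → M) :
    ∑ g ∈ Finset.univ.filter (fun g : G => Odd (orderOf g)), f (g * g) =
      ∑ y ∈ Finset.univ.filter (fun g : G => Odd (orderOf g)), f y := by
  apply Finset.sum_nbij' (fun g => g * g) (fun y => y ^ ((orderOf y + 1) / 2))
  · intro g hg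
    rw [Finset.mem_filter] at hg ⊢
    refine ⟨Finset.mem_univ _, ?_⟩
    have h1 : orderOf (g * g) = orderOf g := by
      rw [← pow_two]
      exact (Nat.coprime_two_right.mpr hg.2).orderOf_pow
    rw [h1]; exact hg.2
  · intro y hy
    rw [Finset.mem_filter] at hy ⊢
    exact ⟨Finset.mem_univ _, Odd.of_dvd_nat hy.2 (orderOf_pow_dvd _)⟩
  · intro g hg
    rw [Finset.mem_filter] at hg
    have h1 : orderOf (g * g) = orderOf g := by
      rw [← pow_two]
      exact (Nat.coprime_two_right.mpr hg.2).orderOf_pow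
    show (g * g) ^ ((orderOf (g * g) + 1) / 2) = g
    rw [h1, ← pow_two, ← pow_mul]
    obtain ⟨k, hk⟩ := hg.2
    have h2 : 2 * ((orderOf g + 1) / 2) = orderOf g + 1 := by omega
    rw [h2, pow_succ, pow_orderOf_eq_one, one_mul]
  · intro y hy
    rw [Finset.mem_filter] at hy
    show y ^ ((orderOf y + 1) / 2) * y ^ ((orderOf y + 1) / 2) = y
    rw [← pow_add]
    obtain ⟨k, hk⟩ := hy.2
    have h2 : (orderOf y + 1) / 2 + (orderOf y + 1) / 2 = orderOf y + 1 := by omega
    rw [h2, pow_succ, pow_orderOf_eq_one, one_mul]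
  · intro g _
    rfl

end Cfsg.Agent.Lib.Helper7.KH
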