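import Mathlib
import Cfsg.Prelude
import Cfsg.Agent.Lib.Helper7.KFA

set_option autoImplicit false
open Cfsg

/-! An involution whose centralizer has a normal four-group as Sylow `2`-subgroup. -/

namespace Cfsg.Agent.Lib.Helper7.KI

variable {G : Type*} [Group G] [Finite G]

/-- every `2`-subgroup of `C(x)` lies in the normal Sylow `2`-subgroup `S₀` -/
theorem le_of_isPGroup (x : G) (S₀ : Subgroup G)
    (hle : S₀ ≤ Subgroup.centralizer ({x} : Set G)) (hK : IsKleinFour ↥S₀)
    (hodd : ¬ 2 ∣ S₀.relIndex (Subgroup.centralizer ({x} : Set G)))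
    (hn : (S₀.subgroupOf (Subgroup.centralizer ({x} : Set G))).Normal)
    (R : Subgroup G) (hR : IsPGroup 2 R) (hRle : R ≤ Subgroup.centralizer ({x} : Set G)) :
    R ≤ S₀ := by
  haveI : Fact (Nat.Prime 2) := ⟨Nat.prime_two⟩
  have hQ : IsPGroup 2 (S₀.subgroupOf (Subgroup.centralizer ({x} : Set G))) := by
    apply IsPGroup.of_card (n := 2)
    rw [Nat.card_congr (Subgroup.subgroupOfEquivOfLe hle).toEquiv, hK.card_four]
    norm_num
  obtain ⟨Q, hQdef⟩ : ∃ Q : Sylow 2 (Subgroup.centralizer ({x} : Set G)),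
      (Q : Subgroup (Subgroup.centralizer ({x} : Set G))) =
        S₀.subgroupOf (Subgroup.centralizer ({x} : Set G)) :=
    ⟨hQ.toSylow hodd, rfl⟩
  haveI : (Q : Subgroup (Subgroup.centralizer ({x} : Set G))).Normal := by rw [hQdef]; exact hn
  have hR' : IsPGroup 2 (R.subgroupOf (Subgroup.centralizer ({x} : Set G))) :=
    hR.comap_of_injective _ (Subgroup.subtype_injective _)
  obtain ⟨Q', hQ'⟩ := hR'.exists_le_sylow
  obtain ⟨g, hg⟩ := MulAction.exists_smul_eq (Subgroup.centralizer ({x} : Set G)) Q Q'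
  rw [Sylow.smul_eq_of_normal] at hg
  intro r hr
  have h1 : (⟨r, hRle hr⟩ : Subgroup.centralizer ({x} : Set G)) ∈
      (Q' : Subgroup (Subgroup.centralizer ({x} : Set G))) := hQ' (by
    rw [Subgroup.mem_subgroupOf]; exact hr)
  rw [← hg, hQdef, Subgroup.mem_subgroupOf] at h1
  exact h1

/-- the involutions of `C(x)` lie in `S₀` -/
theorem mem_of_involution (x : G) (S₀ : Subgroup G)
    (hle : S₀ ≤ Subgroup.centralizer ({x} : Set G)) (hK : IsKleinFour ↥S₀)
    (hodd : ¬ 2 ∣ S₀.relIndex (Subgroup.centralizer ({x} : Set G)))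
    (hn : (S₀.subgroupOf (Subgroup.centralizer ({x} : Set G))).Normal)
    (u : G) (hu : u ∈ Subgroup.centralizer ({x} : Set G)) (hu2 : orderOf u = 2) : u ∈ S₀ := by
  have hR : IsPGroup 2 (Subgroup.zpowers u) := by
    apply IsPGroup.of_card (n := 1)
    rw [Nat.card_zpowers, hu2, pow_one]
  exact le_of_isPGroup x S₀ hle hK hodd hn (Subgroup.zpowers u) hR
    (Subgroup.zpowers_le.mpr hu) (Subgroup.mem_zpowers u)

/-- `C(x)` has at most three involutions -/
theorem card_involutions_le (x : G) (S₀ : Subgroup G)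
    (hle : S₀ ≤ Subgroup.centralizer ({x} : Set G)) (hK : IsKleinFour ↥S₀)
    (hodd : ¬ 2 ∣ S₀.relIndex (Subgroup.centralizer ({x} : Set G)))
    (hn : (S₀.subgroupOf (Subgroup.centralizer ({x} : Set G))).Normal) :
    Nat.card {u : ↥(Subgroup.centralizer ({x} : Set G)) // orderOf u = 2} ≤ 3 := by
  classical
  haveI : Finite ↥S₀ := hK.instFinite
  haveI : Fintype ↥S₀ := Fintype.ofFinite _
  have h3 : Nat.card {s : ↥S₀ // s ≠ 1} = 3 := by
    rw [Nat.card_eq_fintype_card, Fintype.card_subtype_compl, Fintype.card_subtype_eq,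
      ← Nat.card_eq_fintype_card, hK.card_four]
  rw [← h3]
  apply Nat.card_le_card_of_injective (fun u : {u : ↥(Subgroup.centralizer ({x} : Set G)) //
    orderOf u = 2} => (⟨⟨((u : ↥(Subgroup.centralizer ({x} : Set G))) : G),
      mem_of_involution x S₀ hle hK hodd hn _ (u : ↥(Subgroup.centralizer ({x} : Set G))).2 (by
        rw [Subgroup.orderOf_coe]; exact u.2)⟩, by
      intro h
      have h1 : ((u : ↥(Subgroup.centralizer ({x} : Set G))) : G) = 1 :=
        congrArg Subtype.val h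
      have h2 : (u : ↥(Subgroup.centralizer ({x} : Set G))) = 1 := Subtype.ext h1
      have h4 := u.2
      rw [h2, orderOf_one] at h4
      omega⟩ : {s : ↥S₀ // s ≠ 1}))
  intro u v huv
  have h1 : ((u : ↥(Subgroup.centralizer ({x} : Set G))) : G) =
      ((v : ↥(Subgroup.centralizer ({x} : Set G))) : G) :=
    congrArg (fun s : {s : ↥S₀ // s ≠ 1} => ((s : ↥S₀) : G)) huv
  exact Subtype.ext (Subtype.ext h1)

/-- a Sylow `2`-subgroup of `G` inside `C(x)` equals `S₀` -/
theorem sylow_eq (x : G) (S₀ : Subgroup G)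
    (hle : S₀ ≤ Subgroup.centralizer ({x} : Set G)) (hK : IsKleinFour ↥S₀)
    (hodd : ¬ 2 ∣ S₀.relIndex (Subgroup.centralizer ({x} : Set G)))
    (hn : (S₀.subgroupOf (Subgroup.centralizer ({x} : Set G))).Normal)
    (S : Sylow 2 G) (hS : (S : Subgroup G) ≤ Subgroup.centralizer ({x} : Set G)) :
    (S : Subgroup G) = S₀ := by
  have h1 : (S : Subgroup G) ≤ S₀ := le_of_isPGroup x S₀ hle hK hodd hn _ S.isPGroup' hS
  have hS₀ : IsPGroup 2 S₀ := by
    apply IsPGroup.of_card (n := 2)
    rw [hK.card_four]; norm_num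
  exact (S.is_maximal' hS₀ h1).symm

/-- `C(x)` centralizes `S₀` -/
theorem centralizer_eq (x : G) (hx : orderOf x = 2) (S₀ : Subgroup G)
    (hle : S₀ ≤ Subgroup.centralizer ({x} : Set G)) (hK : IsKleinFour ↥S₀)
    (hodd : ¬ 2 ∣ S₀.relIndex (Subgroup.centralizer ({x} : Set G)))
    (hn : (S₀.subgroupOf (Subgroup.centralizer ({x} : Set G))).Normal) :
    Subgroup.centralizer ({x} : Set G) = Subgroup.centralizer (S₀ : Set G) := by
  haveI : Fact (Nat.Prime 2) := ⟨Nat.prime_two⟩
  have hxC : x ∈ Subgroup.centralizer ({x} : Set G) := by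
    rw [Subgroup.mem_centralizer_iff]
    intro h hh
    rw [Set.mem_singleton_iff.mp hh]
  have hxS : x ∈ S₀ := mem_of_involution x S₀ hle hK hodd hn x hxC hx
  have hx1 : x ≠ 1 := by
    intro h; rw [h, orderOf_one] at hx; omega
  apply le_antisymm
  · have hQ : IsPGroup 2 (S₀.subgroupOf (Subgroup.centralizer ({x} : Set G))) := by
      apply IsPGroup.of_card (n := 2)
      rw [Nat.card_congr (Subgroup.subgroupOfEquivOfLe hle).toEquiv, hK.card_four]
      norm_num
    obtain ⟨Q, hQdef⟩ : ∃ Q : Sylow 2 (Subgroup.centralizer ({x} : Set G)),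
        (Q : Subgroup (Subgroup.centralizer ({x} : Set G))) =
          S₀.subgroupOf (Subgroup.centralizer ({x} : Set G)) :=
      ⟨hQ.toSylow hodd, rfl⟩
    have e : (Q : Subgroup (Subgroup.centralizer ({x} : Set G))) ≃* ↥S₀ :=
      (MulEquiv.subgroupCongr hQdef).trans (Subgroup.subgroupOfEquivOfLe hle)
    haveI : IsKleinFour (Q : Subgroup (Subgroup.centralizer ({x} : Set G))) :=
      ⟨by rw [Nat.card_congr e.toEquiv]; exact hK.card_four,
       by rw [Monoid.exponent_eq_of_mulEquiv e]; exact hK.exponent_two⟩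
    have hzQ : (⟨x, hxC⟩ : Subgroup.centralizer ({x} : Set G)) ∈
        (Q : Subgroup (Subgroup.centralizer ({x} : Set G))) := by
      rw [hQdef, Subgroup.mem_subgroupOf]; exact hxS
    have hNC := Cfsg.Agent.Lib.Helper7.KF.normalizer_le_centralizer Q ⟨x, hxC⟩ hzQ
      (fun h => hx1 (congrArg Subtype.val h)) (fun g => by
        apply Subtype.ext
        rw [Subgroup.coe_mul, Subgroup.coe_mul]
        exact (Subgroup.mem_centralizer_iff.mp g.2 x (Set.mem_singleton x)).symm)
    haveI : (Q : Subgroup (Subgroup.centralizer ({x} : Set G))).Normal := by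
      rw [hQdef]; exact hn
    rw [Subgroup.normalizer_eq_top] at hNC
    intro g hg
    have h1 : (⟨g, hg⟩ : Subgroup.centralizer ({x} : Set G)) ∈
        Subgroup.centralizer ((Q : Subgroup (Subgroup.centralizer ({x} : Set G))) :
          Set (Subgroup.centralizer ({x} : Set G))) := hNC (Subgroup.mem_top _)
    rw [Subgroup.mem_centralizer_iff] at h1 ⊢
    intro s hs
    have h2 := h1 ⟨s, hle hs⟩ (by
      show (⟨s, hle hs⟩ : Subgroup.centralizer ({x} : Set G)) ∈
        (Q : Subgroup (Subgroup.centralizer ({x} : Set G)))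
      rw [hQdef, Subgroup.mem_subgroupOf]; exact hs)
    exact congrArg Subtype.val h2
  · exact Subgroup.centralizer_le (Set.singleton_subset_iff.mpr hxS)

end Cfsg.Agent.Lib.Helper7.KI
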