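import Mathlib
import Cfsg.Prelude
import Cfsg.Agent.Lib.Helper7.KIA
import Cfsg.Agent.Lib.Helper7.KFD

set_option autoImplicit false
open Cfsg

/-! Counting involutions by Sylow `2`-subgroups, and the action on the Sylow `2`-subgroups. -/

namespace Cfsg.Agent.Lib.Helper7.KI

variable {G : Type*} [Group G] [Finite G]

/-- the involutions are partitioned by the Sylow `2`-subgroups, three in each -/
theorem card_involutions_eq (x : G) (hx : orderOf x = 2) (S₀ : Subgroup G)
    (hle : S₀ ≤ Subgroup.centralizer ({x} : Set G)) (hK : IsKleinFour ↥S₀)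
    (hodd : ¬ 2 ∣ S₀.relIndex (Subgroup.centralizer ({x} : Set G)))
    (hn : (S₀.subgroupOf (Subgroup.centralizer ({x} : Set G))).Normal)
    (hone : ∀ u v : G, orderOf u = 2 → orderOf v = 2 → IsConj u v)
    (P : Sylow 2 G) (hP : (P : Subgroup G) = S₀) :
    Nat.card {t : G // orderOf t = 2} = 3 * Nat.card (Sylow 2 G) := by
  classical
  haveI : Fact (Nat.Prime 2) := ⟨Nat.prime_two⟩
  haveI : Fintype G := Fintype.ofFinite G
  haveI : Fintype (Sylow 2 G) := Fintype.ofFinite _
  have hsqP : ∀ y ∈ (P : Subgroup G), y * y = 1 := by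
    rw [hP]
    intro y hy
    exact congrArg Subtype.val (hK.mul_self (⟨y, hy⟩ : ↥S₀))
  have hsq : ∀ w : G, (∃ k : ℕ, orderOf w = 2 ^ k) → w * w = 1 :=
    Cfsg.Agent.Lib.Helper7.KF.two_element_sq P hsqP
  have hQsq : ∀ Q : Sylow 2 G, ∀ q ∈ (Q : Subgroup G), q * q = 1 := by
    intro Q q hq
    apply hsq
    obtain ⟨k, hk⟩ := Q.isPGroup' ⟨q, hq⟩
    have h1 : q ^ 2 ^ k = 1 := by
      have := congrArg Subtype.val hk
      rwa [Subgroup.coe_pow] at this
    obtain ⟨m, -, hm⟩ := (Nat.dvd_prime_pow Nat.prime_two).mp (orderOf_dvd_of_pow_eq_one h1)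
    exact ⟨m, hm⟩
  have hQcomm : ∀ Q : Sylow 2 G, ∀ a ∈ (Q : Subgroup G), ∀ b ∈ (Q : Subgroup G),
      a * b = b * a := by
    intro Q a ha b hb
    have hinv : ∀ y ∈ (Q : Subgroup G), y⁻¹ = y := fun y hy =>
      inv_eq_of_mul_eq_one_left (hQsq Q y hy)
    rw [← hinv (a * b) (mul_mem ha hb), mul_inv_rev, hinv a ha, hinv b hb]
  have hcard4 : ∀ Q : Sylow 2 G, Nat.card (Q : Subgroup G) = 4 := by
    intro Q
    rw [Sylow.card_eq_multiplicity Q, ← Sylow.card_eq_multiplicity P, hP]
    exact hK.card_four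
  -- uniqueness
  have huniq : ∀ (Q Q' : Sylow 2 G) (t : G), orderOf t = 2 → t ∈ (Q : Subgroup G) →
      t ∈ (Q' : Subgroup G) → Q = Q' := by
    intro Q Q' t ht htQ htQ'
    obtain ⟨g, hg⟩ := isConj_iff.mp (hone x t hx ht)
    have key : ∀ R : Sylow 2 G, t ∈ (R : Subgroup G) →
        ((g⁻¹ • R : Sylow 2 G) : Subgroup G) = S₀ := by
      intro R htR
      apply sylow_eq x S₀ hle hK hodd hn
      intro y hy
      rw [Sylow.coe_subgroup_smul, Subgroup.mem_pointwise_smul_iff_inv_smul_mem,
        MulAut.smul_def, ← map_inv, MulAut.conj_apply] at hy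
      simp only [inv_inv] at hy
      rw [Subgroup.mem_centralizer_iff]
      intro h hh
      rw [Set.mem_singleton_iff.mp hh]
      have h1 := hQcomm R t htR _ hy
      rw [← hg] at h1
      have h2 : x * y = g⁻¹ * ((g * x * g⁻¹) * (g * y * g⁻¹)) * g := by group
      rw [h2, h1]; group
    have h1 := key Q htQ
    have h2 := key Q' htQ'
    have h3 : (g⁻¹ • Q : Sylow 2 G) = g⁻¹ • Q' := Sylow.ext (h1.trans h2.symm)
    exact smul_left_cancel _ h3
  -- a Sylow subgroup through each involution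
  have hex : ∀ t : G, orderOf t = 2 → ∃ Q : Sylow 2 G, t ∈ (Q : Subgroup G) := by
    intro t ht
    have hR : IsPGroup 2 (Subgroup.zpowers t) := by
      apply IsPGroup.of_card (n := 1)
      rw [Nat.card_zpowers, ht, pow_one]
    obtain ⟨Q, hQ⟩ := hR.exists_le_sylow
    exact ⟨Q, hQ (Subgroup.mem_zpowers t)⟩
  obtain ⟨f, hf⟩ : ∃ f : G → Sylow 2 G, ∀ t : G, orderOf t = 2 → t ∈ (f t : Subgroup G) := by
    refine ⟨fun t => if h : orderOf t = 2 then Classical.choose (hex t h) else P, ?_⟩
    intro t ht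
    simp only [dif_pos ht]
    exact Classical.choose_spec (hex t ht)
  rw [Nat.card_eq_fintype_card, Fintype.card_subtype,
    Finset.card_eq_sum_card_fiberwise (f := f) (t := Finset.univ)
      (fun _ _ => Finset.mem_coe.mpr (Finset.mem_univ _))]
  have hfib : ∀ Q : Sylow 2 G, ((Finset.univ.filter (fun t : G => orderOf t = 2)).filter
      (fun t => f t = Q)).card = 3 := by
    intro Q
    have h1 : (Finset.univ.filter (fun t : G => orderOf t = 2)).filter (fun t => f t = Q) =
        (Finset.univ.filter (fun t : G => t ∈ (Q : Subgroup G))).erase 1 := by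
      ext t
      simp only [Finset.mem_filter, Finset.mem_univ, true_and, Finset.mem_erase]
      constructor
      · rintro ⟨ht, hft⟩
        refine ⟨?_, ?_⟩
        · intro h; rw [h, orderOf_one] at ht; omega
        · rw [← hft]; exact hf t ht
      · rintro ⟨ht1, htQ⟩
        have ht : orderOf t = 2 :=
          orderOf_eq_prime (by rw [pow_two]; exact hQsq Q t htQ) ht1
        exact ⟨ht, huniq _ _ t ht (hf t ht) htQ⟩
    rw [h1, Finset.card_erase_of_mem (by
      rw [Finset.mem_filter]; exact ⟨Finset.mem_univ _, Subgroup.one_mem _⟩)]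
    have h2 : (Finset.univ.filter (fun t : G => t ∈ (Q : Subgroup G))).card = 4 := by
      rw [← hcard4 Q, Nat.card_eq_fintype_card, Fintype.card_subtype]
    rw [h2]
  rw [Finset.sum_congr rfl fun Q _ => hfib Q, Finset.sum_const, Finset.card_univ, smul_eq_mul,
    Nat.card_eq_fintype_card, mul_comm]

/-- a simple group embeds in the symmetric group on its Sylow `2`-subgroups -/
theorem card_dvd_factorial [IsSimpleGroup G] (P : Sylow 2 G)
    (hPn : ¬ (P : Subgroup G).Normal) :
    Nat.card G ∣ (Nat.card (Sylow 2 G)).factorial := by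
  haveI : Fact (Nat.Prime 2) := ⟨Nat.prime_two⟩
  rcases (MulAction.toPermHom G (Sylow 2 G)).normal_ker.eq_bot_or_eq_top with h | h
  · have hinj : Function.Injective (MulAction.toPermHom G (Sylow 2 G)) :=
      (MonoidHom.ker_eq_bot_iff _).mp h
    have := Subgroup.card_dvd_of_injective _ hinj
    rwa [Nat.card_perm] at this
  · exfalso
    apply hPn
    rw [← Subgroup.normalizer_eq_top_iff, eq_top_iff]
    intro g _
    have hg : g ∈ (MulAction.toPermHom G (Sylow 2 G)).ker := by rw [h]; exact Subgroup.mem_top g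
    rw [MonoidHom.mem_ker] at hg
    have h1 : (MulAction.toPermHom G (Sylow 2 G) g) P = P := by rw [hg]; rfl
    rw [MulAction.toPermHom_apply, MulAction.toPerm_apply] at h1
    exact Sylow.smul_eq_iff_mem_normalizer.mp h1

end Cfsg.Agent.Lib.Helper7.KI
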