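import Mathlib
import Cfsg.Prelude
import Cfsg.Agent.Lib.Helper4.CharOrtho

set_option autoImplicit false
open Cfsg

/-! Restriction of a representation to a cyclic subgroup of prime order: multiplicities. -/

namespace Cfsg.Agent.Lib.Helper7.KJ

open scoped ComplexConjugate

section Fourier

variable {p : ℕ} [Fact p.Prime]

theorem psi_pow (a : ZMod p) (j : ℕ) :
    (ZMod.stdAddChar (N := p) a) ^ j = ZMod.stdAddChar (N := p) (a * (j : ZMod p)) := by
  rw [← AddChar.map_nsmul_eq_pow, nsmul_eq_mul, mul_comm]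

theorem psi_pow_card (a : ZMod p) : (ZMod.stdAddChar (N := p) a) ^ p = 1 := by
  rw [psi_pow, ZMod.natCast_self, mul_zero, AddChar.map_zero_eq_one]

theorem exists_psi_eq (μ : ℂ) (h : μ ^ p = 1) : ∃ a : ZMod p, ZMod.stdAddChar (N := p) a = μ := by
  have hp : p.Prime := Fact.out
  have hprim : IsPrimitiveRoot (ZMod.stdAddChar (N := p) 1) p := by
    rw [IsPrimitiveRoot.iff_def]
    refine ⟨psi_pow_card 1, fun l hl => ?_⟩
    rw [psi_pow, one_mul, ← (ZMod.stdAddChar (N := p)).map_zero_eq_one] at hl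
    have := ZMod.injective_stdAddChar hl
    exact (ZMod.natCast_eq_zero_iff l p).mp this
  haveI : NeZero p := ⟨hp.ne_zero⟩
  obtain ⟨i, -, hi⟩ := hprim.eq_pow_of_pow_eq_one h
  refine ⟨(i : ZMod p), ?_⟩
  rw [← hi, psi_pow, one_mul]

theorem sum_psi_mul (b : ZMod p) :
    ∑ i : ZMod p, ZMod.stdAddChar (N := p) (i * b) = if b = 0 then (p : ℂ) else 0 := by
  have hp : p.Prime := Fact.out
  haveI : NeZero p := ⟨hp.ne_zero⟩
  have h := AddChar.sum_mulShift (R := ZMod p) (R' := ℂ) b (ZMod.isPrimitive_stdAddChar p)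
  rw [h, ZMod.card]
  split_ifs <;> simp

end Fourier

section Rep

variable {G : Type*} [Group G] [Finite G]
variable {V : Type*} [AddCommGroup V] [Module ℂ V] [FiniteDimensional ℂ V]
variable {p : ℕ} [Fact p.Prime]

/-- multiplicity of the eigenvalue `ψ a` of `ρ x` -/
noncomputable def mult (ρ : Representation ℂ G V) (x : G) (a : ZMod p) : ℕ :=
  Module.finrank ℂ (Module.End.eigenspace (ρ x) (ZMod.stdAddChar (N := p) a))

open Cfsg.Agent.Lib.Helper4 in
theorem character_pow (ρ : Representation ℂ G V) (x : G) (hx : orderOf x = p) (j : ℕ) :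
    ρ.character (x ^ j) =
      ∑ a : ZMod p, (mult ρ x a : ℂ) * ZMod.stdAddChar (N := p) (a * (j : ZMod p)) := by
  classical
  have h := trace_eq_sum_of_eigen (ρ x) (ρ (x ^ j)) (rho_iSup_eigenspace ρ x) (fun μ => μ ^ j) ?_
  · have hinj : Function.Injective (fun a : ZMod p => ZMod.stdAddChar (N := p) a) :=
      ZMod.injective_stdAddChar
    have hsub : (finite_eigen (ρ x)).toFinset ⊆
        Finset.univ.image (fun a : ZMod p => ZMod.stdAddChar (N := p) a) := by
      intro μ hμ
      rw [Set.Finite.mem_toFinset, Set.mem_setOf_eq] at hμ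
      have h1 := eigenvalue_pow_orderOf ρ x μ hμ
      rw [hx] at h1
      obtain ⟨a, ha⟩ := exists_psi_eq μ h1
      exact Finset.mem_image.mpr ⟨a, Finset.mem_univ _, ha⟩
    show LinearMap.trace ℂ V (ρ (x ^ j)) = _
    rw [h, Finset.sum_subset hsub, Finset.sum_image (fun a _ b _ hab => hinj hab)]
    · refine Finset.sum_congr rfl fun a _ => ?_
      rw [psi_pow, mul_comm]
      rfl
    · intro μ _ hμ
      rw [Set.Finite.mem_toFinset, Set.mem_setOf_eq, not_not] at hμ
      rw [hμ, finrank_bot, Nat.cast_zero, mul_zero]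
  · intro μ v hv
    rw [map_pow]
    have hev := Module.End.mem_eigenspace_iff.mp hv
    induction j with
    | zero => simp
    | succ n ih =>
      rw [pow_succ, Module.End.mul_apply, hev, map_smul, ih, smul_smul, pow_succ, mul_comm]

theorem mult_inversion (ρ : Representation ℂ G V) (x : G) (hx : orderOf x = p) (a : ZMod p) :
    (p : ℂ) * (mult ρ x a : ℂ) =
      ∑ i : ZMod p, ρ.character (x ^ i.val) * ZMod.stdAddChar (N := p) (-(a * i)) := by
  classical
  have h1 : ∀ i : ZMod p, ρ.character (x ^ i.val) * ZMod.stdAddChar (N := p) (-(a * i)) =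
      ∑ b : ZMod p, (mult ρ x b : ℂ) * ZMod.stdAddChar (N := p) (i * (b - a)) := by
    intro i
    rw [character_pow ρ x hx, Finset.sum_mul]
    refine Finset.sum_congr rfl fun b _ => ?_
    rw [mul_assoc, ← AddChar.map_add_eq_mul, ZMod.natCast_zmod_val]
    congr 2
    ring
  rw [Finset.sum_congr rfl fun i _ => h1 i, Finset.sum_comm]
  simp only [← Finset.mul_sum, sum_psi_mul, sub_eq_zero]
  rw [Finset.sum_eq_single a]
  · rw [if_pos rfl, mul_comm]
  · intro b _ hb
    rw [if_neg hb, mul_zero]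
  · intro h
    exact absurd (Finset.mem_univ a) h

theorem sum_mult (ρ : Representation ℂ G V) (x : G) (hx : orderOf x = p) :
    ∑ a : ZMod p, mult ρ x a = Module.finrank ℂ V := by
  have h := character_pow ρ x hx 0
  simp only [pow_zero, Nat.cast_zero, mul_zero, AddChar.map_zero_eq_one, mul_one] at h
  rw [Representation.char_one] at h
  exact_mod_cast h.symm

end Rep

end Cfsg.Agent.Lib.Helper7.KJ
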