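import Mathlib
import Cfsg.Prelude
import Cfsg.Agent.Lib.Helper7.KJA
import Cfsg.Agent.Lib.Helper11.SelfCent

set_option autoImplicit false
open Cfsg

/-! Self-centralizing element of prime order: norm identity on `⟨x⟩`. -/

namespace Cfsg.Agent.Lib.Helper7.KJ

open scoped ComplexConjugate

section Fusion

variable {G : Type*} [Group G] {p : ℕ} [Fact p.Prime]

theorem pow_val_mul (x : G) (hx : orderOf x = p) (a b : ZMod p) :
    x ^ (a * b).val = (x ^ a.val) ^ b.val := by
  have h := pow_mod_orderOf x (a.val * b.val)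
  rw [hx] at h
  rw [← pow_mul, ZMod.val_mul, h]

theorem pow_val_one (x : G) : x ^ (1 : ZMod p).val = x := by
  have hp : p.Prime := Fact.out
  haveI : Fact (1 < p) := ⟨hp.one_lt⟩
  rw [ZMod.val_one, pow_one]

theorem pow_val_ne_one (x : G) (hx : orderOf x = p) (i : ZMod p) (hi : i ≠ 0) :
    x ^ i.val ≠ 1 := by
  intro h
  have h1 := orderOf_dvd_of_pow_eq_one h
  rw [hx] at h1
  have h2 : i.val < p := ZMod.val_lt i
  have h3 : i.val = 0 := Nat.eq_zero_of_dvd_of_lt h1 h2
  exact hi ((ZMod.val_eq_zero i).mp h3)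

theorem isConj_pow {a b : G} (h : IsConj a b) (n : ℕ) : IsConj (a ^ n) (b ^ n) := by
  obtain ⟨c, hc⟩ := isConj_iff.mp h
  exact isConj_iff.mpr ⟨c, by rw [← hc, conj_pow]⟩

open scoped Classical in
/-- the multipliers `s` with `x ^ s` conjugate to `x` -/
noncomputable def Rset (x : G) : Finset (ZMod p) :=
  Finset.univ.filter (fun s : ZMod p => s ≠ 0 ∧ IsConj (x ^ s.val) x)

theorem mem_Rset (x : G) (s : ZMod p) :
    s ∈ Rset (p := p) x ↔ s ≠ 0 ∧ IsConj (x ^ s.val) x := by
  classical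
  simp [Rset]

theorem one_mem_Rset (x : G) : (1 : ZMod p) ∈ Rset (p := p) x := by
  rw [mem_Rset, pow_val_one]
  exact ⟨one_ne_zero, IsConj.refl x⟩

theorem isConj_pow_iff (x : G) (hx : orderOf x = p) (i j : ZMod p) (hi : i ≠ 0) :
    IsConj (x ^ i.val) (x ^ j.val) ↔ ∃ s ∈ Rset (p := p) x, i * s = j := by
  constructor
  · intro h
    have hj : j ≠ 0 := by
      rintro rfl
      rw [ZMod.val_zero, pow_zero, isConj_one_left] at h
      exact pow_val_ne_one x hx i hi h
    refine ⟨i⁻¹ * j, ?_, ?_⟩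
    · rw [mem_Rset]
      refine ⟨mul_ne_zero (inv_ne_zero hi) hj, ?_⟩
      have h1 := isConj_pow h.symm (i⁻¹).val
      rw [← pow_val_mul x hx, ← pow_val_mul x hx, mul_inv_cancel₀ hi, pow_val_one, mul_comm] at h1
      exact h1
    · rw [← mul_assoc, mul_inv_cancel₀ hi, one_mul]
  · rintro ⟨s, hs, rfl⟩
    rw [mem_Rset] at hs
    have h1 := isConj_pow hs.2 i.val
    rw [← pow_val_mul x hx, mul_comm] at h1
    exact h1.symm

end Fusion

section Norm

variable {G : Type*} [Group G] [Fintype G] {p : ℕ} [Fact p.Prime]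

theorem card_centralizer_pow (x : G) (hx : orderOf x = p)
    (hC : Subgroup.centralizer ({x} : Set G) = Subgroup.zpowers x) (i : ZMod p) (hi : i ≠ 0) :
    Nat.card (Subgroup.centralizer ({x ^ i.val} : Set G)) = p := by
  have hp : p.Prime := Fact.out
  rw [Cfsg.Agent.Lib.Helper11.selfCent_centralizer_eq hp hx hC
    (Subgroup.pow_mem _ (Subgroup.mem_zpowers x) _) (pow_val_ne_one x hx i hi),
    Nat.card_zpowers, hx]

open scoped Classical in
theorem norm_identity [Fintype (IrrCharacter G)] (x : G) (hx : orderOf x = p)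
    (hC : Subgroup.centralizer ({x} : Set G) = Subgroup.zpowers x)
    (c : ZMod p → ℂ) (hc : c 0 = 0) :
    ∑ χ : IrrCharacter G, (∑ i : ZMod p, c i * (χ : G → ℂ) (x ^ i.val)) *
        conj (∑ j : ZMod p, c j * (χ : G → ℂ) (x ^ j.val)) =
      (p : ℂ) * ∑ i : ZMod p, ∑ s ∈ Rset (p := p) x, c i * conj (c (i * s)) := by
  have h1 : ∀ χ : IrrCharacter G, (∑ i : ZMod p, c i * (χ : G → ℂ) (x ^ i.val)) *
        conj (∑ j : ZMod p, c j * (χ : G → ℂ) (x ^ j.val)) =
      ∑ i : ZMod p, ∑ j : ZMod p, c i * conj (c j) *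
        ((χ : G → ℂ) (x ^ i.val) * conj ((χ : G → ℂ) (x ^ j.val))) := by
    intro χ
    rw [map_sum, Finset.sum_mul_sum]
    refine Finset.sum_congr rfl fun i _ => Finset.sum_congr rfl fun j _ => ?_
    rw [map_mul]
    ring
  rw [Finset.sum_congr rfl fun χ _ => h1 χ, Finset.sum_comm, Finset.mul_sum]
  refine Finset.sum_congr rfl fun i _ => ?_
  rw [Finset.sum_comm]
  have h3 : ∀ j : ZMod p, ∑ χ : IrrCharacter G, c i * conj (c j) *
        ((χ : G → ℂ) (x ^ i.val) * conj ((χ : G → ℂ) (x ^ j.val))) =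
      c i * conj (c j) * (if IsConj (x ^ i.val) (x ^ j.val) then
          (Nat.card (Subgroup.centralizer ({x ^ i.val} : Set G)) : ℂ) else 0) := by
    intro j
    rw [← Finset.mul_sum, Cfsg.Agent.Lib.Helper4.column_orthogonality]
  rw [Finset.sum_congr rfl fun j _ => h3 j]
  by_cases hi : i = 0
  · subst hi
    simp [hc]
  · have h2 : ∀ j : ZMod p, c i * conj (c j) *
        (if IsConj (x ^ i.val) (x ^ j.val) then
          (Nat.card (Subgroup.centralizer ({x ^ i.val} : Set G)) : ℂ) else 0) =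
        if j ∈ (Rset (p := p) x).image (fun s => i * s) then (p : ℂ) * (c i * conj (c j)) else 0 := by
      intro j
      have hiff : IsConj (x ^ i.val) (x ^ j.val) ↔ j ∈ (Rset (p := p) x).image (fun s => i * s) := by
        rw [isConj_pow_iff x hx i j hi, Finset.mem_image]
      by_cases hj : j ∈ (Rset (p := p) x).image (fun s => i * s)
      · rw [if_pos hj, if_pos (hiff.mpr hj), card_centralizer_pow x hx hC i hi]
        ring
      · rw [if_neg hj, if_neg (fun h => hj (hiff.mp h)), mul_zero]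
    rw [Finset.sum_congr rfl fun j _ => h2 j, Finset.sum_ite_mem, Finset.univ_inter,
      Finset.sum_image (fun a _ b _ hab => mul_left_cancel₀ hi hab), Finset.mul_sum]

end Norm

end Cfsg.Agent.Lib.Helper7.KJ
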