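import Mathlib
import Cfsg.Prelude
import Cfsg.Agent.Lib.Helper7.KJB

set_option autoImplicit false
open Cfsg

/-! Self-centralizing element of prime order: a character of degree `p - 1` restricts to
`ρ_P - 1`. -/

namespace Cfsg.Agent.Lib.Helper7.KJ

open scoped ComplexConjugate

section Eval

variable {p : ℕ} [Fact p.Prime]

/-- the test coefficients -/
noncomputable def cf (a b : ZMod p) (i : ZMod p) : ℂ :=
  ZMod.stdAddChar (N := p) (-(a * i)) - ZMod.stdAddChar (N := p) (-(b * i))

theorem cf_zero (a b : ZMod p) : cf a b 0 = 0 := by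
  simp [cf]

/-- the resulting value -/
noncomputable def Dr (a b s : ZMod p) : ℝ :=
  (if a * s = a then 1 else 0) - (if b * s = a then 1 else 0) - (if a * s = b then 1 else 0) +
    (if b * s = b then 1 else 0)

theorem conj_psi_neg (y : ZMod p) :
    conj (ZMod.stdAddChar (N := p) (-y)) = ZMod.stdAddChar (N := p) y := by
  rw [← AddChar.map_neg_eq_conj, neg_neg]

theorem cf_sum_eval (a b s : ZMod p) :
    ∑ i : ZMod p, cf a b i * conj (cf a b (i * s)) = (p : ℂ) * ((Dr a b s : ℝ) : ℂ) := by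
  have h1 : ∀ i : ZMod p, cf a b i * conj (cf a b (i * s)) =
      ZMod.stdAddChar (N := p) (i * (a * s - a)) - ZMod.stdAddChar (N := p) (i * (b * s - a)) -
        ZMod.stdAddChar (N := p) (i * (a * s - b)) + ZMod.stdAddChar (N := p) (i * (b * s - b)) := by
    intro i
    unfold cf
    rw [map_sub, conj_psi_neg, conj_psi_neg, sub_mul, mul_sub, mul_sub,
      ← AddChar.map_add_eq_mul, ← AddChar.map_add_eq_mul, ← AddChar.map_add_eq_mul,
      ← AddChar.map_add_eq_mul]
    have e1 : -(a * i) + a * (i * s) = i * (a * s - a) := by ring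
    have e2 : -(a * i) + b * (i * s) = i * (b * s - a) := by ring
    have e3 : -(b * i) + a * (i * s) = i * (a * s - b) := by ring
    have e4 : -(b * i) + b * (i * s) = i * (b * s - b) := by ring
    rw [e1, e2, e3, e4]
    ring
  rw [Finset.sum_congr rfl fun i _ => h1 i, Finset.sum_add_distrib, Finset.sum_sub_distrib,
    Finset.sum_sub_distrib, sum_psi_mul, sum_psi_mul, sum_psi_mul, sum_psi_mul]
  simp only [sub_eq_zero, Dr]
  split_ifs <;> push_cast <;> ring

theorem Dr_le_of_ne (a b s : ZMod p) (ha : a ≠ 0) (hb : b ≠ 0) :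
    Dr a b s ≤ if s = 1 then 2 else 0 := by
  unfold Dr
  by_cases hs : s = 1
  · subst hs
    simp only [mul_one, if_true]
    split_ifs <;> norm_num
  · have h1 : a * s ≠ a := by
      intro h
      apply hs
      have : a * s = a * 1 := by rw [h, mul_one]
      exact mul_left_cancel₀ ha this
    have h2 : b * s ≠ b := by
      intro h
      apply hs
      have : b * s = b * 1 := by rw [h, mul_one]
      exact mul_left_cancel₀ hb this
    rw [if_neg h1, if_neg h2, if_neg hs]
    split_ifs <;> norm_num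

theorem Dr_zero (b s : ZMod p) (hb : b ≠ 0) (hs : s ≠ 0) :
    Dr 0 b s = 1 + if s = 1 then 1 else 0 := by
  unfold Dr
  have h1 : b * s ≠ 0 := mul_ne_zero hb hs
  have h2 : (0 : ZMod p) ≠ b := fun h => hb h.symm
  have h3 : b * s = b ↔ s = 1 := by
    constructor
    · intro h
      have : b * s = b * 1 := by rw [h, mul_one]
      exact mul_left_cancel₀ hb this
    · rintro rfl
      rw [mul_one]
  simp only [zero_mul, if_true, if_neg h1, if_neg h2, h3]
  ring

end Eval

section Main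

variable {G : Type*} [Group G] [Fintype G] {p : ℕ} [Fact p.Prime]
variable {V : Type*} [AddCommGroup V] [Module ℂ V] [FiniteDimensional ℂ V]

theorem test_eq (ρ : Representation ℂ G V) (x : G) (hx : orderOf x = p) (a b : ZMod p) :
    ∑ i : ZMod p, cf a b i * ρ.character (x ^ i.val) =
      (p : ℂ) * ((mult ρ x a : ℂ) - (mult ρ x b : ℂ)) := by
  rw [mul_sub, mult_inversion ρ x hx a, mult_inversion ρ x hx b, ← Finset.sum_sub_distrib]
  refine Finset.sum_congr rfl fun i _ => ?_
  unfold cf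
  ring

open scoped Classical in
theorem mult_diff_sq_le [Fintype (IrrCharacter G)] (x : G) (hx : orderOf x = p)
    (hC : Subgroup.centralizer ({x} : Set G) = Subgroup.zpowers x)
    (χ : IrrCharacter G) (ρ : Representation ℂ G V) (hρ : ρ.character = (χ : G → ℂ))
    (a b : ZMod p) :
    ((mult ρ x a : ℝ) - (mult ρ x b : ℝ)) ^ 2 ≤ ∑ s ∈ Rset (p := p) x, Dr a b s := by
  have hp : p.Prime := Fact.out
  have hp0 : (0 : ℝ) < (p : ℝ) := by exact_mod_cast hp.pos
  have hid := norm_identity x hx hC (cf a b) (cf_zero a b)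
  rw [Finset.sum_comm] at hid
  simp only [cf_sum_eval] at hid
  have hT : ∀ χ' : IrrCharacter G, (∑ i : ZMod p, cf a b i * (χ' : G → ℂ) (x ^ i.val)) *
        conj (∑ j : ZMod p, cf a b j * (χ' : G → ℂ) (x ^ j.val)) =
      ((Complex.normSq (∑ i : ZMod p, cf a b i * (χ' : G → ℂ) (x ^ i.val)) : ℝ) : ℂ) := by
    intro χ'
    rw [Complex.mul_conj]
  rw [Finset.sum_congr rfl fun χ' _ => hT χ'] at hid
  have hid2 : ∑ χ' : IrrCharacter G,
      Complex.normSq (∑ i : ZMod p, cf a b i * (χ' : G → ℂ) (x ^ i.val)) =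
      (p : ℝ) * ∑ s ∈ Rset (p := p) x, (p : ℝ) * Dr a b s := by
    have : ((∑ χ' : IrrCharacter G,
        Complex.normSq (∑ i : ZMod p, cf a b i * (χ' : G → ℂ) (x ^ i.val)) : ℝ) : ℂ) =
        (((p : ℝ) * ∑ s ∈ Rset (p := p) x, (p : ℝ) * Dr a b s : ℝ) : ℂ) := by
      push_cast
      exact hid
    exact_mod_cast this
  have hle : Complex.normSq (∑ i : ZMod p, cf a b i * (χ : G → ℂ) (x ^ i.val)) ≤
      ∑ χ' : IrrCharacter G,
        Complex.normSq (∑ i : ZMod p, cf a b i * (χ' : G → ℂ) (x ^ i.val)) :=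
    Finset.single_le_sum (f := fun χ' : IrrCharacter G =>
      Complex.normSq (∑ i : ZMod p, cf a b i * (χ' : G → ℂ) (x ^ i.val)))
      (fun χ' _ => Complex.normSq_nonneg _) (Finset.mem_univ χ)
  have hχ : Complex.normSq (∑ i : ZMod p, cf a b i * (χ : G → ℂ) (x ^ i.val)) =
      ((p : ℝ) * ((mult ρ x a : ℝ) - (mult ρ x b : ℝ))) ^ 2 := by
    rw [← hρ, test_eq ρ x hx a b]
    have : (p : ℂ) * ((mult ρ x a : ℂ) - (mult ρ x b : ℂ)) =
        (((p : ℝ) * ((mult ρ x a : ℝ) - (mult ρ x b : ℝ)) : ℝ) : ℂ) := by push_cast; ring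
    rw [this, Complex.normSq_ofReal]
    ring
  rw [hχ, hid2, ← Finset.mul_sum] at hle
  have h2 : (p : ℝ) ^ 2 * ((mult ρ x a : ℝ) - (mult ρ x b : ℝ)) ^ 2 ≤
      (p : ℝ) ^ 2 * ∑ s ∈ Rset (p := p) x, Dr a b s := by nlinarith
  exact le_of_mul_le_mul_left h2 (by positivity)

end Main

end Cfsg.Agent.Lib.Helper7.KJ
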