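import Mathlib
import Cfsg.Prelude
import Cfsg.Agent.Lib.Helper7.KJC

set_option autoImplicit false
open Cfsg

/-! Self-centralizing element of prime order: a character of degree `p - 1` restricts to
`ρ_P - 1` (deduction). -/

namespace Cfsg.Agent.Lib.Helper7.KJ

open scoped ComplexConjugate

section Main

variable {G : Type*} [Group G] [Fintype G] {p : ℕ} [Fact p.Prime]
variable {V : Type*} [AddCommGroup V] [Module ℂ V] [FiniteDimensional ℂ V]

theorem mult_mul_Rset (x : G) (hx : orderOf x = p)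
    (χ : IrrCharacter G) (ρ : Representation ℂ G V) (hρ : ρ.character = (χ : G → ℂ))
    (a s : ZMod p) (hs : s ∈ Rset (p := p) x) :
    mult ρ x (a * s) = mult ρ x a := by
  have hp : p.Prime := Fact.out
  rw [mem_Rset] at hs
  have hcl := Cfsg.Agent.Lib.Helper4.isClassFunction_of_isIrrCharacter χ.2
  have h1 := mult_inversion ρ x hx (a * s)
  have h2 := mult_inversion ρ x hx a
  have h3 : ∑ i : ZMod p, ρ.character (x ^ i.val) * ZMod.stdAddChar (N := p) (-(a * i)) =
      ∑ i : ZMod p, ρ.character (x ^ (i * s).val) * ZMod.stdAddChar (N := p) (-(a * (i * s))) :=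
    (Fintype.sum_equiv (Equiv.mulRight₀ s hs.1) _ _ (fun i => rfl)).symm
  have h4 : ∀ i : ZMod p, ρ.character (x ^ (i * s).val) = ρ.character (x ^ i.val) := by
    intro i
    rw [hρ, mul_comm, pow_val_mul x hx]
    exact Cfsg.Agent.Lib.Helper4.char_eq_of_isConj hcl (isConj_pow hs.2 i.val)
  have h5 : (p : ℂ) * (mult ρ x (a * s) : ℂ) = (p : ℂ) * (mult ρ x a : ℂ) := by
    rw [h1, h2, h3]
    refine Finset.sum_congr rfl fun i _ => ?_
    rw [h4]
    congr 3
    ring
  have hp0 : (p : ℂ) ≠ 0 := Nat.cast_ne_zero.mpr hp.ne_zero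
  exact_mod_cast mul_left_cancel₀ hp0 h5

open scoped Classical in
theorem mult_eq_one [Fintype (IrrCharacter G)] (x : G) (hx : orderOf x = p)
    (hC : Subgroup.centralizer ({x} : Set G) = Subgroup.zpowers x)
    (χ : IrrCharacter G) (ρ : Representation ℂ G V) (hρ : ρ.character = (χ : G → ℂ))
    (hdim : Module.finrank ℂ V + 1 = p) (hR : 2 ≤ (Rset (p := p) x).card) :
    ∀ a : ZMod p, a ≠ 0 → mult ρ x a = 1 := by
  have hp : p.Prime := Fact.out
  have hsum := sum_mult ρ x hx
  have hcardp : (Finset.univ.erase (0 : ZMod p)).card = p - 1 := by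
    rw [Finset.card_erase_of_mem (Finset.mem_univ _), Finset.card_univ, ZMod.card]
  have hsplit : mult ρ x (0 : ZMod p) + ∑ a ∈ Finset.univ.erase (0 : ZMod p), mult ρ x a =
      Module.finrank ℂ V := by
    rw [← hsum, Finset.add_sum_erase _ _ (Finset.mem_univ _)]
  -- first: no zero multiplicities
  have hpos : ∀ b : ZMod p, b ≠ 0 → mult ρ x b ≠ 0 := by
    intro b hb hmb
    have hle1 : ∀ a : ZMod p, a ≠ 0 → mult ρ x a ≤ 1 := by
      intro a ha
      have h := mult_diff_sq_le x hx hC χ ρ hρ a b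
      have h2 : ∑ s ∈ Rset (p := p) x, Dr a b s ≤ 2 := by
        calc ∑ s ∈ Rset (p := p) x, Dr a b s
            ≤ ∑ s ∈ Rset (p := p) x, (if s = 1 then (2 : ℝ) else 0) :=
              Finset.sum_le_sum fun s _ => Dr_le_of_ne a b s ha hb
          _ = 2 := by
              rw [Finset.sum_ite_eq' (Rset (p := p) x) 1 (fun _ => (2 : ℝ)), if_pos (one_mem_Rset x)]
      rw [hmb, Nat.cast_zero, sub_zero] at h
      have h3 : ((mult ρ x a : ℝ)) ^ 2 ≤ 2 := le_trans h h2
      by_contra hcon
      push_neg at hcon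
      have h4 : (2 : ℝ) ≤ (mult ρ x a : ℝ) := by exact_mod_cast hcon
      nlinarith
    set Z := (Finset.univ.erase (0 : ZMod p)).filter (fun a => mult ρ x a = 0) with hZ
    have hZcard : (Rset (p := p) x).card ≤ Z.card := by
      have hsub : (Rset (p := p) x).image (fun s => b * s) ⊆ Z := by
        intro a ha
        obtain ⟨s, hs, rfl⟩ := Finset.mem_image.mp ha
        rw [hZ, Finset.mem_filter, Finset.mem_erase]
        refine ⟨⟨mul_ne_zero hb ((mem_Rset x s).mp hs).1, Finset.mem_univ _⟩, ?_⟩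
        rw [mult_mul_Rset x hx χ ρ hρ b s hs, hmb]
      calc (Rset (p := p) x).card
          = ((Rset (p := p) x).image (fun s => b * s)).card :=
            (Finset.card_image_of_injective _ (fun s t hst => mul_left_cancel₀ hb hst)).symm
        _ ≤ Z.card := Finset.card_le_card hsub
    have hcount : ∑ a ∈ Finset.univ.erase (0 : ZMod p), mult ρ x a + Z.card = p - 1 := by
      rw [hZ, Finset.card_filter, ← Finset.sum_add_distrib, ← hcardp, Finset.card_eq_sum_ones]
      refine Finset.sum_congr rfl fun a ha => ?_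
      have ha0 : a ≠ 0 := (Finset.mem_erase.mp ha).1
      have := hle1 a ha0
      by_cases h0 : mult ρ x a = 0
      · rw [if_pos h0, h0]
      · rw [if_neg h0]
        omega
    have hm0 : mult ρ x (0 : ZMod p) = Z.card := by
      have h1 : 1 ≤ p := hp.one_lt.le
      omega
    have h := mult_diff_sq_le x hx hC χ ρ hρ 0 b
    have h2 : ∑ s ∈ Rset (p := p) x, Dr 0 b s = ((Rset (p := p) x).card : ℝ) + 1 := by
      have : ∀ s ∈ Rset (p := p) x, Dr 0 b s = 1 + if s = 1 then 1 else 0 :=
        fun s hs => Dr_zero b s hb ((mem_Rset x s).mp hs).1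
      rw [Finset.sum_congr rfl this, Finset.sum_add_distrib,
        Finset.sum_ite_eq' (Rset (p := p) x) 1 (fun _ => (1 : ℝ)), if_pos (one_mem_Rset x)]
      simp
    rw [hmb, Nat.cast_zero, sub_zero, h2, hm0] at h
    have h3 : ((Rset (p := p) x).card : ℝ) ≤ (Z.card : ℝ) := by exact_mod_cast hZcard
    have h4 : (2 : ℝ) ≤ ((Rset (p := p) x).card : ℝ) := by exact_mod_cast hR
    nlinarith
  -- conclusion
  have hle : ∀ a ∈ Finset.univ.erase (0 : ZMod p), 1 ≤ mult ρ x a := by
    intro a ha
    exact Nat.one_le_iff_ne_zero.mpr (hpos a (Finset.mem_erase.mp ha).1)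
  have hsum1 : ∑ a ∈ Finset.univ.erase (0 : ZMod p), 1 =
      ∑ a ∈ Finset.univ.erase (0 : ZMod p), mult ρ x a := by
    apply le_antisymm (Finset.sum_le_sum hle)
    rw [Finset.sum_const, smul_eq_mul, mul_one, hcardp]
    omega
  intro a ha
  have := (Finset.sum_eq_sum_iff_of_le hle).mp hsum1 a (Finset.mem_erase.mpr ⟨ha, Finset.mem_univ _⟩)
  exact this.symm

end Main

end Cfsg.Agent.Lib.Helper7.KJ
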