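import Mathlib
import Cfsg.Prelude
import Cfsg.Agent.Lib.Helper7.KJA

set_option autoImplicit false
open Cfsg

/-! Determinant of an element permuting the eigenlines of a cyclic subgroup of prime order. -/

namespace Cfsg.Agent.Lib.Helper7.KJ

open scoped ComplexConjugate

section Det

variable {G : Type*} [Group G] [Finite G] {p : ℕ} [Fact p.Prime]
variable {V : Type*} [AddCommGroup V] [Module ℂ V] [FiniteDimensional ℂ V]

theorem eigen_step (ρ : Representation ℂ G V) (x w : G) (s : ZMod p)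
    (hxw : x * w = w * x ^ s.val) (a : ZMod p) (v : V)
    (hv : v ∈ Module.End.eigenspace (ρ x) (ZMod.stdAddChar (N := p) a)) :
    ρ w v ∈ Module.End.eigenspace (ρ x) (ZMod.stdAddChar (N := p) (a * s)) := by
  rw [Module.End.mem_eigenspace_iff] at hv ⊢
  have h1 : ρ x (ρ w v) = ρ w ((ρ x ^ s.val) v) := by
    rw [← Module.End.mul_apply, ← map_mul, hxw, map_mul, map_pow, Module.End.mul_apply]
  have h2 : ∀ n : ℕ, (ρ x ^ n) v = (ZMod.stdAddChar (N := p) a) ^ n • v := by
    intro n
    induction n with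
    | zero => simp
    | succ n ih =>
      rw [pow_succ, Module.End.mul_apply, hv, map_smul, ih, smul_smul, pow_succ, mul_comm]
  rw [h1, h2, map_smul, psi_pow, ZMod.natCast_zmod_val]

theorem eigen_pow (ρ : Representation ℂ G V) (x w : G) (s : (ZMod p)ˣ)
    (hxw : x * w = w * x ^ (s : ZMod p).val) (a : (ZMod p)ˣ) (v : V)
    (hv : v ∈ Module.End.eigenspace (ρ x) (ZMod.stdAddChar (N := p) (a : ZMod p))) (i : ℕ) :
    ρ (w ^ i) v ∈ Module.End.eigenspace (ρ x)
      (ZMod.stdAddChar (N := p) ((a * s ^ i : (ZMod p)ˣ) : ZMod p)) := by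
  induction i with
  | zero => simpa using hv
  | succ n ih =>
    have h := eigen_step ρ x w (s : ZMod p) hxw _ _ ih
    have hw1 : w ^ (n + 1) = w * w ^ n := pow_succ' w n
    rw [hw1, map_mul, Module.End.mul_apply]
    convert h using 3
    push_cast
    ring

theorem rho_ne_zero (ρ : Representation ℂ G V) (g : G) (v : V) (hv : v ≠ 0) : ρ g v ≠ 0 := by
  intro h
  apply hv
  have : ρ g⁻¹ (ρ g v) = v := by
    rw [← Module.End.mul_apply, ← map_mul, inv_mul_cancel, map_one, Module.End.one_apply]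
  rw [← this, h, map_zero]

open scoped Classical in
theorem det_eq (ρ : Representation ℂ G V) (x w : G)
    (hm : ∀ a : ZMod p, a ≠ 0 → mult ρ x a = 1) (hdim : Module.finrank ℂ V + 1 = p)
    (s : (ZMod p)ˣ) (L' : ℕ) (hs : orderOf s = L' + 1) (hw : w ^ (L' + 1) = 1)
    (hxw : x * w = w * x ^ (s : ZMod p).val) :
    LinearMap.det (ρ w) =
      ((-1 : ℂ) ^ L') ^ (Nat.card ((ZMod p)ˣ ⧸ Subgroup.zpowers s)) := by
  have hp : p.Prime := Fact.out
  let Q := (ZMod p)ˣ ⧸ Subgroup.zpowers s
  haveI : Fintype Q := Fintype.ofFinite Q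
  -- eigenvectors
  have hex : ∀ j : Q, ∃ u : V, u ≠ 0 ∧
      u ∈ Module.End.eigenspace (ρ x) (ZMod.stdAddChar (N := p) ((Quotient.out j : (ZMod p)ˣ) : ZMod p)) := by
    intro j
    have h1 := hm ((Quotient.out j : (ZMod p)ˣ) : ZMod p) (Units.ne_zero _)
    unfold mult at h1
    have h2 : Module.End.eigenspace (ρ x)
        (ZMod.stdAddChar (N := p) ((Quotient.out j : (ZMod p)ˣ) : ZMod p)) ≠ ⊥ := by
      intro h
      rw [h, finrank_bot] at h1
      exact zero_ne_one h1
    obtain ⟨u, hu, hu0⟩ := (Submodule.ne_bot_iff _).mp h2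
    exact ⟨u, hu0, hu⟩
  choose u hu0 hu using hex
  let b : Q × Fin (L' + 1) → V := fun ji => ρ (w ^ ji.2.val) (u ji.1)
  let ev : Q × Fin (L' + 1) → ℂ := fun ji =>
    ZMod.stdAddChar (N := p) (((Quotient.out ji.1 : (ZMod p)ˣ) * s ^ ji.2.val : (ZMod p)ˣ) : ZMod p)
  have hev : ∀ ji, Module.End.HasEigenvector (ρ x) (ev ji) (b ji) := by
    intro ji
    exact ⟨eigen_pow ρ x w s hxw _ _ (hu ji.1) ji.2.val, rho_ne_zero ρ _ _ (hu0 ji.1)⟩
  have hinj : Function.Injective ev := by
    rintro ⟨j, i⟩ ⟨j', i'⟩ h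
    have h1 : (Quotient.out j : (ZMod p)ˣ) * s ^ i.val = (Quotient.out j' : (ZMod p)ˣ) * s ^ i'.val :=
      Units.ext (ZMod.injective_stdAddChar h)
    have h2 : (Quotient.out j : (ZMod p)ˣ)⁻¹ * (Quotient.out j' : (ZMod p)ˣ) ∈ Subgroup.zpowers s := by
      have e1 : (Quotient.out j' : (ZMod p)ˣ) =
          (Quotient.out j : (ZMod p)ˣ) * s ^ i.val * (s ^ i'.val)⁻¹ := by
        rw [h1, mul_inv_cancel_right]
      have e2 : (Quotient.out j : (ZMod p)ˣ)⁻¹ * (Quotient.out j' : (ZMod p)ˣ) =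
          s ^ i.val * (s ^ i'.val)⁻¹ := by
        rw [e1, mul_assoc, inv_mul_cancel_left]
      rw [e2]
      exact Subgroup.mul_mem _ (Subgroup.pow_mem _ (Subgroup.mem_zpowers s) _)
        (Subgroup.inv_mem _ (Subgroup.pow_mem _ (Subgroup.mem_zpowers s) _))
    have h3 : j = j' := by
      have := QuotientGroup.eq.mpr h2
      rwa [QuotientGroup.out_eq', QuotientGroup.out_eq'] at this
    subst h3
    have h4 : s ^ i.val = s ^ i'.val := mul_left_cancel h1
    have h5 : i.val = i'.val := by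
      apply pow_injOn_Iio_orderOf (x := s)
      · rw [Set.mem_Iio, hs]; exact i.isLt
      · rw [Set.mem_Iio, hs]; exact i'.isLt
      · exact h4
    rw [Fin.ext h5]
  have hli : LinearIndependent ℂ b := Module.End.eigenvectors_linearIndependent' (ρ x) ev hinj b hev
  have hQL : Nat.card Q * (L' + 1) = p - 1 := by
    have h1 := Subgroup.card_eq_card_quotient_mul_card_subgroup (Subgroup.zpowers s)
    rw [Nat.card_zpowers, hs, Nat.card_eq_fintype_card, ZMod.card_units] at h1
    exact h1.symm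
  have hcard : Fintype.card (Q × Fin (L' + 1)) = Module.finrank ℂ V := by
    rw [Fintype.card_prod, Fintype.card_fin, ← Nat.card_eq_fintype_card, hQL]
    omega
  let B := basisOfLinearIndependentOfCardEqFinrank hli hcard
  have hB : ∀ ji, B ji = ρ (w ^ ji.2.val) (u ji.1) := by
    intro ji
    show basisOfLinearIndependentOfCardEqFinrank hli hcard ji = _
    rw [coe_basisOfLinearIndependentOfCardEqFinrank]
  let σ : Equiv.Perm (Q × Fin (L' + 1)) := Equiv.prodCongrRight (fun _ => finRotate (L' + 1))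
  have hAB : ∀ ji, ρ w (B ji) = B (σ ji) := by
    rintro ⟨j, i⟩
    rw [hB, hB]
    show ρ w (ρ (w ^ i.val) (u j)) = ρ (w ^ (finRotate (L' + 1) i).val) (u j)
    rw [← Module.End.mul_apply, ← map_mul, ← pow_succ']
    congr 2
    rw [coe_finRotate]
    split_ifs with hi
    · rw [hi, Fin.val_last, hw, pow_zero]
    · rfl
  have hmat : LinearMap.toMatrix B B (ρ w) = (σ.toPEquiv.toMatrix : Matrix _ _ ℂ).transpose := by
    ext k l
    rw [LinearMap.toMatrix_apply, hAB, Module.Basis.repr_self, Matrix.transpose_apply,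
      PEquiv.toMatrix_apply, Equiv.toPEquiv_apply, Finsupp.single_apply]
    simp only [Option.mem_def, Option.some.injEq]
  rw [← LinearMap.det_toMatrix B, hmat, Matrix.det_transpose, Matrix.det_permutation,
    Equiv.Perm.sign_prodCongrRight]
  simp only [sign_finRotate, Finset.prod_const, Finset.card_univ]
  rw [Nat.card_eq_fintype_card]
  push_cast
  rfl

end Det

end Cfsg.Agent.Lib.Helper7.KJ
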