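import Mathlib
import Cfsg.Prelude
import Cfsg.Agent.Lib.Helper7.KJB
import Cfsg.Agent.Lib.Helper11.SelfCent

set_option autoImplicit false
open Cfsg

/-! Self-centralizing element of prime order: the 2-part of the normalizer action. -/

namespace Cfsg.Agent.Lib.Helper7.KJ

open Subgroup

section Grp

variable {G : Type*} [Group G] {p : ℕ} [Fact p.Prime]

/-- multipliers as a subgroup of the units -/
def Rsub (x : G) (hx : orderOf x = p) : Subgroup (ZMod p)ˣ where
  carrier := {s | IsConj (x ^ (s : ZMod p).val) x}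
  one_mem' := by
    show IsConj (x ^ ((1 : (ZMod p)ˣ) : ZMod p).val) x
    rw [Units.val_one, pow_val_one]
  mul_mem' := by
    intro s s' hs hs'
    show IsConj (x ^ ((s * s' : (ZMod p)ˣ) : ZMod p).val) x
    rw [Units.val_mul, pow_val_mul x hx]
    exact (isConj_pow hs _).trans hs'
  inv_mem' := by
    intro s hs
    show IsConj (x ^ ((s⁻¹ : (ZMod p)ˣ) : ZMod p).val) x
    have h1 := isConj_pow hs ((s⁻¹ : (ZMod p)ˣ) : ZMod p).val
    rw [← pow_val_mul x hx, ← Units.val_mul, mul_inv_cancel, Units.val_one, pow_val_one] at h1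
    exact h1.symm

theorem mem_Rsub (x : G) (hx : orderOf x = p) (s : (ZMod p)ˣ) :
    s ∈ Rsub x hx ↔ IsConj (x ^ (s : ZMod p).val) x := Iff.rfl

theorem pow_val_injective (x : G) (hx : orderOf x = p) (a b : ZMod p)
    (h : x ^ a.val = x ^ b.val) : a = b := by
  apply ZMod.val_injective p
  apply pow_injOn_Iio_orderOf (x := x)
  · rw [Set.mem_Iio, hx]; exact ZMod.val_lt a
  · rw [Set.mem_Iio, hx]; exact ZMod.val_lt b
  · exact h

theorem card_Rsub [Finite G] (x : G) (hx : orderOf x = p)
    (hC : centralizer ({x} : Set G) = zpowers x) :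
    Nat.card (Rsub x hx) = (zpowers x).relIndex (normalizer (zpowers x : Set G)) := by
  have hp : p.Prime := Fact.out
  have hx1 : x ≠ 1 := by
    rintro rfl
    rw [orderOf_one] at hx
    exact hp.one_lt.ne hx
  have h1 := Cfsg.Agent.Lib.Helper11.ncard_conj_orbit (normalizer (zpowers x : Set G)) x
  rw [hC] at h1
  have h2 : {y : G | ∃ n ∈ normalizer (zpowers x : Set G), n * x * n⁻¹ = y} =
      (fun s : (ZMod p)ˣ => x ^ (s : ZMod p).val) '' (Rsub x hx : Set (ZMod p)ˣ) := by
    ext y
    constructor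
    · rintro ⟨n, hn, rfl⟩
      have hy : n * x * n⁻¹ ∈ zpowers x := (mem_normalizer_iff.mp hn x).mp (mem_zpowers x)
      rw [← mem_powers_iff_mem_zpowers, Submonoid.mem_powers_iff] at hy
      obtain ⟨k, hk⟩ := hy
      have hk2 : x ^ ((k : ZMod p)).val = n * x * n⁻¹ := by
        rw [ZMod.val_natCast, ← hk]
        have := pow_mod_orderOf x k
        rwa [hx] at this
      have ha : (k : ZMod p) ≠ 0 := by
        intro h0
        rw [h0, ZMod.val_zero, pow_zero] at hk2
        apply hx1
        have : n⁻¹ * (n * x * n⁻¹) * n = x := by group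
        rw [← this, ← hk2]
        group
      refine ⟨Units.mk0 (k : ZMod p) ha, ?_, ?_⟩
      · show IsConj (x ^ ((Units.mk0 (k : ZMod p) ha : (ZMod p)ˣ) : ZMod p).val) x
        rw [Units.val_mk0, hk2]
        exact (isConj_iff.mpr ⟨n, rfl⟩).symm
      · show x ^ ((Units.mk0 (k : ZMod p) ha : (ZMod p)ˣ) : ZMod p).val = _
        rw [Units.val_mk0, hk2]
    · rintro ⟨s, hs, rfl⟩
      have hs' : IsConj (x ^ (s : ZMod p).val) x := hs
      obtain ⟨g, hg⟩ := isConj_iff.mp hs'.symm
      refine ⟨g, ?_, hg⟩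
      apply Cfsg.Agent.Lib.Helper11.selfCent_mem_normalizer hp hx (mem_zpowers x) hx1 g
      rw [hg]
      exact Subgroup.pow_mem _ (mem_zpowers x) _
  have hinj : Function.Injective (fun s : (ZMod p)ˣ => x ^ (s : ZMod p).val) := by
    intro s s' h
    exact Units.ext (pow_val_injective x hx _ _ h)
  rw [h2, Set.ncard_image_of_injective _ hinj] at h1
  show _ = ((zpowers x).subgroupOf (normalizer (zpowers x : Set G))).index
  rw [← h1]
  exact (Nat.card_coe_set_eq _)

theorem two_le_card_Rset (x w : G) (s : (ZMod p)ˣ) (hs1 : s ≠ 1)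
    (hxw : x * w = w * x ^ (s : ZMod p).val) : 2 ≤ (Rset (p := p) x).card := by
  have h1 : (1 : ZMod p) ∈ Rset (p := p) x := one_mem_Rset x
  have h2 : (s : ZMod p) ∈ Rset (p := p) x := by
    rw [mem_Rset]
    refine ⟨Units.ne_zero s, isConj_iff.mpr ⟨w, ?_⟩⟩
    rw [← hxw, mul_inv_cancel_right]
  have hne : (1 : ZMod p) ≠ (s : ZMod p) := by
    intro h
    apply hs1
    exact Units.ext h.symm
  have hsub : ({1, (s : ZMod p)} : Finset (ZMod p)) ⊆ Rset (p := p) x := by
    intro a ha
    rw [Finset.mem_insert, Finset.mem_singleton] at ha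
    rcases ha with rfl | rfl
    · exact h1
    · exact h2
  calc 2 = ({1, (s : ZMod p)} : Finset (ZMod p)).card := (Finset.card_pair hne).symm
    _ ≤ _ := Finset.card_le_card hsub

end Grp

end Cfsg.Agent.Lib.Helper7.KJ
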