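import Mathlib
import Cfsg.Prelude
import Cfsg.Agent.Lib.Helper7.KJF

set_option autoImplicit false
open Cfsg

/-! Self-centralizing element of prime order: existence of a 2-element acting with full 2-part. -/

namespace Cfsg.Agent.Lib.Helper7.KJ

open Subgroup

section Grp

variable {G : Type*} [Group G] {p : ℕ} [Fact p.Prime]

theorem semiconj_pow (x c : G) (hx : orderOf x = p) (s : (ZMod p)ˣ)
    (h0 : x * c = c * x ^ (s : ZMod p).val) (k : ℕ) :
    x * c ^ k = c ^ k * x ^ ((s ^ k : (ZMod p)ˣ) : ZMod p).val := by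
  induction k with
  | zero =>
    rw [pow_zero, pow_zero, Units.val_one, pow_val_one, mul_one, one_mul]
  | succ k ih =>
    have hsc : SemiconjBy c (x ^ (s : ZMod p).val) x := h0.symm
    have h1 := hsc.pow_right ((s ^ k : (ZMod p)ˣ) : ZMod p).val
    have h2 : c * (x ^ (s : ZMod p).val) ^ ((s ^ k : (ZMod p)ˣ) : ZMod p).val =
        x ^ ((s ^ k : (ZMod p)ˣ) : ZMod p).val * c := h1
    rw [pow_succ, ← mul_assoc, ih, mul_assoc, ← h2, ← pow_val_mul x hx, ← Units.val_mul,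
      ← pow_succ', mul_assoc]

theorem exists_w [Finite G] (x : G) (hx : orderOf x = p)
    (hC : centralizer ({x} : Set G) = zpowers x) (hp2 : p ≠ 2)
    (ht : Odd (Nat.card {C : ConjClasses G // ∃ g ∈ C.carrier, orderOf g = p})) :
    ∃ (s : (ZMod p)ˣ) (L' : ℕ) (w : G), orderOf s = L' + 1 ∧ w ^ (L' + 1) = 1 ∧
      x * w = w * x ^ (s : ZMod p).val ∧ Odd L' ∧
      Odd (Nat.card ((ZMod p)ˣ ⧸ Subgroup.zpowers s)) := by
  have hp : p.Prime := Fact.out
  have hpodd : Odd p := hp.odd_of_ne_two hp2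
  have h11 := Cfsg.Agent.Lib.Helper11.selfCent_card_classes hp hx hC
  rw [← card_Rsub x hx hC] at h11
  set t := Nat.card {C : ConjClasses G // ∃ g ∈ C.carrier, orderOf g = p} with ht_def
  set e := Nat.card (Rsub x hx) with he_def
  have hp1 : p - 1 ≠ 0 := by have := hp.two_le; omega
  have h2dvd : 2 ∣ p - 1 := by
    obtain ⟨k, hk⟩ := hpodd
    exact ⟨k, by omega⟩
  set v := (p - 1).factorization 2 with hv_def
  have hv1 : 1 ≤ v := Nat.Prime.factorization_pos_of_dvd Nat.prime_two hp1 h2dvd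
  have hLdvd : 2 ^ v ∣ p - 1 := Nat.ordProj_dvd (p - 1) 2
  have hcop : Nat.Coprime (2 ^ v) t := Nat.Coprime.pow_left v (Nat.coprime_two_left.mpr ht)
  have hLe : 2 ^ v ∣ e := by
    apply hcop.dvd_of_dvd_mul_left
    rw [h11]
    exact hLdvd
  have he0 : e ≠ 0 := Nat.card_pos.ne'
  -- element of order 2 ^ v in Rsub
  obtain ⟨γ, hγ⟩ := IsCyclic.exists_ofOrder_eq_natCard (α := Rsub x hx)
  have hdiv : e / 2 ^ v ∣ e := Nat.div_dvd_of_dvd hLe
  have hdiv0 : e / 2 ^ v ≠ 0 := by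
    intro h
    have := Nat.div_mul_cancel hLe
    rw [h, zero_mul] at this
    exact he0 this.symm
  have hord : orderOf (γ ^ (e / 2 ^ v)) = 2 ^ v := by
    rw [orderOf_pow_of_dvd hdiv0 (by rw [hγ]; exact hdiv), hγ]
    exact Nat.div_div_self hLe he0
  set s0 : (ZMod p)ˣ := ((γ ^ (e / 2 ^ v) : Rsub x hx) : (ZMod p)ˣ) with hs0
  have hs0ord : orderOf s0 = 2 ^ v := by rw [hs0, Subgroup.orderOf_coe, hord]
  have hs0mem : IsConj (x ^ (s0 : ZMod p).val) x := (γ ^ (e / 2 ^ v)).2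
  obtain ⟨c, hc⟩ := isConj_iff.mp hs0mem
  have h0 : x * c = c * x ^ (s0 : ZMod p).val := by
    calc x * c = (c * x ^ (s0 : ZMod p).val * c⁻¹) * c := by rw [hc]
      _ = c * x ^ (s0 : ZMod p).val := by rw [inv_mul_cancel_right]
  have hpow := semiconj_pow x c hx s0 h0
  -- c ^ (2 ^ v) centralizes x
  have hcL : c ^ (2 ^ v) ∈ zpowers x := by
    rw [← hC, mem_centralizer_iff]
    intro y hy
    rw [Set.mem_singleton_iff] at hy
    subst hy
    have := hpow (2 ^ v)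
    rw [← hs0ord, pow_orderOf_eq_one, Units.val_one, pow_val_one] at this
    rw [← hs0ord]
    exact this
  have hcLp : (c ^ (2 ^ v)) ^ p = 1 := by
    have h1 := orderOf_dvd_of_mem_zpowers hcL
    rw [hx] at h1
    exact orderOf_dvd_iff_pow_eq_one.mp h1
  have hcopLp : Nat.Coprime (2 ^ v) p :=
    Nat.Coprime.pow_left v ((Nat.coprime_primes Nat.prime_two hp).mpr (Ne.symm hp2))
  have hL1 : 1 ≤ 2 ^ v := Nat.one_le_two_pow
  refine ⟨s0 ^ p, 2 ^ v - 1, c ^ p, ?_, ?_, ?_, ?_, ?_⟩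
  · rw [Nat.sub_add_cancel hL1, Nat.Coprime.orderOf_pow (by rw [hs0ord]; exact hcopLp), hs0ord]
  · rw [Nat.sub_add_cancel hL1, ← pow_mul, mul_comm, pow_mul, hcLp]
  · exact hpow p
  · have hev : Even (2 ^ v) := (Nat.even_pow' (by omega)).mpr even_two
    obtain ⟨k, hk⟩ := hev
    exact ⟨k - 1, by omega⟩
  · have hso : orderOf (s0 ^ p) = 2 ^ v := by
      rw [Nat.Coprime.orderOf_pow (by rw [hs0ord]; exact hcopLp), hs0ord]
    have h1 := Subgroup.card_eq_card_quotient_mul_card_subgroup (Subgroup.zpowers (s0 ^ p))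
    rw [Nat.card_zpowers, hso, Nat.card_eq_fintype_card, ZMod.card_units] at h1
    have h2 : Nat.card ((ZMod p)ˣ ⧸ Subgroup.zpowers (s0 ^ p)) = (p - 1) / 2 ^ v := by
      rw [h1, Nat.mul_div_cancel _ (by positivity)]
    rw [h2, ← Nat.not_even_iff_odd, even_iff_two_dvd]
    exact Nat.not_dvd_ordCompl Nat.prime_two hp1

end Grp

end Cfsg.Agent.Lib.Helper7.KJ
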