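import Mathlib
import Cfsg.Prelude
import Cfsg.Agent.S4496
import Cfsg.Agent.Lib.Helper11.SelfCent
import Cfsg.Agent.Lib.Helper20.Cores

set_option autoImplicit false
open Cfsg

/-! Self-centralizing element of prime order: structural facts for S4509. -/

namespace Cfsg.Agent.Lib.Helper7.KK

open Subgroup
open scoped commutatorElement

section Basic

variable {G : Type*} [Group G] [Finite G] {p : ℕ} [Fact p.Prime] {x : G}

theorem mem_zpowers_of_commute (hC : centralizer ({x} : Set G) = zpowers x) (g : G)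
    (h : x * g = g * x) : g ∈ zpowers x := by
  rw [← hC, mem_centralizer_iff]
  intro w hw
  rw [Set.mem_singleton_iff.1 hw]
  exact h

theorem eq_one_of_commute (hx : orderOf x = p) (hC : centralizer ({x} : Set G) = zpowers x)
    (S : Subgroup G) (hS : ¬ p ∣ Nat.card S) (g : G) (hg : g ∈ S) (h : x * g = g * x) : g = 1 :=
  Cfsg.Agent.S4496.eq_one_of_mem_of_mem_zpowers Fact.out hx S hS g hg
    (mem_zpowers_of_commute hC g h)

theorem normalizer_inf_eq_bot (hx : orderOf x = p) (hC : centralizer ({x} : Set G) = zpowers x)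
    (S : Subgroup G) [hSn : S.Normal] (hS : ¬ p ∣ Nat.card S) :
    normalizer (zpowers x : Set G) ⊓ S = ⊥ := by
  have hp : p.Prime := Fact.out
  rw [eq_bot_iff]
  rintro s ⟨hsN, hsS⟩
  rw [mem_bot]
  apply eq_one_of_commute hx hC S hS s hsS
  have h1 : s * x * s⁻¹ ∈ zpowers x := ((mem_normalizer_iff.1 hsN) x).1 (mem_zpowers x)
  have h2 : s * x * s⁻¹ * x⁻¹ ∈ zpowers x := mul_mem h1 (inv_mem (mem_zpowers x))
  have h3 : s * x * s⁻¹ * x⁻¹ ∈ S := by
    have : s * x * s⁻¹ * x⁻¹ = s * (x * s⁻¹ * x⁻¹) := by group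
    rw [this]
    exact S.mul_mem hsS (hSn.conj_mem _ (S.inv_mem hsS) x)
  have h4 := Cfsg.Agent.S4496.eq_one_of_mem_of_mem_zpowers hp hx S hS _ h3 h2
  have : x * s = (s * x * s⁻¹ * x⁻¹)⁻¹ * (s * x) := by group
  rw [this, h4, inv_one, one_mul]

/-- a normal `p'`-subgroup consists of commutators with `x` -/
theorem le_commutator_of_mem (hx : orderOf x = p) (hC : centralizer ({x} : Set G) = zpowers x)
    (S : Subgroup G) [hSn : S.Normal] (hS : ¬ p ∣ Nat.card S) (H : Subgroup G) (hSH : S ≤ H)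
    (hxH : x ∈ H) : S ≤ ⁅H, H⁆ := by
  let f : S → S := fun k => ⟨⁅(k : G), x⁆, by
    rw [commutatorElement_def]
    have : (k : G) * x * (k : G)⁻¹ * x⁻¹ = (k : G) * (x * (k : G)⁻¹ * x⁻¹) := by group
    rw [this]
    exact S.mul_mem k.2 (hSn.conj_mem _ (S.inv_mem k.2) x)⟩
  have hinj : Function.Injective f := by
    intro k l hkl
    have h1 : ⁅(k : G), x⁆ = ⁅(l : G), x⁆ := congrArg Subtype.val hkl
    rw [commutatorElement_def, commutatorElement_def] at h1
    have h2 : (k : G) * x * (k : G)⁻¹ = (l : G) * x * (l : G)⁻¹ := mul_right_cancel h1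
    have h3 : x * ((l : G)⁻¹ * (k : G)) = ((l : G)⁻¹ * (k : G)) * x := by
      have : x = (l : G)⁻¹ * ((k : G) * x * (k : G)⁻¹) * (l : G) := by rw [h2]; group
      calc x * ((l : G)⁻¹ * (k : G))
          = ((l : G)⁻¹ * ((k : G) * x * (k : G)⁻¹) * (l : G)) * ((l : G)⁻¹ * (k : G)) := by
            rw [← this]
        _ = ((l : G)⁻¹ * (k : G)) * x := by group
    have h4 := eq_one_of_commute hx hC S hS _ (S.mul_mem (S.inv_mem l.2) k.2) h3
    apply Subtype.ext
    have : (k : G) = (l : G) * ((l : G)⁻¹ * (k : G)) := by group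
    rw [this, h4, mul_one]
  have hsurj : Function.Surjective f := Finite.injective_iff_surjective.mp hinj
  intro s hs
  obtain ⟨k, hk⟩ := hsurj ⟨s, hs⟩
  have : s = ⁅(k : G), x⁆ := (congrArg Subtype.val hk).symm
  rw [this]
  exact Subgroup.commutator_mem_commutator (hSH k.2) hxH

/-- the commutator subgroup of the normalizer lies in `⟨x⟩` -/
theorem commutator_normalizer_le (hC : centralizer ({x} : Set G) = zpowers x) :
    ⁅normalizer (zpowers x : Set G), normalizer (zpowers x : Set G)⁆ ≤ zpowers x := by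
  have key : ∀ a ∈ normalizer (zpowers x : Set G), ∀ b ∈ normalizer (zpowers x : Set G),
      x * (b⁻¹ * a⁻¹ * b * a) = (b⁻¹ * a⁻¹ * b * a) * x := by
    intro a ha b hb
    have ha' : a * x * a⁻¹ ∈ zpowers x := ((mem_normalizer_iff.1 ha) x).1 (mem_zpowers x)
    have hb' : b * x * b⁻¹ ∈ zpowers x := ((mem_normalizer_iff.1 hb) x).1 (mem_zpowers x)
    obtain ⟨i, hi⟩ := mem_zpowers_iff.1 ha'
    obtain ⟨j, hj⟩ := mem_zpowers_iff.1 hb'
    have h1 : a * (b * x * b⁻¹) * a⁻¹ = x ^ (i * j) := by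
      rw [← hj]
      have : a * x ^ j * a⁻¹ = (a * x * a⁻¹) ^ j := by
        rw [← MulAut.conj_apply, map_zpow, MulAut.conj_apply]
      rw [this, ← hi, ← zpow_mul]
    have h2 : b * (a * x * a⁻¹) * b⁻¹ = x ^ (i * j) := by
      rw [← hi]
      have : b * x ^ i * b⁻¹ = (b * x * b⁻¹) ^ i := by
        rw [← MulAut.conj_apply, map_zpow, MulAut.conj_apply]
      rw [this, ← hj, ← zpow_mul, mul_comm]
    have h3 : a * (b * x * b⁻¹) * a⁻¹ = b * (a * x * a⁻¹) * b⁻¹ := by rw [h1, h2]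
    calc x * (b⁻¹ * a⁻¹ * b * a)
        = (b⁻¹ * a⁻¹) * (a * (b * x * b⁻¹) * a⁻¹) * (b * a) := by group
      _ = (b⁻¹ * a⁻¹) * (b * (a * x * a⁻¹) * b⁻¹) * (b * a) := by rw [h3]
      _ = (b⁻¹ * a⁻¹ * b * a) * x := by group
  rw [Subgroup.commutator_le]
  intro a ha b hb
  apply mem_zpowers_of_commute hC
  rw [commutatorElement_def]
  have := key b⁻¹ (inv_mem hb) a⁻¹ (inv_mem ha)
  rw [inv_inv, inv_inv] at this
  exact this

end Basic

end Cfsg.Agent.Lib.Helper7.KK
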