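import Mathlib
import Cfsg.Prelude
import Cfsg.Agent.Lib.Helper7.KKA

set_option autoImplicit false
open Cfsg

/-! Self-centralizing element of prime order: counting and the two cases of S4509. -/

namespace Cfsg.Agent.Lib.Helper7.KK

open Subgroup
open scoped commutatorElement

section Count

variable {G : Type*} [Group G] [Finite G] {p : ℕ} [Fact p.Prime] {x : G}

theorem card_subgroups_eq_index (hx : orderOf x = p)
    (hC : centralizer ({x} : Set G) = zpowers x) :
    Nat.card {H : Subgroup G // Nat.card H = p} = (normalizer (zpowers x : Set G)).index := by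
  have hp : p.Prime := Fact.out
  obtain ⟨P, hP⟩ := Cfsg.Agent.Lib.Helper11.selfCent_exists_sylow hx hC
  have hPcard : Nat.card (P : Subgroup G) = p := by rw [hP, Nat.card_zpowers, hx]
  have hfac : (Nat.card G).factorization p = 1 := by
    have h1 := P.card_eq_multiplicity
    rw [hPcard] at h1
    have h2 : p ^ 1 = p ^ (Nat.card G).factorization p := by rw [pow_one]; exact h1
    exact (Nat.pow_right_injective hp.two_le h2).symm
  have hequiv : Nat.card {H : Subgroup G // Nat.card H = p} = Nat.card (Sylow p G) := by
    refine Nat.card_congr ⟨fun H => Sylow.ofCard H.1 (by rw [H.2, hfac, pow_one]),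
      fun Q => ⟨Q, by rw [Q.card_eq_multiplicity, hfac, pow_one]⟩, ?_, ?_⟩
    · intro H
      apply Subtype.ext
      rfl
    · intro Q
      apply Sylow.ext
      rfl
  rw [hequiv, P.card_eq_index_normalizer]
  have : normalizer ((P : Subgroup G) : Set G) = normalizer (zpowers x : Set G) := by rw [hP]
  rw [← this]
  rfl

theorem card_normalizer_eq (hx : orderOf x = p) :
    Nat.card (normalizer (zpowers x : Set G)) =
      p * (zpowers x).relIndex (normalizer (zpowers x : Set G)) := by
  have hle : zpowers x ≤ normalizer (zpowers x : Set G) := le_normalizer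
  have h1 := Subgroup.card_mul_index ((zpowers x).subgroupOf (normalizer (zpowers x : Set G)))
  have h2 : Nat.card ((zpowers x).subgroupOf (normalizer (zpowers x : Set G))) = p := by
    rw [Nat.card_congr (Subgroup.subgroupOfEquivOfLe hle).toEquiv, Nat.card_zpowers, hx]
  rw [h2] at h1
  exact h1.symm

theorem card_eq (hx : orderOf x = p) :
    Nat.card G = (normalizer (zpowers x : Set G)).index *
      (p * (zpowers x).relIndex (normalizer (zpowers x : Set G))) := by
  rw [← card_normalizer_eq hx, Subgroup.index_mul_card]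

theorem card_core_dvd (hx : orderOf x = p) (hC : centralizer ({x} : Set G) = zpowers x) :
    Nat.card (pPrimeCore p G) ∣ (normalizer (zpowers x : Set G)).index := by
  have hp : p.Prime := Fact.out
  haveI : (pPrimeCore p G).Normal := (Cfsg.Agent.Lib.Helper20.pPrimeCore_mem' p).1
  have hcop : ¬ p ∣ Nat.card (pPrimeCore p G) := by
    have := Cfsg.Agent.Lib.Helper20.pPrimeCore_coprime' (G := G) p
    exact (Nat.Prime.coprime_iff_not_dvd hp).mp this.symm
  have h := ((Cfsg.Agent.S4496.result p hp x hx hC (pPrimeCore p G)).2 hcop).1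
  rwa [card_subgroups_eq_index hx hC] at h

theorem not_dvd_core (G : Type*) [Group G] [Finite G] (p : ℕ) [Fact p.Prime] :
    ¬ p ∣ Nat.card (pPrimeCore p G) := by
  have hp : p.Prime := Fact.out
  have := Cfsg.Agent.Lib.Helper20.pPrimeCore_coprime' (G := G) p
  exact (Nat.Prime.coprime_iff_not_dvd hp).mp this.symm

/-- the case `N_G(P) = P` -/
theorem case_one (hx : orderOf x = p) (hC : centralizer ({x} : Set G) = zpowers x)
    (he : (zpowers x).relIndex (normalizer (zpowers x : Set G)) = 1) :
    Nat.card (pPrimeCore p G) = (normalizer (zpowers x : Set G)).index := by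
  have hp : p.Prime := Fact.out
  obtain ⟨P, hP⟩ := Cfsg.Agent.Lib.Helper11.selfCent_exists_sylow hx hC
  have hPcard : Nat.card (P : Subgroup G) = p := by rw [hP, Nat.card_zpowers, hx]
  have hNP : normalizer (zpowers x : Set G) ≤ zpowers x := Subgroup.relIndex_eq_one.mp he
  have hNC : normalizer ((P : Subgroup G) : Set G) ≤ centralizer ((P : Subgroup G) : Set G) := by
    rw [hP]
    intro n hn
    have hn' := hNP hn
    rw [mem_centralizer_iff]
    intro y hy
    obtain ⟨i, rfl⟩ := mem_zpowers_iff.1 hn'
    obtain ⟨j, rfl⟩ := mem_zpowers_iff.1 hy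
    exact zpow_mul_comm x j i
  have hcomp := MonoidHom.ker_transferSylow_isComplement' P hNC
  have hcard := hcomp.card_mul_card
  rw [hPcard, card_eq hx, he, mul_one] at hcard
  have hK0 : Nat.card (MonoidHom.transferSylow P hNC).ker =
      (normalizer (zpowers x : Set G)).index := Nat.eq_of_mul_eq_mul_right hp.pos hcard
  have hK0p : ¬ p ∣ Nat.card (MonoidHom.transferSylow P hNC).ker :=
    MonoidHom.not_dvd_card_ker_transferSylow P hNC
  have hle : (MonoidHom.transferSylow P hNC).ker ≤ pPrimeCore p G :=
    Cfsg.Agent.Lib.Helper20.le_pPrimeCore' inferInstance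
      ((Nat.Prime.coprime_iff_not_dvd hp).mpr hK0p).symm
  have h1 := Subgroup.card_dvd_of_le hle
  rw [hK0] at h1
  exact Nat.dvd_antisymm (card_core_dvd hx hC) h1

end Count

end Cfsg.Agent.Lib.Helper7.KK
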