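import Mathlib
import Cfsg.Prelude
import Cfsg.Agent.Lib.Helper7.KKB

set_option autoImplicit false
open Cfsg

/-! Self-centralizing element of prime order: the case `t < p - 1` of S4509. -/

namespace Cfsg.Agent.Lib.Helper7.KK

open Subgroup
open scoped commutatorElement

section Two

variable {G : Type*} [Group G] [Finite G] {p : ℕ} [Fact p.Prime] {x : G}

theorem derived_two_eq (G : Type*) [Group G] :
    derivedSeries G 2 = ⁅commutator G, commutator G⁆ := by
  rw [derivedSeries_succ, derivedSeries_one]

/-- the quotient `G'/K` -/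
abbrev Quo (G : Type*) [Group G] (p : ℕ) : Type _ :=
  ↥(commutator G) ⧸ (pPrimeCore p G).subgroupOf (commutator G)

theorem card_commutator_eq (hK : pPrimeCore p G ≤ commutator G)
    [((pPrimeCore p G).subgroupOf (commutator G)).Normal] :
    Nat.card (commutator G) = Nat.card (pPrimeCore p G) * Nat.card (Quo G p) := by
  have h1 := Subgroup.card_mul_index ((pPrimeCore p G).subgroupOf (commutator G))
  rw [Nat.card_congr (Subgroup.subgroupOfEquivOfLe hK).toEquiv, Subgroup.index_eq_card] at h1
  exact h1.symm

theorem mem_and_le (hx : orderOf x = p) (hC : centralizer ({x} : Set G) = zpowers x)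
    (hK : pPrimeCore p G ≤ commutator G)
    [((pPrimeCore p G).subgroupOf (commutator G)).Normal]
    [hs : IsSimpleGroup (Quo G p)] :
    x ∈ commutator G ∧ pPrimeCore p G ≤ derivedSeries G 2 := by
  have hp : p.Prime := Fact.out
  haveI : (pPrimeCore p G).Normal := (Cfsg.Agent.Lib.Helper20.pPrimeCore_mem' p).1
  have hdvd : p ∣ Nat.card (commutator G) := by
    by_contra hnd
    have hle : commutator G ≤ pPrimeCore p G :=
      Cfsg.Agent.Lib.Helper20.le_pPrimeCore' inferInstance
        ((Nat.Prime.coprime_iff_not_dvd hp).mpr hnd).symm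
    have htop : (pPrimeCore p G).subgroupOf (commutator G) = ⊤ := Subgroup.subgroupOf_eq_top.mpr hle
    have h1 := card_commutator_eq (p := p) hK
    have h2 : Nat.card (commutator G) = Nat.card (pPrimeCore p G) :=
      le_antisymm (Subgroup.card_le_of_le hle) (Subgroup.card_le_of_le hK)
    have h3 : Nat.card (Quo G p) = 1 := by
      have hpos : 0 < Nat.card (pPrimeCore p G) := Nat.card_pos
      rw [h2] at h1
      have : Nat.card (pPrimeCore p G) * 1 = Nat.card (pPrimeCore p G) * Nat.card (Quo G p) := by
        rw [mul_one]; exact h1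
      exact (Nat.eq_of_mul_eq_mul_left hpos this).symm
    have h4 : 1 < Nat.card (Quo G p) := Finite.one_lt_card
    omega
  have hxm : x ∈ commutator G := Cfsg.Agent.S4496.mem_of_dvd_card hx hC (commutator G) hdvd
  refine ⟨hxm, ?_⟩
  rw [derived_two_eq]
  exact le_commutator_of_mem hx hC (pPrimeCore p G) (not_dvd_core G p) (commutator G) hK hxm

/-- if `G'/K` has order `p` then `G'' ≤ K` and `G'' ≠ G'` -/
theorem derived_le_of_card (hK : pPrimeCore p G ≤ commutator G)
    [((pPrimeCore p G).subgroupOf (commutator G)).Normal]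
    (hq : (Nat.card (Quo G p)).Prime) :
    derivedSeries G 2 ≤ pPrimeCore p G ∧ derivedSeries G 2 ≠ derivedSeries G 1 := by
  haveI : Fact (Nat.card (Quo G p)).Prime := ⟨hq⟩
  haveI : IsCyclic (Quo G p) := isCyclic_of_prime_card rfl
  have hcomm : IsMulCommutative (Quo G p) := inferInstance
  have h1 := Subgroup.Normal.quotient_commutative_iff_commutator_le.mp hcomm
  have h2 : derivedSeries G 2 ≤ pPrimeCore p G := by
    rw [derived_two_eq, ← Subgroup.map_subtype_commutator, Subgroup.map_le_iff_le_comap]
    exact h1
  refine ⟨h2, ?_⟩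
  intro heq
  rw [derivedSeries_one] at heq
  have hle : commutator G ≤ pPrimeCore p G := heq ▸ h2
  have h3 := card_commutator_eq (p := p) hK
  have h4 : Nat.card (commutator G) = Nat.card (pPrimeCore p G) :=
    le_antisymm (Subgroup.card_le_of_le hle) (Subgroup.card_le_of_le hK)
  have hpos : 0 < Nat.card (pPrimeCore p G) := Nat.card_pos
  rw [h4] at h3
  have : Nat.card (pPrimeCore p G) * 1 = Nat.card (pPrimeCore p G) * Nat.card (Quo G p) := by
    rw [mul_one]; exact h3
  have h5 := (Nat.eq_of_mul_eq_mul_left hpos this).symm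
  rw [h5] at hq
  exact Nat.not_prime_one hq

end Two

end Cfsg.Agent.Lib.Helper7.KK
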