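import Mathlib
import Cfsg.Prelude
import Cfsg.Agent.Lib.Helper7.KKC

set_option autoImplicit false
open Cfsg

/-! Self-centralizing element of prime order: the case `t < p - 1` of S4509 (continued). -/

namespace Cfsg.Agent.Lib.Helper7.KK

open Subgroup
open scoped commutatorElement

section Two

variable {G : Type*} [Group G] [Finite G] {p : ℕ} [Fact p.Prime] {x : G}

theorem derived_two_le (G : Type*) [Group G] : derivedSeries G 2 ≤ commutator G := by
  rw [derived_two_eq]
  exact Subgroup.commutator_le_left _ _

/-- `G'' ≠ G'` forces `G'' = K`, `|G'| = p |K|`, `|K| = m` -/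
theorem case_two_of_ne (hx : orderOf x = p) (hC : centralizer ({x} : Set G) = zpowers x)
    (hK : pPrimeCore p G ≤ commutator G)
    [hKn : ((pPrimeCore p G).subgroupOf (commutator G)).Normal]
    [hs : IsSimpleGroup (Quo G p)]
    (hne : derivedSeries G 2 ≠ derivedSeries G 1)
    (hmp : ¬ p ∣ (normalizer (zpowers x : Set G)).index) :
    derivedSeries G 2 = pPrimeCore p G ∧
      Nat.card (commutator G) = p * Nat.card (pPrimeCore p G) ∧
      Nat.card (pPrimeCore p G) = (normalizer (zpowers x : Set G)).index := by
  have hp : p.Prime := Fact.out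
  obtain ⟨hxm, hKle⟩ := mem_and_le hx hC hK
  have hle2 := derived_two_le G
  -- G'' = K
  have hD : derivedSeries G 2 ≤ pPrimeCore p G := by
    let π := QuotientGroup.mk' ((pPrimeCore p G).subgroupOf (commutator G))
    have hDn : (((derivedSeries G 2).subgroupOf (commutator G)).map π).Normal :=
      Subgroup.Normal.map inferInstance π (QuotientGroup.mk'_surjective _)
    rcases hs.eq_bot_or_eq_top_of_normal _ hDn with h | h
    · rw [Subgroup.map_eq_bot_iff, QuotientGroup.ker_mk'] at h
      intro y hy
      have : (⟨y, hle2 hy⟩ : commutator G) ∈ (derivedSeries G 2).subgroupOf (commutator G) := hy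
      exact h this
    · exfalso
      have h1 := congrArg (Subgroup.comap π) h
      rw [Subgroup.comap_map_eq, QuotientGroup.ker_mk', Subgroup.comap_top] at h1
      have h2 : (pPrimeCore p G).subgroupOf (commutator G) ≤
          (derivedSeries G 2).subgroupOf (commutator G) := Subgroup.comap_mono hKle
      rw [sup_of_le_left h2, Subgroup.subgroupOf_eq_top] at h1
      apply hne
      rw [derivedSeries_one]
      exact le_antisymm hle2 h1
  have hDK : derivedSeries G 2 = pPrimeCore p G := le_antisymm hD hKle
  -- G'/K commutative hence of prime order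
  have hcomm : IsMulCommutative (Quo G p) := by
    apply Subgroup.Normal.quotient_commutative_iff_commutator_le.mpr
    show _ ≤ Subgroup.comap (commutator G).subtype (pPrimeCore p G)
    rw [← Subgroup.map_le_iff_le_comap, Subgroup.map_subtype_commutator, ← derived_two_eq]
    exact hD
  have hq : (Nat.card (Quo G p)).Prime := Group.is_simple_iff_prime_card.mp hs
  have hcard := card_commutator_eq (p := p) hK
  have hpdvd : p ∣ Nat.card (commutator G) := by
    rw [← hx]
    exact Subgroup.orderOf_dvd_natCard _ hxm
  have hqp : Nat.card (Quo G p) = p := by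
    rw [hcard] at hpdvd
    rcases (Nat.Prime.dvd_mul hp).mp hpdvd with h | h
    · exact absurd h (not_dvd_core G p)
    · exact ((Nat.prime_dvd_prime_iff_eq hp hq).mp h).symm
  rw [hqp] at hcard
  -- Frattini
  obtain ⟨P, hP⟩ := Cfsg.Agent.Lib.Helper11.selfCent_exists_sylow hx hC
  have hPle : (P : Subgroup G) ≤ commutator G := by
    rw [hP, Subgroup.zpowers_le]
    exact hxm
  have hfr := Sylow.normalizer_sup_eq_top' P hPle
  have hfr' : normalizer (zpowers x : Set G) ⊔ commutator G = ⊤ := by
    rw [← hfr, ← hP]
    rfl
  have h1 := Cfsg.Agent.Lib.Helper20.card_sup_dvd_mul (normalizer (zpowers x : Set G))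
    (commutator G)
  rw [hfr', Subgroup.card_top, ← Subgroup.index_mul_card (normalizer (zpowers x : Set G)),
    mul_comm (Nat.card (normalizer (zpowers x : Set G))) _] at h1
  have h2 : (normalizer (zpowers x : Set G)).index ∣ Nat.card (commutator G) :=
    Nat.dvd_of_mul_dvd_mul_right Nat.card_pos h1
  rw [hcard] at h2
  have hcop : Nat.Coprime (normalizer (zpowers x : Set G)).index p :=
    ((Nat.Prime.coprime_iff_not_dvd hp).mpr hmp).symm
  have h3 : (normalizer (zpowers x : Set G)).index ∣ Nat.card (pPrimeCore p G) :=
    hcop.dvd_of_dvd_mul_right h2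
  refine ⟨hDK, ?_, Nat.dvd_antisymm (card_core_dvd hx hC) h3⟩
  rw [hcard, mul_comm]

/-- `|K| = m` forces `G'' ≠ G'` -/
theorem ne_of_card_core (hx : orderOf x = p) (hC : centralizer ({x} : Set G) = zpowers x)
    (hK : pPrimeCore p G ≤ commutator G)
    [hKn : ((pPrimeCore p G).subgroupOf (commutator G)).Normal]
    [hs : IsSimpleGroup (Quo G p)]
    (hKm : Nat.card (pPrimeCore p G) = (normalizer (zpowers x : Set G)).index) :
    derivedSeries G 2 ≠ derivedSeries G 1 := by
  have hp : p.Prime := Fact.out
  haveI : (pPrimeCore p G).Normal := (Cfsg.Agent.Lib.Helper20.pPrimeCore_mem' p).1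
  have hbot := normalizer_inf_eq_bot hx hC (pPrimeCore p G) (not_dvd_core G p)
  have hdisj : Disjoint (pPrimeCore p G) (normalizer (zpowers x : Set G)) := by
    rw [disjoint_iff, inf_comm]
    exact hbot
  have hmul : Nat.card (pPrimeCore p G) * Nat.card (normalizer (zpowers x : Set G)) =
      Nat.card G := by
    rw [hKm, Subgroup.index_mul_card]
  have hsup := (Subgroup.isComplement'_of_card_mul_and_disjoint hmul hdisj).sup_eq_top
  let π := QuotientGroup.mk' (pPrimeCore p G)
  have h1 : (commutator G).map π ≤ (zpowers x).map π := by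
    rw [commutator_def, Subgroup.map_commutator]
    have htop : (⊤ : Subgroup G).map π = (normalizer (zpowers x : Set G)).map π := by
      rw [← hsup, Subgroup.map_sup]
      have : (pPrimeCore p G).map π = ⊥ := by
        rw [Subgroup.map_eq_bot_iff, QuotientGroup.ker_mk']
      rw [this, bot_sup_eq]
    rw [htop, ← Subgroup.map_commutator]
    exact Subgroup.map_mono (commutator_normalizer_le hC)
  rw [Subgroup.map_le_map_iff, QuotientGroup.ker_mk'] at h1
  have h2 := Subgroup.card_dvd_of_le h1
  have h3 := Cfsg.Agent.Lib.Helper20.card_sup_dvd_mul (zpowers x) (pPrimeCore p G)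
  have h4 := h2.trans h3
  rw [Nat.card_zpowers, hx, card_commutator_eq (p := p) hK, mul_comm p] at h4
  have h5 : Nat.card (Quo G p) ∣ p := Nat.dvd_of_mul_dvd_mul_left Nat.card_pos h4
  have h6 : 1 < Nat.card (Quo G p) := Finite.one_lt_card
  have h7 : Nat.card (Quo G p) = p := by
    rcases (Nat.dvd_prime hp).mp h5 with h | h
    · omega
    · exact h
  exact (derived_le_of_card hK (by rw [h7]; exact hp)).2

end Two

end Cfsg.Agent.Lib.Helper7.KK
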