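import Mathlib
import Cfsg.Prelude
import Cfsg.Agent.Lib.Helper28.Schur
import Cfsg.Agent.Lib.Helper4.CharOrtho

set_option autoImplicit false

/-!
# The conjugation action on the span of `ρ(N)` inside `End V` (helper7)

For an irreducible representation `ρ` of `G` on `V` and a normal subgroup `N`, the span `W` of the
operators `ρ n`, `n ∈ N`, is stable under conjugation by `ρ g`, and has an explicit `G`-equivariant
projection `P : End V → W`, built from the scalar `Σ_{n∈N} χ(n) ρ(n⁻¹)`.
-/

namespace Cfsg.Agent.Lib.Helper7.KL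

open scoped ComplexConjugate
open Cfsg

section Mod

variable {G : Type*} [Group G] [Fintype G]
variable {V : Type*} [AddCommGroup V] [Module ℂ V] [FiniteDimensional ℂ V]
variable (ρ : Representation ℂ G V) (N : Subgroup G) [hN : N.Normal] [Fintype N]

/-- the operator `Σ_{n∈N} χ(n) ρ(n⁻¹)` -/
noncomputable def zop : V →ₗ[ℂ] V := ∑ n : N, ρ.character (n : G) • ρ ((n : G)⁻¹)

/-- conjugation by `g` as a permutation of `N` -/
def conjN (g : G) : N ≃ N where
  toFun n := ⟨g * n * g⁻¹, hN.conj_mem n n.2 g⟩
  invFun n := ⟨g⁻¹ * n * g, by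
    have := hN.conj_mem n n.2 g⁻¹
    rwa [inv_inv] at this⟩
  left_inv n := by
    apply Subtype.ext
    simp [mul_assoc]
  right_inv n := by
    apply Subtype.ext
    simp [mul_assoc]

theorem zop_comm (g : G) : ρ g * zop ρ N = zop ρ N * ρ g := by
  unfold zop
  rw [Finset.mul_sum, Finset.sum_mul]
  rw [← (conjN N g).sum_comp (fun n : N => (ρ.character (n : G) • ρ ((n : G)⁻¹)) * ρ g)]
  refine Finset.sum_congr rfl fun n _ => ?_
  have h1 : ((conjN N g n : N) : G) = g * n * g⁻¹ := rfl
  rw [h1, Representation.char_conj, mul_smul_comm, smul_mul_assoc]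
  congr 1
  rw [← map_mul, ← map_mul]
  congr 1
  group

theorem exists_scalar (hirr : ρ.IsIrreducible) : ∃ s : ℂ, zop ρ N = s • LinearMap.id := by
  apply Cfsg.Agent.Lib.Helper28.schur_scalar ρ hirr
  intro g v
  have := LinearMap.congr_fun (zop_comm ρ N g) v
  simp only [Module.End.mul_apply] at this
  exact this.symm

theorem trace_zop : LinearMap.trace ℂ V (zop ρ N) =
    ∑ n : N, ρ.character (n : G) * conj (ρ.character (n : G)) := by
  unfold zop
  rw [map_sum]
  refine Finset.sum_congr rfl fun n _ => ?_
  rw [map_smul, smul_eq_mul]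
  congr 1
  exact Cfsg.Agent.Lib.Helper4.character_inv ρ (n : G)

theorem scalar_ne_zero (hdim : Module.finrank ℂ V ≠ 0) {s : ℂ}
    (hs : zop ρ N = s • LinearMap.id) : s ≠ 0 := by
  intro h0
  have h1 := trace_zop ρ N
  rw [hs, h0, zero_smul, map_zero] at h1
  have h2 : (0 : ℝ) < ∑ n : N, Complex.normSq (ρ.character (n : G)) := by
    have h3 : Complex.normSq (ρ.character ((1 : N) : G)) ≤
        ∑ n : N, Complex.normSq (ρ.character (n : G)) :=
      Finset.single_le_sum (f := fun n : N => Complex.normSq (ρ.character (n : G)))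
        (fun n _ => Complex.normSq_nonneg _) (Finset.mem_univ (1 : N))
    have h4 : 0 < Complex.normSq (ρ.character ((1 : N) : G)) := by
      rw [Complex.normSq_pos]
      simp only [OneMemClass.coe_one, Representation.char_one]
      exact_mod_cast hdim
    linarith
  have h5 : (∑ n : N, ρ.character (n : G) * conj (ρ.character (n : G))) =
      ((∑ n : N, Complex.normSq (ρ.character (n : G)) : ℝ) : ℂ) := by
    push_cast
    refine Finset.sum_congr rfl fun n _ => ?_
    rw [Complex.mul_conj]
  rw [h5] at h1
  have h6 : (∑ n : N, Complex.normSq (ρ.character (n : G)) : ℝ) = 0 := by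
    exact_mod_cast h1.symm
  linarith

end Mod

end Cfsg.Agent.Lib.Helper7.KL
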