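import Mathlib
import Cfsg.Prelude
import Cfsg.Agent.Lib.Helper7.KLA

set_option autoImplicit false

/-!
# The equivariant projection onto the span of `ρ(N)` (helper7)
-/

namespace Cfsg.Agent.Lib.Helper7.KL

open scoped ComplexConjugate
open Cfsg

section Mod

variable {G : Type*} [Group G] [Fintype G]
variable {V : Type*} [AddCommGroup V] [Module ℂ V] [FiniteDimensional ℂ V]
variable (ρ : Representation ℂ G V) (N : Subgroup G) [hN : N.Normal] [Fintype N]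

/-- `Φ : (N → ℂ) → End V`, `f ↦ Σ f(n) ρ(n)` -/
noncomputable def Phi : (N → ℂ) →ₗ[ℂ] (V →ₗ[ℂ] V) where
  toFun f := ∑ n : N, f n • ρ (n : G)
  map_add' f h := by
    simp only [Pi.add_apply, add_smul, Finset.sum_add_distrib]
  map_smul' a f := by
    simp only [Pi.smul_apply, smul_eq_mul, mul_smul, Finset.smul_sum, RingHom.id_apply]

/-- `Ψ : End V → (N → ℂ)`, `L ↦ (n ↦ c · tr(L ρ(n⁻¹)))` -/
noncomputable def Psi (c : ℂ) : (V →ₗ[ℂ] V) →ₗ[ℂ] (N → ℂ) where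
  toFun L := fun n => c * LinearMap.trace ℂ V (L * ρ ((n : G)⁻¹))
  map_add' L M := by
    funext n
    simp only [Pi.add_apply, add_mul, map_add, mul_add]
  map_smul' a L := by
    funext n
    simp only [Pi.smul_apply, smul_mul_assoc, map_smul, smul_eq_mul, RingHom.id_apply]
    ring

/-- the projection `P = Φ ∘ Ψ` -/
noncomputable def Pr (c : ℂ) : (V →ₗ[ℂ] V) →ₗ[ℂ] (V →ₗ[ℂ] V) := Phi ρ N ∘ₗ Psi ρ N c

theorem Pr_apply (c : ℂ) (L : V →ₗ[ℂ] V) :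
    Pr ρ N c L = ∑ n : N, (c * LinearMap.trace ℂ V (L * ρ ((n : G)⁻¹))) • ρ (n : G) := rfl

theorem Pr_rho {s : ℂ} (hs : zop ρ N = s • LinearMap.id) (hs0 : s ≠ 0) (n₀ : N) :
    Pr ρ N s⁻¹ (ρ (n₀ : G)) = ρ (n₀ : G) := by
  rw [Pr_apply]
  have h1 : ∀ n : N, (s⁻¹ * LinearMap.trace ℂ V (ρ (n₀ : G) * ρ ((n : G)⁻¹))) • ρ (n : G) =
      s⁻¹ • (ρ.character ((n₀ * n⁻¹ : N) : G) • ρ (n : G)) := by
    intro n
    rw [mul_smul, ← map_mul]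
    rfl
  simp_rw [h1]
  rw [← Finset.smul_sum]
  have h2 : ∑ n : N, ρ.character ((n₀ * n⁻¹ : N) : G) • ρ (n : G) = zop ρ N * ρ (n₀ : G) := by
    unfold zop
    rw [Finset.sum_mul]
    let e : N ≃ N := (Equiv.inv N).trans (Equiv.mulLeft n₀)
    -- e m = n₀ * m⁻¹
    rw [← e.sum_comp (fun m : N => (ρ.character (m : G) • ρ ((m : G)⁻¹)) * ρ (n₀ : G))]
    refine Finset.sum_congr rfl fun n _ => ?_
    have he : e n = n₀ * n⁻¹ := rfl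
    rw [he, smul_mul_assoc, ← map_mul]
    congr 2
    simp [mul_assoc]
  rw [h2, hs]
  rw [smul_mul_assoc, smul_smul, inv_mul_cancel₀ hs0, one_smul]
  rfl

theorem Pr_Phi {s : ℂ} (hs : zop ρ N = s • LinearMap.id) (hs0 : s ≠ 0) (f : N → ℂ) :
    Pr ρ N s⁻¹ (Phi ρ N f) = Phi ρ N f := by
  have h1 : Phi ρ N f = ∑ n : N, f n • ρ (n : G) := rfl
  rw [h1, map_sum]
  refine Finset.sum_congr rfl fun n _ => ?_
  rw [map_smul, Pr_rho ρ N hs hs0 n]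

theorem Pr_idem {s : ℂ} (hs : zop ρ N = s • LinearMap.id) (hs0 : s ≠ 0) :
    IsIdempotentElem (Pr ρ N s⁻¹) := by
  show Pr ρ N s⁻¹ * Pr ρ N s⁻¹ = Pr ρ N s⁻¹
  ext1 L
  rw [Module.End.mul_apply]
  have h1 : Pr ρ N s⁻¹ L = Phi ρ N (Psi ρ N s⁻¹ L) := rfl
  rw [h1, Pr_Phi ρ N hs hs0]

/-- `P` commutes with conjugation -/
theorem Pr_conj (c : ℂ) (g : G) (L : V →ₗ[ℂ] V) :
    Pr ρ N c (ρ g * L * ρ g⁻¹) = ρ g * Pr ρ N c L * ρ g⁻¹ := by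
  rw [Pr_apply, Pr_apply, Finset.mul_sum, Finset.sum_mul]
  rw [← (conjN N g).sum_comp
    (fun n : N => (c * LinearMap.trace ℂ V (ρ g * L * ρ g⁻¹ * ρ ((n : G)⁻¹))) • ρ (n : G))]
  refine Finset.sum_congr rfl fun n _ => ?_
  have h1 : ((conjN N g n : N) : G) = g * n * g⁻¹ := rfl
  rw [h1, mul_smul_comm, smul_mul_assoc]
  have h2 : ρ (g * (n : G) * g⁻¹) = ρ g * ρ (n : G) * ρ g⁻¹ := by
    rw [map_mul, map_mul]
  have h3 : LinearMap.trace ℂ V (ρ g * L * ρ g⁻¹ * ρ ((g * (n : G) * g⁻¹)⁻¹)) =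
      LinearMap.trace ℂ V (L * ρ ((n : G)⁻¹)) := by
    have h4 : (g * (n : G) * g⁻¹)⁻¹ = g * (n : G)⁻¹ * g⁻¹ := by group
    have h4' : ρ ((g * (n : G) * g⁻¹)⁻¹) = ρ g * ρ ((n : G)⁻¹) * ρ g⁻¹ := by
      rw [h4, map_mul, map_mul]
    have h6 : ρ g⁻¹ * ρ g = 1 := by rw [← map_mul, inv_mul_cancel, map_one]
    have h5 : ρ g * L * ρ g⁻¹ * (ρ g * ρ ((n : G)⁻¹) * ρ g⁻¹) =
        ρ g * (L * ρ ((n : G)⁻¹) * ρ g⁻¹) := by
      calc ρ g * L * ρ g⁻¹ * (ρ g * ρ ((n : G)⁻¹) * ρ g⁻¹)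
          = ρ g * L * (ρ g⁻¹ * ρ g) * ρ ((n : G)⁻¹) * ρ g⁻¹ := by noncomm_ring
        _ = ρ g * (L * ρ ((n : G)⁻¹) * ρ g⁻¹) := by rw [h6]; noncomm_ring
    rw [h4', h5, LinearMap.trace_mul_comm, mul_assoc, mul_assoc, h6, mul_one]
  rw [h3, h2]

/-- `P` preserves traces -/
theorem Pr_trace {s : ℂ} (hs : zop ρ N = s • LinearMap.id) (hs0 : s ≠ 0) (L : V →ₗ[ℂ] V) :
    LinearMap.trace ℂ V (Pr ρ N s⁻¹ L) = LinearMap.trace ℂ V L := by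
  rw [Pr_apply, map_sum]
  have h1 : ∀ n : N, LinearMap.trace ℂ V
      ((s⁻¹ * LinearMap.trace ℂ V (L * ρ ((n : G)⁻¹))) • ρ (n : G)) =
      s⁻¹ * LinearMap.trace ℂ V (L * (ρ.character (n : G) • ρ ((n : G)⁻¹))) := by
    intro n
    rw [map_smul, smul_eq_mul, mul_smul_comm, map_smul, smul_eq_mul]
    have : LinearMap.trace ℂ V (ρ (n : G)) = ρ.character (n : G) := rfl
    rw [this]
    ring
  simp_rw [h1]
  rw [← Finset.mul_sum, ← map_sum, ← Finset.mul_sum]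
  have h2 : ∑ n : N, ρ.character (n : G) • ρ ((n : G)⁻¹) = zop ρ N := rfl
  rw [h2, hs, mul_smul_comm, map_smul, smul_eq_mul, ← mul_assoc, inv_mul_cancel₀ hs0, one_mul]
  rfl

/-- the trace of `τ_g ∘ P` -/
theorem trace_conj_Pr (c : ℂ) (g : G) :
    LinearMap.trace ℂ (V →ₗ[ℂ] V)
      ((Representation.linHom ρ ρ g) ∘ₗ Pr ρ N c) =
    c * ∑ n : N, ρ.character (g * n * g⁻¹ * (n : G)⁻¹) := by
  classical
  have h1 : (Representation.linHom ρ ρ g) ∘ₗ Pr ρ N c =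
      ((Representation.linHom ρ ρ g) ∘ₗ Phi ρ N) ∘ₗ Psi ρ N c := rfl
  rw [h1, LinearMap.trace_comp_comm']
  rw [LinearMap.trace_eq_matrix_trace ℂ (Pi.basisFun ℂ N)]
  rw [Matrix.trace]
  simp only [Matrix.diag_apply, LinearMap.toMatrix_apply, Pi.basisFun_apply, Pi.basisFun_repr]
  rw [Finset.mul_sum]
  refine Finset.sum_congr rfl fun n _ => ?_
  simp only [LinearMap.comp_apply]
  have h2 : Phi ρ N (Pi.single n (1 : ℂ)) = ρ (n : G) := by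
    show ∑ m : N, (Pi.single n (1 : ℂ) : N → ℂ) m • ρ (m : G) = ρ (n : G)
    rw [Finset.sum_eq_single n]
    · rw [Pi.single_eq_same, one_smul]
    · intro m _ hm
      rw [Pi.single_eq_of_ne hm, zero_smul]
    · intro h; exact absurd (Finset.mem_univ n) h
  rw [h2, Representation.linHom_apply]
  show c * LinearMap.trace ℂ V ((ρ g ∘ₗ ρ (n : G) ∘ₗ ρ g⁻¹) * ρ ((n : G)⁻¹)) = _
  congr 1
  have h3 : (ρ g ∘ₗ ρ (n : G) ∘ₗ ρ g⁻¹) * ρ ((n : G)⁻¹) = ρ (g * n * g⁻¹ * (n : G)⁻¹) := by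
    rw [map_mul, map_mul, map_mul]
    rfl
  rw [h3]
  rfl

end Mod

end Cfsg.Agent.Lib.Helper7.KL
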