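import Mathlib
import Cfsg.Prelude
import Cfsg.Agent.Lib.Helper4.CharOrtho
import Cfsg.Agent.Lib.Helper4.GaloisChar

set_option autoImplicit false

/-!
# Characters cut out by commuting idempotents, and a Galois transfer lemma (helper7)
-/

namespace Cfsg.Agent.Lib.Helper7.KL

open scoped ComplexConjugate
open Cfsg

section Idem

variable {G : Type*} [Group G]
variable {E : Type*} [AddCommGroup E] [Module ℂ E]
variable (τ : Representation ℂ G E) (Q : E →ₗ[ℂ] E)

theorem range_invariant (hcomm : ∀ g, τ g ∘ₗ Q = Q ∘ₗ τ g) (g : G) :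
    ∀ x ∈ LinearMap.range Q, τ g x ∈ LinearMap.range Q := by
  rintro x ⟨y, rfl⟩
  refine ⟨τ g y, ?_⟩
  have := LinearMap.congr_fun (hcomm g) y
  simp only [LinearMap.comp_apply] at this
  exact this.symm

/-- the subrepresentation on the range of a commuting operator -/
noncomputable def subrepRange (hcomm : ∀ g, τ g ∘ₗ Q = Q ∘ₗ τ g) :
    Representation ℂ G (LinearMap.range Q) where
  toFun g := (τ g).restrict (range_invariant τ Q hcomm g)
  map_one' := by
    ext x
    simp
  map_mul' g h := by
    ext x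
    simp

theorem character_subrepRange [FiniteDimensional ℂ E] (hQ : IsIdempotentElem Q)
    (hcomm : ∀ g, τ g ∘ₗ Q = Q ∘ₗ τ g) (g : G) :
    (subrepRange τ Q hcomm).character g = LinearMap.trace ℂ E (τ g ∘ₗ Q) := by
  have h1 : ∀ x, (τ g ∘ₗ Q) x ∈ LinearMap.range Q := fun x => by
    rw [hcomm g]; exact ⟨τ g x, rfl⟩
  have h2 := LinearMap.trace_restrict_eq_of_forall_mem (LinearMap.range Q) (τ g ∘ₗ Q) h1
  rw [← h2]
  show LinearMap.trace ℂ _ ((τ g).restrict (range_invariant τ Q hcomm g)) = _
  congr 1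
  ext x
  obtain ⟨y, hy⟩ := x.2
  have h3 : Q (x : E) = x := by
    rw [← hy]
    have := LinearMap.congr_fun hQ.eq y
    simpa using this
  simp only [LinearMap.restrict_apply, LinearMap.comp_apply, h3]

theorem isCharacter_trace_idem [Fintype G] [FiniteDimensional ℂ E] (hQ : IsIdempotentElem Q)
    (hcomm : ∀ g, τ g ∘ₗ Q = Q ∘ₗ τ g) :
    IsCharacter G (fun g => LinearMap.trace ℂ E (τ g ∘ₗ Q)) := by
  have h := Cfsg.Agent.Lib.Helper4.isCharacter_of_rep (subrepRange τ Q hcomm)
  have h2 : (subrepRange τ Q hcomm).character = fun g => LinearMap.trace ℂ E (τ g ∘ₗ Q) := by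
    funext g
    exact character_subrepRange τ Q hQ hcomm g
  rwa [h2] at h

end Idem

section Galois

open Cfsg.Agent.Lib.Helper4

variable {G : Type*} [Group G] [Fintype G]
variable {V W : Type*} [AddCommGroup V] [Module ℂ V] [FiniteDimensional ℂ V]
  [AddCommGroup W] [Module ℂ W] [FiniteDimensional ℂ W]

/-- a rational linear relation between character values is preserved by Galois conjugation -/
theorem natmul_char_pow (ρW : Representation ℂ G W) (ρ : Representation ℂ G V)
    {ι : Type*} [Fintype ι] (x : ι → G) (a b : ℕ) (g : G) (k : ℕ)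
    (hk : k.Coprime (Nat.card G))
    (h1 : (a : ℂ) * ρW.character g = (b : ℂ) * ∑ i, ρ.character (x i)) :
    (a : ℂ) * ρW.character (g ^ k) = (b : ℂ) * ∑ i, ρ.character ((x i) ^ k) := by
  obtain ⟨σ, hσ⟩ := exists_embedding_pow (Nat.card G) Nat.card_pos k hk
  have h2 : (a : cycK (Nat.card G)) * charK ρW g = (b : cycK (Nat.card G)) * ∑ i, charK ρ (x i) := by
    apply Subtype.ext
    push_cast
    simpa using h1
  have h3 := congrArg σ h2
  rw [map_mul, map_mul, map_natCast, map_natCast, map_sum, embedding_charK ρW σ k hσ] at h3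
  rw [h3]
  congr 1
  refine Finset.sum_congr rfl fun i _ => ?_
  exact embedding_charK ρ σ k hσ (x i)

end Galois

end Cfsg.Agent.Lib.Helper7.KL
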