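import Mathlib
import Cfsg.Prelude

set_option autoImplicit false

/-!
# The second centre of a normal subgroup relative to the centre of `G` (helper7)
-/

namespace Cfsg.Agent.Lib.Helper7.KL

section Grp

variable {G : Type*} [Group G]

theorem conj_central {c : G} (hc : c ∈ Subgroup.center G) (x : G) : x * c * x⁻¹ = c := by
  rw [Subgroup.mem_center_iff.mp hc x, mul_assoc, mul_inv_cancel, mul_one]

/-- `[g, n^j] = [g,n]^j` when `n` commutes with `[g,n]` -/
theorem comm_pow (g n : G) (h : Commute (g * n * g⁻¹ * n⁻¹) n) (j : ℕ) :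
    g * n ^ j * g⁻¹ * (n ^ j)⁻¹ = (g * n * g⁻¹ * n⁻¹) ^ j := by
  have h1 : g * n ^ j * g⁻¹ = (g * n * g⁻¹) ^ j := (conj_pow).symm
  have h2 : g * n * g⁻¹ = (g * n * g⁻¹ * n⁻¹) * n := by group
  rw [h1, h2, h.mul_pow, ← h2, mul_assoc, mul_inv_cancel, mul_one]

/-- elements of `F` whose commutators with `F` are central in `G` -/
def secondCenter (F : Subgroup G) : Subgroup G where
  carrier := {x | x ∈ F ∧ ∀ f ∈ F, x * f * x⁻¹ * f⁻¹ ∈ Subgroup.center G}
  mul_mem' := by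
    rintro x y ⟨hx, hx'⟩ ⟨hy, hy'⟩
    refine ⟨F.mul_mem hx hy, fun f hf => ?_⟩
    have e : x * y * f * (x * y)⁻¹ * f⁻¹ =
        x * (y * f * y⁻¹ * f⁻¹) * x⁻¹ * (x * f * x⁻¹ * f⁻¹) := by group
    rw [e, conj_central (hy' f hf) x]
    exact (Subgroup.center G).mul_mem (hy' f hf) (hx' f hf)
  one_mem' := by
    refine ⟨F.one_mem, fun f _ => ?_⟩
    have e : (1 : G) * f * 1⁻¹ * f⁻¹ = 1 := by group
    rw [e]
    exact (Subgroup.center G).one_mem
  inv_mem' := by
    rintro x ⟨hx, hx'⟩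
    refine ⟨F.inv_mem hx, fun f hf => ?_⟩
    have e : x⁻¹ * f * x⁻¹⁻¹ * f⁻¹ = x⁻¹ * (x * f * x⁻¹ * f⁻¹)⁻¹ * x⁻¹⁻¹ := by group
    rw [e, conj_central ((Subgroup.center G).inv_mem (hx' f hf)) x⁻¹]
    exact (Subgroup.center G).inv_mem (hx' f hf)

theorem mem_secondCenter {F : Subgroup G} {x : G} :
    x ∈ secondCenter F ↔ x ∈ F ∧ ∀ f ∈ F, x * f * x⁻¹ * f⁻¹ ∈ Subgroup.center G := Iff.rfl

instance secondCenter_normal (F : Subgroup G) [hF : F.Normal] : (secondCenter F).Normal := by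
  constructor
  rintro x ⟨hx, hx'⟩ g
  refine ⟨hF.conj_mem x hx g, fun f hf => ?_⟩
  have hf' : g⁻¹ * f * g ∈ F := by
    have := hF.conj_mem f hf g⁻¹
    rwa [inv_inv] at this
  have e : g * x * g⁻¹ * f * (g * x * g⁻¹)⁻¹ * f⁻¹ =
      g * (x * (g⁻¹ * f * g) * x⁻¹ * (g⁻¹ * f * g)⁻¹) * g⁻¹ := by group
  rw [e, conj_central (hx' _ hf') g]
  exact hx' _ hf'

/-- a nilpotent subgroup not inside the centre has a non-central element in its second centre -/
theorem exists_mem_secondCenter (F : Subgroup G) (hnil : Group.IsNilpotent F)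
    (hF : ¬ F ≤ Subgroup.center G) :
    ∃ x ∈ secondCenter F, x ∉ Subgroup.center G := by
  classical
  obtain ⟨c, hc⟩ := (Subgroup.isNilpotent_iff_lowerCentralSeries F).mp hnil
  let P : ℕ → Prop := fun i => F.lowerCentralSeries i ≤ Subgroup.center G
  have hPc : P c := by
    show F.lowerCentralSeries c ≤ Subgroup.center G
    rw [hc]
    exact bot_le
  have hP0 : ¬ P 0 := hF
  have hex : ∃ i, P i := ⟨c, hPc⟩
  have hfind := Nat.find_spec hex
  have hne : Nat.find hex ≠ 0 := by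
    intro h0
    rw [h0] at hfind
    exact hP0 hfind
  obtain ⟨j, hj⟩ := Nat.exists_eq_succ_of_ne_zero hne
  have hnj : ¬ P j := Nat.find_min hex (by rw [hj]; exact Nat.lt_succ_self j)
  rw [hj] at hfind
  obtain ⟨y, hy, hyc⟩ := SetLike.not_le_iff_exists.mp hnj
  have hyF : y ∈ F := by
    have h1 : F.lowerCentralSeries j ≤ F.lowerCentralSeries 0 :=
      Subgroup.lowerCentralSeries_antitone F (Nat.zero_le j)
    exact h1 hy
  refine ⟨y, ⟨hyF, fun f hf => ?_⟩, hyc⟩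
  have h1 : y * f * y⁻¹ * f⁻¹ ∈ F.lowerCentralSeries (j + 1) := by
    rw [Subgroup.mem_lowerCentralSeries_succ_iff]
    exact Subgroup.subset_closure ⟨y, hy, f, hf, rfl⟩
  exact hfind h1

/-- the key termwise identity: for `n` in the second centre of `F`, the values of a function
vanishing off the centralizer of `F` at `[g,n]^k` and `[g,n^k]` agree -/
theorem termwise (F : Subgroup G) [hF : F.Normal] (χ : G → ℂ)
    (hvan : ∀ x ∈ secondCenter F, (∃ f ∈ F, x * f ≠ f * x) → χ x = 0)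
    (k l : ℕ) (hkl : ∀ x : G, (x ^ k) ^ l = x) (g n : G) (hn : n ∈ secondCenter F) :
    χ ((g * n * g⁻¹ * n⁻¹) ^ k) = χ (g * n ^ k * g⁻¹ * (n ^ k)⁻¹) := by
  have hN := secondCenter_normal F
  have hc : g * n * g⁻¹ * n⁻¹ ∈ secondCenter F :=
    (secondCenter F).mul_mem (hN.conj_mem n hn g) ((secondCenter F).inv_mem hn)
  have hnk : n ^ k ∈ secondCenter F := (secondCenter F).pow_mem hn k
  have hy : g * n ^ k * g⁻¹ * (n ^ k)⁻¹ ∈ secondCenter F :=
    (secondCenter F).mul_mem (hN.conj_mem _ hnk g) ((secondCenter F).inv_mem hnk)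
  by_cases hcase : ∀ f ∈ F, (g * n * g⁻¹ * n⁻¹) * f = f * (g * n * g⁻¹ * n⁻¹)
  · have hcomm : Commute (g * n * g⁻¹ * n⁻¹) n := hcase n hn.1
    rw [comm_pow g n hcomm k]
  · push_neg at hcase
    obtain ⟨f, hf, hne⟩ := hcase
    have h1 : χ ((g * n * g⁻¹ * n⁻¹) ^ k) = 0 := by
      apply hvan _ ((secondCenter F).pow_mem hc k)
      by_contra hcon
      push_neg at hcon
      apply hne
      have h2 : Commute ((g * n * g⁻¹ * n⁻¹) ^ k) f := hcon f hf
      have h3 := h2.pow_left l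
      rw [hkl] at h3
      exact h3
    have h2 : χ (g * n ^ k * g⁻¹ * (n ^ k)⁻¹) = 0 := by
      apply hvan _ hy
      by_contra hcon
      push_neg at hcon
      apply hne
      have hcomm : Commute (g * n ^ k * g⁻¹ * (n ^ k)⁻¹) (n ^ k) := hcon _ hnk.1
      have h3 := comm_pow g (n ^ k) hcomm l
      rw [hkl] at h3
      have h4' : Commute (g * n ^ k * g⁻¹ * (n ^ k)⁻¹) f := hcon f hf
      have h4 : Commute ((g * n ^ k * g⁻¹ * (n ^ k)⁻¹) ^ l) f := h4'.pow_left l
      rw [← h3] at h4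
      exact h4
    rw [h1, h2]

end Grp

end Cfsg.Agent.Lib.Helper7.KL
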