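import Mathlib
import Cfsg.Prelude
import Cfsg.Agent.Lib.Helper7.KLB
import Cfsg.Agent.Lib.Helper7.KLC
import Cfsg.Agent.Lib.Helper7.KLD
import Cfsg.Agent.Lib.Helper4.GaloisConj
import Cfsg.Agent.Lib.Helper4.CharIntegral

set_option autoImplicit false

/-!
# `χ χ^σ` irreducible forces `F(G) = Z(G)`: operator-level lemmas (helper7)
-/

namespace Cfsg.Agent.Lib.Helper7.KL

open scoped ComplexConjugate
open Cfsg

section Asm

variable {G : Type*} [Group G] [Fintype G]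
variable {V : Type*} [AddCommGroup V] [Module ℂ V] [FiniteDimensional ℂ V]
variable (ρ : Representation ℂ G V)

/-- conjugation representation on `End V` -/
noncomputable abbrev tau : Representation ℂ G (V →ₗ[ℂ] V) := Representation.linHom ρ ρ

theorem tau_apply (g : G) (L : V →ₗ[ℂ] V) : tau ρ g L = ρ g * L * ρ g⁻¹ := by
  show (Representation.linHom ρ ρ) g L = _
  rw [Representation.linHom_apply]
  rfl

theorem tau_comm_Pr (N : Subgroup G) [N.Normal] [Fintype N] (c : ℂ) (g : G) :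
    tau ρ g ∘ₗ Pr ρ N c = Pr ρ N c ∘ₗ tau ρ g := by
  refine LinearMap.ext fun L => ?_
  simp only [LinearMap.comp_apply]
  rw [tau_apply, tau_apply, Pr_conj]

variable (V) in
/-- the projection of `End V` onto the scalars -/
noncomputable def Q1 : (V →ₗ[ℂ] V) →ₗ[ℂ] (V →ₗ[ℂ] V) :=
  (LinearMap.trace ℂ V).smulRight
    (((Module.finrank ℂ V : ℂ)⁻¹) • (LinearMap.id : V →ₗ[ℂ] V))

theorem Q1_apply (L : V →ₗ[ℂ] V) :
    Q1 V L = (LinearMap.trace ℂ V L * (Module.finrank ℂ V : ℂ)⁻¹) •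
      (LinearMap.id : V →ₗ[ℂ] V) := by
  show LinearMap.trace ℂ V L • (((Module.finrank ℂ V : ℂ)⁻¹) • (LinearMap.id : V →ₗ[ℂ] V)) = _
  rw [smul_smul]

theorem tau_Q1 (g : G) (L : V →ₗ[ℂ] V) : tau ρ g (Q1 V L) = Q1 V L := by
  rw [tau_apply, Q1_apply, mul_smul_comm, smul_mul_assoc]
  congr 1
  have h : (LinearMap.id : V →ₗ[ℂ] V) = 1 := rfl
  rw [h, mul_one, ← map_mul, mul_inv_cancel, map_one]

theorem Q1_tau (g : G) (L : V →ₗ[ℂ] V) : Q1 V (tau ρ g L) = Q1 V L := by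
  rw [Q1_apply, Q1_apply, tau_apply]
  congr 2
  rw [LinearMap.trace_mul_comm, ← mul_assoc, ← map_mul, inv_mul_cancel, map_one, one_mul]

theorem tau_comm_Q1 (g : G) : tau ρ g ∘ₗ Q1 V = Q1 V ∘ₗ tau ρ g := by
  refine LinearMap.ext fun L => ?_
  simp only [LinearMap.comp_apply]
  rw [tau_Q1, Q1_tau]

theorem Q1_Q1 (hd : (Module.finrank ℂ V : ℂ) ≠ 0) (L : V →ₗ[ℂ] V) : Q1 V (Q1 V L) = Q1 V L := by
  rw [Q1_apply (Q1 V L), Q1_apply L, map_smul, LinearMap.trace_id, smul_eq_mul]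
  congr 1
  field_simp

theorem Q1_idem (hd : (Module.finrank ℂ V : ℂ) ≠ 0) : IsIdempotentElem (Q1 V) := by
  show Q1 V * Q1 V = Q1 V
  refine LinearMap.ext fun L => ?_
  rw [Module.End.mul_apply, Q1_Q1 hd]

theorem Q1_id (hd : (Module.finrank ℂ V : ℂ) ≠ 0) : Q1 V (LinearMap.id : V →ₗ[ℂ] V) = LinearMap.id := by
  rw [Q1_apply, LinearMap.trace_id, mul_inv_cancel₀ hd, one_smul]

theorem Pr_id (N : Subgroup G) [N.Normal] [Fintype N] {s : ℂ}
    (hs : zop ρ N = s • LinearMap.id) (hs0 : s ≠ 0) :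
    Pr ρ N s⁻¹ (LinearMap.id : V →ₗ[ℂ] V) = LinearMap.id := by
  have h := Pr_rho ρ N hs hs0 (1 : N)
  have h1 : ρ (((1 : N) : N) : G) = (LinearMap.id : V →ₗ[ℂ] V) := by
    rw [Subgroup.coe_one, map_one]
    rfl
  rwa [h1] at h

theorem Pr_Q1 (N : Subgroup G) [N.Normal] [Fintype N] {s : ℂ}
    (hs : zop ρ N = s • LinearMap.id) (hs0 : s ≠ 0) :
    Pr ρ N s⁻¹ * Q1 V = Q1 V := by
  refine LinearMap.ext fun L => ?_
  rw [Module.End.mul_apply, Q1_apply, map_smul, Pr_id ρ N hs hs0]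

theorem Q1_Pr (N : Subgroup G) [N.Normal] [Fintype N] {s : ℂ}
    (hs : zop ρ N = s • LinearMap.id) (hs0 : s ≠ 0) :
    Q1 V * Pr ρ N s⁻¹ = Q1 V := by
  refine LinearMap.ext fun L => ?_
  rw [Module.End.mul_apply, Q1_apply, Q1_apply, Pr_trace ρ N hs hs0]

theorem sub_idem (N : Subgroup G) [N.Normal] [Fintype N] {s : ℂ}
    (hs : zop ρ N = s • LinearMap.id) (hs0 : s ≠ 0) (hd : (Module.finrank ℂ V : ℂ) ≠ 0) :
    IsIdempotentElem (Pr ρ N s⁻¹ - Q1 V) := by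
  show (Pr ρ N s⁻¹ - Q1 V) * (Pr ρ N s⁻¹ - Q1 V) = Pr ρ N s⁻¹ - Q1 V
  rw [mul_sub, sub_mul, sub_mul, (Pr_idem ρ N hs hs0).eq, Pr_Q1 ρ N hs hs0, Q1_Pr ρ N hs hs0,
    (Q1_idem hd).eq]
  abel

/-- central-type vanishing -/
theorem char_vanish (hirr : ρ.IsIrreducible)
    (hfaith : ∀ g : G, ρ.character g = ρ.character 1 → g = 1)
    (F : Subgroup G) (x : G) (hx : x ∈ secondCenter F) (hex : ∃ f ∈ F, x * f ≠ f * x) :
    ρ.character x = 0 := by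
  obtain ⟨f, hf, hne⟩ := hex
  have hcz : f * x * f⁻¹ * x⁻¹ ∈ Subgroup.center G := by
    have h : f * x * f⁻¹ * x⁻¹ = (x * f * x⁻¹ * f⁻¹)⁻¹ := by group
    rw [h]
    exact (Subgroup.center G).inv_mem (hx.2 f hf)
  have hc1 : f * x * f⁻¹ * x⁻¹ ≠ 1 := by
    intro h1
    apply hne
    have h2 : f * x = (f * x * f⁻¹ * x⁻¹) * (x * f) := by group
    rw [h1, one_mul] at h2
    exact h2.symm
  obtain ⟨μ, hμ⟩ := Cfsg.Agent.Lib.Helper28.schur_scalar ρ hirr (ρ (f * x * f⁻¹ * x⁻¹)) (by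
    intro g v
    rw [← Module.End.mul_apply, ← Module.End.mul_apply, ← map_mul, ← map_mul,
      Subgroup.mem_center_iff.mp hcz g])
  have hμ1 : μ ≠ 1 := by
    intro h
    apply hc1
    apply hfaith
    show LinearMap.trace ℂ V (ρ (f * x * f⁻¹ * x⁻¹)) = LinearMap.trace ℂ V (ρ 1)
    rw [hμ, h, one_smul, map_one]
    rfl
  have h2 : ρ.character (f * x * f⁻¹) = μ * ρ.character x := by
    have h3 : f * x * f⁻¹ = (f * x * f⁻¹ * x⁻¹) * x := by group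
    rw [h3]
    show LinearMap.trace ℂ V (ρ ((f * x * f⁻¹ * x⁻¹) * x)) = μ * LinearMap.trace ℂ V (ρ x)
    rw [map_mul, hμ]
    have h4 : (μ • (LinearMap.id : V →ₗ[ℂ] V)) * ρ x = μ • ρ x := by
      refine LinearMap.ext fun v => ?_
      simp
    rw [h4, map_smul, smul_eq_mul]
  rw [Representation.char_conj] at h2
  have h5 : (1 - μ) * ρ.character x = 0 := by
    rw [sub_mul, one_mul, ← h2, sub_self]
  rcases mul_eq_zero.mp h5 with h | h
  · exact absurd (sub_eq_zero.mp h).symm hμ1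
  · exact h

/-- `P ≠ Q₁` when `N` is not central -/
theorem Pr_ne_Q1 (hfaith : ∀ g : G, ρ.character g = ρ.character 1 → g = 1)
    (N : Subgroup G) [N.Normal] [Fintype N] {s : ℂ}
    (hs : zop ρ N = s • LinearMap.id) (hs0 : s ≠ 0)
    (x₀ : G) (hx₀ : x₀ ∈ N) (hx₀c : x₀ ∉ Subgroup.center G) :
    Pr ρ N s⁻¹ ≠ Q1 V := by
  intro heq
  apply hx₀c
  rw [Subgroup.mem_center_iff]
  intro g
  have h1 : ρ x₀ = Q1 V (ρ x₀) := by
    have := Pr_rho ρ N hs hs0 ⟨x₀, hx₀⟩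
    rw [heq] at this
    exact this.symm
  rw [Q1_apply] at h1
  set c := LinearMap.trace ℂ V (ρ x₀) * (Module.finrank ℂ V : ℂ)⁻¹ with hc
  have h2 : ρ (g * x₀ * g⁻¹ * x₀⁻¹) = 1 := by
    rw [map_mul, map_mul, map_mul]
    have h3 : ρ g * ρ x₀ * ρ g⁻¹ = ρ x₀ := by
      rw [h1]
      have h : (LinearMap.id : V →ₗ[ℂ] V) = 1 := rfl
      rw [h, mul_smul_comm, smul_mul_assoc, mul_one, ← map_mul, mul_inv_cancel, map_one]
    rw [h3, ← map_mul, mul_inv_cancel, map_one]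
  have h4 : g * x₀ * g⁻¹ * x₀⁻¹ = 1 := by
    apply hfaith
    show LinearMap.trace ℂ V (ρ (g * x₀ * g⁻¹ * x₀⁻¹)) = LinearMap.trace ℂ V (ρ 1)
    rw [h2, map_one ρ]
  have h5 : g * x₀ = (g * x₀ * g⁻¹ * x₀⁻¹) * (x₀ * g) := by group
  rw [h4, one_mul] at h5
  exact h5

end Asm

end Cfsg.Agent.Lib.Helper7.KL
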