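import Mathlib
import Cfsg.Prelude
import Cfsg.Agent.Lib.Helper7.KLE
import Cfsg.Agent.Lib.Helper26.CharBasic
import Cfsg.Agent.Lib.Helper26.CharInt

set_option autoImplicit false

/-!
# `χ χ^σ` irreducible forces `F(G) = Z(G)`: the main inequality (helper7)
-/

namespace Cfsg.Agent.Lib.Helper7.KL

open scoped ComplexConjugate
open Cfsg

section Main

variable {G : Type*} [Group G] [Fintype G]

theorem classInner_self_ne_zero (a : G → ℂ) (ha : a 1 ≠ 0) : classInner a a ≠ 0 := by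
  unfold classInner
  intro h
  rcases mul_eq_zero.mp h with h | h
  · exact (inv_ne_zero Cfsg.Agent.Lib.Helper4.card_ne_zero_complex) h
  · have h1 : ∀ g, a g * conj (a g) = ((Complex.normSq (a g) : ℝ) : ℂ) :=
      fun g => Complex.mul_conj (a g)
    simp_rw [h1] at h
    rw [← Complex.ofReal_sum] at h
    have h2 : ∑ g, Complex.normSq (a g) = 0 := by exact_mod_cast h
    have h3 := (Finset.sum_eq_zero_iff_of_nonneg
      (fun g _ => Complex.normSq_nonneg (a g))).mp h2 1 (Finset.mem_univ _)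
    exact ha (Complex.normSq_eq_zero.mp h3)

variable {V : Type*} [AddCommGroup V] [Module ℂ V] [FiniteDimensional ℂ V]

/-- the trace of `τ_g ∘ P` is invariant under `g ↦ g^k` -/
theorem w_invariant (ρ : Representation ℂ G V) (hirr : ρ.IsIrreducible)
    (hfaith : ∀ g : G, ρ.character g = ρ.character 1 → g = 1)
    (k : ℕ) (hk : k.Coprime (Nat.card G))
    (F : Subgroup G) [hFn : F.Normal] [Fintype (secondCenter F)] {s : ℂ}
    (hs : zop ρ (secondCenter F) = s • LinearMap.id) (hs0 : s ≠ 0) (g : G) :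
    LinearMap.trace ℂ (V →ₗ[ℂ] V) (tau ρ (g ^ k) ∘ₗ Pr ρ (secondCenter F) s⁻¹) =
      LinearMap.trace ℂ (V →ₗ[ℂ] V) (tau ρ g ∘ₗ Pr ρ (secondCenter F) s⁻¹) := by
  classical
  have hdC : (Module.finrank ℂ V : ℂ) ≠ 0 :=
    Cfsg.Agent.Lib.Helper4.finrank_ne_zero_of_irreducible ρ hirr
  obtain ⟨l, hl, hkl⟩ := Cfsg.Agent.Lib.Helper4.exists_inv_pow (G := G) k hk
  set P := Pr ρ (secondCenter F) s⁻¹ with hPdef
  have hP : IsIdempotentElem P := Pr_idem ρ _ hs hs0
  have hcP : ∀ g, tau ρ g ∘ₗ P = P ∘ₗ tau ρ g := tau_comm_Pr ρ _ s⁻¹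
  have hform : ∀ g', LinearMap.trace ℂ (V →ₗ[ℂ] V) (tau ρ g' ∘ₗ P) =
      s⁻¹ * ∑ n : secondCenter F, ρ.character (g' * n * g'⁻¹ * (n : G)⁻¹) :=
    fun g' => trace_conj_Pr ρ _ s⁻¹ g'
  set r := Module.finrank ℂ (LinearMap.range P) with hr
  have hr1 : LinearMap.trace ℂ (V →ₗ[ℂ] V) P = (r : ℂ) :=
    (LinearMap.IsIdempotentElem.isProj_range P hP).trace
  have hr2 : s⁻¹ * ((Fintype.card (secondCenter F) : ℂ) * (Module.finrank ℂ V : ℂ)) = (r : ℂ) := by
    rw [← hr1]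
    have h1 := hform 1
    have h2 : tau ρ 1 ∘ₗ P = P := by
      rw [map_one (tau ρ)]
      exact LinearMap.id_comp _
    rw [h2] at h1
    rw [h1]
    congr 1
    have h3 : ∀ n : secondCenter F,
        ρ.character ((1 : G) * n * (1 : G)⁻¹ * (n : G)⁻¹) = (Module.finrank ℂ V : ℂ) := by
      intro n
      have : (1 : G) * n * (1 : G)⁻¹ * (n : G)⁻¹ = 1 := by group
      rw [this, Representation.char_one]
    simp_rw [h3]
    rw [Finset.sum_const, Finset.card_univ, nsmul_eq_mul]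
  set a : ℕ := Fintype.card (secondCenter F) * Module.finrank ℂ V with ha
  have ha0 : (a : ℂ) ≠ 0 := by
    rw [ha]
    push_cast
    exact mul_ne_zero (by exact_mod_cast Fintype.card_ne_zero) hdC
  let ρW := subrepRange (tau ρ) P hcP
  have hchar : ∀ g', ρW.character g' = LinearMap.trace ℂ (V →ₗ[ℂ] V) (tau ρ g' ∘ₗ P) :=
    fun g' => character_subrepRange (tau ρ) P hP hcP g'
  have h1 : (a : ℂ) * ρW.character g =
      (r : ℂ) * ∑ n : secondCenter F, ρ.character (g * n * g⁻¹ * (n : G)⁻¹) := by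
    rw [hchar, hform, ← hr2, ha]
    push_cast
    ring
  have h2 := natmul_char_pow ρW ρ (fun n : secondCenter F => g * n * g⁻¹ * (n : G)⁻¹) a r g k hk h1
  have hvan : ∀ x ∈ secondCenter F, (∃ f ∈ F, x * f ≠ f * x) → ρ.character x = 0 :=
    fun x hx hex => char_vanish ρ hirr hfaith F x hx hex
  have h3 : ∑ n : secondCenter F, ρ.character ((g * n * g⁻¹ * (n : G)⁻¹) ^ k) =
      ∑ n : secondCenter F, ρ.character (g * n * g⁻¹ * (n : G)⁻¹) := by
    let e : secondCenter F ≃ secondCenter F :=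
      { toFun := fun n => n ^ k
        invFun := fun n => n ^ l
        left_inv := fun n => by
          apply Subtype.ext
          simp only [Subgroup.coe_pow]
          exact (hkl (n : G)).2
        right_inv := fun n => by
          apply Subtype.ext
          simp only [Subgroup.coe_pow]
          exact (hkl (n : G)).1 }
    rw [← e.sum_comp (fun n : secondCenter F => ρ.character (g * n * g⁻¹ * (n : G)⁻¹))]
    refine Finset.sum_congr rfl fun n _ => ?_
    have := termwise F ρ.character hvan k l (fun x => (hkl x).2) g (n : G) n.2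
    rw [this]
    rfl
  rw [h3, ← h1] at h2
  have h4 := mul_left_cancel₀ ha0 h2
  rw [hchar, hchar] at h4
  exact h4

theorem inner_ne_one (ρ : Representation ℂ G V) (hirr : ρ.IsIrreducible)
    (hfaith : ∀ g : G, ρ.character g = ρ.character 1 → g = 1)
    (k : ℕ) (hk : k.Coprime (Nat.card G))
    (F : Subgroup G) [hFn : F.Normal] (x₀ : G) (hx₀ : x₀ ∈ secondCenter F)
    (hx₀c : x₀ ∉ Subgroup.center G) :
    classInner (fun g => ρ.character g * ρ.character (g ^ k))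
      (fun g => ρ.character g * ρ.character (g ^ k)) ≠ 1 := by
  classical
  haveI : Fintype (secondCenter F) := Fintype.ofFinite _
  have hdC : (Module.finrank ℂ V : ℂ) ≠ 0 :=
    Cfsg.Agent.Lib.Helper4.finrank_ne_zero_of_irreducible ρ hirr
  have hd : Module.finrank ℂ V ≠ 0 := by exact_mod_cast hdC
  obtain ⟨s, hs⟩ := exists_scalar ρ (secondCenter F) hirr
  have hs0 : s ≠ 0 := scalar_ne_zero ρ (secondCenter F) hd hs
  have hw := w_invariant ρ hirr hfaith k hk F hs hs0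
  set P := Pr ρ (secondCenter F) s⁻¹ with hPdef
  have hP : IsIdempotentElem P := Pr_idem ρ _ hs hs0
  have hQ : IsIdempotentElem (Q1 V) := Q1_idem hdC
  have hP2 : IsIdempotentElem (P - Q1 V) := sub_idem ρ _ hs hs0 hdC
  have hP3 : IsIdempotentElem (1 - P) := hP.one_sub
  have hcP : ∀ g, tau ρ g ∘ₗ P = P ∘ₗ tau ρ g := tau_comm_Pr ρ _ s⁻¹
  have hc1 : ∀ g, tau ρ g ∘ₗ Q1 V = Q1 V ∘ₗ tau ρ g := tau_comm_Q1 ρ
  have hc2 : ∀ g, tau ρ g ∘ₗ (P - Q1 V) = (P - Q1 V) ∘ₗ tau ρ g := by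
    intro g
    rw [LinearMap.comp_sub, LinearMap.sub_comp, hcP, hc1]
  have hc3 : ∀ g, tau ρ g ∘ₗ (1 - P) = (1 - P) ∘ₗ tau ρ g := by
    intro g
    rw [LinearMap.comp_sub, LinearMap.sub_comp, hcP]
    congr 1
  have hA1 := isCharacter_trace_idem (tau ρ) (Q1 V) hQ hc1
  have hA2 := isCharacter_trace_idem (tau ρ) (P - Q1 V) hP2 hc2
  have hA3 := isCharacter_trace_idem (tau ρ) (1 - P) hP3 hc3
  set a1 : G → ℂ := fun g => LinearMap.trace ℂ (V →ₗ[ℂ] V) (tau ρ g ∘ₗ Q1 V) with ha1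
  set a2 : G → ℂ := fun g => LinearMap.trace ℂ (V →ₗ[ℂ] V) (tau ρ g ∘ₗ (P - Q1 V)) with ha2
  set a3 : G → ℂ := fun g => LinearMap.trace ℂ (V →ₗ[ℂ] V) (tau ρ g ∘ₗ (1 - P)) with ha3
  have hsum : ∀ g, a1 g + a2 g + a3 g = ρ.character g⁻¹ * ρ.character g := by
    intro g
    have h1 : tau ρ g ∘ₗ Q1 V + tau ρ g ∘ₗ (P - Q1 V) + tau ρ g ∘ₗ (1 - P) = tau ρ g := by
      rw [← LinearMap.comp_add, ← LinearMap.comp_add]
      have : Q1 V + (P - Q1 V) + (1 - P) = 1 := by abel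
      rw [this]
      exact LinearMap.comp_id _
    show LinearMap.trace ℂ (V →ₗ[ℂ] V) _ + LinearMap.trace ℂ (V →ₗ[ℂ] V) _ +
      LinearMap.trace ℂ (V →ₗ[ℂ] V) _ = _
    rw [← map_add, ← map_add, h1]
    exact Representation.char_linHom ρ ρ g
  have ha1c : ∀ g, a1 g = LinearMap.trace ℂ (V →ₗ[ℂ] V) (Q1 V) := by
    intro g
    show LinearMap.trace ℂ (V →ₗ[ℂ] V) (tau ρ g ∘ₗ Q1 V) = _
    congr 1
    refine LinearMap.ext fun L => ?_
    rw [LinearMap.comp_apply, tau_Q1]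
  have htr1 : LinearMap.trace ℂ (V →ₗ[ℂ] V) (Q1 V) ≠ 0 := by
    rw [Ne, LinearMap.IsIdempotentElem.trace_eq_zero_iff (e := Q1 V) hQ]
    intro h0
    have h1 := Q1_id (V := V) hdC
    rw [h0, LinearMap.zero_apply] at h1
    have h2 := congrArg (LinearMap.trace ℂ V) h1
    rw [map_zero, LinearMap.trace_id] at h2
    exact hdC h2.symm
  have ha2one : a2 1 ≠ 0 := by
    show LinearMap.trace ℂ (V →ₗ[ℂ] V) (tau ρ 1 ∘ₗ (P - Q1 V)) ≠ 0
    have h1 : tau ρ 1 ∘ₗ (P - Q1 V) = P - Q1 V := by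
      rw [map_one (tau ρ)]
      exact LinearMap.id_comp _
    rw [h1, Ne, LinearMap.IsIdempotentElem.trace_eq_zero_iff (e := P - Q1 V) hP2, sub_eq_zero]
    exact Pr_ne_Q1 ρ hfaith _ hs hs0 x₀ hx₀ hx₀c
  have ha1k : ∀ g, a1 (g ^ k) = a1 g := fun g => (ha1c (g ^ k)).trans (ha1c g).symm
  have ha2k : ∀ g, a2 (g ^ k) = a2 g := by
    intro g
    show LinearMap.trace ℂ (V →ₗ[ℂ] V) (tau ρ (g ^ k) ∘ₗ (P - Q1 V)) =
      LinearMap.trace ℂ (V →ₗ[ℂ] V) (tau ρ g ∘ₗ (P - Q1 V))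
    rw [LinearMap.comp_sub, LinearMap.comp_sub, map_sub, map_sub, hw g]
    congr 1
    exact ha1k g
  have hB3 : IsCharacter G (fun g => a3 (g ^ k)) :=
    Cfsg.Agent.Lib.Helper4.isCharacter_pow a3 hA3 k hk
  set b3 : G → ℂ := fun g => a3 (g ^ k) with hb3
  set α : G → ℂ := fun g => ρ.character g⁻¹ * ρ.character g with hα
  have hαsum : α = a1 + a2 + a3 := by
    funext g
    exact (hsum g).symm
  have hαk : (fun g => α (g ^ k)) = a1 + a2 + b3 := by
    funext g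
    have h1 : α (g ^ k) = a1 (g ^ k) + a2 (g ^ k) + a3 (g ^ k) := (hsum (g ^ k)).symm
    show α (g ^ k) = a1 g + a2 g + a3 (g ^ k)
    rw [h1, ha1k, ha2k]
  have hψ : classInner (fun g => ρ.character g * ρ.character (g ^ k))
      (fun g => ρ.character g * ρ.character (g ^ k)) = classInner α (fun g => α (g ^ k)) := by
    unfold classInner
    congr 1
    refine Finset.sum_congr rfl fun g _ => ?_
    simp only [hα]
    rw [Cfsg.Agent.Lib.Helper4.character_inv ρ g, Cfsg.Agent.Lib.Helper4.character_inv ρ (g ^ k)]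
    simp only [map_mul, Complex.conj_conj]
    ring
  rw [hψ, hαk, hαsum]
  simp only [Cfsg.Agent.Lib.Helper26.classInner_add_left,
    Cfsg.Agent.Lib.Helper26.classInner_add_right]
  obtain ⟨n11, h11⟩ := Cfsg.Agent.Lib.Helper26.classInner_isCharacter_nat hA1 hA1
  obtain ⟨n12, h12⟩ := Cfsg.Agent.Lib.Helper26.classInner_isCharacter_nat hA1 hA2
  obtain ⟨n13, h13⟩ := Cfsg.Agent.Lib.Helper26.classInner_isCharacter_nat hA1 hB3
  obtain ⟨n21, h21⟩ := Cfsg.Agent.Lib.Helper26.classInner_isCharacter_nat hA2 hA1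
  obtain ⟨n22, h22⟩ := Cfsg.Agent.Lib.Helper26.classInner_isCharacter_nat hA2 hA2
  obtain ⟨n23, h23⟩ := Cfsg.Agent.Lib.Helper26.classInner_isCharacter_nat hA2 hB3
  obtain ⟨n31, h31⟩ := Cfsg.Agent.Lib.Helper26.classInner_isCharacter_nat hA3 hA1
  obtain ⟨n32, h32⟩ := Cfsg.Agent.Lib.Helper26.classInner_isCharacter_nat hA3 hA2
  obtain ⟨n33, h33⟩ := Cfsg.Agent.Lib.Helper26.classInner_isCharacter_nat hA3 hB3
  have hn11 : n11 ≠ 0 := by
    intro h
    rw [h, Nat.cast_zero] at h11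
    exact classInner_self_ne_zero a1 (by rw [ha1c]; exact htr1) h11
  have hn22 : n22 ≠ 0 := by
    intro h
    rw [h, Nat.cast_zero] at h22
    exact classInner_self_ne_zero a2 ha2one h22
  rw [h11, h12, h13, h21, h22, h23, h31, h32, h33]
  intro h
  have h' : ((n11 + n12 + n13 + n21 + n22 + n23 + n31 + n32 + n33 : ℕ) : ℂ) = 1 := by
    push_cast
    linear_combination h
  have h'' : n11 + n12 + n13 + n21 + n22 + n23 + n31 + n32 + n33 = 1 := by exact_mod_cast h'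
  omega

end Main

end Cfsg.Agent.Lib.Helper7.KL
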