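import Mathlib
import Cfsg.Prelude.Def_Characters
import Cfsg.Agent.S0894
import Cfsg.Agent.S0886
import Cfsg.Agent.Lib.Helper4.CharOrtho
import Cfsg.Agent.Lib.Helper4.FaithfulIrr
import Cfsg.Agent.Lib.Helper2.CharConj

/-!
# Extension of invariant irreducible representations from Sylow-type subgroups (helper7)

* `exists_retraction_of_sylow`: a central extension `A → Γ → G` (`G` finite) which has partial
  sections over subgroups of index prime to `p` for every prime `p` has a retraction `Γ → A`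
  (transfer argument).
* `conjStab N R`: the group of pairs `(g, M)` with `M R(n) M⁻¹ = R(g n g⁻¹)`.
* `exists_rep_extension_of_sylow`: Isaacs 11.31 for representations.
-/

set_option autoImplicit false
set_option linter.unusedSectionVars false

namespace Cfsg.Agent.Lib.Helper7
open Cfsg Cfsg.Agent.Lib.Helper4 Cfsg.Agent.Lib.Helper2

theorem int_one_mem_of_coprime (S : AddSubgroup ℤ)
    (h : ∀ p : ℕ, p.Prime → ∃ m : ℕ, (m : ℤ) ∈ S ∧ Nat.Coprime m p) : (1 : ℤ) ∈ S := by
  obtain ⟨a, ha⟩ := Int.subgroup_cyclic S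
  have hdvd : ∀ x ∈ S, a ∣ x := by
    intro x hx
    rw [ha, AddSubgroup.mem_closure_singleton] at hx
    obtain ⟨n, rfl⟩ := hx
    exact ⟨n, by rw [smul_eq_mul, mul_comm]⟩
  have h1 : a.natAbs = 1 := by
    by_contra hne
    obtain ⟨q, hq, hqa⟩ := Nat.exists_prime_and_dvd hne
    obtain ⟨m, hm, hcop⟩ := h q hq
    have h2 : a ∣ (m : ℤ) := hdvd _ hm
    have h3 : a.natAbs ∣ m := by
      have := Int.natAbs_dvd_natAbs.mpr h2
      simpa using this
    have h4 : q ∣ m := hqa.trans h3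
    exact (Nat.Prime.coprime_iff_not_dvd hq).mp hcop.symm h4
  have h2 : a * a = 1 := by
    have := Int.natAbs_mul_self (a := a)
    rw [h1] at this
    simpa using this.symm
  have h3 : a ∈ S := by
    rw [ha]; exact AddSubgroup.subset_closure rfl
  have h4 : a • a ∈ S := S.zsmul_mem h3 a
  rw [smul_eq_mul, h2] at h4
  exact h4

section Abstract
variable {Γ G A : Type*} [Group Γ] [Group G] [CommGroup A]

/-- the retraction on the preimage of `P` defined by a section over `P` -/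
theorem exists_retraction_of_section (π : Γ →* G) (ι : A →* Γ) (hι : Function.Injective ι)
    (hcentral : ∀ c x, ι c * x = x * ι c) (hker : ∀ x, π x = 1 → ∃ c, x = ι c)
    (P : Subgroup G) (jP : P →* Γ) (hj : ∀ g : P, π (jP g) = g) :
    ∃ s : (P.comap π) →* A, ∀ x : P.comap π, (x : Γ) = ι (s x) * jP ⟨π x, x.2⟩ := by
  have h1 : ∀ x : P.comap π, ∃ c : A, (x : Γ) = ι c * jP ⟨π x, x.2⟩ := by
    intro x
    obtain ⟨c, hc⟩ := hker ((x : Γ) * (jP ⟨π x, x.2⟩)⁻¹) (by
      rw [map_mul, map_inv, hj]; simp)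
    exact ⟨c, by rw [← hc]; group⟩
  choose s hs using h1
  refine ⟨MonoidHom.mk' s ?_, hs⟩
  intro x y
  apply hι
  have h2 : (jP ⟨π ((x * y : P.comap π) : Γ), (x * y).2⟩ : Γ) = jP ⟨π x, x.2⟩ * jP ⟨π y, y.2⟩ := by
    rw [← map_mul]
    congr 1
    apply Subtype.ext
    simp
  have h3 := hs (x * y)
  rw [h2, Subgroup.coe_mul] at h3
  have h4 : (x : Γ) * (y : Γ) = ι (s x * s y) * (jP ⟨π x, x.2⟩ * jP ⟨π y, y.2⟩) := by
    conv_lhs => rw [hs x, hs y]
    rw [map_mul]
    calc ι (s x) * jP ⟨π x, x.2⟩ * (ι (s y) * jP ⟨π y, y.2⟩)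
        = ι (s x) * (jP ⟨π x, x.2⟩ * ι (s y)) * jP ⟨π y, y.2⟩ := by group
      _ = ι (s x) * (ι (s y) * jP ⟨π x, x.2⟩) * jP ⟨π y, y.2⟩ := by
          rw [hcentral (s y) (jP ⟨π x, x.2⟩)]
      _ = _ := by group
  rw [h4] at h3
  exact (mul_right_cancel h3).symm

/-- transfer of the retraction defined by a section over `P` -/
theorem exists_transfer_of_section [Finite G] (π : Γ →* G) (hπ : Function.Surjective π)
    (ι : A →* Γ) (hι : Function.Injective ι)
    (hcentral : ∀ c x, ι c * x = x * ι c) (hker : ∀ x, π x = 1 → ∃ c, x = ι c)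
    (hπι : ∀ c, π (ι c) = 1) (M : Subgroup Γ) [hMn : M.Normal]
    (P : Subgroup G) (jP : P →* Γ) (hj : ∀ g : P, π (jP g) = g)
    (hM : ∀ x ∈ M, ∃ h : π x ∈ P, jP ⟨π x, h⟩ = x) :
    ∃ t : Γ →* A, (∀ c, t (ι c) = c ^ P.index) ∧ ∀ x ∈ M, t x = 1 := by
  classical
  obtain ⟨s, hs⟩ := exists_retraction_of_section π ι hι hcentral hker P jP hj
  have hidx : (P.comap π).index = P.index := Subgroup.index_comap_of_surjective P hπ
  have : (P.comap π).FiniteIndex := ⟨by rw [hidx]; exact Subgroup.index_ne_zero_of_finite⟩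
  have hsι : ∀ (c : A) (h : ι c ∈ P.comap π), s ⟨ι c, h⟩ = c := by
    intro c h
    have h1 := hs ⟨ι c, h⟩
    have h2 : jP ⟨π (ι c), h⟩ = 1 := by
      have : (⟨π (ι c), h⟩ : P) = 1 := Subtype.ext (hπι c)
      rw [this, map_one]
    simp only at h1
    rw [h2, mul_one] at h1
    exact (hι h1).symm
  have hsM : ∀ (x : Γ) (hx : x ∈ M) (h : x ∈ P.comap π), s ⟨x, h⟩ = 1 := by
    intro x hx h
    obtain ⟨h', h2⟩ := hM x hx
    have h1 := hs ⟨x, h⟩
    simp only at h1
    rw [h2] at h1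
    have h3 : ι (s ⟨x, h⟩) = 1 := by
      have h4 : 1 * x = ι (s ⟨x, h⟩) * x := by rw [one_mul]; exact h1
      exact (mul_right_cancel h4).symm
    apply hι
    rw [h3, map_one]
  refine ⟨MonoidHom.transfer s, ?_, ?_⟩
  · intro c
    rw [MonoidHom.transfer_eq_pow s (ι c) (fun k g₀ _ => by
      rw [← map_pow, ← hcentral]; group)]
    have h1 : ∀ (h : (ι c) ^ (P.comap π).index ∈ P.comap π),
        s ⟨(ι c) ^ (P.comap π).index, h⟩ = c ^ P.index := by
      rw [hidx, ← map_pow]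
      intro h
      exact hsι _ h
    exact h1 _
  · intro x hx
    have : Fintype (Quotient (MulAction.orbitRel (Subgroup.zpowers x) (Γ ⧸ P.comap π))) :=
      Fintype.ofFinite _
    rw [MonoidHom.transfer_eq_prod_quotient_orbitRel_zpowers_quot]
    apply Finset.prod_eq_one
    intro q _
    apply hsM
    have := hMn.conj_mem _ (M.pow_mem hx (Function.minimalPeriod (x • ·) q.out)) q.out.out⁻¹
    simpa using this

/-- sections over subgroups of index prime to `p` for every `p` give a global retraction -/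
theorem exists_retraction_of_sylow [Finite G] (π : Γ →* G) (hπ : Function.Surjective π)
    (ι : A →* Γ) (hι : Function.Injective ι)
    (hcentral : ∀ c x, ι c * x = x * ι c) (hker : ∀ x, π x = 1 → ∃ c, x = ι c)
    (hπι : ∀ c, π (ι c) = 1) (M : Subgroup Γ) [hMn : M.Normal]
    (hsyl : ∀ p : ℕ, p.Prime → ∃ (P : Subgroup G) (jP : P →* Γ), Nat.Coprime P.index p ∧
      (∀ g : P, π (jP g) = g) ∧ ∀ x ∈ M, ∃ h : π x ∈ P, jP ⟨π x, h⟩ = x) :
    ∃ t : Γ →* A, (∀ c, t (ι c) = c) ∧ ∀ x ∈ M, t x = 1 := by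
  let S : AddSubgroup ℤ :=
    { carrier := {k | ∃ t : Γ →* A, (∀ c, t (ι c) = c ^ k) ∧ ∀ x ∈ M, t x = 1}
      add_mem' := by
        rintro a b ⟨t₁, h1, h1'⟩ ⟨t₂, h2, h2'⟩
        refine ⟨t₁ * t₂, fun c => ?_, fun x hx => ?_⟩
        · rw [MonoidHom.mul_apply, h1, h2, zpow_add]
        · rw [MonoidHom.mul_apply, h1' x hx, h2' x hx, one_mul]
      zero_mem' := ⟨1, fun c => by simp, fun x _ => rfl⟩
      neg_mem' := by
        rintro a ⟨t, h1, h1'⟩
        refine ⟨t⁻¹, fun c => ?_, fun x hx => ?_⟩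
        · rw [MonoidHom.inv_apply, h1, zpow_neg]
        · rw [MonoidHom.inv_apply, h1' x hx, inv_one] }
  have h1 : (1 : ℤ) ∈ S := by
    apply int_one_mem_of_coprime
    intro p hp
    obtain ⟨P, jP, hcop, hj, hM⟩ := hsyl p hp
    obtain ⟨t, ht1, ht2⟩ := exists_transfer_of_section π hπ ι hι hcentral hker hπι M P jP hj hM
    exact ⟨P.index, ⟨t, fun c => by rw [ht1, zpow_natCast], ht2⟩, hcop⟩
  obtain ⟨t, ht1, ht2⟩ := h1
  exact ⟨t, fun c => by rw [ht1, zpow_one], ht2⟩

end Abstract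

section Concrete
variable {G : Type*} [Group G] (N : Subgroup G) [hN : N.Normal] {U : Type*} [Group U] (R : N →* U)

/-- pairs `(g, M)` with `M R(n) M⁻¹ = R(g n g⁻¹)` for all `n ∈ N` -/
def conjStab : Subgroup (G × U) where
  carrier := {x | ∀ n : N, x.2 * R n * x.2⁻¹ =
        R ⟨x.1 * n * x.1⁻¹, hN.conj_mem (n : G) n.2 x.1⟩}
  mul_mem' := by
    intro x y hx hy n
    have h3 := hy n
    have h2 := hx ⟨y.1 * n * y.1⁻¹, hN.conj_mem (n : G) n.2 y.1⟩
    show (x * y).2 * R n * (x * y).2⁻¹ = _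
    calc (x * y).2 * R n * (x * y).2⁻¹
        = x.2 * (y.2 * R n * y.2⁻¹) * x.2⁻¹ := by
          simp only [Prod.snd_mul, mul_inv_rev]; group
      _ = x.2 * R ⟨y.1 * n * y.1⁻¹, hN.conj_mem (n : G) n.2 y.1⟩ * x.2⁻¹ := by rw [h3]
      _ = R ⟨x.1 * (y.1 * n * y.1⁻¹) * x.1⁻¹, _⟩ := h2
      _ = _ := by
          congr 1
          apply Subtype.ext
          simp only [Prod.fst_mul, mul_inv_rev]
          group
  one_mem' := by
    intro n
    simp
  inv_mem' := by
    intro x hx n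
    have h2 := hx ⟨x.1⁻¹ * n * x.1, by
      have := hN.conj_mem (n : G) n.2 x.1⁻¹
      simpa using this⟩
    have h3 : (⟨x.1 * ((⟨x.1⁻¹ * n * x.1, by
      have := hN.conj_mem (n : G) n.2 x.1⁻¹
      simpa using this⟩ : N) : G) * x.1⁻¹, hN.conj_mem _ (by
      have := hN.conj_mem (n : G) n.2 x.1⁻¹
      simpa using this) x.1⟩ : N) = n := by
      apply Subtype.ext
      simp only
      group
    rw [h3] at h2
    show x⁻¹.2 * R n * x⁻¹.2⁻¹ = R ⟨x⁻¹.1 * n * x⁻¹.1⁻¹, _⟩
    have h4 : R ⟨x⁻¹.1 * n * x⁻¹.1⁻¹, hN.conj_mem (n : G) n.2 x⁻¹.1⟩ =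
        R ⟨x.1⁻¹ * n * x.1, by
          have := hN.conj_mem (n : G) n.2 x.1⁻¹
          simpa using this⟩ := by
      congr 1
      apply Subtype.ext
      simp
    rw [h4, ← h2]
    simp only [Prod.snd_inv, inv_inv]
    group

theorem mem_conjStab (x : G × U) : x ∈ conjStab N R ↔ ∀ n : N, x.2 * R n * x.2⁻¹ =
    R ⟨x.1 * n * x.1⁻¹, hN.conj_mem (n : G) n.2 x.1⟩ := Iff.rfl

/-- the embedding of `N` in `conjStab` -/
def conjStabIncl : N →* conjStab N R :=
  (MonoidHom.prod N.subtype R).codRestrict (conjStab N R) (by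
    intro m n
    show R m * R n * (R m)⁻¹ = R ⟨(m : G) * n * (m : G)⁻¹, _⟩
    rw [← map_inv, ← map_mul, ← map_mul]
    congr 1)

theorem conjStabIncl_coe (n : N) : ((conjStabIncl N R n : conjStab N R) : G × U) = ((n : G), R n) :=
  rfl

theorem conjStabIncl_range_normal : (conjStabIncl N R).range.Normal := by
  refine ⟨?_⟩
  rintro _ ⟨n, rfl⟩ x
  refine ⟨⟨(x : G × U).1 * n * (x : G × U).1⁻¹, hN.conj_mem (n : G) n.2 _⟩, ?_⟩
  apply Subtype.ext
  apply Prod.ext
  · rfl
  · show R ⟨(x : G × U).1 * n * (x : G × U).1⁻¹, _⟩ = (x : G × U).2 * R n * (x : G × U).2⁻¹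
    exact (x.2 n).symm

end Concrete
section Rep
variable {G : Type*} [Group G] [Finite G] (N : Subgroup G) [hN : N.Normal]
  {V : Type*} [AddCommGroup V] [Module ℂ V] [FiniteDimensional ℂ V]

/-- An invariant irreducible representation of a normal subgroup which extends (as a
representation) to subgroups of index prime to `p` for every prime `p` extends to the group. -/
theorem exists_rep_extension_of_sylow (σ : Representation ℂ N V) (hσ : σ.IsIrreducible)
    (hinv : ∀ (g : G) (n : N),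
      σ.character ⟨g * n * g⁻¹, hN.conj_mem (n : G) n.2 g⟩ = σ.character n)
    (hsyl : ∀ p : ℕ, p.Prime → ∃ (P : Subgroup G) (hNP : N ≤ P) (Y : Representation ℂ P V),
      Nat.Coprime P.index p ∧ ∀ n : N, Y ⟨(n : G), hNP n.2⟩ = σ n) :
    ∃ X : Representation ℂ G V, ∀ n : N, X n = σ n := by
  classical
  have : Fintype G := Fintype.ofFinite G
  have : Fintype N := Fintype.ofFinite N
  have := hσ
  have hnt : Nontrivial V := nontrivial_of_irreducible σ hσ
  let R : N →* (Module.End ℂ V)ˣ := MonoidHom.toHomUnits σ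
  have hR : ∀ n, ((R n : (Module.End ℂ V)ˣ) : Module.End ℂ V) = σ n := fun n => rfl
  let sc : ℂˣ →* (Module.End ℂ V)ˣ :=
    Units.map (algebraMap ℂ (Module.End ℂ V) : ℂ →* Module.End ℂ V)
  have hsc_comm : ∀ (t : ℂˣ) (u : (Module.End ℂ V)ˣ), sc t * u = u * sc t := by
    intro t u
    apply Units.ext
    simp only [Units.val_mul]
    exact Algebra.commutes (t : ℂ) (u : Module.End ℂ V)
  have hsc_val : ∀ (t : ℂˣ) (v : V), ((sc t : (Module.End ℂ V)ˣ) : Module.End ℂ V) v = (t : ℂ) • v := by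
    intro t v
    simp [sc, Module.algebraMap_end_apply]
  have hsc_inj : Function.Injective sc := by
    intro a b hab
    obtain ⟨v, hv⟩ := exists_ne (0 : V)
    have h1 : (a : ℂ) • v = (b : ℂ) • v := by rw [← hsc_val, ← hsc_val, hab]
    apply Units.ext
    exact smul_left_injective ℂ hv h1
  let π : conjStab N R →* G := (MonoidHom.fst G (Module.End ℂ V)ˣ).comp (conjStab N R).subtype
  let ι : ℂˣ →* conjStab N R :=
    ((MonoidHom.inr G (Module.End ℂ V)ˣ).comp sc).codRestrict (conjStab N R) (by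
      intro c n
      show sc c * R n * (sc c)⁻¹ = R ⟨1 * n * 1⁻¹, _⟩
      rw [hsc_comm, mul_assoc, mul_inv_cancel, mul_one]
      congr 1
      apply Subtype.ext
      simp)
  have hι_coe : ∀ c : ℂˣ, ((ι c : conjStab N R) : G × (Module.End ℂ V)ˣ) = (1, sc c) := fun _ => rfl
  have hπ : Function.Surjective π := by
    intro g₀
    let c₀ : N ≃* N := MulAut.conjNormal g₀
    have hc₀ : ∀ n : N, c₀ n = ⟨g₀ * n * g₀⁻¹, hN.conj_mem (n : G) n.2 g₀⟩ := fun n =>
      Subtype.ext (MulAut.conjNormal_apply g₀ n)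
    let σ₀ : Representation ℂ N V := MonoidHom.comp σ c₀.toMonoidHom
    have hσ₀irr : σ₀.IsIrreducible :=
      Cfsg.Agent.Lib.Helper2.isIrreducible_comp_of_surjective σ c₀.toMonoidHom c₀.surjective hσ
    have hchar : σ₀.character = σ.character := by
      funext n
      show LinearMap.trace ℂ V (σ (c₀ n)) = _
      rw [hc₀ n]; exact hinv g₀ n
    obtain ⟨φ⟩ := Cfsg.Agent.Lib.Helper4.equiv_of_character_eq σ₀ σ hσ₀irr hσ hchar
    let e : V ≃ₗ[ℂ] V := φ.toLinearEquiv
    have he : ∀ (n : N) (v : V), e (σ n v) = σ (c₀ n) (e v) := by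
      intro n v
      have := LinearMap.congr_fun (φ.isIntertwining' n) v
      exact this
    let M₀ : (Module.End ℂ V)ˣ :=
      ⟨e.toLinearMap, e.symm.toLinearMap, by ext v; simp, by ext v; simp⟩
    have hM₀ : ∀ v, (M₀ : Module.End ℂ V) v = e v := fun v => rfl
    have hconj0 : ∀ n : N, M₀ * R n * M₀⁻¹ =
        R ⟨g₀ * n * g₀⁻¹, hN.conj_mem (n : G) n.2 g₀⟩ := by
      intro n
      rw [mul_inv_eq_iff_eq_mul]
      apply Units.ext
      ext v
      simp only [Units.val_mul, Module.End.mul_apply, hR, hM₀]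
      rw [he, hc₀]
    exact ⟨⟨(g₀, M₀), hconj0⟩, rfl⟩
  have hπι : ∀ c, π (ι c) = 1 := fun _ => rfl
  have hcentral : ∀ (c : ℂˣ) (x : conjStab N R), ι c * x = x * ι c := by
    intro c x
    apply Subtype.ext
    apply Prod.ext
    · show (1 : G) * _ = _ * 1
      rw [one_mul, mul_one]
    · show sc c * (x : G × (Module.End ℂ V)ˣ).2 = (x : G × (Module.End ℂ V)ˣ).2 * sc c
      exact hsc_comm c _
  have hιinj : Function.Injective ι := by
    intro a b hab
    apply hsc_inj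
    have := congrArg (fun x : conjStab N R => (x : G × (Module.End ℂ V)ˣ).2) hab
    exact this
  have hker : ∀ x : conjStab N R, π x = 1 → ∃ c, x = ι c := by
    intro x hx
    have hx1 : (x : G × (Module.End ℂ V)ˣ).1 = 1 := hx
    have hcomm : ∀ n : N, (x : G × (Module.End ℂ V)ˣ).2 * R n = R n * (x : G × (Module.End ℂ V)ˣ).2 := by
      intro n
      have h1 := x.2 n
      rw [mul_inv_eq_iff_eq_mul] at h1
      rw [h1]
      congr 2
      apply Subtype.ext
      simp [hx1]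
    obtain ⟨c, hc⟩ := Cfsg.Agent.S0894.schur_scalar σ hσ
      (((x : G × (Module.End ℂ V)ˣ).2 : (Module.End ℂ V)ˣ) : Module.End ℂ V) (by
      intro n v
      have := congrArg (fun u : (Module.End ℂ V)ˣ => (u : Module.End ℂ V) v) (hcomm n)
      simpa [Units.val_mul, hR] using this)
    have hc0 : c ≠ 0 := by
      rintro rfl
      obtain ⟨v, hv⟩ := exists_ne (0 : V)
      have h1 : (((x : G × (Module.End ℂ V)ˣ).2⁻¹ * (x : G × (Module.End ℂ V)ˣ).2 :
          (Module.End ℂ V)ˣ) : Module.End ℂ V) v = v := by simp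
      rw [Units.val_mul, Module.End.mul_apply, hc] at h1
      simp at h1
      exact hv h1.symm
    refine ⟨Units.mk0 c hc0, ?_⟩
    apply Subtype.ext
    apply Prod.ext
    · exact hx1
    · show (x : G × (Module.End ℂ V)ˣ).2 = sc (Units.mk0 c hc0)
      apply Units.ext
      rw [hc]
      ext v
      simp [sc, Module.algebraMap_end_apply]
  have hMn : (conjStabIncl N R).range.Normal := conjStabIncl_range_normal N R
  obtain ⟨t, ht1, ht2⟩ := exists_retraction_of_sylow π hπ ι hιinj hcentral hker hπι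
    (conjStabIncl N R).range (by
    intro p hp
    obtain ⟨P, hNP, Y, hcop, hY⟩ := hsyl p hp
    let Y' : P →* (Module.End ℂ V)ˣ := MonoidHom.toHomUnits Y
    have hY' : ∀ n : N, Y' ⟨(n : G), hNP n.2⟩ = R n := by
      intro n
      apply Units.ext
      exact hY n
    let jP : P →* conjStab N R :=
      (MonoidHom.prod P.subtype Y').codRestrict (conjStab N R) (by
        intro g n
        show Y' g * R n * (Y' g)⁻¹ = R ⟨(g : G) * n * (g : G)⁻¹, _⟩
        rw [← hY', ← hY', ← map_inv, ← map_mul, ← map_mul]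
        congr 1)
    refine ⟨P, jP, hcop, fun g => rfl, ?_⟩
    rintro _ ⟨n, rfl⟩
    refine ⟨hNP n.2, ?_⟩
    apply Subtype.ext
    apply Prod.ext
    · rfl
    · exact hY' n)
  let Ψ : conjStab N R →* (Module.End ℂ V)ˣ :=
    { toFun := fun x => sc (t x)⁻¹ * (x : G × (Module.End ℂ V)ˣ).2
      map_one' := by simp
      map_mul' := by
        intro x y
        show sc (t (x * y))⁻¹ * ((x : G × (Module.End ℂ V)ˣ).2 * (y : G × (Module.End ℂ V)ˣ).2) =
          sc (t x)⁻¹ * (x : G × (Module.End ℂ V)ˣ).2 * (sc (t y)⁻¹ * (y : G × (Module.End ℂ V)ˣ).2)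
        rw [map_mul, mul_inv, map_mul]
        calc sc (t x)⁻¹ * sc (t y)⁻¹ * ((x : G × (Module.End ℂ V)ˣ).2 * (y : G × (Module.End ℂ V)ˣ).2)
            = sc (t x)⁻¹ * (sc (t y)⁻¹ * (x : G × (Module.End ℂ V)ˣ).2) *
                (y : G × (Module.End ℂ V)ˣ).2 := by group
          _ = sc (t x)⁻¹ * ((x : G × (Module.End ℂ V)ˣ).2 * sc (t y)⁻¹) *
                (y : G × (Module.End ℂ V)ˣ).2 := by rw [hsc_comm (t y)⁻¹]
          _ = _ := by group }
  have hΨ : ∀ x : conjStab N R, Ψ x = sc (t x)⁻¹ * (x : G × (Module.End ℂ V)ˣ).2 := fun _ => rfl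
  have hle : π.ker ≤ Ψ.ker := by
    intro x hx
    obtain ⟨c, rfl⟩ := hker x (MonoidHom.mem_ker.mp hx)
    rw [MonoidHom.mem_ker, hΨ, ht1, hι_coe]
    show sc c⁻¹ * sc c = 1
    rw [← map_mul, inv_mul_cancel, map_one]
  let X₀ : G →* (Module.End ℂ V)ˣ := π.liftOfSurjective hπ ⟨Ψ, hle⟩
  have hX₀ : ∀ x : conjStab N R, X₀ (π x) = Ψ x := fun x =>
    MonoidHom.liftOfRightInverse_comp_apply π _ _ ⟨Ψ, hle⟩ x
  refine ⟨(Units.coeHom (Module.End ℂ V)).comp X₀, fun n => ?_⟩
  show ((X₀ n : (Module.End ℂ V)ˣ) : Module.End ℂ V) = σ n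
  have h1 : (n : G) = π (conjStabIncl N R n) := rfl
  rw [h1, hX₀, hΨ, ht2 _ ⟨n, rfl⟩, inv_one, map_one, one_mul]
  rfl

end Rep

end Cfsg.Agent.Lib.Helper7
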