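import Mathlib
import Cfsg.Prelude.Def_Characters
import Cfsg.Agent.Lib.Helper7.ExtDet
import Cfsg.Agent.Lib.Helper7.CliffordCorr
import Cfsg.Agent.Lib.Helper4.GaloisConj
import Cfsg.Agent.Lib.Helper4.Deflate
import Cfsg.Agent.S0161
import Cfsg.Agent.S0888
import Cfsg.Agent.S0854
import Cfsg.Agent.S0857
import Cfsg.Agent.S0169

/-!
# Galois-fixed characters above a normal subgroup of odd index (helper7)

`k` is a natural number coprime to `|G|` with `g ^ k = g⁻¹` for every `g` of odd order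
(so `χ ↦ (g ↦ χ (g ^ k))` is a Galois action inverting odd-order roots of unity).
`main`: if `N ⊴ G` has odd index and `θ ∈ Irr(N)` is fixed, there is exactly one fixed
`χ ∈ Irr(G)` over `θ`; `[χ_N, θ] = 1` and `χ_N = θ` when `θ` is invariant.
No Feit–Thompson: existence of extensions is reduced to Sylow subgroups (S0888).
-/

set_option autoImplicit false

namespace Cfsg.Agent.Lib.Helper7.OddGalois
open Cfsg Cfsg.Agent.Lib.Helper26 Cfsg.Agent.Lib.Helper2 Cfsg.Agent.Lib.Helper7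
open scoped ComplexConjugate

section Basic
variable {G : Type*} [Group G] [Finite G] {k : ℕ}

theorem dvd_succ (hk₂ : ∀ g : G, Odd (orderOf g) → g ^ k = g⁻¹) (g : G) (d : ℕ) (hd : Odd d)
    (hdvd : d ∣ orderOf g) : d ∣ k + 1 := by
  have hpos : 0 < orderOf g := orderOf_pos g
  have hd0 : 0 < d := hd.pos
  set n := orderOf g / d with hn
  have hn0 : n ≠ 0 := (Nat.div_pos (Nat.le_of_dvd hpos hdvd) hd0).ne'
  have hndvd : n ∣ orderOf g := Nat.div_dvd_of_dvd hdvd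
  have hord : orderOf (g ^ n) = d := by
    rw [orderOf_pow_of_dvd hn0 hndvd, hn, Nat.div_div_self hdvd hpos.ne']
  have h1 := hk₂ (g ^ n) (by rw [hord]; exact hd)
  have h2 : (g ^ n) ^ (k + 1) = 1 := by rw [pow_succ, h1, inv_mul_cancel]
  rw [← hord]
  exact orderOf_dvd_of_pow_eq_one h2

theorem map_pow_succ_eq_one {M : Type*} [Group M]
    (hk₂ : ∀ g : G, Odd (orderOf g) → g ^ k = g⁻¹) (f : G →* M) (g : G) (m : ℕ) (hm : Odd m)
    (h : f g ^ m = 1) : f g ^ (k + 1) = 1 := by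
  have h1 : orderOf (f g) ∣ m := orderOf_dvd_of_pow_eq_one h
  have h2 : Odd (orderOf (f g)) := Odd.of_dvd_nat hm h1
  have h3 : orderOf (f g) ∣ orderOf g := orderOf_map_dvd f g
  exact orderOf_dvd_iff_pow_eq_one.mp (dvd_succ hk₂ g _ h2 h3)

theorem map_pow_eq_inv {M : Type*} [Group M]
    (hk₂ : ∀ g : G, Odd (orderOf g) → g ^ k = g⁻¹) (f : G →* M) (g : G) (m : ℕ) (hm : Odd m)
    (h : f g ^ m = 1) : f (g ^ k) = (f g)⁻¹ := by
  have h1 := map_pow_succ_eq_one hk₂ f g m hm h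
  rw [map_pow]
  rw [pow_succ] at h1
  exact eq_inv_of_mul_eq_one_left h1

theorem hk_sub (H : Subgroup G) (hk : k.Coprime (Nat.card G)) : k.Coprime (Nat.card H) :=
  Nat.Coprime.coprime_dvd_right (Subgroup.card_subgroup_dvd_card H) hk

theorem hk₂_sub (H : Subgroup G) (hk₂ : ∀ g : G, Odd (orderOf g) → g ^ k = g⁻¹) :
    ∀ h : H, Odd (orderOf h) → h ^ k = h⁻¹ := by
  intro h hh
  apply Subtype.ext
  rw [Subgroup.coe_pow, Subgroup.coe_inv]
  exact hk₂ h (by rwa [Subgroup.orderOf_coe])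

theorem lin_inv (N : Subgroup G) [N.Normal] (hodd : Odd N.index)
    (hk₂ : ∀ g : G, Odd (orderOf g) → g ^ k = g⁻¹) (β : G →* ℂˣ) (hβ : ∀ n : N, β n = 1)
    (g : G) : β (g ^ k) = (β g)⁻¹ := by
  apply map_pow_eq_inv hk₂ β g N.index hodd
  have := hβ ⟨g ^ N.index, Subgroup.pow_index_mem N g⟩
  simpa using this

theorem quot_inv (N : Subgroup G) [N.Normal] (hodd : Odd N.index)
    (hk₂ : ∀ g : G, Odd (orderOf g) → g ^ k = g⁻¹) (x : G ⧸ N) : x ^ k = x⁻¹ := by
  induction x using QuotientGroup.induction_on with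
  | H g =>
    have h := map_pow_eq_inv hk₂ (QuotientGroup.mk' N) g N.index hodd (by
      rw [Subgroup.index_eq_card]; exact pow_card_eq_one')
    rw [map_pow] at h
    exact h

end Basic

section Ext
variable {G : Type*} [Group G] [Fintype G] (N : Subgroup G) [hN : N.Normal] {k : ℕ}

/-- an extension of a fixed character can be twisted into a fixed extension -/
theorem fixed_ext_of_ext (hodd : Odd N.index) (hk : k.Coprime (Nat.card G))
    (hk₂ : ∀ g : G, Odd (orderOf g) → g ^ k = g⁻¹) (θ : N → ℂ) (hθ : IsIrrCharacter N θ)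
    (hfix : ∀ n : N, θ (n ^ k) = θ n) (χ₀ : G → ℂ) (hχ₀ : IsIrrCharacter G χ₀)
    (he : ∀ n : N, χ₀ n = θ n) :
    ∃ χ : G → ℂ, IsIrrCharacter G χ ∧ (∀ n : N, χ n = θ n) ∧ ∀ g : G, χ (g ^ k) = χ g := by
  have hχ₀' : IsIrrCharacter G (fun g => χ₀ (g ^ k)) :=
    Cfsg.Agent.Lib.Helper4.isIrrCharacter_pow χ₀ hχ₀ k hk
  have he' : ∀ n : N, (fun g => χ₀ (g ^ k)) n = θ n := by
    intro n
    show χ₀ ((n : G) ^ k) = θ n
    have := he (n ^ k)
    rw [Subgroup.coe_pow] at this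
    rw [this, hfix]
  obtain ⟨β, hβN, hβ⟩ := ext_twist N θ hθ χ₀ _ hχ₀ hχ₀' he he'
  obtain ⟨j, hj⟩ := hodd
  set μ : G →* ℂˣ := β ^ (j + 1) with hμ
  have hμN : ∀ n : N, μ n = 1 := by
    intro n; rw [hμ, MonoidHom.pow_apply, hβN, one_pow]
  have hβm : β ^ N.index = 1 := pow_index_eq_one N β hβN
  have hμ2 : ∀ g, μ g * μ g = β g := by
    intro g
    have h1 : β g ^ N.index = 1 := by rw [← MonoidHom.pow_apply, hβm]; rfl
    rw [hμ, MonoidHom.pow_apply, ← pow_add]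
    have : j + 1 + (j + 1) = N.index + 1 := by omega
    rw [this, pow_succ, h1, one_mul]
  have hμinv : ∀ g, μ (g ^ k) = (μ g)⁻¹ := lin_inv N ⟨j, hj⟩ hk₂ μ hμN
  refine ⟨fun g => ((μ g : ℂˣ) : ℂ) * χ₀ g, Cfsg.Agent.S0857.isIrr_twist μ χ₀ hχ₀, ?_, ?_⟩
  · intro n
    show ((μ n : ℂˣ) : ℂ) * χ₀ n = θ n
    rw [hμN, Units.val_one, one_mul, he]
  · intro g
    show ((μ (g ^ k) : ℂˣ) : ℂ) * χ₀ (g ^ k) = ((μ g : ℂˣ) : ℂ) * χ₀ g
    have h1 : χ₀ (g ^ k) = ((β g : ℂˣ) : ℂ) * χ₀ g := congrFun hβ g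
    rw [h1, hμinv, ← hμ2 g, ← mul_assoc, ← Units.val_mul, inv_mul_cancel_left]

/-- two fixed extensions coincide -/
theorem ext_fixed_unique (hodd : Odd N.index)
    (hk₂ : ∀ g : G, Odd (orderOf g) → g ^ k = g⁻¹) (θ : N → ℂ) (hθ : IsIrrCharacter N θ)
    (χ₁ χ₂ : G → ℂ) (h₁ : IsIrrCharacter G χ₁) (h₂ : IsIrrCharacter G χ₂)
    (he₁ : ∀ n : N, χ₁ n = θ n) (he₂ : ∀ n : N, χ₂ n = θ n)
    (hf₁ : ∀ g, χ₁ (g ^ k) = χ₁ g) (hf₂ : ∀ g, χ₂ (g ^ k) = χ₂ g) : χ₂ = χ₁ := by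
  obtain ⟨β, hβN, hβ⟩ := ext_twist N θ hθ χ₁ χ₂ h₁ h₂ he₁ he₂
  have hβm : β ^ N.index = 1 := pow_index_eq_one N β hβN
  have hβinv := lin_inv N hodd hk₂ β hβN
  funext g
  have h1 : χ₂ g = ((β g : ℂˣ) : ℂ) * χ₁ g := congrFun hβ g
  have h2 : χ₂ (g ^ k) = ((β (g ^ k) : ℂˣ) : ℂ) * χ₁ (g ^ k) := congrFun hβ (g ^ k)
  rw [hf₂, hf₁, hβinv, h1] at h2
  by_cases h0 : χ₁ g = 0
  · rw [h1, h0, mul_zero]
  · have h3 : ((β g : ℂˣ) : ℂ) = (((β g)⁻¹ : ℂˣ) : ℂ) := mul_right_cancel₀ h0 h2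
    have h4 : β g = (β g)⁻¹ := Units.ext h3
    have h5 : β g ^ 2 = 1 := by
      rw [pow_two]
      nth_rewrite 2 [h4]
      exact mul_inv_cancel _
    have h6 : β g ^ N.index = 1 := by rw [← MonoidHom.pow_apply, hβm]; rfl
    have h7 : β g = 1 := by
      have := pow_gcd_eq_one.mpr ⟨h5, h6⟩
      have hg : Nat.gcd 2 N.index = 1 := Nat.coprime_two_left.mpr hodd
      rwa [hg, pow_one] at this
    rw [h1, h7, Units.val_one, one_mul]

end Ext

section Solvable
universe u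

/-- a fixed invariant character extends to a fixed character when the quotient is solvable of
odd order -/
theorem ext_fixed_solvable_aux : ∀ (m : ℕ) (G : Type u) [Group G] [Fintype G] (N : Subgroup G)
    [hN : N.Normal], N.index = m → Odd N.index → Group.IsSolvable (G ⧸ N) → ∀ (k : ℕ),
    k.Coprime (Nat.card G) → (∀ g : G, Odd (orderOf g) → g ^ k = g⁻¹) → ∀ (ϑ : N → ℂ),
    IsIrrCharacter N ϑ →
    (∀ (g : G) (n : N), ϑ ⟨g * n * g⁻¹, hN.conj_mem (n : G) n.2 g⟩ = ϑ n) →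
    (∀ n : N, ϑ (n ^ k) = ϑ n) →
    ∃ χ : G → ℂ, IsIrrCharacter G χ ∧ (∀ n : N, χ n = ϑ n) ∧ ∀ g : G, χ (g ^ k) = χ g := by
  intro m
  induction m using Nat.strong_induction_on with
  | _ m ih =>
    intro G _ _ N hN hm hodd hsolv k hk hk₂ ϑ hϑ hinv hfix
    by_cases htop : N = ⊤
    · have hmem : ∀ g : G, g ∈ N := fun g => by rw [htop]; exact Subgroup.mem_top g
      let e : G ≃* N :=
        { toFun := fun g => ⟨g, hmem g⟩
          invFun := fun n => n
          left_inv := fun _ => rfl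
          right_inv := fun _ => rfl
          map_mul' := fun _ _ => rfl }
      refine ⟨ϑ ∘ e, isIrrCharacter_comp_mulEquiv hϑ e, fun n => ?_, fun g => ?_⟩
      · show ϑ (e n) = ϑ n
        congr 1
      · show ϑ (e (g ^ k)) = ϑ (e g)
        rw [map_pow, hfix]
    · obtain ⟨M, hMn, hNM, hMp⟩ := exists_normal_prime_index N htop hsolv
      haveI := hMn
      haveI : Fintype M := Fintype.ofFinite _
      haveI hN'n : (N.subgroupOf M).Normal := Subgroup.normal_subgroupOf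
      let eN : N.subgroupOf M ≃* N := Subgroup.subgroupOfEquivOfLe hNM
      have heN : ∀ x : N.subgroupOf M, ((eN x : N) : G) = ((x : M) : G) := fun x => rfl
      let ϑ' : N.subgroupOf M → ℂ := ϑ ∘ eN
      have hϑ' : IsIrrCharacter (N.subgroupOf M) ϑ' := isIrrCharacter_comp_mulEquiv hϑ eN
      have hrel : (N.subgroupOf M).index * M.index = N.index :=
        Subgroup.relIndex_mul_index hNM
      have hm' : (N.subgroupOf M).index < m := by
        rw [← hm, ← hrel]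
        have h1 : 0 < (N.subgroupOf M).index := Nat.pos_of_ne_zero Subgroup.index_ne_zero_of_finite
        have h2 := hMp.two_le
        nlinarith
      have hodd' : Odd (N.subgroupOf M).index := Odd.of_dvd_nat hodd ⟨M.index, hrel.symm⟩
      have hoddM : Odd M.index := Odd.of_dvd_nat hodd ⟨(N.subgroupOf M).index, by rw [← hrel, mul_comm]⟩
      have hsolvM : Group.IsSolvable (M ⧸ N.subgroupOf M) := by
        haveI := hsolv
        have hle : N.subgroupOf M ≤ N.comap M.subtype := le_rfl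
        refine Group.isSolvable_of_isSolvable_injective
          (f := QuotientGroup.map _ N M.subtype hle) ?_
        rw [injective_iff_map_eq_one]
        intro q hq
        induction q using QuotientGroup.induction_on with
        | H t =>
          rw [QuotientGroup.map_mk, QuotientGroup.eq_one_iff] at hq
          exact (QuotientGroup.eq_one_iff t).mpr hq
      have hinv' : ∀ (m : M) (x : N.subgroupOf M),
          ϑ' ⟨m * x * m⁻¹, hN'n.conj_mem (x : M) x.2 m⟩ = ϑ' x := by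
        intro m x
        show ϑ (eN _) = ϑ (eN x)
        rw [← hinv (m : G) (eN x)]
        congr 1
      have hfix' : ∀ x : N.subgroupOf M, ϑ' (x ^ k) = ϑ' x := by
        intro x
        show ϑ (eN (x ^ k)) = ϑ (eN x)
        rw [map_pow, hfix]
      have hkM : k.Coprime (Nat.card M) := hk_sub M hk
      have hk₂M : ∀ h : M, Odd (orderOf h) → h ^ k = h⁻¹ := hk₂_sub M hk₂
      obtain ⟨ψ, hψ, hψe, hψf⟩ := ih _ hm' M (N.subgroupOf M) rfl hodd' hsolvM k hkM hk₂M ϑ' hϑ'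
        hinv' hfix'
      -- ψ is G-invariant
      have hψinv : ∀ (g : G) (m : M), ψ ⟨g * m * g⁻¹, hMn.conj_mem (m : G) m.2 g⟩ = ψ m := by
        intro g
        let ψg : M → ℂ := fun m => ψ ⟨g * m * g⁻¹, hMn.conj_mem (m : G) m.2 g⟩
        have hψg : IsIrrCharacter M ψg :=
          isIrrCharacter_comp_mulEquiv hψ (MulAut.conjNormal g : M ≃* M)
        have hψge : ∀ x : N.subgroupOf M, ψg x = ϑ' x := by
          intro x
          have hmem : (⟨g * (x : M) * g⁻¹, hMn.conj_mem ((x : M) : G) (x : M).2 g⟩ : M) ∈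
              N.subgroupOf M := by
            show g * ((x : M) : G) * g⁻¹ ∈ N
            exact hN.conj_mem _ x.2 g
          show ψ ⟨g * (x : M) * g⁻¹, _⟩ = ϑ' x
          have h1 := hψe ⟨_, hmem⟩
          simp only at h1
          rw [h1]
          show ϑ (eN _) = ϑ (eN x)
          rw [← hinv g (eN x)]
          congr 1
        have hψgf : ∀ m : M, ψg (m ^ k) = ψg m := by
          intro m
          show ψ ⟨g * ((m ^ k : M) : G) * g⁻¹, _⟩ = ψ ⟨g * m * g⁻¹, _⟩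
          rw [← hψf ⟨g * m * g⁻¹, hMn.conj_mem (m : G) m.2 g⟩]
          congr 1
          apply Subtype.ext
          show g * ((m ^ k : M) : G) * g⁻¹ =
            (((⟨g * m * g⁻¹, hMn.conj_mem (m : G) m.2 g⟩ : M) ^ k : M) : G)
          rw [Subgroup.coe_pow, Subgroup.coe_pow, conj_pow]
        have := ext_fixed_unique (N.subgroupOf M) hodd' hk₂M ϑ' hϑ' ψ ψg hψ hψg hψe hψge hψf hψgf
        intro m
        exact congrFun this m
      obtain ⟨χ₀, hχ₀, hχ₀e⟩ := ext_prime_index M hMp ψ hψ hψinv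
      obtain ⟨χ, hχ, hχe, hχf⟩ := fixed_ext_of_ext M hoddM hk hk₂ ψ hψ hψf χ₀ hχ₀ hχ₀e
      refine ⟨χ, hχ, fun n => ?_, hχf⟩
      have h1 := hχe ⟨n, hNM n.2⟩
      simp only at h1
      rw [h1]
      have hmem : (⟨n, hNM n.2⟩ : M) ∈ N.subgroupOf M := n.2
      have h2 := hψe ⟨_, hmem⟩
      simp only at h2
      rw [h2]
      show ϑ (eN _) = ϑ n
      congr 1

end Solvable

section General
universe u
variable {G : Type u} [Group G] [Fintype G] (N : Subgroup G) [hN : N.Normal] {k : ℕ}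

/-- a fixed invariant character of a normal subgroup of odd index has a fixed extension -/
theorem ext_fixed (hodd : Odd N.index) (hk : k.Coprime (Nat.card G))
    (hk₂ : ∀ g : G, Odd (orderOf g) → g ^ k = g⁻¹) (ϑ : N → ℂ) (hϑ : IsIrrCharacter N ϑ)
    (hinv : ∀ (g : G) (n : N), ϑ ⟨g * n * g⁻¹, hN.conj_mem (n : G) n.2 g⟩ = ϑ n)
    (hfix : ∀ n : N, ϑ (n ^ k) = ϑ n) :
    ∃ χ : G → ℂ, IsIrrCharacter G χ ∧ (∀ n : N, χ n = ϑ n) ∧ ∀ g : G, χ (g ^ k) = χ g := by
  classical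
  have hsyl : ∀ p : ℕ, p.Prime → ∃ (P : Subgroup G) (hNP : N ≤ P) (η : P → ℂ),
      Nat.Coprime P.index p ∧ (∃ j : ℕ, N.relIndex P = p ^ j) ∧ IsIrrCharacter P η ∧
      ∀ n : N, η ⟨(n : G), hNP n.2⟩ = ϑ n := by
    intro p hp
    haveI : Fact p.Prime := ⟨hp⟩
    let Q : Sylow p (G ⧸ N) := default
    let P : Subgroup G := (Q : Subgroup (G ⧸ N)).comap (QuotientGroup.mk' N)
    have hNP : N ≤ P := by
      intro x hx
      show QuotientGroup.mk' N x ∈ (Q : Subgroup (G ⧸ N))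
      have : QuotientGroup.mk' N x = 1 := (QuotientGroup.eq_one_iff x).mpr hx
      rw [this]; exact one_mem _
    have hidx : P.index = (Q : Subgroup (G ⧸ N)).index :=
      Subgroup.index_comap_of_surjective _ (QuotientGroup.mk'_surjective N)
    have hcop : Nat.Coprime P.index p := by
      rw [hidx, Nat.coprime_comm, Nat.Prime.coprime_iff_not_dvd hp]
      exact Q.not_dvd_index
    have hrelcard : N.relIndex P = Nat.card (Q : Subgroup (G ⧸ N)) := by
      have h1 := Subgroup.relIndex_comap (⊥ : Subgroup (G ⧸ N)) (QuotientGroup.mk' N) P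
      rw [MonoidHom.comap_bot, QuotientGroup.ker_mk',
        Subgroup.map_comap_eq_self_of_surjective (QuotientGroup.mk'_surjective N),
        Subgroup.relIndex_bot_left] at h1
      exact h1
    obtain ⟨j, hj⟩ := IsPGroup.iff_card.mp Q.isPGroup'
    have hrel : N.relIndex P = p ^ j := by rw [hrelcard, hj]
    haveI : Fintype P := Fintype.ofFinite _
    haveI hN'n : (N.subgroupOf P).Normal := Subgroup.normal_subgroupOf
    let eN : N.subgroupOf P ≃* N := Subgroup.subgroupOfEquivOfLe hNP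
    let ϑ' : N.subgroupOf P → ℂ := ϑ ∘ eN
    have hϑ' : IsIrrCharacter (N.subgroupOf P) ϑ' := isIrrCharacter_comp_mulEquiv hϑ eN
    have hrelidx : (N.subgroupOf P).index * P.index = N.index := Subgroup.relIndex_mul_index hNP
    have hodd' : Odd (N.subgroupOf P).index := Odd.of_dvd_nat hodd ⟨P.index, hrelidx.symm⟩
    have hsolvP : Group.IsSolvable (P ⧸ N.subgroupOf P) := by
      have hcard : Nat.card (P ⧸ N.subgroupOf P) = p ^ j := by
        rw [← Subgroup.index_eq_card]; exact hrel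
      have hpg : IsPGroup p (P ⧸ N.subgroupOf P) := IsPGroup.of_card hcard
      haveI := hpg.isNilpotent
      infer_instance
    have hinv' : ∀ (m : P) (x : N.subgroupOf P),
        ϑ' ⟨m * x * m⁻¹, hN'n.conj_mem (x : P) x.2 m⟩ = ϑ' x := by
      intro m x
      show ϑ (eN _) = ϑ (eN x)
      rw [← hinv (m : G) (eN x)]
      congr 1
    have hfix' : ∀ x : N.subgroupOf P, ϑ' (x ^ k) = ϑ' x := by
      intro x
      show ϑ (eN (x ^ k)) = ϑ (eN x)
      rw [map_pow, hfix]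
    obtain ⟨η, hη, hηe, -⟩ := ext_fixed_solvable_aux _ P (N.subgroupOf P) rfl hodd' hsolvP k
      (hk_sub P hk) (hk₂_sub P hk₂) ϑ' hϑ' hinv' hfix'
    refine ⟨P, hNP, η, hcop, ⟨j, hrel⟩, hη, fun n => ?_⟩
    have hmem : (⟨n, hNP n.2⟩ : P) ∈ N.subgroupOf P := n.2
    have h2 := hηe ⟨_, hmem⟩
    simp only at h2
    rw [h2]
    show ϑ (eN _) = ϑ n
    congr 1
  obtain ⟨χ₀, hχ₀, hχ₀e⟩ := Cfsg.Agent.S0888.result N ϑ hϑ hinv hsyl
  exact fixed_ext_of_ext N hodd hk hk₂ ϑ hϑ hfix χ₀ hχ₀ hχ₀e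

end General

section Unique
variable {G : Type*} [Group G] [Fintype G] (N : Subgroup G) [hN : N.Normal] [Fintype N] {k : ℕ}

/-- a fixed irreducible character over a fixed invariant character with a fixed extension is that
extension -/
theorem fixed_over_unique (hodd : Odd N.index) (hk : k.Coprime (Nat.card G))
    (hk₂ : ∀ g : G, Odd (orderOf g) → g ^ k = g⁻¹) (ϑ : N → ℂ) (hϑ : IsIrrCharacter N ϑ)
    (χ₀ : G → ℂ) (hχ₀ : IsIrrCharacter G χ₀) (he : ∀ n : N, χ₀ n = ϑ n)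
    (hf₀ : ∀ g, χ₀ (g ^ k) = χ₀ g)
    (χ' : G → ℂ) (hχ' : IsIrrCharacter G χ') (hcon : classInner (fun n : N => χ' n) ϑ ≠ 0)
    (hf' : ∀ g, χ' (g ^ k) = χ' g) : χ' = χ₀ := by
  classical
  have hinv := inv_of_ext N ϑ χ₀ hχ₀ he
  have hone : IsIrrCharacter N (fun _ => (1 : ℂ)) := Cfsg.Agent.Lib.Helper4.isIrrCharacter_one
  have honec := isCharacter_of_isIrrCharacter hone
  have hmul : ((fun _ => (1 : ℂ)) * ϑ : N → ℂ) = ϑ := by funext n; simp
  obtain ⟨-, hinj, hsurj⟩ := gallagher_gen N (fun _ => (1 : ℂ)) ϑ hone (fun _ _ => rfl) hinv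
    (by rw [hmul]; exact hϑ) χ₀ hχ₀ he
  have hϑc := isCharacter_of_isIrrCharacter hϑ
  have hcon2 : classInner (indFun N ((fun _ => (1 : ℂ)) * ϑ)) χ' ≠ 0 := by
    rw [hmul]
    obtain ⟨m, hm1, hm2⟩ := Cfsg.Agent.S0900.ind_coeff N ϑ hϑc χ'
      (isCharacter_of_isIrrCharacter hχ')
    rw [hm1, ← hm2]; exact hcon
  obtain ⟨β, hβ, hβcon, hβmul⟩ := hsurj χ' hχ' hcon2
  have hβc := isCharacter_of_isIrrCharacter hβ
  have hβN1 : classInner (fun n : N => β n) (fun _ => (1 : ℂ)) ≠ 0 := by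
    obtain ⟨m, hm1, hm2⟩ := Cfsg.Agent.S0900.ind_coeff N (fun _ => (1 : ℂ)) honec β hβc
    rw [hm2, ← hm1]; exact hβcon
  obtain ⟨e, he0, heq⟩ := Cfsg.Agent.S0900.clifford_inv N β hβ (fun _ => (1 : ℂ)) hone hβN1
    (fun _ _ => rfl)
  have hβe : ∀ n ∈ N, β n = e := by
    intro n hn
    have h1 := congrFun heq ⟨n, hn⟩
    simpa using h1
  have hβN : ∀ n ∈ N, β n = β 1 := by
    intro n hn
    rw [hβe n hn, hβe 1 (one_mem N)]
  let βk : G → ℂ := fun g => β (g ^ k)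
  have hβk : IsIrrCharacter G βk := Cfsg.Agent.Lib.Helper4.isIrrCharacter_pow β hβ k hk
  have hβkcon : classInner (indFun N (fun _ => (1 : ℂ))) βk ≠ 0 := by
    obtain ⟨m, hm1, hm2⟩ := Cfsg.Agent.S0900.ind_coeff N (fun _ => (1 : ℂ)) honec βk
      (isCharacter_of_isIrrCharacter hβk)
    rw [hm1, ← hm2]
    have hres : (fun n : N => βk n) = (e : ℂ) • (fun _ => (1 : ℂ)) := by
      funext n
      show β ((n : G) ^ k) = _
      rw [hβe _ (N.pow_mem n.2 k)]
      simp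
    rw [hres, classInner_smul_left, classInner_irr hone hone, if_pos rfl, mul_one]
    exact Nat.cast_ne_zero.mpr he0
  have hmulk : βk * χ₀ = β * χ₀ := by
    funext g
    show β (g ^ k) * χ₀ g = β g * χ₀ g
    have h1 := congrFun hβmul (g ^ k)
    have h2 := congrFun hβmul g
    simp only [Pi.mul_apply] at h1 h2
    rw [hf₀] at h1
    rw [h1, h2, hf']
  have hβfix : βk = β := hinj βk β hβk hβ hβkcon hβcon hmulk
  obtain ⟨ψ, hψ⟩ := Cfsg.Agent.Lib.Helper4.exists_deflate_irr N ⟨β, hβ⟩ hβN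
  have hoddq : Odd (Nat.card (G ⧸ N)) := by rw [← Subgroup.index_eq_card]; exact hodd
  have hreal : ∀ x : G ⧸ N, ((ψ : G ⧸ N → ℂ) x).im = 0 := by
    intro x
    induction x using QuotientGroup.induction_on with
    | H g =>
      have h1 : conj ((ψ : G ⧸ N → ℂ) (g : G ⧸ N)) = (ψ : G ⧸ N → ℂ) (g : G ⧸ N) := by
        rw [isCharacter_conj_eq_inv (isCharacter_of_isIrrCharacter ψ.2),
          ← quot_inv N hodd hk₂ (g : G ⧸ N), ← QuotientGroup.mk_pow, hψ, hψ]
        exact congrFun hβfix g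
      exact Complex.conj_eq_iff_im.mp h1
  have hψ1 := Cfsg.Agent.S0161.result hoddq ψ hreal
  funext g
  have h2 := congrFun hβmul g
  simp only [Pi.mul_apply] at h2
  have h3 : β g = 1 := by
    have := hψ g
    rw [hψ1] at this
    exact this.symm
  rw [← h2, h3, one_mul]

end Unique

section Main
universe u
variable {G : Type u} [Group G] [Fintype G]

theorem extendByZero_pow (T : Subgroup G) {k : ℕ} (hk : k.Coprime (Nat.card G)) (ψ : T → ℂ)
    (y : G) : extendByZero T (fun t => ψ (t ^ k)) y = extendByZero T ψ (y ^ k) := by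
  by_cases hy : y ∈ T
  · rw [extendByZero_apply_mem T _ y hy, extendByZero_apply_mem T ψ _ (T.pow_mem hy k)]
    rfl
  · have hyk : y ^ k ∉ T := by
      intro h
      apply hy
      have hcop : k.Coprime (orderOf y) :=
        Nat.Coprime.coprime_dvd_right (orderOf_dvd_natCard y) hk
      obtain ⟨m, hm⟩ := exists_pow_eq_self_of_coprime hcop
      rw [← hm]
      exact T.pow_mem h m
    rw [extendByZero_apply_not_mem T _ y hy, extendByZero_apply_not_mem T ψ _ hyk]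

theorem indFun_pow (T : Subgroup G) {k : ℕ} (hk : k.Coprime (Nat.card G)) (ψ : T → ℂ) (g : G) :
    indFun T (fun t => ψ (t ^ k)) g = indFun T ψ (g ^ k) := by
  unfold indFun
  congr 1
  apply Finset.sum_congr rfl
  intro x _
  rw [extendByZero_pow T hk ψ]
  congr 1
  have := conj_pow (i := k) (a := x⁻¹) (b := g)
  rw [inv_inv] at this
  exact this

variable (N : Subgroup G) [hN : N.Normal] [Fintype N] {k : ℕ}

/-- the main theorem on fixed characters above a normal subgroup of odd index -/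
theorem main (hodd : Odd N.index) (hk : k.Coprime (Nat.card G))
    (hk₂ : ∀ g : G, Odd (orderOf g) → g ^ k = g⁻¹) (ϑ : N → ℂ) (hϑ : IsIrrCharacter N ϑ)
    (hfix : ∀ n : N, ϑ (n ^ k) = ϑ n) :
    ∃ χ : G → ℂ, IsIrrCharacter G χ ∧ classInner (fun n : N => χ n) ϑ = 1 ∧
      (∀ g, χ (g ^ k) = χ g) ∧
      ((∀ (g : G) (n : N), ϑ ⟨g * n * g⁻¹, hN.conj_mem (n : G) n.2 g⟩ = ϑ n) →
        ∀ n : N, χ n = ϑ n) ∧
      ∀ χ' : G → ℂ, IsIrrCharacter G χ' → classInner (fun n : N => χ' n) ϑ ≠ 0 →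
        (∀ g, χ' (g ^ k) = χ' g) → χ' = χ := by
  classical
  have hϑcf : IsClassFunction N ϑ :=
    Cfsg.Agent.Lib.Helper26.isClassFunction_of_isIrrCharacter hϑ
  set T := Cfsg.Agent.S0169.inertia N ϑ with hTdef
  haveI : Fintype T := Fintype.ofFinite T
  have hNT : N ≤ T := Cfsg.Agent.S0169.le_inertia N ϑ hϑcf
  have hT := Cfsg.Agent.S0169.mem_inertia N ϑ
  have hinvT : ∀ t ∈ T, ∀ n : N, ϑ ⟨t * n * t⁻¹, hN.conj_mem (n : G) n.2 t⟩ = ϑ n :=
    fun t ht => (hT t).mp ht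
  haveI hN'n : (N.subgroupOf T).Normal := Subgroup.normal_subgroupOf
  haveI : Fintype (N.subgroupOf T) := Fintype.ofFinite _
  let eN : N.subgroupOf T ≃* N := Subgroup.subgroupOfEquivOfLe hNT
  let ϑ' : N.subgroupOf T → ℂ := ϑ ∘ eN
  have hϑ' : IsIrrCharacter (N.subgroupOf T) ϑ' := isIrrCharacter_comp_mulEquiv hϑ eN
  have hrelidx : (N.subgroupOf T).index * T.index = N.index := Subgroup.relIndex_mul_index hNT
  have hodd' : Odd (N.subgroupOf T).index := Odd.of_dvd_nat hodd ⟨T.index, hrelidx.symm⟩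
  have hinv' : ∀ (t : T) (x : N.subgroupOf T),
      ϑ' ⟨t * x * t⁻¹, hN'n.conj_mem (x : T) x.2 t⟩ = ϑ' x := by
    intro t x
    show ϑ (eN _) = ϑ (eN x)
    rw [← hinvT (t : G) t.2 (eN x)]
    congr 1
  have hfix' : ∀ x : N.subgroupOf T, ϑ' (x ^ k) = ϑ' x := by
    intro x
    show ϑ (eN (x ^ k)) = ϑ (eN x)
    rw [map_pow, hfix]
  have hkT : k.Coprime (Nat.card T) := hk_sub T hk
  have hk₂T : ∀ h : T, Odd (orderOf h) → h ^ k = h⁻¹ := hk₂_sub T hk₂
  obtain ⟨ψ, hψ, hψe, hψf⟩ := ext_fixed (N.subgroupOf T) hodd' hkT hk₂T ϑ' hϑ' hinv' hfix'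
  have hψN : (fun n : N => ψ ⟨(n : G), hNT n.2⟩) = ϑ := by
    funext n
    have hmem : (⟨n, hNT n.2⟩ : T) ∈ N.subgroupOf T := n.2
    have h2 := hψe ⟨_, hmem⟩
    simp only at h2
    rw [h2]
    show ϑ (eN _) = ϑ n
    congr 1
  have hϑϑ : classInner ϑ ϑ = 1 := by rw [classInner_irr hϑ hϑ, if_pos rfl]
  have hψcon : classInner (fun n : N => ψ ⟨(n : G), hNT n.2⟩) ϑ ≠ 0 := by
    rw [hψN, hϑϑ]; exact one_ne_zero
  have hψc := isCharacter_of_isIrrCharacter hψ
  have hIc : IsCharacter G (indFun T ψ) := isCharacter_indFun T hψc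
  have hI1 : indFun T ψ 1 ≠ 0 := by
    obtain ⟨d, hd, hd1⟩ := irr_degree hψ
    rw [indFun_one, hd1]
    have h1 : (Nat.card T : ℂ) ≠ 0 := Nat.cast_ne_zero.mpr Nat.card_pos.ne'
    have h2 : (Fintype.card G : ℂ) ≠ 0 := Nat.cast_ne_zero.mpr Fintype.card_ne_zero
    have h3 : (d : ℂ) ≠ 0 := Nat.cast_ne_zero.mpr hd.ne'
    exact mul_ne_zero (inv_ne_zero h1) (mul_ne_zero h2 h3)
  obtain ⟨χ₁, hχ₁⟩ := exists_constituent hIc hI1
  obtain ⟨h1, h2, -⟩ := corr_main N T hNT ϑ hϑ hT ψ hψ hψcon (χ₁ : G → ℂ) χ₁.2 hχ₁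
  have hirr : IsIrrCharacter G (indFun T ψ) := h1 ▸ χ₁.2
  have hone : classInner (fun n : N => indFun T ψ n) ϑ = 1 := by
    rw [← h1, h2, hψN, hϑϑ]
  have hχf : ∀ g, indFun T ψ (g ^ k) = indFun T ψ g := by
    intro g
    rw [← indFun_pow T hk ψ g]
    congr 2
    funext t
    exact hψf t
  have huniq : ∀ χ' : G → ℂ, IsIrrCharacter G χ' → classInner (fun n : N => χ' n) ϑ ≠ 0 →
      (∀ g, χ' (g ^ k) = χ' g) → χ' = indFun T ψ := by
    intro χ' hχ' hcon' hf'
    obtain ⟨ψ', hψ', hind', hcon''⟩ := Cfsg.Agent.S0854.result N ϑ hϑ T hT hNT χ' hχ' hcon'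
    have hψ'con : classInner (fun n : N => ψ' ⟨(n : G), hNT n.2⟩) ϑ ≠ 0 := by
      rw [hcon'']; exact hcon'
    obtain ⟨f, hf0, hfeq⟩ := restrict_inertia N T hNT ϑ hϑ hinvT ψ' hψ' hψ'con
    let ψk : T → ℂ := fun t => ψ' (t ^ k)
    have hψk : IsIrrCharacter T ψk := Cfsg.Agent.Lib.Helper4.isIrrCharacter_pow ψ' hψ' k hkT
    have hψkN : (fun n : N => ψk ⟨(n : G), hNT n.2⟩) = (f : ℂ) • ϑ := by
      funext n
      show ψ' ((⟨(n : G), hNT n.2⟩ : T) ^ k) = _
      have h3 := congrFun hfeq (n ^ k)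
      simp only [Pi.smul_apply, smul_eq_mul] at h3 ⊢
      rw [hfix] at h3
      rw [← h3]
      congr 1
    have hψkcon : classInner (fun n : N => ψk ⟨(n : G), hNT n.2⟩) ϑ ≠ 0 := by
      rw [hψkN, classInner_smul_left, hϑϑ, mul_one]
      exact Nat.cast_ne_zero.mpr hf0
    have hχ'χ' : classInner χ' χ' = 1 := by rw [classInner_irr hχ' hχ', if_pos rfl]
    have hχ'cl := Cfsg.Agent.Lib.Helper26.isClassFunction_of_isIrrCharacter hχ'
    have hχ'ψ' : classInner (indFun T ψ') χ' ≠ 0 := by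
      rw [hind', hχ'χ']; exact one_ne_zero
    obtain ⟨-, -, h3'⟩ := corr_main N T hNT ϑ hϑ hT ψ' hψ' hψ'con χ' hχ' hχ'ψ'
    have hindk : indFun T ψk = χ' := by
      funext g
      rw [indFun_pow T hk ψ' g, hind', hf']
    have hχ'Tψk : classInner (fun t : T => χ' t) ψk ≠ 0 := by
      have h4 : classInner (indFun T ψk) χ' = 1 := by rw [hindk, hχ'χ']
      rw [classInner_indFun_left' T ψk _ hχ'cl] at h4
      intro h0
      have h5 : classInner (χ' ∘ T.subtype) ψk = 0 := h0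
      rw [← classInner_conj_symm, h5, map_zero] at h4
      exact zero_ne_one h4
    have hψkeq : ψk = ψ' := by
      by_contra hne
      exact hψkcon (h3' ψk hψk hne hχ'Tψk)
    have hψ'f : ∀ t : T, ψ' (t ^ k) = ψ' t := fun t => congrFun hψkeq t
    have hcon3 : classInner (fun x : N.subgroupOf T => ψ' x) ϑ' ≠ 0 := by
      have h6 := classInner_subgroupOf N T hNT ϑ ψ'
      have h7 : classInner ϑ' (fun x : N.subgroupOf T => ψ' x) =
          classInner ϑ (fun n : N => ψ' ⟨(n : G), hNT n.2⟩) := h6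
      intro h0
      apply hψ'con
      rw [← classInner_conj_symm, ← h7, ← classInner_conj_symm, h0, map_zero, map_zero]
    have hψ'ψ : ψ' = ψ := fixed_over_unique (N.subgroupOf T) hodd' hkT hk₂T ϑ' hϑ' ψ hψ hψe hψf
      ψ' hψ' hcon3 hψ'f
    rw [← hind', hψ'ψ]
  refine ⟨indFun T ψ, hirr, hone, hχf, ?_, huniq⟩
  intro hinv
  obtain ⟨χ₀, hχ₀, hχ₀e, hχ₀f⟩ := ext_fixed N hodd hk hk₂ ϑ hϑ hinv hfix
  have hcon0 : classInner (fun n : N => χ₀ n) ϑ ≠ 0 := by
    have : (fun n : N => χ₀ n) = ϑ := funext hχ₀e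
    rw [this, hϑϑ]; exact one_ne_zero
  have := huniq χ₀ hχ₀ hcon0 hχ₀f
  intro n
  rw [← this, hχ₀e]

end Main

end Cfsg.Agent.Lib.Helper7.OddGalois
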