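import Mathlib
import Cfsg.Prelude
import Cfsg.Agent.Lib.Helper4.RepEigen
import Cfsg.Agent.Lib.Helper4.CharIntegral
import Cfsg.Agent.Lib.Helper26.CharBasic
import Cfsg.Agent.Lib.Helper26.CharInt
import Cfsg.Agent.Lib.Helper26.IndChar
import Cfsg.Agent.Lib.Helper28.DefectGen

set_option autoImplicit false

/-!
# p-conjugate characters (helper7)

Brauer: if `χ ∈ Irr(G)` has `r` `p`-conjugates then `r · χ(1)_p ≤ |G|_p`, and if
`|G|_p ∣ r χ(1)` then `|G|_p ∣ χ(1)`.
-/

namespace Cfsg.Agent.Lib.Helper7.PConj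

open Cfsg
open scoped ComplexConjugate

/-- a ring automorphism of `ℂ` fixing a primitive `N`-th root of unity fixes the character values
at elements of order dividing `N` -/
theorem sigma_rep_character {G : Type*} [Group G] [Finite G] {V : Type*} [AddCommGroup V]
    [Module ℂ V] [FiniteDimensional ℂ V] (ρ : Representation ℂ G V) (g : G) (σ : ℂ ≃+* ℂ)
    {N : ℕ} (hN : 0 < N) {ζ : ℂ} (hζ : IsPrimitiveRoot ζ N) (hσ : σ ζ = ζ)
    (hg : orderOf g ∣ N) : σ (ρ.character g) = ρ.character g := by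
  haveI : NeZero N := ⟨hN.ne'⟩
  rw [Helper4.character_eq_sum, map_sum]
  apply Finset.sum_congr rfl
  intro μ hμ
  rw [map_mul, map_natCast]
  congr 1
  have h1 : μ ^ orderOf g = 1 :=
    Helper4.eigenvalue_pow_orderOf ρ g μ ((Helper4.mem_eigvals ρ g).mp hμ)
  have h2 : μ ^ N = 1 := by
    obtain ⟨c, hc⟩ := hg
    rw [hc, pow_mul, h1, one_pow]
  obtain ⟨i, _, rfl⟩ := hζ.eq_pow_of_pow_eq_one h2
  rw [map_pow, hσ]

theorem sigma_irr {G : Type*} [Group G] [Finite G] {χ : G → ℂ} (hχ : IsIrrCharacter G χ) (g : G)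
    (σ : ℂ ≃+* ℂ) {N : ℕ} (hN : 0 < N) {ζ : ℂ} (hζ : IsPrimitiveRoot ζ N) (hσ : σ ζ = ζ)
    (hg : orderOf g ∣ N) : σ (χ g) = χ g := by
  obtain ⟨n, ρ, -, rfl⟩ := hχ
  exact sigma_rep_character ρ g σ hN hζ hσ hg

/-- **Brauer**: the number of `p`-conjugates times the degree. -/
theorem main {G : Type*} [Group G] [Fintype G] (p : ℕ) (hp : p.Prime) (χ : IrrCharacter G)
    (ζ : ℂ) (hζ : IsPrimitiveRoot ζ (Nat.card G / p ^ (Nat.card G).factorization p))
    (S : Finset (IrrCharacter G)) (hχS : χ ∈ S)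
    (hS : ∀ ψ ∈ S, ∃ σ : ℂ ≃+* ℂ, σ ζ = ζ ∧ (ψ : G → ℂ) = fun g => σ ((χ : G → ℂ) g)) :
    (S.card * charDegree (χ : G → ℂ)).factorization p ≤ (Nat.card G).factorization p ∧
    (p ^ (Nat.card G).factorization p ∣ S.card * charDegree (χ : G → ℂ) →
      p ^ (Nat.card G).factorization p ∣ charDegree (χ : G → ℂ)) := by
  classical
  haveI : Fact p.Prime := ⟨hp⟩
  obtain ⟨a, ha⟩ : ∃ a, a = (Nat.card G).factorization p := ⟨_, rfl⟩
  obtain ⟨N, hNdef⟩ : ∃ N, N = Nat.card G / p ^ (Nat.card G).factorization p := ⟨_, rfl⟩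
  rw [← hNdef] at hζ
  rw [← ha]
  have hG0 : Nat.card G ≠ 0 := Nat.card_pos.ne'
  have hGN : p ^ a * N = Nat.card G := by
    rw [ha, hNdef]; exact Nat.ordProj_mul_ordCompl_eq_self _ _
  have hN0 : 0 < N := by
    rcases Nat.eq_zero_or_pos N with h | h
    · rw [h, mul_zero] at hGN; exact absurd hGN.symm hG0
    · exact h
  have hone : ¬ p ∣ orderOf (1 : G) := by
    rw [orderOf_one]; intro h; exact hp.one_lt.ne' (Nat.dvd_one.mp h)
  -- p-regular elements have order dividing N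
  have hreg : ∀ g : G, ¬ p ∣ orderOf g → orderOf g ∣ N := by
    intro g hg
    have h1 : orderOf g ∣ p ^ a * N := by rw [hGN]; exact orderOf_dvd_natCard g
    have h2 : (orderOf g).Coprime (p ^ a) :=
      Nat.Coprime.pow_right a ((Nat.Prime.coprime_iff_not_dvd hp).mpr hg).symm
    exact h2.dvd_of_dvd_mul_left h1
  -- degree
  obtain ⟨d, hd0, hd⟩ := Helper26.irr_degree χ.2
  have hdeg : charDegree (χ : G → ℂ) = d := by
    unfold charDegree; rw [hd]; simp
  obtain ⟨b, hb⟩ : ∃ b, b = d.factorization p := ⟨_, rfl⟩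
  have hba : b ≤ a := by
    obtain ⟨n, ρ, hirr, hρχ⟩ := χ.2
    obtain ⟨b0, hb0⟩ := Helper4.degree_dvd_card ρ hirr
    rw [Module.finrank_fin_fun] at hb0
    have hnd : n = d := by
      have h1 : (χ : G → ℂ) 1 = (n : ℂ) := by rw [← hρχ]; simp
      rw [hd] at h1; exact_mod_cast h1.symm
    rw [hnd] at hb0
    have hdvd : d ∣ Nat.card G := ⟨b0, hb0⟩
    rw [hb, ha]
    exact (Nat.factorization_le_iff_dvd hd0.ne' hG0).mpr hdvd p
  have hr0 : S.card ≠ 0 := (Finset.card_pos.mpr ⟨χ, hχS⟩).ne'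
  have hrR : (1 : ℝ) ≤ (S.card : ℝ) := by
    exact_mod_cast Nat.one_le_iff_ne_zero.mpr hr0
  -- A
  obtain ⟨A, hA⟩ : ∃ A : ℝ, A = ∑ g : G,
      if p ∣ orderOf g then 0 else Complex.normSq ((χ : G → ℂ) g) := ⟨_, rfl⟩
  have hApos : 0 < A := by
    have h1 : (if p ∣ orderOf (1 : G) then 0 else Complex.normSq ((χ : G → ℂ) 1)) ≤ A := by
      rw [hA]
      exact Finset.single_le_sum
        (f := fun g : G => if p ∣ orderOf g then (0 : ℝ) else Complex.normSq ((χ : G → ℂ) g))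
        (fun g _ => by
          show (0 : ℝ) ≤ if p ∣ orderOf g then (0 : ℝ) else Complex.normSq ((χ : G → ℂ) g)
          split_ifs
          · exact le_refl _
          · exact Complex.normSq_nonneg _) (Finset.mem_univ 1)
    rw [if_neg hone, hd, Complex.normSq_natCast] at h1
    have hdR : (0 : ℝ) < d := by exact_mod_cast hd0
    have : (0 : ℝ) < d * d := by positivity
    linarith
  have hpR : (0 : ℝ) < (p : ℝ) := by exact_mod_cast hp.pos
  -- integrality
  have hkey : (Nat.card G : ℝ) ≤ (p : ℝ) ^ (a - b) * A := by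
    have hη := Helper28.irr_pPart_isGeneralizedCharacter hp χ
    rw [hdeg, ← ha, ← hb] at hη
    have hχc : IsGeneralizedCharacter G (χ : G → ℂ) :=
      Helper26.isGeneralizedCharacter_of_isCharacter (Helper26.isCharacter_of_isIrrCharacter χ.2)
    obtain ⟨k, hk⟩ := Helper26.classInner_generalized_int hη hχc
    unfold classInner at hk
    have hsum : ∑ g : G, (if p ∣ orderOf g then (0 : ℂ) else
        ((p ^ (a - b) : ℕ) : ℂ) * (χ : G → ℂ) g) * conj ((χ : G → ℂ) g) =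
        (((p : ℝ) ^ (a - b) * A : ℝ) : ℂ) := by
      rw [hA, Finset.mul_sum, Complex.ofReal_sum]
      apply Finset.sum_congr rfl
      intro g _
      split_ifs with h
      · simp
      · rw [mul_assoc, Complex.mul_conj]; push_cast; ring
    rw [hsum] at hk
    have hGC : (Nat.card G : ℂ) ≠ 0 := by exact_mod_cast hG0
    have hk' : (((p : ℝ) ^ (a - b) * A : ℝ) : ℂ) = (((k : ℝ) * (Nat.card G : ℝ) : ℝ) : ℂ) := by
      have : (((p : ℝ) ^ (a - b) * A : ℝ) : ℂ) = (Nat.card G : ℂ) * (k : ℂ) := by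
        rw [← hk, ← mul_assoc, mul_inv_cancel₀ hGC, one_mul]
      rw [this]; push_cast; ring
    have hk'' : (p : ℝ) ^ (a - b) * A = (k : ℝ) * (Nat.card G : ℝ) := by exact_mod_cast hk'
    have hGR : (0 : ℝ) < Nat.card G := by exact_mod_cast Nat.card_pos
    have hkpos : 0 < k := by
      have h1 : 0 < (p : ℝ) ^ (a - b) * A := by positivity
      rw [hk''] at h1
      have : (0 : ℝ) < k := by
        by_contra hneg
        push Not at hneg
        nlinarith
      exact_mod_cast this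
    have hk1 : (1 : ℝ) ≤ k := by exact_mod_cast hkpos
    rw [hk'']
    nlinarith
  -- θ
  obtain ⟨θ, hθ⟩ : ∃ θ : G → ℂ, θ = fun g => ∑ ψ ∈ S, (ψ : G → ℂ) g := ⟨_, rfl⟩
  have hθreg : ∀ g : G, ¬ p ∣ orderOf g → θ g = (S.card : ℂ) * (χ : G → ℂ) g := by
    intro g hg
    rw [hθ]
    show ∑ ψ ∈ S, (ψ : G → ℂ) g = _
    have h1 : ∀ ψ ∈ S, (ψ : G → ℂ) g = (χ : G → ℂ) g := by
      intro ψ hψ
      obtain ⟨σ, hσ, hψσ⟩ := hS ψ hψ
      rw [hψσ]
      exact sigma_irr χ.2 g σ hN0 hζ hσ (hreg g hg)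
    rw [Finset.sum_congr rfl h1, Finset.sum_const, nsmul_eq_mul]
  have hGC : (Nat.card G : ℂ) ≠ 0 := by exact_mod_cast hG0
  have horth : ∀ ψ ψ' : IrrCharacter G, ∑ g : G, (ψ : G → ℂ) g * conj ((ψ' : G → ℂ) g) =
      (Nat.card G : ℂ) * (if ψ = ψ' then 1 else 0) := by
    intro ψ ψ'
    have h := Helper26.classInner_irr ψ.2 ψ'.2
    unfold classInner at h
    rw [show ∑ g : G, (ψ : G → ℂ) g * conj ((ψ' : G → ℂ) g) = (Nat.card G : ℂ) *
      ((Nat.card G : ℂ)⁻¹ * ∑ g : G, (ψ : G → ℂ) g * conj ((ψ' : G → ℂ) g)) by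
        rw [← mul_assoc, mul_inv_cancel₀ hGC, one_mul], h]
    by_cases hψ : ψ = ψ'
    · rw [if_pos hψ, if_pos (congrArg Subtype.val hψ)]
    · rw [if_neg hψ, if_neg (fun h => hψ (Subtype.ext h))]
  have hθθ : ∑ g : G, θ g * conj (θ g) = (Nat.card G : ℂ) * (S.card : ℂ) := by
    rw [hθ]
    show ∑ g : G, (∑ ψ ∈ S, (ψ : G → ℂ) g) * conj (∑ ψ ∈ S, (ψ : G → ℂ) g) = _
    have h1 : ∀ g : G, (∑ ψ ∈ S, (ψ : G → ℂ) g) * conj (∑ ψ ∈ S, (ψ : G → ℂ) g) =
        ∑ ψ ∈ S, ∑ ψ' ∈ S, (ψ : G → ℂ) g * conj ((ψ' : G → ℂ) g) := by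
      intro g
      rw [map_sum, Finset.sum_mul_sum]
    rw [Finset.sum_congr rfl (fun g _ => h1 g), Finset.sum_comm]
    have h2 : ∀ ψ ∈ S, ∑ g : G, ∑ ψ' ∈ S, (ψ : G → ℂ) g * conj ((ψ' : G → ℂ) g) =
        (Nat.card G : ℂ) := by
      intro ψ hψ
      rw [Finset.sum_comm, Finset.sum_congr rfl (fun ψ' _ => horth ψ ψ'), ← Finset.mul_sum,
        Finset.sum_ite_eq S ψ, if_pos hψ, mul_one]
    rw [Finset.sum_congr rfl h2, Finset.sum_const, nsmul_eq_mul, mul_comm]
  -- B
  obtain ⟨B, hB⟩ : ∃ B : ℝ, B = ∑ g : G,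
      if p ∣ orderOf g then Complex.normSq (θ g) else 0 := ⟨_, rfl⟩
  have hBnn : 0 ≤ B := by
    rw [hB]
    apply Finset.sum_nonneg
    intro g _
    split_ifs
    · exact Complex.normSq_nonneg _
    · exact le_refl _
  have hsplit : (Nat.card G : ℝ) * (S.card : ℝ) = B + (S.card : ℝ) ^ 2 * A := by
    have h1 : ∑ g : G, θ g * conj (θ g) = ((B + (S.card : ℝ) ^ 2 * A : ℝ) : ℂ) := by
      rw [hB, hA, Finset.mul_sum, ← Finset.sum_add_distrib, Complex.ofReal_sum]
      apply Finset.sum_congr rfl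
      intro g _
      rw [Complex.mul_conj]
      split_ifs with h
      · simp
      · rw [hθreg g h, Complex.normSq_mul, Complex.normSq_natCast]; push_cast; ring
    rw [hθθ] at h1
    exact_mod_cast h1
  have hrA : (S.card : ℝ) * A ≤ (Nat.card G : ℝ) := by
    have h1 : (S.card : ℝ) * ((S.card : ℝ) * A) ≤ (S.card : ℝ) * (Nat.card G : ℝ) := by
      nlinarith
    exact le_of_mul_le_mul_left h1 (by linarith)
  have hle : (S.card : ℝ) ≤ (p : ℝ) ^ (a - b) :=
    le_of_mul_le_mul_right (le_trans hrA hkey) hApos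
  have hle' : S.card ≤ p ^ (a - b) := by exact_mod_cast hle
  have hrpb : S.card * p ^ b ≤ p ^ a := by
    calc S.card * p ^ b ≤ p ^ (a - b) * p ^ b := Nat.mul_le_mul_right _ hle'
      _ = p ^ a := by rw [← pow_add, Nat.sub_add_cancel hba]
  rw [hdeg]
  have hfac : (S.card * d).factorization p = S.card.factorization p + b := by
    rw [Nat.factorization_mul hr0 hd0.ne', Finsupp.add_apply, hb]
  have hord : p ^ (S.card.factorization p) ≤ S.card := Nat.ordProj_le p hr0
  refine ⟨?_, ?_⟩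
  · rw [hfac]
    have h1 : p ^ (S.card.factorization p + b) ≤ p ^ a := by
      rw [pow_add]; exact le_trans (Nat.mul_le_mul_right _ hord) hrpb
    exact (Nat.pow_le_pow_iff_right hp.one_lt).mp h1
  · intro hdvd
    have h1 : a ≤ S.card.factorization p + b := by
      rw [← hfac]
      exact (hp.pow_dvd_iff_le_factorization (Nat.mul_ne_zero hr0 hd0.ne')).mp hdvd
    have h2 : p ^ (a - b) ≤ S.card := by
      refine le_trans ?_ hord
      exact Nat.pow_le_pow_right hp.pos (by omega)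
    have hreq : S.card = p ^ (a - b) := le_antisymm hle' h2
    have hB0 : B = 0 := by
      have hreqR : (S.card : ℝ) = (p : ℝ) ^ (a - b) := by exact_mod_cast hreq
      rw [← hreqR] at hkey
      have h3 : 0 ≤ (S.card : ℝ) * ((S.card : ℝ) * A - (Nat.card G : ℝ)) :=
        mul_nonneg (by linarith) (sub_nonneg.mpr hkey)
      nlinarith
    have hθvan : ∀ g : G, p ∣ orderOf g → θ g = 0 := by
      intro g hg
      have hB0' : ∑ g : G, (if p ∣ orderOf g then Complex.normSq (θ g) else 0) = 0 := by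
        rw [← hB]; exact hB0
      have h3 := (Finset.sum_eq_zero_iff_of_nonneg (fun g _ => by
        show (0 : ℝ) ≤ if p ∣ orderOf g then Complex.normSq (θ g) else 0
        split_ifs
        · exact Complex.normSq_nonneg _
        · exact le_refl _)).mp hB0' g (Finset.mem_univ g)
      rw [if_pos hg] at h3
      exact Complex.normSq_eq_zero.mp h3
    obtain ⟨P⟩ : Nonempty (Sylow p G) := inferInstance
    haveI : Fintype (P : Subgroup G) := Fintype.ofFinite _
    have hPcard : Nat.card (P : Subgroup G) = p ^ a := by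
      rw [ha]; exact Sylow.card_eq_multiplicity P
    have hsumθ : ∑ x : (P : Subgroup G), θ (x : G) = (S.card : ℂ) * (d : ℂ) := by
      rw [Finset.sum_eq_single (1 : (P : Subgroup G))]
      · rw [Subgroup.coe_one, hθreg 1 hone, hd]
      · intro x _ hx
        apply hθvan
        obtain ⟨j, hj⟩ := (IsPGroup.iff_orderOf.mp P.2) x
        rw [Subgroup.orderOf_coe, hj]
        have hj0 : j ≠ 0 := by
          rintro rfl
          rw [pow_zero, orderOf_eq_one_iff] at hj
          exact hx hj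
        exact dvd_pow_self p hj0
      · intro h; exact absurd (Finset.mem_univ _) h
    have hχP : IsGeneralizedCharacter (P : Subgroup G)
        ((χ : G → ℂ) ∘ (P : Subgroup G).subtype) :=
      Helper26.isGeneralizedCharacter_restrict _
        (Helper26.isGeneralizedCharacter_of_isCharacter
          (Helper26.isCharacter_of_isIrrCharacter χ.2))
    obtain ⟨t, ht⟩ := Helper26.classInner_generalized_int hχP
      (Helper26.isGeneralizedCharacter_of_isCharacter
        (Helper28.isCharacter_one' (G := (P : Subgroup G))))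
    unfold classInner at ht
    have hne : ((p ^ a : ℕ) : ℂ) ≠ 0 := by exact_mod_cast pow_ne_zero a hp.ne_zero
    have hsumχ : ∑ x : (P : Subgroup G), (χ : G → ℂ) (x : G) =
        ((p ^ a : ℕ) : ℂ) * (t : ℂ) := by
      rw [← ht, hPcard, ← mul_assoc, mul_inv_cancel₀ hne, one_mul]
      apply Finset.sum_congr rfl
      intro x _
      simp
    have hsumψ : ∀ ψ ∈ S, ∑ x : (P : Subgroup G), (ψ : G → ℂ) (x : G) =
        ((p ^ a : ℕ) : ℂ) * (t : ℂ) := by
      intro ψ hψ
      obtain ⟨σ, hσ, hψσ⟩ := hS ψ hψ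
      rw [hψσ]
      show ∑ x : (P : Subgroup G), σ ((χ : G → ℂ) (x : G)) = _
      rw [← map_sum, hsumχ, map_mul, map_natCast, map_intCast]
    have hsumθ' : ∑ x : (P : Subgroup G), θ (x : G) =
        (S.card : ℂ) * (((p ^ a : ℕ) : ℂ) * (t : ℂ)) := by
      rw [hθ]
      show ∑ x : (P : Subgroup G), ∑ ψ ∈ S, (ψ : G → ℂ) (x : G) = _
      rw [Finset.sum_comm, Finset.sum_congr rfl hsumψ, Finset.sum_const, nsmul_eq_mul]
    rw [hsumθ] at hsumθ'
    have hrC : (S.card : ℂ) ≠ 0 := by exact_mod_cast hr0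
    have hdt : (d : ℂ) = ((p ^ a : ℕ) : ℂ) * (t : ℂ) := mul_left_cancel₀ hrC hsumθ'
    have hdt' : (d : ℤ) = ((p ^ a : ℕ) : ℤ) * t := by exact_mod_cast hdt
    have hfin : ((p ^ a : ℕ) : ℤ) ∣ (d : ℤ) := ⟨t, hdt'⟩
    exact Int.natCast_dvd_natCast.mp hfin

end Cfsg.Agent.Lib.Helper7.PConj
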