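import Mathlib
import Cfsg.Prelude
import Cfsg.Agent.Lib.Helper7.ExtDet
import Cfsg.Agent.Lib.Helper7.Gallagher
import Cfsg.Agent.Lib.Helper7.CliffordCorr
import Cfsg.Agent.Lib.Helper7.PResChar
import Cfsg.Agent.Lib.Helper7.TwoDegB
import Cfsg.Agent.Lib.Helper2.CharConj
import Cfsg.Agent.Lib.Helper4.BurnsideClass
import Cfsg.Agent.Lib.Helper26.FrobeniusKernel
import Cfsg.Agent.Lib.Helper26.CohDescent
import Cfsg.Agent.Lib.Helper26.CharBasic
import Cfsg.Agent.Lib.Helper26.IndChar
import Cfsg.Agent.S0169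
import Cfsg.Agent.S0854

/-!
# Groups with a normal `p`-complement and few `p`-singular characters, part A (helper7)

If `G/N` is a nonabelian `p`-group, `N` a normal `p'`-subgroup, then over every irreducible
character of `N` lies an irreducible character of `G` of degree divisible by `p`.
-/

set_option autoImplicit false

namespace Cfsg.Agent.Lib.Helper7.PSing
open Cfsg Cfsg.Agent.Lib.Helper26 Cfsg.Agent.Lib.Helper7

universe u

theorem exists_singular_over {G : Type u} [Group G] [Fintype G] (p : ℕ) [Fact p.Prime]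
    (N : Subgroup G) [hN : N.Normal] [Fintype N] (hcop : (Nat.card N).Coprime p) (k : ℕ)
    (hidx : N.index = p ^ k)
    (lamG : G → ℂ) (hlam : IsIrrCharacter G lamG) (d : ℕ) (hd : ∀ n : N, lamG n = d)
    (hpd : p ∣ d) (θ : N → ℂ) (hθ : IsIrrCharacter N θ) :
    ∃ χ : G → ℂ, IsIrrCharacter G χ ∧ p ∣ charDegree χ ∧
      classInner (fun n : N => χ n) θ ≠ 0 := by
  classical
  have hp := (Fact.out : p.Prime)
  obtain ⟨t, ht0, ht⟩ := irr_degree hθ
  have hlam1 : lamG 1 = d := by
    have := hd 1
    simpa using this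
  have hd0 : d ≠ 0 := by
    obtain ⟨m, hm0, hm⟩ := irr_degree hlam
    rw [hlam1] at hm
    have : d = m := by exact_mod_cast hm
    omega
  by_cases hinv : ∀ (g : G) (n : N), θ ⟨g * n * g⁻¹, hN.conj_mem (n : G) n.2 g⟩ = θ n
  · -- invariant
    have hsolv : Group.IsSolvable (G ⧸ N) := by
      have hPG : IsPGroup p (G ⧸ N) :=
        IsPGroup.of_card (n := k) (by rw [← Subgroup.index_eq_card, hidx])
      haveI := hPG.isNilpotent
      infer_instance
    have hc : Nat.Coprime N.index (detOrder θ * t) := by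
      rw [hidx]
      apply Nat.Coprime.pow_left
      apply Nat.Coprime.mul_right
      · exact (Nat.Coprime.coprime_dvd_left
          (detOrder_dvd_card (isCharacter_of_isIrrCharacter hθ)) hcop).symm
      · exact (Nat.Coprime.coprime_dvd_left (irr_degree_dvd_card hθ t ht) hcop).symm
    obtain ⟨χ, hχ, hχN, -⟩ := ext_coprime_solvable N hsolv θ hθ hinv t ht hc
    have hone : IsIrrCharacter N (fun _ => (1 : ℂ)) := Cfsg.Agent.Lib.Helper4.isIrrCharacter_one
    have hprod : (fun _ : N => (1 : ℂ)) * θ = θ := by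
      funext n
      simp
    have hfrob : classInner (indFun N (fun _ : N => (1 : ℂ))) lamG ≠ 0 := by
      rw [classInner_indFun_left' N _ _ (isClassFunction_of_isIrrCharacter hlam)]
      have h1 : lamG ∘ N.subtype = (d : ℂ) • (fun _ : N => (1 : ℂ)) := by
        funext n
        show lamG (n : G) = _
        rw [hd n]
        simp
      rw [h1, classInner_smul_right, classInner_irr hone hone, if_pos rfl, mul_one]
      simp only [map_natCast]
      exact_mod_cast hd0
    have hG := (gallagher_gen N (fun _ => (1 : ℂ)) θ hone (fun _ _ => rfl) hinv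
      (by rw [hprod]; exact hθ) χ hχ hχN).1 lamG hlam hfrob
    refine ⟨lamG * χ, hG.1, ?_, ?_⟩
    · have h1 : (lamG * χ) 1 = ((d * t : ℕ) : ℂ) := by
        have h2 := hχN 1
        rw [Pi.mul_apply, hlam1]
        have h3 : χ ((1 : N) : G) = χ 1 := rfl
        rw [h3, ht] at h2
        rw [h2]
        push_cast
        rfl
      rw [charDegree_eq_of h1]
      exact Dvd.dvd.mul_right hpd t
    · have h1 : (fun n : N => (lamG * χ) n) = (d : ℂ) • θ := by
        funext n
        show lamG (n : G) * χ (n : G) = _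
        rw [hd n, hχN n]
        rfl
      rw [h1, classInner_smul_left, classInner_irr hθ hθ, if_pos rfl, mul_one]
      exact_mod_cast hd0
  · -- not invariant
    push Not at hinv
    set T := Cfsg.Agent.S0169.inertia N θ with hTdef
    haveI : Fintype T := Fintype.ofFinite T
    have hNT : N ≤ T :=
      Cfsg.Agent.S0169.le_inertia N θ (isClassFunction_of_isIrrCharacter hθ)
    have hI : IsCharacter G (indFun N θ) :=
      isCharacter_indFun N (isCharacter_of_isIrrCharacter hθ)
    have hI1 : indFun N θ 1 ≠ 0 := by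
      rw [indFun_one_eq_index, ht]
      have h1 : N.index ≠ 0 := by
        rw [hidx]
        exact pow_ne_zero _ hp.ne_zero
      have h2 : t ≠ 0 := by omega
      exact_mod_cast mul_ne_zero h1 h2
    obtain ⟨χ, hχ⟩ := exists_constituent hI hI1
    have hcon : classInner (fun n : N => (χ : G → ℂ) n) θ ≠ 0 := by
      rw [classInner_indFun_left' N θ _ (isClassFunction_of_isIrrCharacter χ.2)] at hχ
      intro h
      apply hχ
      rw [← classInner_conj_symm]
      have h' : classInner ((χ : G → ℂ) ∘ N.subtype) θ = 0 := h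
      rw [h', map_zero]
    obtain ⟨ψ, hψ, hind, -⟩ := Cfsg.Agent.S0854.result N θ hθ T
      (Cfsg.Agent.S0169.mem_inertia N θ) hNT χ χ.2 hcon
    obtain ⟨b, hb0, hb⟩ := irr_degree hψ
    have hχ1 : (χ : G → ℂ) 1 = ((T.index * b : ℕ) : ℂ) := by
      rw [← hind, indFun_one_eq_index, hb]
      push_cast
      rfl
    refine ⟨χ, χ.2, ?_, hcon⟩
    rw [charDegree_eq_of hχ1]
    have hTne : T ≠ ⊤ := by
      intro h
      obtain ⟨g, n, hgn⟩ := hinv
      have hg : g ∈ T := h ▸ Subgroup.mem_top g
      exact hgn ((Cfsg.Agent.S0169.mem_inertia N θ g).mp hg n)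
    have hdvd : T.index ∣ p ^ k := by
      rw [← hidx]
      exact Subgroup.index_dvd_of_le hNT
    obtain ⟨e, -, he⟩ := (Nat.dvd_prime_pow hp).mp hdvd
    have he0 : e ≠ 0 := by
      rintro rfl
      rw [pow_zero] at he
      exact hTne (Subgroup.index_eq_one.mp he)
    rw [he]
    exact Dvd.dvd.mul_right (dvd_pow_self p he0) b

/-- Case A: if the `p`-quotient is nonabelian and there is at most one `p`-singular irreducible
character then the normal `p`-complement is trivial. -/
theorem caseA {G : Type u} [Group G] [Finite G] (p : ℕ) [Fact p.Prime] (N : Subgroup G)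
    [N.Normal] (hN : (Nat.card N).Coprime p) (k : ℕ) (hidx : N.index = p ^ k)
    (hsub : ∀ χ χ' : IrrCharacter G, p ∣ charDegree (χ : G → ℂ) →
      p ∣ charDegree (χ' : G → ℂ) → χ = χ')
    (hnc : ∃ a b : G ⧸ N, a * b ≠ b * a) : N = ⊥ := by
  classical
  haveI : Fintype G := Fintype.ofFinite G
  haveI : Fintype N := Fintype.ofFinite N
  haveI : Fintype (G ⧸ N) := Fintype.ofFinite _
  have hp := (Fact.out : p.Prime)
  have hex : ∃ lam : (G ⧸ N) → ℂ, IsIrrCharacter (G ⧸ N) lam ∧ lam 1 ≠ 1 := by
    by_contra hcon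
    push Not at hcon
    obtain ⟨a, b, hab⟩ := hnc
    exact hab (Cfsg.Agent.Lib.Helper7.TwoDeg.comm_of_all_linear hcon a b)
  obtain ⟨lam, hlam, hlam1⟩ := hex
  obtain ⟨d, hd0, hd⟩ := irr_degree hlam
  have hdd : d ∣ p ^ k := by
    have := irr_degree_dvd_card hlam d hd
    rwa [← Subgroup.index_eq_card, hidx] at this
  obtain ⟨e, -, he⟩ := (Nat.dvd_prime_pow hp).mp hdd
  have hpd : p ∣ d := by
    have he0 : e ≠ 0 := by
      rintro rfl
      apply hlam1
      rw [hd, he, pow_zero]
      simp
    rw [he]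
    exact dvd_pow_self p he0
  set lamG : G → ℂ := lam ∘ (QuotientGroup.mk' N) with hlamG
  have hlamGirr : IsIrrCharacter G lamG :=
    Cfsg.Agent.Lib.Helper2.isIrrCharacter_comp_of_surjective hlam (QuotientGroup.mk' N)
      (QuotientGroup.mk'_surjective N)
  have hlamGN : ∀ n : N, lamG n = d := by
    intro n
    show lam (QuotientGroup.mk' N (n : G)) = d
    rw [QuotientGroup.mk'_apply, (QuotientGroup.eq_one_iff (n : G)).mpr n.2, hd]
  have hlamG1 : lamG 1 = d := by
    have := hlamGN 1
    simpa using this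
  have hpdeg : p ∣ charDegree lamG := by
    rw [charDegree_eq_of hlamG1]
    exact hpd
  have hall : ∀ θ : N → ℂ, IsIrrCharacter N θ → θ = fun _ => 1 := by
    intro θ hθ
    obtain ⟨χ, hχ, hpχ, hcon⟩ :=
      exists_singular_over p N hN k hidx lamG hlamGirr d hlamGN hpd θ hθ
    have heq : (⟨χ, hχ⟩ : IrrCharacter G) = ⟨lamG, hlamGirr⟩ := hsub _ _ hpχ hpdeg
    have hχeq : χ = lamG := congrArg Subtype.val heq
    rw [hχeq] at hcon
    have h1 : (fun n : N => lamG n) = (d : ℂ) • (fun _ : N => (1 : ℂ)) := by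
      funext n
      rw [hlamGN n]
      simp
    rw [h1, classInner_smul_left,
      classInner_irr Cfsg.Agent.Lib.Helper4.isIrrCharacter_one hθ] at hcon
    by_contra hne
    rw [if_neg (fun h => hne h.symm), mul_zero] at hcon
    exact hcon rfl
  rw [Subgroup.eq_bot_iff_forall]
  intro x hx
  by_contra hne
  have hne' : (⟨x, hx⟩ : N) ≠ 1 := fun h => hne (congrArg Subtype.val h)
  obtain ⟨θ, hθ⟩ := exists_irr_ne_of_ne_one (⟨x, hx⟩ : N) hne'
  rw [hall θ θ.2] at hθ
  exact hθ rfl

end Cfsg.Agent.Lib.Helper7.PSing
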