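import Mathlib
import Cfsg.Prelude
import Cfsg.Agent.Lib.Helper7.PResChar
import Cfsg.Agent.Lib.Helper7.CoprimeCount
import Cfsg.Agent.Lib.Helper7.ExtDet
import Cfsg.Agent.Lib.Helper4.CharOrtho
import Cfsg.Agent.Lib.Helper9.ClassSize
import Cfsg.Agent.S0169
import Cfsg.Agent.S4452

/-!
# Groups with a normal `p`-complement and few `p`-singular characters, part B (helper7)

Abelian Sylow `p`-subgroup with a normal `p`-complement: the number of `p`-singular irreducible
characters equals the number of conjugacy classes of size divisible by `p`.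
-/

set_option autoImplicit false

namespace Cfsg.Agent.Lib.Helper7.PSing
open Cfsg Cfsg.Agent.Lib.Helper26 Cfsg.Agent.Lib.Helper7

universe u

theorem not_dvd_class_of_centralizes {G : Type*} [Group G] [Finite G] (p : ℕ) [Fact p.Prime]
    (P : Sylow p G) (g : G) (hg : ∀ y ∈ (P : Subgroup G), g * y = y * g) :
    ¬ p ∣ Nat.card (ConjClasses.mk g).carrier := by
  intro hdvd
  have h1 := Cfsg.Agent.Lib.Helper9.card_carrier_mul_card_centralizer g
  have hle : (P : Subgroup G) ≤ Subgroup.centralizer ({g} : Set G) := by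
    intro y hy
    rw [Subgroup.mem_centralizer_singleton_iff]
    exact (hg y hy).symm
  have h2 : Nat.card (P : Subgroup G) ∣ Nat.card (Subgroup.centralizer ({g} : Set G)) :=
    Subgroup.card_dvd_of_le hle
  have h3 : (P : Subgroup G).index * Nat.card (P : Subgroup G) = Nat.card G := by
    rw [mul_comm]
    exact Subgroup.card_mul_index _
  obtain ⟨c, hc⟩ := h2
  obtain ⟨e, he⟩ := hdvd
  rw [hc, he] at h1
  have h4 : p * (e * c) = (P : Subgroup G).index := by
    have hpos : 0 < Nat.card (P : Subgroup G) := Nat.card_pos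
    apply Nat.eq_of_mul_eq_mul_right hpos
    rw [h3, ← h1]
    ring
  exact P.not_dvd_index ⟨e * c, h4.symm⟩

theorem exists_conj_centralizes {G : Type*} [Group G] [Finite G] (p : ℕ) [Fact p.Prime]
    (P : Sylow p G) (g : G) (hg : ¬ p ∣ Nat.card (ConjClasses.mk g).carrier) :
    ∃ h : G, ∀ y ∈ (P : Subgroup G), (h * g * h⁻¹) * y = y * (h * g * h⁻¹) := by
  have hp := (Fact.out : p.Prime)
  have h1 := Cfsg.Agent.Lib.Helper9.card_carrier_mul_card_centralizer g
  set C := Subgroup.centralizer ({g} : Set G) with hC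
  set k := (Nat.card G).factorization p with hk
  have hdvd : p ^ k ∣ Nat.card C := by
    have h2 : p ^ k ∣ Nat.card (ConjClasses.mk g).carrier * Nat.card C := by
      rw [h1]
      exact Nat.ordProj_dvd _ _
    exact (Nat.Coprime.pow_left k
      ((Nat.Prime.coprime_iff_not_dvd hp).mpr hg)).dvd_of_dvd_mul_left h2
  obtain ⟨K, hK⟩ := Sylow.exists_subgroup_card_pow_prime p hdvd
  set K' : Subgroup G := K.map C.subtype with hK'
  have hK'card : Nat.card K' = p ^ k := by
    rw [← hK]
    exact Subgroup.card_map_of_injective C.subtype_injective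
  have hK'p : IsPGroup p K' := IsPGroup.of_card hK'card
  obtain ⟨Q, hQ⟩ := hK'p.exists_le_sylow
  have hQK : K' = (Q : Subgroup G) := by
    apply Subgroup.eq_of_le_of_card_ge hQ
    rw [hK'card, Q.card_eq_multiplicity]
  obtain ⟨h, hh⟩ := MulAction.exists_smul_eq G Q P
  refine ⟨h, ?_⟩
  intro y hy
  have hy' : y ∈ ((h • Q : Sylow p G) : Subgroup G) := by
    rw [hh]
    exact hy
  rw [Sylow.coe_subgroup_smul, Subgroup.mem_pointwise_smul_iff_inv_smul_mem] at hy'
  have hy2 : h⁻¹ * y * h ∈ (Q : Subgroup G) := by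
    have : (MulAut.conj h)⁻¹ • y = h⁻¹ * y * h := by
      rw [MulAut.smul_def, MulAut.conj_inv_apply]
    rw [← this]
    exact hy'
  rw [← hQK] at hy2
  obtain ⟨q', hq', hq'eq⟩ := Subgroup.mem_map.mp hy2
  have hcomm := Subgroup.mem_centralizer_singleton_iff.mp q'.2
  have hq : (q' : G) = h⁻¹ * y * h := hq'eq
  have hy3 : y = h * (q' : G) * h⁻¹ := by
    rw [hq]
    group
  rw [hy3]
  calc h * g * h⁻¹ * (h * ↑q' * h⁻¹) = h * (g * ↑q') * h⁻¹ := by group
    _ = h * (↑q' * g) * h⁻¹ := by rw [hcomm]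
    _ = _ := by group

/-- Case B: abelian `p`-quotient. -/
theorem caseB {G : Type u} [Group G] [Finite G] (p : ℕ) [Fact p.Prime] (N : Subgroup G)
    [hNn : N.Normal] (hN : (Nat.card N).Coprime p) (k : ℕ) (hidx : N.index = p ^ k)
    (hone : Nat.card {χ : IrrCharacter G // p ∣ charDegree (χ : G → ℂ)} = 1)
    (hab : ∀ a b : G ⧸ N, a * b = b * a) :
    Nat.card {C : ConjClasses G // p ∣ Nat.card C.carrier} = 1 := by
  classical
  haveI : Fintype G := Fintype.ofFinite G
  have hp := (Fact.out : p.Prime)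
  obtain ⟨P⟩ : Nonempty (Sylow p G) := inferInstance
  have hGcard : Nat.card G = Nat.card N * p ^ k := by
    rw [← hidx]
    exact (Subgroup.card_mul_index N).symm
  have hpN : ¬ p ∣ Nat.card N := (Nat.Prime.coprime_iff_not_dvd hp).mp hN.symm
  have hfac : (Nat.card G).factorization p = k := by
    rw [hGcard, Nat.factorization_mul (Nat.card_pos.ne') (pow_ne_zero _ hp.ne_zero),
      Finsupp.add_apply, Nat.factorization_eq_zero_of_not_dvd hpN, hp.factorization_pow,
      zero_add, Finsupp.single_eq_same]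
  have hPcard : Nat.card (P : Subgroup G) = p ^ k := by
    rw [P.card_eq_multiplicity, hfac]
  have hcopNP : (Nat.card N).Coprime (Nat.card (P : Subgroup G)) := by
    rw [hPcard]
    exact Nat.Coprime.pow_right k hN
  have hcompl : Subgroup.IsComplement' N (P : Subgroup G) :=
    Subgroup.isComplement'_of_coprime (by rw [hPcard, hGcard]) hcopNP
  have hsup : N ⊔ (P : Subgroup G) = ⊤ := hcompl.sup_eq_top
  have hinf : N ⊓ (P : Subgroup G) = ⊥ := hcompl.disjoint.eq_bot
  have hk0 : k ≠ 0 := by
    rintro rfl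
    obtain ⟨⟨χ, hχ⟩⟩ := (Nat.card_eq_one_iff_unique.mp hone).2
    have h1 := Cfsg.Agent.Lib.Helper7.CoprimeCount.irr_one_eq_charDegree χ
    have h2 := irr_degree_dvd_card χ.2 _ h1
    rw [hGcard, pow_zero, mul_one] at h2
    exact hpN (hχ.trans h2)
  -- P is abelian
  have hPab : ∀ x ∈ (P : Subgroup G), ∀ y ∈ (P : Subgroup G), x * y = y * x := by
    intro x hx y hy
    have h1 : (QuotientGroup.mk (x * y) : G ⧸ N) = QuotientGroup.mk (y * x) := by
      rw [QuotientGroup.mk_mul, QuotientGroup.mk_mul]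
      exact hab _ _
    have h2 : (x * y)⁻¹ * (y * x) ∈ N := QuotientGroup.eq.mp h1
    have h3 : (x * y)⁻¹ * (y * x) ∈ (P : Subgroup G) :=
      mul_mem (inv_mem (mul_mem hx hy)) (mul_mem hy hx)
    have h4 : (x * y)⁻¹ * (y * x) ∈ N ⊓ (P : Subgroup G) := ⟨h2, h3⟩
    rw [hinf, Subgroup.mem_bot] at h4
    exact inv_mul_eq_one.mp h4
  set M := Subgroup.normalizer ((P : Subgroup G) : Set G) with hM
  have hMcent : ∀ g ∈ M, ∀ y ∈ (P : Subgroup G), g * y = y * g := by
    intro g hg y hy
    have hgtop : g ∈ N ⊔ (P : Subgroup G) := hsup ▸ Subgroup.mem_top g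
    rw [← SetLike.mem_coe, Subgroup.normal_mul] at hgtop
    obtain ⟨n, hn, x, hx, rfl⟩ := Set.mem_mul.mp hgtop
    have hxM : x ∈ M := Subgroup.le_normalizer hx
    have hnM : n ∈ M := by
      have := mul_mem hg (inv_mem hxM)
      simpa using this
    have h1 : n * y * n⁻¹ ∈ (P : Subgroup G) := (Subgroup.mem_normalizer_iff.mp hnM y).mp hy
    have h2 : n * y * n⁻¹ * y⁻¹ ∈ (P : Subgroup G) := mul_mem h1 (inv_mem hy)
    have h3 : n * y * n⁻¹ * y⁻¹ ∈ N := by
      have h5 : y * n⁻¹ * y⁻¹ ∈ N := hNn.conj_mem _ (inv_mem hn) y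
      have h6 := mul_mem hn h5
      have h7 : n * (y * n⁻¹ * y⁻¹) = n * y * n⁻¹ * y⁻¹ := by group
      rw [h7] at h6
      exact h6
    have h4 : n * y * n⁻¹ * y⁻¹ ∈ N ⊓ (P : Subgroup G) := ⟨h3, h2⟩
    rw [hinf, Subgroup.mem_bot] at h4
    have hny : n * y = y * n := by
      have h8 : n * y = (n * y * n⁻¹ * y⁻¹) * (y * n) := by group
      rw [h8, h4, one_mul]
    rw [mul_assoc, hPab x hx y hy, ← mul_assoc, hny, mul_assoc]
  haveI : Fintype M := Fintype.ofFinite M
  -- Ito
  have hMdeg : ∀ η : IrrCharacter M,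
      (charDegree (η : M → ℂ)).Coprime (Nat.card (P : Subgroup G)) := by
    intro η
    obtain ⟨n, ρ, hρ, hρη⟩ := η.2
    haveI := hρ
    set PM : Subgroup M := (P : Subgroup G).subgroupOf M with hPM
    haveI : PM.Normal := Subgroup.normal_in_normalizer
    have hPMab : ∀ a ∈ PM, ∀ b ∈ PM, a * b = b * a := by
      intro a ha b hb
      apply Subtype.ext
      exact hPab a (Subgroup.mem_subgroupOf.mp ha) b (Subgroup.mem_subgroupOf.mp hb)
    have hito := Cfsg.Agent.S0169.result ρ PM hPMab
    rw [Module.finrank_fin_fun] at hito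
    have hn : charDegree (η : M → ℂ) = n := by
      apply charDegree_eq_of
      rw [← hρη, Representation.char_one, Module.finrank_fin_fun]
    rw [hn, hPcard]
    apply Nat.Coprime.pow_right
    rw [Nat.coprime_comm, Nat.Prime.coprime_iff_not_dvd hp]
    intro hpn
    have h1 : p ∣ PM.index := hpn.trans hito
    have h2 : PM.index ∣ (P : Subgroup G).index :=
      Dvd.intro _ (Subgroup.relIndex_mul_index (Subgroup.le_normalizer (H := (P : Subgroup G))))
    exact P.not_dvd_index (h1.trans h2)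
  -- counting
  have e1 : Nat.card (IrrCharacter G) =
      Nat.card {χ : IrrCharacter G // p ∣ charDegree (χ : G → ℂ)} +
      Nat.card {χ : IrrCharacter G // ¬ p ∣ charDegree (χ : G → ℂ)} := by
    rw [← Nat.card_sum]
    exact Nat.card_congr (Equiv.sumCompl _).symm
  have e2 : Nat.card {χ : IrrCharacter G // ¬ p ∣ charDegree (χ : G → ℂ)} =
      Nat.card {χ : IrrCharacter G //
        (charDegree (χ : G → ℂ)).Coprime (Nat.card (P : Subgroup G))} := by
    apply Nat.card_congr
    apply Equiv.subtypeEquivRight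
    intro χ
    rw [hPcard]
    constructor
    · intro h
      exact Nat.Coprime.pow_right k ((Nat.Prime.coprime_iff_not_dvd hp).mpr h).symm
    · intro h hd
      have h1 := Nat.Coprime.coprime_dvd_left hd
        (Nat.Coprime.coprime_dvd_right (dvd_pow_self p hk0) h)
      exact hp.one_lt.ne' ((Nat.coprime_self p).mp h1)
  have hPsolv : Group.IsSolvable (P : Subgroup G) := by
    haveI := P.2.isNilpotent
    infer_instance
  have e3 : Nat.card {χ : IrrCharacter G //
        (charDegree (χ : G → ℂ)).Coprime (Nat.card (P : Subgroup G))} =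
      Nat.card {η : IrrCharacter M //
        (charDegree (η : M → ℂ)).Coprime (Nat.card (P : Subgroup G))} :=
    Cfsg.Agent.S4452.result N (P : Subgroup G) hsup hcopNP hPsolv
  have e4 : Nat.card {η : IrrCharacter M //
      (charDegree (η : M → ℂ)).Coprime (Nat.card (P : Subgroup G))} =
      Nat.card (IrrCharacter M) := Nat.card_congr (Equiv.subtypeUnivEquiv hMdeg)
  have e5 : Nat.card (IrrCharacter M) = Nat.card (ConjClasses M) :=
    Cfsg.Agent.Lib.Helper4.card_irr_eq_card_conjClasses
  have e6 : Nat.card (IrrCharacter G) = Nat.card (ConjClasses G) :=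
    Cfsg.Agent.Lib.Helper4.card_irr_eq_card_conjClasses
  have e7 : Nat.card (ConjClasses G) =
      Nat.card {C : ConjClasses G // p ∣ Nat.card C.carrier} +
      Nat.card {C : ConjClasses G // ¬ p ∣ Nat.card C.carrier} := by
    rw [← Nat.card_sum]
    exact Nat.card_congr (Equiv.sumCompl _).symm
  have e8 : Nat.card (ConjClasses M) =
      Nat.card {C : ConjClasses G // ¬ p ∣ Nat.card C.carrier} := by
    have hwell : ∀ c : ConjClasses M,
        ¬ p ∣ Nat.card (ConjClasses.map M.subtype c).carrier := by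
      intro c
      obtain ⟨m, rfl⟩ := ConjClasses.exists_rep c
      exact not_dvd_class_of_centralizes p P (m : G) (hMcent m m.2)
    have hcz : ∀ m : M, (m : G) ∈ Subgroup.centralizer ((P : Subgroup G) : Set G) := by
      intro m
      rw [Subgroup.mem_centralizer_iff]
      intro y hy
      exact (hMcent m m.2 y hy).symm
    apply Nat.card_congr
    apply Equiv.ofBijective (fun c =>
      (⟨ConjClasses.map M.subtype c, hwell c⟩ :
        {C : ConjClasses G // ¬ p ∣ Nat.card C.carrier}))
    constructor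
    · intro c₁ c₂ h
      obtain ⟨m₁, rfl⟩ := ConjClasses.exists_rep c₁
      obtain ⟨m₂, rfl⟩ := ConjClasses.exists_rep c₂
      have h' : ConjClasses.mk (m₁ : G) = ConjClasses.mk (m₂ : G) := congrArg Subtype.val h
      rw [ConjClasses.mk_eq_mk_iff_isConj, isConj_iff] at h'
      obtain ⟨c, hc⟩ := h'
      have hy : c⁻¹⁻¹ * (m₁ : G) * c⁻¹ ∈ Subgroup.centralizer ((P : Subgroup G) : Set G) := by
        rw [inv_inv, hc]
        exact hcz m₂
      obtain ⟨n, hn, hnn⟩ :=
        P.conj_eq_normalizer_conj_of_mem_centralizer (m₁ : G) c⁻¹ (hcz m₁) hy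
      rw [inv_inv, hc] at hnn
      rw [ConjClasses.mk_eq_mk_iff_isConj, isConj_iff]
      refine ⟨⟨n⁻¹, inv_mem hn⟩, ?_⟩
      apply Subtype.ext
      simp [hnn]
    · rintro ⟨C, hC⟩
      obtain ⟨g, rfl⟩ := ConjClasses.exists_rep C
      obtain ⟨h, hh⟩ := exists_conj_centralizes p P g hC
      have hmem : h * g * h⁻¹ ∈ M := by
        apply Subgroup.centralizer_le_normalizer
        rw [Subgroup.mem_centralizer_iff]
        intro y hy
        exact (hh y hy).symm
      refine ⟨ConjClasses.mk ⟨h * g * h⁻¹, hmem⟩, ?_⟩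
      apply Subtype.ext
      show ConjClasses.mk (h * g * h⁻¹) = ConjClasses.mk g
      rw [ConjClasses.mk_eq_mk_iff_isConj, isConj_comm, isConj_iff]
      exact ⟨h, rfl⟩
  omega

end Cfsg.Agent.Lib.Helper7.PSing
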