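import Mathlib
import Cfsg.Prelude
import Cfsg.Agent.Lib.Helper7.TwoDegB
import Cfsg.Agent.S4456
import Cfsg.Agent.S0855
import Cfsg.Agent.Lib.Helper7.CoprimeCount

/-!
# Groups with two character degrees: the abelian normal Hall subgroup with nilpotent quotient
(helper7)
-/

set_option autoImplicit false

namespace Cfsg.Agent.Lib.Helper7.TwoDeg
open Cfsg Cfsg.Agent.Lib.Helper26 Cfsg.Agent.Lib.Helper2 Cfsg.Agent.Lib.Helper7

/-- class two computation: if `c = [a,b]` commutes with `a` and `b`, `a ^ k` commutes with `b`,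
`c ^ e = 1` and `k`, `e` are coprime, then `a` and `b` commute. -/
theorem comm_of_class_two {G : Type*} [Group G] (a b : G) (k e : ℕ) (hk : Nat.Coprime k e)
    (hca : Commute (a * b * a⁻¹ * b⁻¹) a) (hcb : Commute (a * b * a⁻¹ * b⁻¹) b)
    (hak : a ^ k * b = b * a ^ k) (hce : (a * b * a⁻¹ * b⁻¹) ^ e = 1) : a * b = b * a := by
  set c := a * b * a⁻¹ * b⁻¹ with hc
  have hab : a * b = c * (b * a) := by rw [hc]; group
  have hj : ∀ j : ℕ, a ^ j * b = c ^ j * (b * a ^ j) := by
    intro j
    induction j with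
    | zero => simp
    | succ j ih =>
      have h1 : a * c ^ j = c ^ j * a := ((hca.pow_left j).eq).symm
      calc a ^ (j + 1) * b = a * (a ^ j * b) := by rw [pow_succ', mul_assoc]
        _ = a * (c ^ j * (b * a ^ j)) := by rw [ih]
        _ = c ^ j * (a * b * a ^ j) := by rw [← mul_assoc, h1]; simp only [mul_assoc]
        _ = c ^ j * (c * (b * a) * a ^ j) := by rw [hab]
        _ = c ^ (j + 1) * (b * a ^ (j + 1)) := by
          rw [pow_succ, pow_succ']; simp only [mul_assoc]
  have h2 : c ^ k = 1 := by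
    have h := hj k
    rw [← hak] at h
    exact (mul_eq_right.mp h.symm)
  have h5 : orderOf c ∣ Nat.gcd k e :=
    Nat.dvd_gcd (orderOf_dvd_of_pow_eq_one h2) (orderOf_dvd_of_pow_eq_one hce)
  rw [hk.gcd_eq_one, Nat.dvd_one, orderOf_eq_one_iff] at h5
  rw [hab, h5, one_mul]

universe u

/-- With character degrees `1` and `m` there is an abelian normal Hall subgroup with nilpotent
quotient. -/
theorem exists_hall {G : Type u} [Group G] [Finite G] (m : ℕ)
    (hcd : ∀ χ : IrrCharacter G, charDegree (χ : G → ℂ) = 1 ∨ charDegree (χ : G → ℂ) = m) :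
    ∃ (N : Subgroup G) (_ : N.Normal), Nat.Coprime (Nat.card N) N.index ∧
      (∀ a b : N, a * b = b * a) ∧ Group.IsNilpotent (G ⧸ N) := by
  classical
  haveI : Fintype G := Fintype.ofFinite G
  set S : Set (Subgroup G) := {K | K.Normal ∧ ∃ q : ℕ, q.Prime ∧ q ∣ m ∧
    (Nat.card K).Coprime q ∧ ∃ k : ℕ, K.index = q ^ k} with hS
  haveI hSn : ∀ K : S, (K : Subgroup G).Normal := fun K => K.2.1
  set N : Subgroup G := ⨅ K : S, (K : Subgroup G) with hN
  haveI hNn : N.Normal := Subgroup.normal_iInf_normal hSn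
  have hNle : ∀ K : S, N ≤ (K : Subgroup G) := fun K => iInf_le _ K
  -- Thompson
  have hT : ∀ q : ℕ, q.Prime → q ∣ m → ∃ K : S, (Nat.card (K : Subgroup G)).Coprime q := by
    intro q hq hqm
    obtain ⟨K, hKn, hKc, hKi⟩ := Cfsg.Agent.S4456.result (G := G) q hq (by
      intro χ hχ
      rcases hcd χ with h | h
      · exact absurd h hχ
      · rw [h]; exact hqm)
    exact ⟨⟨K, hKn, q, hq, hqm, hKc, hKi⟩, hKc⟩
  have hcopm : ∀ q : ℕ, q.Prime → q ∣ m → ¬ q ∣ Nat.card N := by
    intro q hq hqm hqN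
    obtain ⟨K, hK⟩ := hT q hq hqm
    have h1 : Nat.card N ∣ Nat.card (K : Subgroup G) := Subgroup.card_dvd_of_le (hNle K)
    have h2 := hK.symm
    rw [Nat.Prime.coprime_iff_not_dvd hq] at h2
    exact h2 (hqN.trans h1)
  have hidxm : ∀ r : ℕ, r.Prime → r ∣ N.index → r ∣ m := by
    intro r hr hrN
    haveI : Fact r.Prime := ⟨hr⟩
    have hcard : r ∣ Nat.card (G ⧸ N) := by rwa [← Subgroup.index_eq_card]
    obtain ⟨x, hx⟩ := exists_prime_orderOf_dvd_card' r hcard
    obtain ⟨g, rfl⟩ := QuotientGroup.mk_surjective x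
    have hgN : g ∉ N := by
      intro h
      have : (QuotientGroup.mk g : G ⧸ N) = 1 := (QuotientGroup.eq_one_iff g).mpr h
      rw [this, orderOf_one] at hx
      exact hr.one_lt.ne hx
    have hgr : g ^ r ∈ N := by
      rw [← QuotientGroup.eq_one_iff, QuotientGroup.mk_pow, ← hx, pow_orderOf_eq_one]
    rw [hN, Subgroup.mem_iInf] at hgN
    push Not at hgN
    obtain ⟨K, hgK⟩ := hgN
    obtain ⟨hKn, q, hq, hqm, hKc, k, hKi⟩ := K.2
    haveI := hKn
    have hy1 : (QuotientGroup.mk g : G ⧸ (K : Subgroup G)) ≠ 1 := by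
      intro h
      exact hgK ((QuotientGroup.eq_one_iff g).mp h)
    have hyr : (QuotientGroup.mk g : G ⧸ (K : Subgroup G)) ^ r = 1 := by
      rw [← QuotientGroup.mk_pow, QuotientGroup.eq_one_iff]
      exact hNle K hgr
    have ho : orderOf (QuotientGroup.mk g : G ⧸ (K : Subgroup G)) = r := by
      have h1 := orderOf_dvd_of_pow_eq_one hyr
      rcases (Nat.dvd_prime hr).mp h1 with h2 | h2
      · rw [orderOf_eq_one_iff] at h2
        exact absurd h2 hy1
      · exact h2
    have h3 : r ∣ Nat.card (G ⧸ (K : Subgroup G)) := by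
      rw [← ho]
      exact orderOf_dvd_natCard _
    rw [← Subgroup.index_eq_card, hKi] at h3
    have h4 := hr.dvd_of_dvd_pow h3
    rw [Nat.prime_dvd_prime_iff_eq hr hq] at h4
    rw [h4]
    exact hqm
  have hcop : Nat.Coprime (Nat.card N) N.index := by
    apply Nat.Coprime.symm
    apply Nat.coprime_of_dvd
    intro r hr h1 h2
    exact hcopm r hr (hidxm r hr h1) h2
  refine ⟨N, hNn, hcop, ?_, ?_⟩
  · -- N abelian
    haveI : Fintype N := Fintype.ofFinite _
    apply comm_of_all_linear
    intro θ hθ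
    obtain ⟨χ, d, c, hd, hc, hdc⟩ := Cfsg.Agent.S0855.exists_dvd_degree N θ hθ
    have hdN : d ∣ Nat.card N := irr_degree_dvd_card hθ d hd
    have hc' : c = charDegree (χ : G → ℂ) := by
      have := Cfsg.Agent.Lib.Helper7.CoprimeCount.irr_one_eq_charDegree χ
      rw [hc] at this
      exact_mod_cast this
    have hd1 : d = 1 := by
      by_contra hne
      obtain ⟨q, hq, hqd⟩ := Nat.exists_prime_and_dvd hne
      rcases hcd χ with h | h
      · rw [← hc', ] at h
        rw [h, Nat.dvd_one] at hdc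
        exact hne hdc
      · rw [← hc'] at h
        rw [h] at hdc
        exact hcopm q hq (hqd.trans hdc) (hqd.trans hdN)
    rw [hd, hd1]
    simp
  · -- nilpotent quotient
    let f : G →* ((K : S) → G ⧸ (K : Subgroup G)) :=
      MonoidHom.pi (fun K => QuotientGroup.mk' (K : Subgroup G))
    have hker : ∀ g : G, f g = 1 → g ∈ N := by
      intro g hg
      rw [hN, Subgroup.mem_iInf]
      intro K
      have := congrFun hg K
      exact (QuotientGroup.eq_one_iff g).mp this
    have hle : N ≤ f.ker := by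
      intro g hg
      rw [MonoidHom.mem_ker]
      funext K
      exact (QuotientGroup.eq_one_iff g).mpr (hNle K hg)
    let fbar : G ⧸ N →* ((K : S) → G ⧸ (K : Subgroup G)) := QuotientGroup.lift N f hle
    have hinj : fbar.ker ≤ Subgroup.center (G ⧸ N) := by
      intro x hx
      obtain ⟨g, rfl⟩ := QuotientGroup.mk_surjective x
      rw [MonoidHom.mem_ker] at hx
      have h1 : f g = 1 := hx
      have h2 : (QuotientGroup.mk g : G ⧸ N) = 1 := (QuotientGroup.eq_one_iff g).mpr (hker g h1)
      rw [h2]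
      exact Subgroup.one_mem _
    haveI : ∀ K : S, Group.IsNilpotent (G ⧸ (K : Subgroup G)) := by
      intro K
      obtain ⟨hKn, q, hq, hqm, hKc, k, hKi⟩ := K.2
      haveI : Fact q.Prime := ⟨hq⟩
      have hp : IsPGroup q (G ⧸ (K : Subgroup G)) := by
        apply IsPGroup.of_card (n := k)
        rw [← Subgroup.index_eq_card, hKi]
      exact hp.isNilpotent
    haveI : Finite S := Finite.of_injective (fun K : S => (K : Subgroup G)) Subtype.val_injective
    exact isNilpotent_of_ker_le_center fbar hinj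

end Cfsg.Agent.Lib.Helper7.TwoDeg
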