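import Mathlib
import Cfsg.Prelude
import Cfsg.Agent.Lib.Helper7.TwoDegD
import Cfsg.Agent.Lib.Helper7.TwoDegB
import Cfsg.Agent.Lib.Helper2.CharConj

/-!
# p-groups with character degrees 1 and p: a fully ramified section of index p² (helper7)
-/

set_option autoImplicit false

namespace Cfsg.Agent.Lib.Helper7.TwoDeg
open Cfsg Cfsg.Agent.Lib.Helper26 Cfsg.Agent.Lib.Helper2
open scoped ComplexConjugate

universe u

theorem exists_ramified {P : Type u} [Group P] [Fintype P] (p : ℕ) (hp : p.Prime)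
    (hP : IsPGroup p P) (hna : ∃ a b : P, a * b ≠ b * a)
    (hdeg : ∀ χ : P → ℂ, IsIrrCharacter P χ → χ 1 = 1 ∨ χ 1 = (p : ℂ)) :
    ∃ (Z : Subgroup P) (_ : Z.Normal) (χ₀ : P → ℂ), IsIrrCharacter P χ₀ ∧ Z.index = p ^ 2 ∧
      Subgroup.center P ≤ Z ∧ (∀ x : P, x ∉ Z → χ₀ x = 0) ∧
      (∀ z ∈ Z, χ₀ z * conj (χ₀ z) = (p : ℂ) ^ 2) := by
  classical
  haveI : Fact p.Prime := ⟨hp⟩
  obtain ⟨a0, b0, hab0⟩ := hna
  have hbot : (⊥ : Subgroup P) ∈ {N : Subgroup P | N.Normal ∧ ¬ commutator P ≤ N} := by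
    refine ⟨inferInstance, ?_⟩
    intro h
    apply hab0
    have h1 : a0 * b0 * a0⁻¹ * b0⁻¹ ∈ commutator P := by
      have := Subgroup.commutator_mem_commutator (Subgroup.mem_top a0) (Subgroup.mem_top b0)
      rwa [commutatorElement_def] at this
    have h2 := Subgroup.mem_bot.mp (h h1)
    have : a0 * b0 * a0⁻¹ * b0⁻¹ * (b0 * a0) = b0 * a0 := by rw [h2, one_mul]
    rw [← this]
    group
  obtain ⟨K, -, hKmax⟩ := Set.Finite.exists_le_maximal
    (Set.toFinite {N : Subgroup P | N.Normal ∧ ¬ commutator P ≤ N}) (a := ⊥) hbot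
  obtain ⟨⟨hKn, hKc⟩, hKm⟩ := hKmax
  haveI := hKn
  haveI : Fintype (P ⧸ K) := Fintype.ofFinite _
  have hQp : IsPGroup p (P ⧸ K) := hP.to_quotient K
  have hKtop : K ≠ ⊤ := by
    intro h
    apply hKc
    rw [h]
    exact le_top
  haveI : Nontrivial (P ⧸ K) := by
    obtain ⟨g0, hg0⟩ : ∃ g : P, g ∉ K := by
      by_contra h
      push Not at h
      exact hKtop (eq_top_iff.mpr fun g _ => h g)
    refine ⟨⟨QuotientGroup.mk g0, 1, ?_⟩⟩
    intro h
    exact hg0 ((QuotientGroup.eq_one_iff g0).mp h)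
  -- a central element of order p
  haveI : Nontrivial (Subgroup.center (P ⧸ K)) := hQp.center_nontrivial
  have hcp : IsPGroup p (Subgroup.center (P ⧸ K)) := hQp.to_subgroup _
  have hpc : p ∣ Nat.card (Subgroup.center (P ⧸ K)) := by
    obtain ⟨k, hk⟩ := IsPGroup.iff_card.mp hcp
    rw [hk]
    have hk0 : k ≠ 0 := by
      intro h
      rw [h, pow_zero] at hk
      have := (Nat.card_eq_one_iff_unique.mp hk).1
      exact not_subsingleton _ this
    exact dvd_pow_self p hk0
  obtain ⟨ubar', hubar'⟩ := exists_prime_orderOf_dvd_card' p hpc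
  set ubar : P ⧸ K := (ubar' : P ⧸ K) with hubar
  have hucen : ubar ∈ Subgroup.center (P ⧸ K) := ubar'.2
  have huord : orderOf ubar = p := by
    rw [hubar, Subgroup.orderOf_coe, hubar']
  have hu1 : ubar ≠ 1 := by
    intro h
    rw [h, orderOf_one] at huord
    exact hp.one_lt.ne huord
  -- the derived subgroup of the quotient lies in ⟨ubar⟩
  set W : Subgroup (P ⧸ K) := Subgroup.zpowers ubar with hW
  haveI hWn : W.Normal := by
    constructor
    intro w hw g
    have hwc : w ∈ Subgroup.center (P ⧸ K) := by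
      have h1 : W ≤ Subgroup.center (P ⧸ K) := by
        rw [hW, Subgroup.zpowers_le]; exact hucen
      exact h1 hw
    rw [Subgroup.mem_center_iff] at hwc
    rw [hwc g, mul_inv_cancel_right]
    exact hw
  set U : Subgroup P := W.comap (QuotientGroup.mk' K) with hU
  haveI hUn : U.Normal := hWn.comap _
  have hKU : K ≤ U := by
    intro k hk
    show QuotientGroup.mk' K k ∈ W
    have : QuotientGroup.mk' K k = 1 := (QuotientGroup.eq_one_iff k).mpr hk
    rw [this]
    exact W.one_mem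
  have hcommU : commutator P ≤ U := by
    by_contra hcon
    have h1 := hKm (show U ∈ {N : Subgroup P | N.Normal ∧ ¬ commutator P ≤ N} from ⟨hUn, hcon⟩) hKU
    obtain ⟨u, hu⟩ := QuotientGroup.mk_surjective ubar
    have huU : u ∈ U := by
      show QuotientGroup.mk' K u ∈ W
      show (QuotientGroup.mk u : P ⧸ K) ∈ W
      rw [hu]
      exact Subgroup.mem_zpowers _
    have huK : u ∈ K := h1 huU
    exact hu1 (hu ▸ (QuotientGroup.eq_one_iff u).mpr huK)
  have hcommW : ∀ a b : P ⧸ K, a * b * a⁻¹ * b⁻¹ ∈ W := by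
    intro a b
    obtain ⟨a', rfl⟩ := QuotientGroup.mk_surjective a
    obtain ⟨b', rfl⟩ := QuotientGroup.mk_surjective b
    have h1 : a' * b' * a'⁻¹ * b'⁻¹ ∈ commutator P := by
      have := Subgroup.commutator_mem_commutator (Subgroup.mem_top a') (Subgroup.mem_top b')
      rwa [commutatorElement_def] at this
    have h2 := hcommU h1
    exact h2
  -- a nonlinear character of the quotient
  have hex : ∃ θ : P ⧸ K → ℂ, IsIrrCharacter (P ⧸ K) θ ∧ θ 1 ≠ 1 := by
    by_contra hno
    push Not at hno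
    have hcm := comm_of_all_linear hno
    apply hKc
    rw [commutator_eq_closure, Subgroup.closure_le]
    rintro x ⟨a, b, rfl⟩
    rw [commutatorElement_def]
    show a * b * a⁻¹ * b⁻¹ ∈ K
    rw [← QuotientGroup.eq_one_iff]
    rw [QuotientGroup.mk_mul, QuotientGroup.mk_mul, QuotientGroup.mk_mul, QuotientGroup.mk_inv,
      QuotientGroup.mk_inv, hcm (QuotientGroup.mk a) (QuotientGroup.mk b)]
    group
  obtain ⟨θ, hθ, hθ1⟩ := hex
  have hχ : IsIrrCharacter P (θ ∘ (QuotientGroup.mk' K)) :=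
    isIrrCharacter_comp_of_surjective hθ _ (QuotientGroup.mk'_surjective K)
  obtain ⟨n, ρ, hρ, hρθ⟩ := hθ
  have hθn : θ 1 = n := by
    rw [← hρθ, Representation.char_one, Module.finrank_fin_fun]
  have hn1 : n ≠ 1 := by
    intro h
    apply hθ1
    rw [hθn, h]
    simp
  have hnp : n = p := by
    rcases hdeg _ hχ with h | h
    · exfalso
      apply hθ1
      exact h
    · have h' : θ 1 = p := h
      rw [hθn] at h'
      exact_mod_cast h'
  obtain ⟨hv1, hv2, hv3⟩ := vanish_off_center ρ hρ hn1 ubar hucen p hp huord hcommW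
  set Z : Subgroup P := (Subgroup.center (P ⧸ K)).comap (QuotientGroup.mk' K) with hZ
  have hZn : Z.Normal := (inferInstance : (Subgroup.center (P ⧸ K)).Normal).comap _
  refine ⟨Z, hZn, θ ∘ (QuotientGroup.mk' K), hχ, ?_, ?_, ?_, ?_⟩
  · rw [hZ, Subgroup.index_comap_of_surjective _ (QuotientGroup.mk'_surjective K), hv3, hnp]
  · intro z hz
    show QuotientGroup.mk' K z ∈ Subgroup.center (P ⧸ K)
    rw [Subgroup.mem_center_iff]
    intro g
    obtain ⟨g', rfl⟩ := QuotientGroup.mk_surjective g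
    rw [Subgroup.mem_center_iff] at hz
    show (QuotientGroup.mk g' : P ⧸ K) * QuotientGroup.mk z = QuotientGroup.mk z * QuotientGroup.mk g'
    rw [← QuotientGroup.mk_mul, ← QuotientGroup.mk_mul, hz g']
  · intro x hx
    show θ (QuotientGroup.mk' K x) = 0
    rw [← hρθ]
    exact hv1 _ hx
  · intro z hz
    show θ (QuotientGroup.mk' K z) * conj (θ (QuotientGroup.mk' K z)) = (p : ℂ) ^ 2
    rw [← hρθ, Complex.mul_conj, Complex.normSq_eq_norm_sq, hv2 _ hz, hnp]
    push_cast
    rfl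

end Cfsg.Agent.Lib.Helper7.TwoDeg
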