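import Mathlib
import Cfsg.Prelude
import Cfsg.Agent.Lib.Helper7.TwoDegE
import Cfsg.Agent.Lib.Helper7.CoprimeCount
import Cfsg.Agent.Lib.Helper7.Gallagher
import Cfsg.Agent.Lib.Helper7.FrobRam
import Cfsg.Agent.Lib.Helper4.LinConst

/-!
# p-groups with character degrees 1 and p: the ramified subgroup is abelian (helper7)
-/

set_option autoImplicit false

namespace Cfsg.Agent.Lib.Helper7.TwoDeg
open Cfsg Cfsg.Agent.Lib.Helper26 Cfsg.Agent.Lib.Helper2 Cfsg.Agent.Lib.Helper7
open scoped ComplexConjugate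

universe u

theorem ramified_abelian {P : Type u} [Group P] [Fintype P] (p : ℕ) (hp : p.Prime)
    (hP : IsPGroup p P)
    (hdeg : ∀ χ : P → ℂ, IsIrrCharacter P χ → χ 1 = 1 ∨ χ 1 = (p : ℂ))
    (Z : Subgroup P) [hZn : Z.Normal] (χ₀ : P → ℂ) (hχ₀ : IsIrrCharacter P χ₀)
    (hZi : Z.index = p ^ 2) (hvan : ∀ x : P, x ∉ Z → χ₀ x = 0)
    (habs : ∀ z ∈ Z, χ₀ z * conj (χ₀ z) = (p : ℂ) ^ 2) : ∀ a b : Z, a * b = b * a := by
  classical
  haveI : Fintype Z := Fintype.ofFinite _
  haveI : Fact p.Prime := ⟨hp⟩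
  apply comm_of_all_linear
  intro ξ hξ
  obtain ⟨d, hd0, hd⟩ := irr_degree hξ
  have hind : IsCharacter P (indFun Z ξ) := isCharacter_indFun Z (isCharacter_of_isIrrCharacter hξ)
  have hind1 : indFun Z ξ 1 ≠ 0 := by
    rw [indFun_one, hd]
    have h1 : (Nat.card Z : ℂ) ≠ 0 := Nat.cast_ne_zero.mpr Nat.card_pos.ne'
    have h2 : (Fintype.card P : ℂ) ≠ 0 := Nat.cast_ne_zero.mpr Fintype.card_pos.ne'
    have h3 : (d : ℂ) ≠ 0 := Nat.cast_ne_zero.mpr hd0.ne'
    exact mul_ne_zero (inv_ne_zero h1) (mul_ne_zero h2 h3)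
  obtain ⟨χ, hχ⟩ := exists_constituent hind hind1
  have hχcl := Cfsg.Agent.Lib.Helper26.isClassFunction_of_isIrrCharacter χ.2
  rw [classInner_indFun_left' Z ξ _ hχcl] at hχ
  have hχ' : classInner (fun z : Z => (χ : P → ℂ) z) ξ ≠ 0 := by
    intro h
    apply hχ
    rw [← classInner_conj_symm]
    have : classInner (fun z : Z => (χ : P → ℂ) z) ξ = 0 := h
    show conj (classInner (fun z : Z => (χ : P → ℂ) z) ξ) = 0
    rw [this, map_zero]
  obtain ⟨m, σ, hσ, hσχ⟩ := χ.2
  have hm : (χ : P → ℂ) 1 = m := by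
    rw [← hσχ, Representation.char_one, Module.finrank_fin_fun]
  -- degree of a constituent of the restriction
  let σZ : Representation ℂ Z (Fin m → ℂ) := MonoidHom.comp σ Z.subtype
  have hres : σZ.character = fun z : Z => (χ : P → ℂ) z := by
    funext z
    rw [← hσχ]
    rfl
  obtain ⟨n', hn', -, hn'le, -⟩ := Cfsg.Agent.Lib.Helper4.constituent_degree
    σZ ⟨ξ, hξ⟩ (by rw [hres]; exact hχ')
  rw [Module.finrank_fin_fun] at hn'le
  have hdn : d = n' := by
    have : (ξ 1 : ℂ) = n' := hn'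
    rw [hd] at this
    exact_mod_cast this
  have hdm : d ≤ m := hdn ▸ hn'le
  have hdZ : d ∣ Nat.card Z := irr_degree_dvd_card hξ d hd
  obtain ⟨k, hk⟩ := IsPGroup.iff_card.mp (hP.to_subgroup Z)
  rw [hk] at hdZ
  obtain ⟨j, -, hj⟩ := (Nat.dvd_prime_pow hp).mp hdZ
  rcases hdeg _ χ.2 with h1 | h1
  · -- χ linear
    rw [hm] at h1
    have hm1 : m = 1 := by exact_mod_cast h1
    have : d = 1 := by omega
    rw [hd, this]
    simp
  · rw [hm] at h1
    have hmp : m = p := by exact_mod_cast h1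
    by_cases hj0 : j = 0
    · rw [hj0, pow_zero] at hj
      rw [hd, hj]
      simp
    · exfalso
      have hdp : d = p := by
        apply le_antisymm (hmp ▸ hdm)
        rw [hj]
        calc p = p ^ 1 := (pow_one p).symm
          _ ≤ p ^ j := Nat.pow_le_pow_right hp.pos (Nat.one_le_iff_ne_zero.mpr hj0)
      -- the restriction of χ to Z is ξ
      have hresc : IsCharacter Z (fun z : Z => (χ : P → ℂ) z) :=
        isCharacter_comp_hom (isCharacter_of_isIrrCharacter χ.2) Z.subtype
      have heq : (fun z : Z => (χ : P → ℂ) z) = ξ := by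
        apply Cfsg.Agent.Lib.Helper7.CoprimeCount.eq_of_constituent_of_degree _ _ hresc hξ hχ'
        show (χ : P → ℂ) 1 = ξ 1
        rw [hm, hd, hmp, hdp]
      -- the product with χ₀ has norm one
      set Ψ : P → ℂ := (χ : P → ℂ) * χ₀ with hΨ
      have hΨc : IsCharacter P Ψ :=
        isCharacter_mul (isCharacter_of_isIrrCharacter χ.2) (isCharacter_of_isIrrCharacter hχ₀)
      have hξn := classInner_irr hξ hξ
      rw [if_pos rfl] at hξn
      unfold classInner at hξn
      have hZne : (Nat.card Z : ℂ) ≠ 0 := Nat.cast_ne_zero.mpr Nat.card_pos.ne'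
      have hPne : (Nat.card P : ℂ) ≠ 0 := Nat.cast_ne_zero.mpr Nat.card_pos.ne'
      have hξsum : ∑ z : Z, ξ z * conj (ξ z) = (Nat.card Z : ℂ) := by
        have := (inv_mul_eq_iff_eq_mul₀ hZne).mp hξn
        rw [this, mul_one]
      have hnorm : classInner Ψ Ψ = 1 := by
        unfold classInner
        have h2 : ∀ g : P, Ψ g * conj (Ψ g) =
            if g ∈ Z then ((p : ℂ) ^ 2) * ((χ : P → ℂ) g * conj ((χ : P → ℂ) g)) else 0 := by
          intro g
          by_cases hg : g ∈ Z
          · rw [if_pos hg, hΨ, Pi.mul_apply, map_mul]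
            rw [← habs g hg]
            ring
          · rw [if_neg hg, hΨ, Pi.mul_apply, hvan g hg, mul_zero, zero_mul]
        rw [Finset.sum_congr rfl (fun g _ => h2 g)]
        rw [← Cfsg.Agent.Lib.Helper7.FrobRam.sum_subtype_ite Z (fun g => ((p : ℂ) ^ 2) * ((χ : P → ℂ) g * conj ((χ : P → ℂ) g)))]
        have h3 : ∀ z : Z, ((p : ℂ) ^ 2) * ((χ : P → ℂ) z * conj ((χ : P → ℂ) z)) =
            ((p : ℂ) ^ 2) * (ξ z * conj (ξ z)) := by
          intro z
          rw [← heq]
        rw [Finset.sum_congr rfl (fun z _ => h3 z), ← Finset.mul_sum, hξsum]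
        rw [← Subgroup.card_mul_index Z, hZi]
        have hpne : (p : ℂ) ≠ 0 := Nat.cast_ne_zero.mpr hp.pos.ne'
        push_cast
        field_simp
      have hΨ1 : Ψ 1 = (p : ℂ) * (p : ℂ) := by
        rw [hΨ, Pi.mul_apply, hm, hmp]
        congr 1
        rcases hdeg _ hχ₀ with h | h
        · exfalso
          have h4 := habs 1 Z.one_mem
          rw [h, map_one, mul_one] at h4
          have h5 : ((p ^ 2 : ℕ) : ℂ) = ((1 : ℕ) : ℂ) := by push_cast; exact h4.symm
          have h6 : p ^ 2 = 1 := by exact_mod_cast h5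
          have := hp.one_lt
          nlinarith
        · exact h
      have hΨirr : IsIrrCharacter P Ψ := by
        apply isIrrCharacter_of_norm_one (isGeneralizedCharacter_of_isCharacter hΨc) hnorm
        rw [hΨ1]
        have : (0 : ℝ) < (p : ℝ) * (p : ℝ) := by
          have := hp.pos
          positivity
        simpa using this
      rcases hdeg _ hΨirr with h | h
      · rw [hΨ1] at h
        have h5 : ((p * p : ℕ) : ℂ) = ((1 : ℕ) : ℂ) := by push_cast; exact h
        have h6 : p * p = 1 := by exact_mod_cast h5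
        have := hp.one_lt
        nlinarith
      · rw [hΨ1] at h
        have h5 : ((p * p : ℕ) : ℂ) = ((p : ℕ) : ℂ) := by push_cast; exact h
        have h6 : p * p = p := by exact_mod_cast h5
        have := hp.one_lt
        nlinarith

end Cfsg.Agent.Lib.Helper7.TwoDeg
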