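import Mathlib
import Cfsg.Prelude
import Cfsg.Agent.Lib.Helper7.TwoDegA

/-!
# A covering count (helper7)

A group `E` of order `p²` acts faithfully by automorphisms on an abelian group `V` of order `p^k`
such that every point is fixed by some nonidentity element.  Then every nonidentity element has
exactly `p^(k-1)` fixed points and there are exactly `p^(k-2)` points fixed by all of `E`.
-/

set_option autoImplicit false

namespace Cfsg.Agent.Lib.Helper7.TwoDeg

section Cover
variable {E V : Type*} [Group E] [Fintype E] [DecidableEq E] [CommGroup V] [Fintype V]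
  [DecidableEq V]
  (φ : E → V →* V) (hφ1 : ∀ v, φ 1 v = v) (hφm : ∀ g h v, φ (g * h) v = φ h (φ g v))

/-- fixed points of one element as a subgroup -/
def fixSub (e : E) : Subgroup V where
  carrier := {v | φ e v = v}
  mul_mem' := by
    intro a b ha hb
    have ha' : φ e a = a := ha
    have hb' : φ e b = b := hb
    show φ e (a * b) = a * b
    rw [map_mul, ha', hb']
  one_mem' := map_one _
  inv_mem' := by
    intro a ha
    have ha' : φ e a = a := ha
    show φ e a⁻¹ = a⁻¹
    rw [map_inv, ha']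

theorem mem_fixSub (e : E) (v : V) : v ∈ fixSub φ e ↔ φ e v = v := Iff.rfl

theorem card_fixSub (e : E) :
    Nat.card (fixSub φ e) = (Finset.univ.filter (fun v : V => φ e v = v)).card := by
  haveI : Fintype (fixSub φ e) := Fintype.ofFinite _
  rw [Nat.card_eq_fintype_card]
  exact Fintype.card_of_subtype _ (fun v => by simp [mem_fixSub])

theorem card_astab (v : V) :
    Nat.card (astab φ hφ1 hφm v) = (Finset.univ.filter (fun e : E => φ e v = v)).card := by
  haveI : Fintype (astab φ hφ1 hφm v) := Fintype.ofFinite _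
  rw [Nat.card_eq_fintype_card]
  exact Fintype.card_of_subtype _ (fun e => by simp [mem_astab])

theorem double_count :
    ∑ e : E, Nat.card (fixSub φ e) = ∑ v : V, Nat.card (astab φ hφ1 hφm v) := by
  simp_rw [card_fixSub, card_astab, Finset.card_filter]
  exact Finset.sum_comm

/-- points fixed by the whole group -/
def fixAll : Subgroup V := ⨅ e : E, fixSub φ e

theorem mem_fixAll (v : V) : v ∈ fixAll φ ↔ ∀ e, φ e v = v := by
  unfold fixAll
  rw [Subgroup.mem_iInf]
  rfl

include hφ1 in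
theorem fixSub_one : fixSub φ (1 : E) = ⊤ := by
  rw [eq_top_iff]
  intro v _
  exact hφ1 v

theorem cover_setup (p : ℕ) (hp : p.Prime) (hE : Nat.card E = p ^ 2) (k : ℕ)
    (hV : Nat.card V = p ^ k)
    (hstab : ∀ v : V, ∃ e : E, e ≠ 1 ∧ φ e v = v)
    (hfaith : ∀ e : E, e ≠ 1 → ∃ v, φ e v ≠ v) :
    (∀ e : E, e ≠ 1 → Nat.card (fixSub φ e) * p ≤ p ^ k ∧
      (Nat.card (fixSub φ e) * p = p ^ k ∨ Nat.card (fixSub φ e) * p ^ 2 ≤ p ^ k)) ∧
    (∀ v : V, (v ∈ fixAll φ → Nat.card (astab φ hφ1 hφm v) = p ^ 2) ∧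
      (v ∉ fixAll φ → Nat.card (astab φ hφ1 hφm v) = p)) ∧
    p ^ k + ∑ e ∈ Finset.univ.erase (1 : E), Nat.card (fixSub φ e) + Nat.card (fixAll φ) * p =
      p ^ k * p + Nat.card (fixAll φ) * p ^ 2 := by
  classical
  have hp2 : 2 ≤ p := hp.two_le
  have hF2 : ∀ e : E, e ≠ 1 → Nat.card (fixSub φ e) * p ≤ p ^ k ∧
      (Nat.card (fixSub φ e) * p = p ^ k ∨ Nat.card (fixSub φ e) * p ^ 2 ≤ p ^ k) := by
    intro e he
    have h1 : Nat.card (fixSub φ e) ∣ p ^ k := hV ▸ Subgroup.card_subgroup_dvd_card _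
    obtain ⟨i, hik, hi⟩ := (Nat.dvd_prime_pow hp).mp h1
    have hik' : i ≠ k := by
      intro h
      rw [h, ← hV] at hi
      have h2 := (Subgroup.card_eq_iff_eq_top _).mp hi
      obtain ⟨v, hv⟩ := hfaith e he
      apply hv
      have : v ∈ fixSub φ e := h2 ▸ Subgroup.mem_top v
      exact this
    have hlt : i + 1 ≤ k := by omega
    rw [hi]
    constructor
    · rw [← pow_succ]
      exact Nat.pow_le_pow_right hp.pos hlt
    · by_cases h : i + 1 = k
      · left
        rw [← pow_succ, h]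
      · right
        rw [← pow_add]
        exact Nat.pow_le_pow_right hp.pos (by omega)
  have hF3 : ∀ v : V, (v ∈ fixAll φ → Nat.card (astab φ hφ1 hφm v) = p ^ 2) ∧
      (v ∉ fixAll φ → Nat.card (astab φ hφ1 hφm v) = p) := by
    intro v
    constructor
    · intro hv
      rw [mem_fixAll] at hv
      have : astab φ hφ1 hφm v = ⊤ := by
        rw [eq_top_iff]
        intro e _
        exact hv e
      rw [this, Subgroup.card_top, hE]
    · intro hv
      have h1 : Nat.card (astab φ hφ1 hφm v) ∣ p ^ 2 := hE ▸ Subgroup.card_subgroup_dvd_card _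
      obtain ⟨i, hi2, hi⟩ := (Nat.dvd_prime_pow hp).mp h1
      have hi0 : i ≠ 0 := by
        intro h
        rw [h, pow_zero] at hi
        obtain ⟨e, he1, hev⟩ := hstab v
        have h2 : astab φ hφ1 hφm v = ⊥ := (Subgroup.card_eq_one).mp hi
        have h3 : e ∈ astab φ hφ1 hφm v := hev
        rw [h2, Subgroup.mem_bot] at h3
        exact he1 h3
      have hi2' : i ≠ 2 := by
        intro h
        rw [h, ← hE] at hi
        have h2 := (Subgroup.card_eq_iff_eq_top _).mp hi
        apply hv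
        rw [mem_fixAll]
        intro e
        have : e ∈ astab φ hφ1 hφm v := h2 ▸ Subgroup.mem_top e
        exact this
      have : i = 1 := by omega
      rw [hi, this, pow_one]
  refine ⟨hF2, hF3, ?_⟩
  -- the double count
  have hdc := double_count φ hφ1 hφm
  have h1 : ∑ e : E, Nat.card (fixSub φ e) =
      p ^ k + ∑ e ∈ Finset.univ.erase (1 : E), Nat.card (fixSub φ e) := by
    rw [← Finset.add_sum_erase Finset.univ _ (Finset.mem_univ (1 : E)), fixSub_one φ hφ1,
      Subgroup.card_top, hV]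
  have h2 : ∀ v : V, Nat.card (astab φ hφ1 hφm v) + (if v ∈ fixAll φ then p else 0) =
      p + (if v ∈ fixAll φ then p ^ 2 else 0) := by
    intro v
    by_cases hv : v ∈ fixAll φ
    · rw [if_pos hv, if_pos hv, (hF3 v).1 hv, add_comm]
    · rw [if_neg hv, if_neg hv, (hF3 v).2 hv]
  have h3 : ∑ v : V, (Nat.card (astab φ hφ1 hφm v) + (if v ∈ fixAll φ then p else 0)) =
      ∑ v : V, (p + (if v ∈ fixAll φ then p ^ 2 else 0)) :=
    Finset.sum_congr rfl (fun v _ => h2 v)
  have hcardF : (Finset.univ.filter (fun v : V => v ∈ fixAll φ)).card = Nat.card (fixAll φ) := by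
    haveI : Fintype (fixAll φ) := Fintype.ofFinite _
    rw [Nat.card_eq_fintype_card]
    exact (Fintype.card_of_subtype _ (fun v => by simp)).symm
  have hVc : (Finset.univ : Finset V).card = p ^ k := by
    rw [Finset.card_univ, ← Nat.card_eq_fintype_card, hV]
  have hA : ∑ v : V, (if v ∈ fixAll φ then p else 0) = Nat.card (fixAll φ) * p := by
    rw [Finset.sum_ite, Finset.sum_const, Finset.sum_const_zero, add_zero, hcardF, smul_eq_mul]
  have hB : ∑ v : V, (if v ∈ fixAll φ then p ^ 2 else 0) = Nat.card (fixAll φ) * p ^ 2 := by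
    rw [Finset.sum_ite, Finset.sum_const, Finset.sum_const_zero, add_zero, hcardF, smul_eq_mul]
  have hC : ∑ _v : V, p = p ^ k * p := by
    rw [Finset.sum_const, hVc, smul_eq_mul]
  rw [Finset.sum_add_distrib, Finset.sum_add_distrib, hA, hB, hC, ← hdc, h1] at h3
  exact h3

include hφ1 hφm in
theorem cover_count (p : ℕ) (hp : p.Prime) (hE : Nat.card E = p ^ 2) (k : ℕ)
    (hV : Nat.card V = p ^ k)
    (hstab : ∀ v : V, ∃ e : E, e ≠ 1 ∧ φ e v = v)
    (hfaith : ∀ e : E, e ≠ 1 → ∃ v, φ e v ≠ v) :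
    (∀ e : E, e ≠ 1 → Nat.card (fixSub φ e) * p = p ^ k) ∧
    Nat.card (fixAll φ) * p ^ 2 = p ^ k := by
  classical
  obtain ⟨hF2, hF3, hEq⟩ := cover_setup φ hφ1 hφm p hp hE k hV hstab hfaith
  have hp2 : 2 ≤ p := hp.two_le
  set N := p ^ k with hN
  set f : E → ℕ := fun e => Nat.card (fixSub φ e) with hf
  set S := ∑ e ∈ Finset.univ.erase (1 : E), f e with hS
  set v0 := Nat.card (fixAll φ) with hv0
  set c := (Finset.univ.erase (1 : E)).card with hc
  have hc1 : c + 1 = p ^ 2 := by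
    rw [hc, Finset.card_erase_of_mem (Finset.mem_univ _), Finset.card_univ,
      ← Nat.card_eq_fintype_card, hE]
    have : 1 ≤ p ^ 2 := Nat.one_le_pow _ _ hp.pos
    omega
  have hN1 : 1 ≤ N := Nat.one_le_pow _ _ hp.pos
  have hv1 : 1 ≤ v0 := Nat.card_pos
  -- integer versions
  have hEz : (N : ℤ) + S + v0 * p = N * p + v0 * p ^ 2 := by exact_mod_cast hEq
  have hcz : (c : ℤ) + 1 = (p : ℤ) ^ 2 := by exact_mod_cast hc1
  have hpz : (2 : ℤ) ≤ p := by exact_mod_cast hp2
  have hNz : (1 : ℤ) ≤ N := by exact_mod_cast hN1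
  have hvz : (1 : ℤ) ≤ v0 := by exact_mod_cast hv1
  have hcN : (c : ℤ) * N + N = (p : ℤ) ^ 2 * N := by linear_combination (N : ℤ) * hcz
  have hEp : (N : ℤ) * p + S * p + v0 * p ^ 2 = N * p ^ 2 + v0 * p ^ 3 := by
    linear_combination (p : ℤ) * hEz
  have hEpp : (N : ℤ) * p ^ 2 + S * p ^ 2 + v0 * p ^ 3 = N * p ^ 3 + v0 * p ^ 4 := by
    linear_combination ((p : ℤ) ^ 2) * hEz
  -- Step 0
  have hB0 : S * p ≤ c * N := by
    rw [hS, Finset.sum_mul, hc]
    calc ∑ e ∈ Finset.univ.erase (1 : E), f e * p ≤ ∑ _e ∈ Finset.univ.erase (1 : E), N :=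
          Finset.sum_le_sum (fun e he => (hF2 e (Finset.ne_of_mem_erase he)).1)
      _ = (Finset.univ.erase (1 : E)).card * N := by rw [Finset.sum_const, smul_eq_mul]
  have hB0z : (S : ℤ) * p ≤ c * N := by exact_mod_cast hB0
  have hstep0 : (v0 : ℤ) * p ^ 2 ≤ N := by
    have key : ((p : ℤ) - 1) * (N - v0 * p ^ 2) ≥ 0 := by nlinarith [hEp, hB0z, hcN]
    by_contra hneg
    push Not at hneg
    nlinarith [mul_pos (by linarith : (0 : ℤ) < p - 1) (by linarith : (0 : ℤ) < v0 * p ^ 2 - N)]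
  -- Step A: a good element
  have hstepA : ∃ e0 : E, e0 ≠ 1 ∧ f e0 * p = N := by
    by_contra hcon
    push Not at hcon
    have hB : S * p ^ 2 ≤ c * N := by
      rw [hS, Finset.sum_mul, hc]
      calc ∑ e ∈ Finset.univ.erase (1 : E), f e * p ^ 2
            ≤ ∑ _e ∈ Finset.univ.erase (1 : E), N :=
            Finset.sum_le_sum (fun e he => by
              have hne := Finset.ne_of_mem_erase he
              exact ((hF2 e hne).2).resolve_left (hcon e hne))
        _ = (Finset.univ.erase (1 : E)).card * N := by rw [Finset.sum_const, smul_eq_mul]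
    have hBz : (S : ℤ) * p ^ 2 ≤ c * N := by exact_mod_cast hB
    nlinarith [hEpp, hBz, hcN, mul_nonneg (mul_nonneg (by linarith : (0 : ℤ) ≤ v0)
      (by positivity : (0 : ℤ) ≤ (p : ℤ) ^ 3)) (by linarith : (0 : ℤ) ≤ (p : ℤ) - 1),
      mul_nonneg (mul_nonneg (by linarith : (0 : ℤ) ≤ N) (by positivity : (0 : ℤ) ≤ (p : ℤ) ^ 2))
        (by linarith : (0 : ℤ) ≤ (p : ℤ) - 2)]
  obtain ⟨e0, he01, he0g⟩ := hstepA
  have he0gz : (f e0 : ℤ) * p = N := by exact_mod_cast he0g
  -- a point fixed by e0 but not by all of E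
  have hlt : v0 < f e0 := by
    have h1 : (v0 : ℤ) < f e0 := by
      by_contra hneg
      push Not at hneg
      nlinarith [mul_le_mul_of_nonneg_right hneg (by linarith : (0 : ℤ) ≤ p),
        mul_le_mul_of_nonneg_right hneg (by positivity : (0 : ℤ) ≤ (p : ℤ) ^ 2)]
    exact_mod_cast h1
  have hle0 : fixAll φ ≤ fixSub φ e0 := fun v hv => (mem_fixAll φ v).mp hv e0
  obtain ⟨ξ0, hξ0e, hξ0n⟩ : ∃ ξ0 : V, ξ0 ∈ fixSub φ e0 ∧ ξ0 ∉ fixAll φ := by
    by_contra hcon
    push Not at hcon
    have : fixSub φ e0 ≤ fixAll φ := fun v hv => hcon v hv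
    have h2 : f e0 ≤ v0 := Subgroup.card_le_of_le this
    exact absurd h2 (not_le.mpr hlt)
  set M0 := astab φ hφ1 hφm ξ0 with hM0
  have hM0card : Nat.card M0 = p := (hF3 ξ0).2 hξ0n
  have he0M0 : e0 ∈ M0 := hξ0e
  -- Step B: a good element outside M0
  have hcardM0 : (Finset.univ.filter (fun e : E => e ∈ M0)).card = p := by
    haveI : Fintype M0 := Fintype.ofFinite _
    rw [← hM0card, Nat.card_eq_fintype_card]
    exact (Fintype.card_of_subtype _ (fun v => by simp)).symm
  set m1 := ((Finset.univ.erase (1 : E)).filter (fun e : E => e ∈ M0)).card with hm1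
  set m2 := ((Finset.univ.erase (1 : E)).filter (fun e : E => ¬ e ∈ M0)).card with hm2
  have hm12 : m1 + m2 = c := by
    rw [hm1, hm2, hc]
    exact Finset.card_filter_add_card_filter_not _
  have hm1p : m1 + 1 = p := by
    rw [hm1, ← hcardM0, Finset.filter_erase,
      Finset.card_erase_of_mem (by simp [M0.one_mem])]
    have : 1 ≤ (Finset.univ.filter (fun e : E => e ∈ M0)).card := by
      rw [hcardM0]; exact hp.pos
    omega
  have hm1z : (m1 : ℤ) + 1 = p := by exact_mod_cast hm1p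
  have hm12z : (m1 : ℤ) + m2 = c := by exact_mod_cast hm12
  have hstepB : ∃ h : E, h ≠ 1 ∧ h ∉ M0 ∧ f h * p = N := by
    by_contra hcon
    push Not at hcon
    have hB : S * p ^ 2 ≤ m1 * (p * N) + m2 * N := by
      rw [hS, Finset.sum_mul]
      calc ∑ e ∈ Finset.univ.erase (1 : E), f e * p ^ 2
            ≤ ∑ e ∈ Finset.univ.erase (1 : E), (if e ∈ M0 then p * N else N) := by
            apply Finset.sum_le_sum
            intro e he
            have hne := Finset.ne_of_mem_erase he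
            by_cases heM : e ∈ M0
            · rw [if_pos heM]
              have := (hF2 e hne).1
              calc f e * p ^ 2 = p * (f e * p) := by ring
                _ ≤ p * N := Nat.mul_le_mul_left p this
            · rw [if_neg heM]
              exact ((hF2 e hne).2).resolve_left (hcon e hne heM)
        _ = m1 * (p * N) + m2 * N := by
            rw [Finset.sum_ite, Finset.sum_const, Finset.sum_const, smul_eq_mul, smul_eq_mul]
    have hBz : (S : ℤ) * p ^ 2 ≤ m1 * (p * N) + m2 * N := by exact_mod_cast hB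
    have hm1e : (m1 : ℤ) = p - 1 := by linarith
    have hm2e : (m2 : ℤ) = (p : ℤ) ^ 2 - p := by linarith
    rw [hm1e, hm2e] at hBz
    nlinarith [hEpp, hBz, mul_nonneg (mul_nonneg (by linarith : (0 : ℤ) ≤ N)
      (mul_nonneg (by linarith : (0 : ℤ) ≤ p) (by linarith : (0 : ℤ) ≤ (p : ℤ) - 1)))
      (by linarith : (0 : ℤ) ≤ (p : ℤ) - 2),
      mul_pos (mul_pos (by linarith : (0 : ℤ) < v0) (by positivity : (0 : ℤ) < (p : ℤ) ^ 3))
        (by linarith : (0 : ℤ) < (p : ℤ) - 1)]
  obtain ⟨h, hh1, hhM0, hhg⟩ := hstepB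
  -- Step C
  have hidx : ∀ e : E, f e * p = N → (fixSub φ e).index = p := by
    intro e he
    have h1 := Subgroup.card_mul_index (fixSub φ e)
    rw [hV] at h1
    have h2 : f e * (fixSub φ e).index = f e * p := by rw [he]; exact h1
    have hpos : 0 < f e := Nat.card_pos
    exact Nat.eq_of_mul_eq_mul_left hpos h2
  have hKle : fixSub φ e0 ⊓ fixSub φ h ≤ fixAll φ := by
    intro ξ hξ
    by_contra hξn
    have hc1 : Nat.card (astab φ hφ1 hφm ξ) = p := (hF3 ξ).2 hξn
    have he0ξ : e0 ∈ astab φ hφ1 hφm ξ := hξ.1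
    have hhξ : h ∈ astab φ hφ1 hφm ξ := hξ.2
    have hinf : M0 ⊓ astab φ hφ1 hφm ξ ≠ ⊥ := by
      intro hbot
      have : e0 ∈ M0 ⊓ astab φ hφ1 hφm ξ := ⟨he0M0, he0ξ⟩
      rw [hbot, Subgroup.mem_bot] at this
      exact he01 this
    have hcinf : Nat.card (M0 ⊓ astab φ hφ1 hφm ξ : Subgroup E) = p := by
      have h1 : Nat.card (M0 ⊓ astab φ hφ1 hφm ξ : Subgroup E) ∣ p :=
        hM0card ▸ Subgroup.card_dvd_of_le inf_le_left
      rcases (Nat.dvd_prime hp).mp h1 with h2 | h2
      · exact absurd (Subgroup.card_eq_one.mp h2) hinf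
      · exact h2
    have he1 : M0 ⊓ astab φ hφ1 hφm ξ = M0 :=
      Subgroup.eq_of_le_of_card_ge inf_le_left (by rw [hcinf, hM0card])
    have he2 : M0 ⊓ astab φ hφ1 hφm ξ = astab φ hφ1 hφm ξ :=
      Subgroup.eq_of_le_of_card_ge inf_le_right (by rw [hcinf, hc1])
    apply hhM0
    rw [← he1, he2]
    exact hhξ
  have hstepC : N ≤ v0 * p ^ 2 := by
    have h1 : (fixSub φ e0 ⊓ fixSub φ h).index ≤ (fixSub φ e0).index * (fixSub φ h).index :=
      Subgroup.index_inf_le
    rw [hidx e0 he0g, hidx h hhg] at h1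
    have h2 := Subgroup.card_mul_index (fixSub φ e0 ⊓ fixSub φ h)
    rw [hV] at h2
    have h3 := Subgroup.card_le_of_le hKle
    calc N = Nat.card (fixSub φ e0 ⊓ fixSub φ h : Subgroup V) *
          (fixSub φ e0 ⊓ fixSub φ h).index := h2.symm
      _ ≤ v0 * (p * p) := Nat.mul_le_mul h3 h1
      _ = v0 * p ^ 2 := by ring
  have hvN : v0 * p ^ 2 = N := by
    apply le_antisymm _ hstepC
    exact_mod_cast hstep0
  have hvNz : (v0 : ℤ) * p ^ 2 = N := by exact_mod_cast hvN
  refine ⟨?_, hvN⟩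
  -- Step D
  intro b hb1
  by_contra hbad
  have hbb : f b * p ^ 2 ≤ N := ((hF2 b hb1).2).resolve_left hbad
  have hbmem : b ∈ Finset.univ.erase (1 : E) := Finset.mem_erase.mpr ⟨hb1, Finset.mem_univ b⟩
  have hc2 : ((Finset.univ.erase (1 : E)).erase b).card + 1 = c := by
    rw [Finset.card_erase_of_mem hbmem]
    have : 1 ≤ (Finset.univ.erase (1 : E)).card := Finset.card_pos.mpr ⟨b, hbmem⟩
    omega
  have hB : S * p ^ 2 ≤ N + ((Finset.univ.erase (1 : E)).erase b).card * (p * N) := by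
    rw [hS, Finset.sum_mul, ← Finset.add_sum_erase _ _ hbmem]
    apply Nat.add_le_add hbb
    calc ∑ e ∈ (Finset.univ.erase (1 : E)).erase b, f e * p ^ 2
          ≤ ∑ _e ∈ (Finset.univ.erase (1 : E)).erase b, p * N := by
          apply Finset.sum_le_sum
          intro e he
          have hne := Finset.ne_of_mem_erase (Finset.mem_of_mem_erase he)
          have := (hF2 e hne).1
          calc f e * p ^ 2 = p * (f e * p) := by ring
            _ ≤ p * N := Nat.mul_le_mul_left p this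
      _ = ((Finset.univ.erase (1 : E)).erase b).card * (p * N) := by
          rw [Finset.sum_const, smul_eq_mul]
  set c' := ((Finset.univ.erase (1 : E)).erase b).card with hc'
  have hBz : (S : ℤ) * p ^ 2 ≤ N + c' * (p * N) := by exact_mod_cast hB
  have hc2z : (c' : ℤ) + 1 = c := by exact_mod_cast hc2
  have hc'e : (c' : ℤ) = (p : ℤ) ^ 2 - 2 := by linarith
  rw [hc'e] at hBz
  nlinarith [hEpp, hBz, hvNz, mul_pos (by linarith : (0 : ℤ) < N) (by linarith : (0 : ℤ) < (p : ℤ) - 1),
    mul_comm (v0 : ℤ) ((p : ℤ) ^ 2)]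

end Cover

end Cfsg.Agent.Lib.Helper7.TwoDeg
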