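import Mathlib
import Cfsg.Prelude
import Cfsg.Agent.Lib.Helper7.TwoDegB
import Cfsg.Agent.S0854
import Cfsg.Agent.S0857

/-!
# Stabilizer indices and annihilator counts (helper7)
-/

set_option autoImplicit false

namespace Cfsg.Agent.Lib.Helper7.TwoDeg
open Cfsg Cfsg.Agent.Lib.Helper26 Cfsg.Agent.Lib.Helper2 Cfsg.Agent.Lib.Helper7
open scoped ComplexConjugate

universe u

/-- with degrees `1` and `p`, the stabilizer of a linear character of a normal subgroup has index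
dividing `p` -/
theorem stab_index_dvd {P : Type u} [Group P] [Fintype P] (p : ℕ)
    (hdeg : ∀ χ : P → ℂ, IsIrrCharacter P χ → χ 1 = 1 ∨ χ 1 = (p : ℂ))
    (Z : Subgroup P) [hZn : Z.Normal] (ξ : Z →* ℂˣ) : (stab Z ξ).index ∣ p := by
  classical
  set T := stab Z ξ with hTdef
  have hZT : Z ≤ T := le_stab Z ξ
  haveI : Fintype T := Fintype.ofFinite _
  haveI : Fintype Z := Fintype.ofFinite _
  have hξirr : IsIrrCharacter Z (fun n => ((ξ n : ℂˣ) : ℂ)) := isIrr_of_hom' ξ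
  have hTmem : ∀ g : P, g ∈ T ↔ ∀ n : Z,
      (fun n : Z => ((ξ n : ℂˣ) : ℂ)) ⟨g * n * g⁻¹, hZn.conj_mem (n : P) n.2 g⟩ =
        (fun n : Z => ((ξ n : ℂˣ) : ℂ)) n := by
    intro g
    rw [hTdef, mem_stab']
    constructor
    · intro h n
      show ((ξ _ : ℂˣ) : ℂ) = ((ξ n : ℂˣ) : ℂ)
      rw [h n]
    · intro h n
      exact Units.ext (h n)
  have hind : IsCharacter P (indFun Z (fun n => ((ξ n : ℂˣ) : ℂ))) :=
    isCharacter_indFun Z (isCharacter_of_isIrrCharacter hξirr)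
  have hind1 : indFun Z (fun n => ((ξ n : ℂˣ) : ℂ)) 1 ≠ 0 := by
    rw [indFun_one, map_one]
    have h1 : (Nat.card Z : ℂ) ≠ 0 := Nat.cast_ne_zero.mpr Nat.card_pos.ne'
    have h2 : (Fintype.card P : ℂ) ≠ 0 := Nat.cast_ne_zero.mpr Fintype.card_pos.ne'
    simp only [Units.val_one, mul_one]
    exact mul_ne_zero (inv_ne_zero h1) h2
  obtain ⟨χ, hχ⟩ := exists_constituent hind hind1
  have hχcl := Cfsg.Agent.Lib.Helper26.isClassFunction_of_isIrrCharacter χ.2
  have hcon : classInner (fun n : Z => (χ : P → ℂ) n) (fun n => ((ξ n : ℂˣ) : ℂ)) ≠ 0 := by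
    rw [classInner_indFun_left' Z _ _ hχcl] at hχ
    intro h
    apply hχ
    rw [← classInner_conj_symm]
    show conj (classInner (fun n : Z => (χ : P → ℂ) n) (fun n => ((ξ n : ℂˣ) : ℂ))) = 0
    rw [h, map_zero]
  obtain ⟨ψ, hψ, hindψ, -⟩ := Cfsg.Agent.S0854.result Z _ hξirr T hTmem hZT χ χ.2 hcon
  obtain ⟨b, hb0, hb⟩ := irr_degree hψ
  have hTne : (Nat.card T : ℂ) ≠ 0 := Nat.cast_ne_zero.mpr Nat.card_pos.ne'
  have h1 : (χ : P → ℂ) 1 = ((T.index * b : ℕ) : ℂ) := by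
    rw [← hindψ, indFun_one, hb, ← Nat.card_eq_fintype_card, ← Subgroup.card_mul_index T]
    push_cast
    field_simp
  rcases hdeg _ χ.2 with h | h
  · rw [h1] at h
    have h2 : T.index * b = 1 := by exact_mod_cast h
    have h3 : T.index = 1 := Nat.eq_one_of_mul_eq_one_right h2
    rw [h3]
    exact one_dvd p
  · rw [h1] at h
    have h2 : T.index * b = p := by exact_mod_cast h
    exact ⟨b, h2.symm⟩

/-- the number of linear characters of a finite abelian group trivial on a subgroup -/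
theorem ann_card {A : Type*} [Group A] [Fintype A] (hcomm : ∀ a b : A, a * b = b * a)
    (R : Subgroup A) [Fintype (A →* ℂˣ)] [DecidablePred (fun ξ : A →* ℂˣ => ∀ r ∈ R, ξ r = 1)] :
    (Finset.univ.filter (fun ξ : A →* ℂˣ => ∀ r ∈ R, ξ r = 1)).card * Nat.card R =
      Nat.card A := by
  classical
  haveI : Fintype R := Fintype.ofFinite _
  have h1 : ∀ ξ : A →* ℂˣ, ∑ r : R, ((ξ r : ℂˣ) : ℂ) =
      if (∀ r ∈ R, ξ r = 1) then (Nat.card R : ℂ) else 0 := by
    intro ξ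
    by_cases hξ : ∀ r ∈ R, ξ r = 1
    · rw [if_pos hξ]
      rw [Finset.sum_congr rfl (fun r _ => by rw [hξ r r.2])]
      simp [Nat.card_eq_fintype_card]
    · rw [if_neg hξ]
      let f : R →* ℂ := (Units.coeHom ℂ).comp (ξ.comp R.subtype)
      have hf : f ≠ 1 := by
        intro h
        apply hξ
        intro r hr
        have := DFunLike.congr_fun h ⟨r, hr⟩
        apply Units.ext
        exact this
      exact sum_hom_units_eq_zero f hf
  have h2 : ∑ ξ : A →* ℂˣ, ∑ r : R, ((ξ r : ℂˣ) : ℂ) = (Nat.card A : ℂ) := by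
    rw [Finset.sum_comm]
    have h3 : ∀ r : R, ∑ ξ : A →* ℂˣ, ((ξ r : ℂˣ) : ℂ) =
        if r = 1 then (Nat.card A : ℂ) else 0 := by
      intro r
      rw [Cfsg.Agent.S0857.sum_monoidHom_apply' hcomm (r : A)]
      by_cases hr : r = 1
      · rw [if_pos hr, if_pos (by rw [hr]; rfl)]
      · rw [if_neg hr, if_neg (fun h : (r : A) = 1 => hr (Subtype.ext h))]
    rw [Finset.sum_congr rfl (fun r _ => h3 r), Finset.sum_ite_eq' Finset.univ (1 : R)]
    simp
  rw [Finset.sum_congr rfl (fun ξ _ => h1 ξ), Finset.sum_ite, Finset.sum_const,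
    Finset.sum_const_zero, add_zero, nsmul_eq_mul] at h2
  exact_mod_cast h2

end Cfsg.Agent.Lib.Helper7.TwoDeg
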