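import Mathlib
import Cfsg.Prelude
import Cfsg.Agent.Lib.Helper7.TwoDegF
import Cfsg.Agent.Lib.Helper7.TwoDegG
import Cfsg.Agent.Lib.Helper7.TwoDegH
import Cfsg.Agent.Lib.Helper7.GlaubFpf

/-!
# p-groups with character degrees 1 and p (helper7)

`pgroup_case`: a nonabelian `p`-group all of whose irreducible characters have degree `1` or `p`
has an abelian subgroup of index `p` or centre of index `p³` (Isaacs 12.11).
-/

set_option autoImplicit false

namespace Cfsg.Agent.Lib.Helper7.TwoDeg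
open Cfsg Cfsg.Agent.Lib.Helper26 Cfsg.Agent.Lib.Helper2 Cfsg.Agent.Lib.Helper7
open scoped ComplexConjugate

section CommHom
variable {P : Type*} [Group P] (Z : Subgroup P) [hZn : Z.Normal]
  (hZc : ∀ a b : Z, a * b = b * a)

/-- the commutator map `a ↦ (g a g⁻¹) a⁻¹` on an abelian normal subgroup -/
def cg (g : P) : Z →* Z where
  toFun a := ⟨g * a * g⁻¹, hZn.conj_mem (a : P) a.2 g⟩ * a⁻¹
  map_one' := by
    apply Subtype.ext
    simp
  map_mul' := by
    intro a b
    have h1 : (⟨g * ((a * b : Z) : P) * g⁻¹, hZn.conj_mem _ (a * b).2 g⟩ : Z) =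
        ⟨g * a * g⁻¹, hZn.conj_mem (a : P) a.2 g⟩ * ⟨g * b * g⁻¹, hZn.conj_mem (b : P) b.2 g⟩ := by
      apply Subtype.ext
      simp only [Subgroup.coe_mul]
      group
    rw [h1, mul_inv_rev, hZc b⁻¹ a⁻¹]
    set A : Z := ⟨g * a * g⁻¹, hZn.conj_mem (a : P) a.2 g⟩
    set B : Z := ⟨g * b * g⁻¹, hZn.conj_mem (b : P) b.2 g⟩
    rw [mul_assoc A B, ← mul_assoc B, hZc B a⁻¹, mul_assoc a⁻¹, ← mul_assoc A]

theorem cg_apply (g : P) (a : Z) :
    cg Z hZc g a = ⟨g * a * g⁻¹, hZn.conj_mem (a : P) a.2 g⟩ * a⁻¹ := rfl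

theorem mem_ker_cg (g : P) (a : Z) : a ∈ (cg Z hZc g).ker ↔ g * a * g⁻¹ = a := by
  rw [MonoidHom.mem_ker, cg_apply, mul_inv_eq_one]
  constructor
  · intro h
    exact congrArg Subtype.val h
  · intro h
    exact Subtype.ext h

theorem cj_eq_iff (g : P) (ξ : Z →* ℂˣ) :
    cj Z g ξ = ξ ↔ ∀ r ∈ (cg Z hZc g).range, ξ r = 1 := by
  constructor
  · intro h r hr
    obtain ⟨a, rfl⟩ := hr
    rw [cg_apply, map_mul, map_inv, ← cj_apply, h, mul_inv_cancel]
  · intro h
    ext a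
    rw [cj_apply]
    have h1 := h (cg Z hZc g a) ⟨a, rfl⟩
    rw [cg_apply, map_mul, map_inv, mul_inv_eq_one] at h1
    rw [h1]

include hZc in
theorem cg_of_mem (x : P) (hx : x ∈ Z) (a : Z) : cg Z hZc x a = 1 := by
  rw [cg_apply, mul_inv_eq_one]
  apply Subtype.ext
  show x * a * x⁻¹ = a
  have h1 := congrArg Subtype.val (hZc ⟨x, hx⟩ a)
  simp only [Subgroup.coe_mul] at h1
  rw [h1]; group

theorem cg_mul_of_fixed_right (g h : P) (a : Z) (ha : h * a * h⁻¹ = a) :
    cg Z hZc (g * h) a = cg Z hZc g a := by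
  rw [cg_apply, cg_apply]
  congr 1
  apply Subtype.ext
  show g * h * a * (g * h)⁻¹ = g * a * g⁻¹
  calc g * h * a * (g * h)⁻¹ = g * (h * a * h⁻¹) * g⁻¹ := by group
    _ = _ := by rw [ha]

theorem cg_mul_of_fixed_left (g h : P) (b : Z) (hb : g * b * g⁻¹ = b) :
    ((cg Z hZc (g * h) b : Z) : P) = g * (cg Z hZc h b : Z) * g⁻¹ := by
  rw [cg_apply, cg_apply]
  simp only [Subgroup.coe_mul, Subgroup.coe_inv]
  calc g * h * (b : P) * (g * h)⁻¹ * (b : P)⁻¹
      = g * (h * b * h⁻¹) * g⁻¹ * (g * b * g⁻¹)⁻¹ := by rw [hb]; group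
    _ = _ := by group

theorem cg_conj_inv (g : P) (a : Z) :
    g⁻¹ * (cg Z hZc g a : Z) * g =
      (cg Z hZc g ⟨g⁻¹ * a * g, by simpa using hZn.conj_mem (a : P) a.2 g⁻¹⟩ : Z) := by
  rw [cg_apply, cg_apply]
  simp only [Subgroup.coe_mul, Subgroup.coe_inv]
  group

theorem eq_of_prime_card_of_mem {A : Type*} [Group A] [Finite A] {p : ℕ} (hp : p.Prime)
    (R₁ R₂ : Subgroup A) (h1 : Nat.card R₁ = p) (h2 : Nat.card R₂ = p) (x : A)
    (hx1 : x ∈ R₁) (hx2 : x ∈ R₂) (hx : x ≠ 1) : R₁ = R₂ := by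
  have key : ∀ S T : Subgroup A, Nat.card S = p → x ∈ S → x ∈ T → S ≤ T := by
    intro S T hS hxS hxT
    have hle : S ⊓ T ≤ S := inf_le_left
    have hd : Nat.card (S ⊓ T : Subgroup A) ∣ p := hS ▸ Subgroup.card_dvd_of_le hle
    rcases (Nat.dvd_prime hp).mp hd with h | h
    · exfalso
      have h3 := Subgroup.card_eq_one.mp h
      have hx' : x ∈ S ⊓ T := ⟨hxS, hxT⟩
      rw [h3, Subgroup.mem_bot] at hx'
      exact hx hx'
    · have h3 : S ⊓ T = S := Subgroup.eq_of_le_of_card_ge hle (by rw [h, hS])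
      exact h3 ▸ inf_le_right
  exact le_antisymm (key R₁ R₂ h1 hx1 hx2) (key R₂ R₁ h2 hx2 hx1)

theorem range_eq_of_ker_ne_aux [Finite P] (p : ℕ) (hp : p.Prime)
    (hcard : ∀ x : P, x ∉ Z → Nat.card (cg Z hZc x).range = p)
    (g h : P) (hg : g ∉ Z) (hh : h ∉ Z)
    (a : Z) (hah : a ∈ (cg Z hZc h).ker) (hag : a ∉ (cg Z hZc g).ker)
    (b : Z) (hbg : b ∈ (cg Z hZc g).ker) (hbh : b ∉ (cg Z hZc h).ker) :
    (cg Z hZc g).range = (cg Z hZc h).range := by
  have ha1 : h * a * h⁻¹ = a := (mem_ker_cg Z hZc h a).mp hah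
  have hb1 : g * b * g⁻¹ = b := (mem_ker_cg Z hZc g b).mp hbg
  have h1 : cg Z hZc (g * h) a = cg Z hZc g a := cg_mul_of_fixed_right Z hZc g h a ha1
  have h2 : cg Z hZc g a ≠ 1 := fun h => hag (MonoidHom.mem_ker.mpr h)
  have hgh : g * h ∉ Z := by
    intro hmem
    apply h2
    rw [← h1]
    exact cg_of_mem Z hZc (g * h) hmem a
  have hR1 : (cg Z hZc (g * h)).range = (cg Z hZc g).range :=
    eq_of_prime_card_of_mem hp _ _ (hcard _ hgh) (hcard _ hg) (cg Z hZc g a) ⟨a, h1⟩ ⟨a, rfl⟩ h2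
  have h3 : cg Z hZc (g * h) b ∈ (cg Z hZc g).range := hR1 ▸ ⟨b, rfl⟩
  obtain ⟨a', ha'⟩ := h3
  have h4 := cg_mul_of_fixed_left Z hZc g h b hb1
  have h5 : cg Z hZc h b =
      cg Z hZc g ⟨g⁻¹ * a' * g, by simpa using hZn.conj_mem (a' : P) a'.2 g⁻¹⟩ := by
    apply Subtype.ext
    rw [← cg_conj_inv, ha', h4]; group
  have h6 : cg Z hZc h b ≠ 1 := fun h => hbh (MonoidHom.mem_ker.mpr h)
  exact eq_of_prime_card_of_mem hp _ _ (hcard _ hg) (hcard _ hh) (cg Z hZc h b)
    ⟨_, h5.symm⟩ ⟨b, rfl⟩ h6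

theorem range_eq_of_ker_ne [Finite P] (p : ℕ) (hp : p.Prime)
    (hcard : ∀ x : P, x ∉ Z → Nat.card (cg Z hZc x).range = p)
    (g h : P) (hg : g ∉ Z) (hh : h ∉ Z) (hne : (cg Z hZc g).ker ≠ (cg Z hZc h).ker) :
    (cg Z hZc g).range = (cg Z hZc h).range := by
  have hkc : ∀ x : P, x ∉ Z → Nat.card (cg Z hZc x).ker * p = Nat.card Z := by
    intro x hx
    have h4 := Subgroup.card_mul_index (cg Z hZc x).ker
    rw [Subgroup.index_ker, hcard x hx] at h4
    exact h4
  have hce : Nat.card (cg Z hZc g).ker = Nat.card (cg Z hZc h).ker :=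
    Nat.eq_of_mul_eq_mul_right hp.pos ((hkc g hg).trans (hkc h hh).symm)
  have hnle1 : ¬ (cg Z hZc h).ker ≤ (cg Z hZc g).ker := by
    intro hle
    exact hne (Subgroup.eq_of_le_of_card_ge hle hce.le).symm
  have hnle2 : ¬ (cg Z hZc g).ker ≤ (cg Z hZc h).ker := by
    intro hle
    exact hne (Subgroup.eq_of_le_of_card_ge hle hce.symm.le)
  obtain ⟨a, hah, hag⟩ := Set.not_subset.mp hnle1
  obtain ⟨b, hbg, hbh⟩ := Set.not_subset.mp hnle2
  exact range_eq_of_ker_ne_aux Z hZc p hp hcard g h hg hh a hah hag b hbg hbh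

end CommHom

universe u

theorem pgroup_case {P : Type u} [Group P] [Fintype P] (p : ℕ) (hp : p.Prime)
    (hP : IsPGroup p P) (hna : ∃ a b : P, a * b ≠ b * a)
    (hdeg : ∀ χ : P → ℂ, IsIrrCharacter P χ → χ 1 = 1 ∨ χ 1 = (p : ℂ)) :
    (∃ B : Subgroup P, (∀ a ∈ B, ∀ b ∈ B, a * b = b * a) ∧ B.index = p) ∨
      (Subgroup.center P).index = p ^ 3 := by
  classical
  haveI : Fact p.Prime := ⟨hp⟩
  obtain ⟨Z, hZn, χ₀, hχ₀, hZi, hcZ, hvan, habs⟩ := exists_ramified p hp hP hna hdeg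
  haveI := hZn
  have hZc := ramified_abelian p hp hP hdeg Z χ₀ hχ₀ hZi hvan habs
  by_cases hB : ∃ B : Subgroup P, (∀ a ∈ B, ∀ b ∈ B, a * b = b * a) ∧ B.index = p
  · left; exact hB
  right
  push Not at hB
  obtain ⟨a0, b0, hab0⟩ := hna
  -- (H1) the centralizer of Z is Z
  have hcent : ∀ x : P, (∀ a ∈ Z, x * a = a * x) → x ∈ Z := by
    intro x hx
    by_contra hxZ
    set S : Set P := (Z : Set P) ∪ {x} with hS
    have hScomm : ∀ a ∈ S, ∀ b ∈ S, a * b = b * a := by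
      intro a ha b hb
      rcases ha with ha | ha <;> rcases hb with hb | hb
      · exact congrArg Subtype.val (hZc ⟨a, ha⟩ ⟨b, hb⟩)
      · rw [Set.mem_singleton_iff.mp hb]; exact (hx a ha).symm
      · rw [Set.mem_singleton_iff.mp ha]; exact hx b hb
      · rw [Set.mem_singleton_iff.mp ha, Set.mem_singleton_iff.mp hb]
    set B := Subgroup.closure S with hBdef
    have hBcomm : ∀ a ∈ B, ∀ b ∈ B, a * b = b * a := by
      intro a ha b hb
      have := (Subgroup.closureCommGroupOfComm hScomm).mul_comm ⟨a, ha⟩ ⟨b, hb⟩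
      exact congrArg Subtype.val this
    have hZB : Z ≤ B := fun z hz => Subgroup.subset_closure (Or.inl hz)
    have hxB : x ∈ B := Subgroup.subset_closure (Or.inr rfl)
    have hdvd : B.index ∣ p ^ 2 := hZi ▸ Subgroup.index_dvd_of_le hZB
    obtain ⟨i, hi2, hi⟩ := (Nat.dvd_prime_pow hp).mp hdvd
    have hi1 : i = 1 := by
      have h0 : i ≠ 0 := by
        intro h
        rw [h, pow_zero, Subgroup.index_eq_one] at hi
        apply hab0
        exact hBcomm a0 (hi ▸ Subgroup.mem_top a0) b0 (hi ▸ Subgroup.mem_top b0)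
      have h2 : i ≠ 2 := by
        intro h
        rw [h] at hi
        have h3 : Nat.card B = Nat.card Z := by
          have e1 := Subgroup.card_mul_index B
          have e2 := Subgroup.card_mul_index Z
          rw [hi] at e1
          rw [hZi] at e2
          have hpos : 0 < p ^ 2 := pow_pos hp.pos 2
          exact Nat.eq_of_mul_eq_mul_right hpos (e1.trans e2.symm)
        have h4 : Z = B := Subgroup.eq_of_le_of_card_ge hZB h3.le
        exact hxZ (h4 ▸ hxB)
      omega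
    rw [hi1, pow_one] at hi
    exact hB B hBcomm hi
  -- (H2) the action of E = P/Z on the dual of Z
  haveI : Fintype Z := Fintype.ofFinite _
  haveI : Fintype (Z →* ℂˣ) := Fintype.ofFinite _
  haveI : Fintype (P ⧸ Z) := Fintype.ofFinite _
  have hZfix : ∀ z ∈ Z, ∀ v : Z →* ℂˣ, cj Z z v = v := fun z hz v => le_stab Z v hz
  have hout : ∀ g : P, cj Z (Quotient.out (QuotientGroup.mk g : P ⧸ Z)) = cj Z g := by
    intro g
    have h1 : g⁻¹ * Quotient.out (QuotientGroup.mk g : P ⧸ Z) ∈ Z := by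
      rw [← QuotientGroup.eq]
      exact (QuotientGroup.out_eq' _).symm
    have h2 : Quotient.out (QuotientGroup.mk g : P ⧸ Z) =
        g * (g⁻¹ * Quotient.out (QuotientGroup.mk g : P ⧸ Z)) := by group
    apply MonoidHom.ext
    intro v
    rw [h2, cj_mul_elt, hZfix _ h1]
  set φ : (P ⧸ Z) → (Z →* ℂˣ) →* (Z →* ℂˣ) := fun e => cj Z (Quotient.out e) with hφ
  have hφmk : ∀ g : P, φ (QuotientGroup.mk g) = cj Z g := hout
  have hφ1 : ∀ v, φ 1 v = v := by
    intro v
    have : (1 : P ⧸ Z) = QuotientGroup.mk (1 : P) := rfl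
    rw [this, hφmk, cj_one_elt]
  have hφm : ∀ e1 e2 v, φ (e1 * e2) v = φ e2 (φ e1 v) := by
    intro e1 e2 v
    obtain ⟨g1, rfl⟩ := QuotientGroup.mk_surjective e1
    obtain ⟨g2, rfl⟩ := QuotientGroup.mk_surjective e2
    rw [← QuotientGroup.mk_mul, hφmk, hφmk, hφmk, cj_mul_elt]
  have hEcard : Nat.card (P ⧸ Z) = p ^ 2 := by rw [← Subgroup.index_eq_card, hZi]
  obtain ⟨k, hk⟩ := IsPGroup.iff_card.mp (hP.to_subgroup Z)
  have hVcard : Nat.card (Z →* ℂˣ) = p ^ k := by
    rw [Nat.card_eq_fintype_card, GlaubFpf.card_dual hZc, hk]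
  have hstab : ∀ v : Z →* ℂˣ, ∃ e : P ⧸ Z, e ≠ 1 ∧ φ e v = v := by
    intro v
    have h1 := stab_index_dvd p hdeg Z v
    have h2 : ¬ stab Z v ≤ Z := by
      intro hle
      have h3 : Z.index ∣ (stab Z v).index := Subgroup.index_dvd_of_le hle
      rw [hZi] at h3
      have h4 := Nat.le_of_dvd hp.pos (h3.trans h1)
      have := hp.one_lt
      nlinarith
    obtain ⟨g, hg, hgZ⟩ := Set.not_subset.mp h2
    refine ⟨QuotientGroup.mk g, ?_, ?_⟩
    · intro h
      exact hgZ ((QuotientGroup.eq_one_iff g).mp h)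
    · rw [hφmk]
      exact hg
  have hfaith : ∀ e : P ⧸ Z, e ≠ 1 → ∃ v, φ e v ≠ v := by
    intro e he
    obtain ⟨g, rfl⟩ := QuotientGroup.mk_surjective e
    have hgZ : g ∉ Z := fun h => he ((QuotientGroup.eq_one_iff g).mpr h)
    by_contra hcon
    push Not at hcon
    apply hgZ
    apply hcent
    intro a ha
    -- a is fixed by g
    by_contra hne
    have hy1 : cg Z hZc g ⟨a, ha⟩ ≠ 1 := by
      intro h
      have := (mem_ker_cg Z hZc g ⟨a, ha⟩).mp (MonoidHom.mem_ker.mpr h)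
      apply hne
      have h5 : g * a * g⁻¹ = a := this
      calc g * a = (g * a * g⁻¹) * g := by group
        _ = a * g := by rw [h5]
    have h2 := Cfsg.Agent.S0857.sum_monoidHom_apply' hZc (cg Z hZc g ⟨a, ha⟩)
    rw [if_neg hy1] at h2
    have h3 : ∀ ξ : Z →* ℂˣ, ξ (cg Z hZc g ⟨a, ha⟩) = 1 := by
      intro ξ
      have h4 := hcon ξ
      rw [hφmk] at h4
      exact (cj_eq_iff Z hZc g ξ).mp h4 _ ⟨_, rfl⟩
    rw [Finset.sum_congr rfl (fun ξ _ => by rw [h3 ξ])] at h2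
    simp at h2
  obtain ⟨hgood, hall⟩ := cover_count φ hφ1 hφm p hp hEcard k hVcard hstab hfaith
  -- (H3) sizes of ranges and kernels of the commutator maps
  have hH3 : ∀ g : P, g ∉ Z → Nat.card (cg Z hZc g).range = p ∧
      Nat.card (cg Z hZc g).ker * p = Nat.card Z := by
    intro g hgZ
    have he : (QuotientGroup.mk g : P ⧸ Z) ≠ 1 :=
      fun h => hgZ ((QuotientGroup.eq_one_iff g).mp h)
    have h1 := hgood _ he
    rw [card_fixSub] at h1
    have h2 : (Finset.univ.filter (fun v : Z →* ℂˣ => φ (QuotientGroup.mk g) v = v)) =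
        Finset.univ.filter (fun ξ : Z →* ℂˣ => ∀ r ∈ (cg Z hZc g).range, ξ r = 1) := by
      apply Finset.filter_congr
      intro ξ _
      rw [hφmk, cj_eq_iff Z hZc]
    rw [h2] at h1
    have h3 := ann_card hZc (cg Z hZc g).range
    have hpos : 0 < (Finset.univ.filter
        (fun ξ : Z →* ℂˣ => ∀ r ∈ (cg Z hZc g).range, ξ r = 1)).card := by
      rcases Nat.eq_zero_or_pos (Finset.univ.filter
        (fun ξ : Z →* ℂˣ => ∀ r ∈ (cg Z hZc g).range, ξ r = 1)).card with h | h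
      · rw [h, zero_mul] at h1
        exact absurd h1.symm (pow_pos hp.pos k).ne'
      · exact h
    have hR : Nat.card (cg Z hZc g).range = p := by
      apply Nat.eq_of_mul_eq_mul_left hpos
      rw [h3, h1, hk]
    refine ⟨hR, ?_⟩
    have h4 := Subgroup.card_mul_index (cg Z hZc g).ker
    rw [Subgroup.index_ker, hR] at h4
    exact h4
  have hZtop : ∃ g0 : P, g0 ∉ Z := by
    by_contra hcon
    push Not at hcon
    apply hab0
    exact congrArg Subtype.val (hZc ⟨a0, hcon a0⟩ ⟨b0, hcon b0⟩)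
  obtain ⟨g0, hg0⟩ := hZtop
  have hcardR : ∀ x : P, x ∉ Z → Nat.card (cg Z hZc x).range = p := fun x hx => (hH3 x hx).1
  -- (H4) all kernels are equal
  have hker : ∀ x : P, x ∉ Z → (cg Z hZc x).ker = (cg Z hZc g0).ker := by
    by_contra hcon
    push Not at hcon
    obtain ⟨x0, hx0, hne⟩ := hcon
    have hRR : (cg Z hZc x0).range = (cg Z hZc g0).range :=
      range_eq_of_ker_ne Z hZc p hp hcardR x0 g0 hx0 hg0 hne
    have hallR : ∀ y : P, y ∉ Z → (cg Z hZc y).range = (cg Z hZc g0).range := by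
      intro y hy
      by_cases h1 : (cg Z hZc y).ker = (cg Z hZc g0).ker
      · have h2 : (cg Z hZc y).ker ≠ (cg Z hZc x0).ker := fun h => hne (h.symm.trans h1)
        rw [range_eq_of_ker_ne Z hZc p hp hcardR y x0 hy hx0 h2, hRR]
      · exact range_eq_of_ker_ne Z hZc p hp hcardR y g0 hy hg0 h1
    have hfA : Nat.card (fixAll φ) = (Finset.univ.filter
        (fun ξ : Z →* ℂˣ => ∀ r ∈ (cg Z hZc g0).range, ξ r = 1)).card := by
      haveI : Fintype (fixAll φ) := Fintype.ofFinite _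
      rw [Nat.card_eq_fintype_card]
      apply Fintype.card_of_subtype
      intro ξ
      rw [Finset.mem_filter, mem_fixAll]
      simp only [Finset.mem_univ, true_and]
      constructor
      · intro hr e
        obtain ⟨y, rfl⟩ := QuotientGroup.mk_surjective e
        rw [hφmk]
        by_cases hy : y ∈ Z
        · exact hZfix y hy ξ
        · rw [cj_eq_iff Z hZc, hallR y hy]; exact hr
      · intro hfix
        have h5 := hfix (QuotientGroup.mk g0)
        rw [hφmk, cj_eq_iff Z hZc] at h5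
        exact h5
    have h3 := ann_card hZc (cg Z hZc g0).range
    rw [← hfA, hcardR g0 hg0, hk] at h3
    have h6 : Nat.card (fixAll φ) * p = Nat.card (fixAll φ) * p ^ 2 := h3.trans hall.symm
    have hposA : 0 < Nat.card (fixAll φ) := Nat.card_pos
    have h7 : p = p ^ 2 := Nat.eq_of_mul_eq_mul_left hposA h6
    have := hp.one_lt
    nlinarith
  -- (H5) the centre
  have hcenter : ∀ z : P, z ∈ Subgroup.center P ↔
      ∃ hz : z ∈ Z, (⟨z, hz⟩ : Z) ∈ (cg Z hZc g0).ker := by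
    intro z
    constructor
    · intro hz
      have hzc : ∀ x : P, x * z = z * x := fun x => (Subgroup.mem_center_iff.mp hz x)
      have hzZ : z ∈ Z := hcent z (fun a _ => (hzc a).symm)
      refine ⟨hzZ, ?_⟩
      rw [mem_ker_cg]
      show g0 * z * g0⁻¹ = z
      rw [hzc g0]; group
    · rintro ⟨hzZ, hzk⟩
      rw [Subgroup.mem_center_iff]
      intro x
      by_cases hx : x ∈ Z
      · exact congrArg Subtype.val (hZc ⟨x, hx⟩ ⟨z, hzZ⟩)
      · rw [← hker x hx, mem_ker_cg] at hzk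
        have h8 : x * z * x⁻¹ = z := hzk
        calc x * z = (x * z * x⁻¹) * x := by group
          _ = z * x := by rw [h8]
  have hcc : Nat.card (Subgroup.center P) = Nat.card (cg Z hZc g0).ker := by
    have h9 : Subgroup.center P = ((cg Z hZc g0).ker).map Z.subtype := by
      ext z
      rw [hcenter, Subgroup.mem_map]
      constructor
      · rintro ⟨hz, hk'⟩; exact ⟨⟨z, hz⟩, hk', rfl⟩
      · rintro ⟨w, hw, rfl⟩; exact ⟨w.2, hw⟩
    rw [h9]
    exact Subgroup.card_map_of_injective Z.subtype_injective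
  have e1 := (hH3 g0 hg0).2
  have e2 := Subgroup.card_mul_index Z
  have e3 := Subgroup.card_mul_index (Subgroup.center P)
  rw [hZi] at e2
  rw [hcc] at e3
  have hposK : 0 < Nat.card (cg Z hZc g0).ker := Nat.card_pos
  apply Nat.eq_of_mul_eq_mul_left hposK
  rw [e3, ← e2, ← e1]; ring

end Cfsg.Agent.Lib.Helper7.TwoDeg
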